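import Groth.Agent.PCohD.Terms
import Groth.Agent.QCohGen.StalkFun
import Groth.Agent.KFlat.PushRestrict
import Groth.Agent.QCoh.Basic

/-!
# Pseudo-coherence and direct image along closed immersions
-/

set_option autoImplicit false

universe u

open CategoryTheory Limits AlgebraicGeometry Pretriangulated
open Groth.Agent.KFlat.TildePC (Appr appr_of_isIso)
attribute [local instance] HasDerivedCategory.standard

noncomputable section

namespace Groth.Agent.PCohD

variable {Z X Y : Scheme.{u}}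

instance preservesFiniteLimits_push (f : Z ⟶ X) :
    PreservesFiniteLimits (Scheme.Modules.pushforward f) :=
  have : (Scheme.Modules.pushforward f).IsRightAdjoint :=
    (Scheme.Modules.pullbackPushforwardAdjunction f).isRightAdjoint
  inferInstance

instance preservesFiniteColimits_push (i : Z ⟶ X) [IsClosedImmersion i] :
    PreservesFiniteColimits (Scheme.Modules.pushforward i) :=
  have := Groth.Agent.QCohGen.preservesColimits_pushforward i
  have : PreservesColimitsOfSize.{0, 0} (Scheme.Modules.pushforward i) :=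
    preservesColimitsOfSize_shrink.{0, u, 0, u} _
  PreservesColimitsOfSize.preservesFiniteColimits.{0, 0} _

theorem faithful_push (i : Z ⟶ X) (hi : Topology.IsInducing i) :
    (Scheme.Modules.pushforward i).Faithful where
  map_injective {M N} φ ψ h := by
    ext U x
    obtain ⟨W, hW, hWU⟩ := hi.isOpen_iff.mp U.2
    have hU : U = i ⁻¹ᵁ ⟨W, hW⟩ := TopologicalSpace.Opens.ext hWU.symm
    subst hU
    exact congr(($h).app ⟨W, hW⟩ x)

/-- Exact functors with isomorphic composites induce isomorphic objects in derived categories. -/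
def dIso {A B B' C : Type*} [Category A] [Category B] [Category B'] [Category C]
    [Abelian A] [Abelian B] [Abelian B'] [Abelian C] [HasDerivedCategory A] [HasDerivedCategory B]
    [HasDerivedCategory B'] [HasDerivedCategory C]
    (F : A ⥤ B) (G : B ⥤ C) (F' : A ⥤ B') (G' : B' ⥤ C)
    [F.Additive] [G.Additive] [F'.Additive] [G'.Additive]
    [PreservesFiniteLimits F] [PreservesFiniteColimits F] [PreservesFiniteLimits G]
    [PreservesFiniteColimits G] [PreservesFiniteLimits F'] [PreservesFiniteColimits F']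
    [PreservesFiniteLimits G'] [PreservesFiniteColimits G']
    (η : F ⋙ G ≅ F' ⋙ G') (K : DerivedCategory A) :
    G.mapDerivedCategory.obj (F.mapDerivedCategory.obj K) ≅
      G'.mapDerivedCategory.obj (F'.mapDerivedCategory.obj K) :=
  let E := DerivedCategory.Q.objPreimage K
  let e := DerivedCategory.Q.objObjPreimageIso K
  let eE : (G.mapHomologicalComplex (ComplexShape.up ℤ)).obj
        ((F.mapHomologicalComplex (ComplexShape.up ℤ)).obj E) ≅
      (G'.mapHomologicalComplex (ComplexShape.up ℤ)).obj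
        ((F'.mapHomologicalComplex (ComplexShape.up ℤ)).obj E) :=
    HomologicalComplex.Hom.isoOfComponents (fun n => η.app (E.X n))
      (fun i j _ => (η.hom.naturality (E.d i j)).symm)
  G.mapDerivedCategory.mapIso (F.mapDerivedCategory.mapIso e.symm ≪≫ F.mapDerivedCategoryFactors.app E) ≪≫
    G.mapDerivedCategoryFactors.app _ ≪≫ DerivedCategory.Q.mapIso eE ≪≫
    (G'.mapDerivedCategoryFactors.app _).symm ≪≫
    (G'.mapDerivedCategory.mapIso (F'.mapDerivedCategory.mapIso e.symm ≪≫ F'.mapDerivedCategoryFactors.app E)).symm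

/-- Exact functors with isomorphic composite, two against one. -/
def dIso₁ {A B C : Type*} [Category A] [Category B] [Category C]
    [Abelian A] [Abelian B] [Abelian C] [HasDerivedCategory A] [HasDerivedCategory B]
    [HasDerivedCategory C] (F : A ⥤ B) (G : B ⥤ C) (H : A ⥤ C)
    [F.Additive] [G.Additive] [H.Additive]
    [PreservesFiniteLimits F] [PreservesFiniteColimits F] [PreservesFiniteLimits G]
    [PreservesFiniteColimits G] [PreservesFiniteLimits H] [PreservesFiniteColimits H]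
    (η : F ⋙ G ≅ H) (K : DerivedCategory A) :
    G.mapDerivedCategory.obj (F.mapDerivedCategory.obj K) ≅ H.mapDerivedCategory.obj K :=
  let E := DerivedCategory.Q.objPreimage K
  let e := DerivedCategory.Q.objObjPreimageIso K
  let eE : (G.mapHomologicalComplex (ComplexShape.up ℤ)).obj
        ((F.mapHomologicalComplex (ComplexShape.up ℤ)).obj E) ≅
      (H.mapHomologicalComplex (ComplexShape.up ℤ)).obj E :=
    HomologicalComplex.Hom.isoOfComponents (fun n => η.app (E.X n))
      (fun i j _ => (η.hom.naturality (E.d i j)).symm)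
  G.mapDerivedCategory.mapIso (F.mapDerivedCategory.mapIso e.symm ≪≫ F.mapDerivedCategoryFactors.app E) ≪≫
    G.mapDerivedCategoryFactors.app _ ≪≫ DerivedCategory.Q.mapIso eE ≪≫
    (H.mapDerivedCategoryFactors.app E).symm ≪≫ H.mapDerivedCategory.mapIso e

/-- Direct image along a closed immersion in the derived category. -/
abbrev pushD (i : Z ⟶ X) [IsClosedImmersion i] : DCoh.D Z ⥤ DCoh.D X :=
  (Scheme.Modules.pushforward i).mapDerivedCategory

instance isClosedImmersion_restr (i : Z ⟶ X) [IsClosedImmersion i] (W : X.Opens) :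
    IsClosedImmersion (i ∣_ W) :=
  IsZariskiLocalAtTarget.restrict ‹_› W

/-- Direct image commutes with restriction. -/
def pushDRestrict (i : Z ⟶ X) [IsClosedImmersion i] (W : X.Opens) (K : DCoh.D Z) :
    (DCoh.restrictD W.ι).obj ((pushD i).obj K) ≅
      (pushD (i ∣_ W)).obj ((DCoh.restrictD (i ⁻¹ᵁ W).ι).obj K) :=
  dIso _ _ _ _ (KFlat.PushRestrict.pushRestrictIso i W) K

/-- Direct image in two steps. -/
def pushDComp (i : Z ⟶ X) (s : X ⟶ Y) [IsClosedImmersion i] [IsClosedImmersion s] (K : DCoh.D Z) :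
    (pushD s).obj ((pushD i).obj K) ≅ (pushD (i ≫ s)).obj K :=
  dIso₁ _ _ _ (Scheme.Modules.pushforwardComp i s) K

/-- Cohomology commutes with direct image. -/
def pushDHomology (i : Z ⟶ X) [IsClosedImmersion i] (K : DCoh.D Z) (q : ℤ) :
    (DerivedCategory.homologyFunctor X.Modules q).obj ((pushD i).obj K) ≅
      (Scheme.Modules.pushforward i).obj ((DerivedCategory.homologyFunctor Z.Modules q).obj K) :=
  (Groth.Agent.KFlat.MapHomology.iso (Scheme.Modules.pushforward i) q).app K

theorem isZero_of_isEmpty [IsEmpty Z] (M : Z.Modules) : IsZero M := by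
  rw [IsZero.iff_id_eq_zero]
  ext U x
  exact QCoh.eq_zero_of_locally_eq_zero M (U := fun e : PEmpty.{1} => (e.elim : Z.Opens))
    (fun e => e.elim) (fun z _ => isEmptyElim z) _ fun e => e.elim

theorem pc_pushD_of_forall (i : Z ⟶ X) [IsClosedImmersion i] (m : ℤ) (K : DCoh.D Z)
    (h : ∀ z : Z, ∃ W : X.Opens, i z ∈ W ∧
      DCoh.IsPseudoCoherentD m ((pushD (i ∣_ W)).obj ((DCoh.restrictD (i ⁻¹ᵁ W).ι).obj K))) :
    DCoh.IsPseudoCoherentD m ((pushD i).obj K) := by
  refine pc_of_local fun x => ?_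
  by_cases hx : x ∈ Set.range i
  · obtain ⟨z, rfl⟩ := hx
    obtain ⟨W, hz, hW⟩ := h z
    exact ⟨W, W.ι, inferInstance, ⟨⟨i z, hz⟩, rfl⟩, pc_of_iso (pushDRestrict i W K).symm hW⟩
  · let W : X.Opens := ⟨(Set.range i)ᶜ, i.isClosedEmbedding.isClosed_range.isOpen_compl⟩
    refine ⟨W, W.ι, inferInstance, ⟨⟨x, hx⟩, rfl⟩, pc_of_iso (pushDRestrict i W K).symm ?_⟩
    have : IsEmpty (i ⁻¹ᵁ W : Scheme.{u}) := ⟨fun z => z.2 ⟨z.1, rfl⟩⟩
    exact pc_of_vanish fun q _ => ((Scheme.Modules.pushforward (i ∣_ W)).map_isZero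
      (isZero_of_isEmpty _)).of_iso (pushDHomology _ _ q)

/-- An open of `Z` is the preimage of one of `X`. -/
theorem exists_preimage (i : Z ⟶ X) [IsClosedImmersion i] (V : Z.Opens) :
    ∃ W : X.Opens, i ⁻¹ᵁ W = V := by
  obtain ⟨W, hW, h⟩ := i.isClosedEmbedding.isInducing.isOpen_iff.mp V.2
  exact ⟨⟨W, hW⟩, TopologicalSpace.Opens.ext h⟩

/-- `i_* O_Z` is pseudo-coherent. -/
def HasPCUnit (i : Z ⟶ X) : Prop :=
  ∀ m : ℤ, DCoh.IsPseudoCoherentD m
    (DCoh.inD X ((Scheme.Modules.pushforward i).obj (Coh.structureModule Z)))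

theorem HasPCUnit.restr {i : Z ⟶ X} [IsClosedImmersion i] (h : HasPCUnit i) (W : X.Opens) :
    HasPCUnit (i ∣_ W) := fun m => by
  refine pc_of_iso ((PerfTri.Regular.restrInD W.ι _) ≪≫ (DerivedCategory.singleFunctor _ 0).mapIso
    ((KFlat.PushRestrict.pushRestrictIso i W).app (Coh.structureModule Z) ≪≫
      (Scheme.Modules.pushforward (i ∣_ W)).mapIso (Scheme.Modules.restrictUnitIso (i ⁻¹ᵁ W).ι)))
    (pc_restrict W.ι (h m))

theorem pc_inD_biprod {m : ℤ} {A B : X.Modules} (hA : DCoh.IsPseudoCoherentD m (DCoh.inD X A))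
    (hB : DCoh.IsPseudoCoherentD m (DCoh.inD X B)) :
    DCoh.IsPseudoCoherentD m (DCoh.inD X (A ⊞ B)) := by
  have := preservesBinaryBiproducts_of_preservesBiproducts (DerivedCategory.singleFunctor X.Modules 0)
  exact pc_of_iso ((DerivedCategory.singleFunctor X.Modules 0).mapBiprod A B).symm
    (pc_biprod_iff.mpr ⟨hA, hB⟩)

theorem pc_push_free (i : Z ⟶ X) [IsClosedImmersion i] (h : HasPCUnit i) (m : ℤ) :
    ∀ n : ℕ, DCoh.IsPseudoCoherentD m
      (DCoh.inD X ((Scheme.Modules.pushforward i).obj (FlatMod.freeMod Z n)))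
  | 0 => pc_of_isZero (Functor.map_isZero _ (Functor.map_isZero _
      ((IsZero.iff_id_eq_zero _).mpr (Sigma.hom_ext _ _ fun i => Fin.elim0 i))))
  | n + 1 => by
    have h1 : DCoh.IsPseudoCoherentD m
        (DCoh.inD X ((Scheme.Modules.pushforward i).obj (FlatMod.freeMod Z 1))) :=
      pc_of_iso ((DerivedCategory.singleFunctor X.Modules 0).mapIso
        ((Scheme.Modules.pushforward i).mapIso
          ({ hom := Sigma.ι (fun _ : Fin 1 => Coh.structureModule Z) 0
             inv := Sigma.desc fun _ => 𝟙 _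
             hom_inv_id := by simp
             inv_hom_id := Sigma.hom_ext _ _ fun k => by fin_cases k; simp } :
            Coh.structureModule Z ≅ FlatMod.freeMod Z 1))) (h m)
    have := preservesBinaryBiproducts_of_preservesBiproducts (Scheme.Modules.pushforward i)
    exact pc_of_iso ((DerivedCategory.singleFunctor X.Modules 0).mapIso
      (((Scheme.Modules.pushforward i).mapBiprod _ _).symm ≪≫
        (Scheme.Modules.pushforward i).mapIso (PerfTri.Cone.freeAddIso Z n 1)))
      (pc_inD_biprod (pc_push_free i h m n) h1)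

theorem pc_push_finLocFree (i : Z ⟶ X) [IsClosedImmersion i] (h : HasPCUnit i) (m : ℤ)
    {P : Z.Modules} (hP : FlatMod.IsFinLocFree P) :
    DCoh.IsPseudoCoherentD m (DCoh.inD X ((Scheme.Modules.pushforward i).obj P)) := by
  refine pc_of_iso (((Scheme.Modules.pushforward i).mapDerivedCategorySingleFunctor 0).app P)
    (pc_pushD_of_forall i m _ fun z => ?_)
  obtain ⟨V, n, hz, ⟨e⟩⟩ := hP z
  obtain ⟨W, rfl⟩ := exists_preimage i V
  refine ⟨W, hz, pc_of_iso ((pushD (i ∣_ W)).mapIso
    (PerfTri.Regular.restrInD (i ⁻¹ᵁ W).ι P ≪≫ (DerivedCategory.singleFunctor _ 0).mapIso e)).symm ?_⟩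
  exact pc_of_iso (((Scheme.Modules.pushforward (i ∣_ W)).mapDerivedCategorySingleFunctor 0).app _).symm
    (pc_push_free _ (h.restr W) m n)

theorem pc_push_strictlyPerfect (i : Z ⟶ X) [IsClosedImmersion i] (h : HasPCUnit i) (m : ℤ)
    {E : CochainComplex Z.Modules ℤ} (hE : DCoh.IsStrictlyPerfect E) :
    DCoh.IsPseudoCoherentD m ((pushD i).obj (DerivedCategory.Q.obj E)) := by
  obtain ⟨⟨a, b, hv⟩, hE'⟩ := hE
  exact pc_of_iso ((Scheme.Modules.pushforward i).mapDerivedCategoryFactors.app E).symm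
    (pc_of_terms _ a b (fun q hq => (Scheme.Modules.pushforward i).map_isZero (hv q hq))
      (fun q m => pc_push_finLocFree i h m (hE' q)) m)

/-- Direct image along a closed immersion with pseudo-coherent structure sheaf preserves
pseudo-coherence. -/
theorem pc_pushD (i : Z ⟶ X) [IsClosedImmersion i] (h : HasPCUnit i) {m : ℤ} {K : DCoh.D Z}
    (hK : DCoh.IsPseudoCoherentD m K) : DCoh.IsPseudoCoherentD m ((pushD i).obj K) := by
  refine pc_pushD_of_forall i m K fun z => ?_
  obtain ⟨V, hz, hV⟩ := hK z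
  obtain ⟨W, rfl⟩ := exists_preimage i V
  obtain ⟨E, α, hE, h1, h2⟩ := hV (DerivedCategory.Q.objPreimage K)
    ⟨DerivedCategory.Q.objObjPreimageIso K⟩
  let α' : DerivedCategory.Q.obj E ⟶ (DCoh.restrictD (i ⁻¹ᵁ W).ι).obj K :=
    α ≫ (PerfTri.Perfect.restrQ (i ⁻¹ᵁ W).ι _).inv ≫
      (DCoh.restrictD (i ⁻¹ᵁ W).ι).map (DerivedCategory.Q.objObjPreimageIso K).hom
  have hα' : Appr m α' := KFlat.TildePC.Appr.comp ⟨h1, h2⟩ (appr_of_isIso m _)
  exact ⟨W, hz, pc_of_appr ((pushD (i ∣_ W)).map α')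
    (KFlat.TildePC.Appr.map (Scheme.Modules.pushforward (i ∣_ W)) hα')
    (pc_push_strictlyPerfect _ (h.restr W) m hE)⟩

theorem isZero_of_push (i : Z ⟶ X) [IsClosedImmersion i] {M : Z.Modules}
    (h : IsZero ((Scheme.Modules.pushforward i).obj M)) : IsZero M := by
  have := faithful_push i i.isClosedEmbedding.isInducing
  rw [IsZero.iff_id_eq_zero]
  refine (Scheme.Modules.pushforward i).map_injective ?_
  exact h.eq_of_src _ _

theorem pc_of_pushD_top (i : Z ⟶ X) [IsClosedImmersion i] {m : ℤ} {K : DCoh.D Z}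
    (hK : ∀ q, m < q → IsZero ((DerivedCategory.homologyFunctor Z.Modules q).obj K))
    (hp : DCoh.IsPseudoCoherentD m ((pushD i).obj K)) : DCoh.IsPseudoCoherentD m K := by
  refine pc_of_local fun z => ?_
  obtain ⟨U, j, hj, ⟨u, hu⟩, E, α, hE, hα⟩ := (pc_iff _).mp hp (i z)
  have hz : ∀ q, m < q → IsZero ((DerivedCategory.homologyFunctor U.Modules q).obj
      ((DCoh.restrictD j).obj ((pushD i).obj K))) := fun q hq =>
    (((Scheme.Modules.restrictFunctor j).map_isZero (((Scheme.Modules.pushforward i).map_isZero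
      (hK q hq)).of_iso (pushDHomology i K q))).of_iso
      ((Groth.Agent.KFlat.MapHomology.iso (Scheme.Modules.restrictFunctor j) q).app _))
  have hzE : ∀ q, m < q → IsZero (E.homology q) := fun q hq => by
    have := hα.1 q hq
    exact (isZero_homology_Q E q).mp ((hz q hq).of_iso
      (asIso ((DerivedCategory.homologyFunctor _ q).map α)))
  obtain ⟨V, P, p, huV, hP, hpe⟩ := exists_epi_homology hE hzE u
  let W : X.Opens := j ''ᵁ V
  have hzW : i z ∈ W := ⟨u, huV, hu⟩
  let l := IsOpenImmersion.lift (V.ι ≫ j) W.ι (by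
    rintro _ ⟨y, rfl⟩
    obtain ⟨v, hv, hvy⟩ := y.2
    exact ⟨⟨v, hv⟩, hvy⟩)
  have : IsOpenImmersion (l ≫ V.ι ≫ j) := by rw [IsOpenImmersion.lift_fac]; infer_instance
  have : IsOpenImmersion l := IsOpenImmersion.of_comp l (V.ι ≫ j)
  -- the cohomology of the direct image near `i z`
  let e₁ : (Scheme.Modules.restrictFunctor l).obj ((Scheme.Modules.restrictFunctor V.ι).obj ((DerivedCategory.homologyFunctor U.Modules m).obj
      ((DCoh.restrictD j).obj ((pushD i).obj K)))) ≅
      (Scheme.Modules.pushforward (i ∣_ W)).obj ((Scheme.Modules.restrictFunctor (i ⁻¹ᵁ W).ι).obj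
        ((DerivedCategory.homologyFunctor Z.Modules m).obj K)) :=
    (Scheme.Modules.restrictFunctor l).mapIso ((Scheme.Modules.restrictFunctor V.ι).mapIso
      ((Groth.Agent.KFlat.MapHomology.iso (Scheme.Modules.restrictFunctor j) m).app _ ≪≫
        (Scheme.Modules.restrictFunctor j).mapIso (pushDHomology i K m)) ≪≫
      ((Scheme.Modules.restrictFunctorComp V.ι j).app _).symm) ≪≫
    ((Scheme.Modules.restrictFunctorComp l (V.ι ≫ j)).symm ≪≫
      Scheme.Modules.restrictFunctorCongr (IsOpenImmersion.lift_fac _ _ _)).app _ ≪≫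
    (KFlat.PushRestrict.pushRestrictIso i W).app _
  let π : (Scheme.Modules.restrictFunctor l).obj P ⟶ (Scheme.Modules.pushforward (i ∣_ W)).obj ((Scheme.Modules.restrictFunctor (i ⁻¹ᵁ W).ι).obj
        ((DerivedCategory.homologyFunctor Z.Modules m).obj K)) :=
    (Scheme.Modules.restrictFunctor l).map (p ≫ (Scheme.Modules.restrictFunctor V.ι).map (((DerivedCategory.homologyFunctorFactors U.Modules m).app E).inv ≫
      (DerivedCategory.homologyFunctor U.Modules m).map α)) ≫ e₁.hom
  have hπ : Epi π := by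
    have : Epi ((DerivedCategory.homologyFunctor U.Modules m).map α) := hα.2
    have : Epi p := hpe
    exact inferInstance
  let adj := Scheme.Modules.pullbackPushforwardAdjunction (i ∣_ W)
  let g := (adj.homEquiv _ _).symm π
  have hg : Epi g := by
    have := faithful_push (i ∣_ W) (i ∣_ W).isClosedEmbedding.isInducing
    have : Epi ((Scheme.Modules.pushforward (i ∣_ W)).map g) := by
      have hu : adj.unit.app _ ≫ (Scheme.Modules.pushforward (i ∣_ W)).map g = π := by
        exact (adj.homEquiv_unit _ _ g).symm.trans ((adj.homEquiv _ _).apply_symm_apply π)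
      exact epi_of_epi_fac hu
    exact (Scheme.Modules.pushforward (i ∣_ W)).epi_of_epi_map this
  refine ⟨i ⁻¹ᵁ W, (i ⁻¹ᵁ W).ι, inferInstance, ⟨⟨z, hzW⟩, rfl⟩, ?_⟩
  refine pc_of_top_epi (fun q hq => ((Scheme.Modules.restrictFunctor (i ⁻¹ᵁ W).ι).map_isZero (hK q hq)).of_iso
    ((Groth.Agent.KFlat.MapHomology.iso (Scheme.Modules.restrictFunctor (i ⁻¹ᵁ W).ι) q).app K))
    (KFlat.LocFree.isFinLocFree_pull (i ∣_ W) (KFlat.LocFree.isFinLocFree_of_iso
      ((Scheme.Modules.restrictFunctorIsoPullback l).app _).symm (KFlat.LocFree.isFinLocFree_pull l hP)))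
    (g ≫ ((Groth.Agent.KFlat.MapHomology.iso (Scheme.Modules.restrictFunctor (i ⁻¹ᵁ W).ι) m).app K).inv) ?_
  exact epi_comp _ _

theorem isZero_cone_homology {m : ℤ} (T : Triangle (DCoh.D Z)) (hT : T ∈ distinguishedTriangles)
    (h : Appr m T.mor₁) (q : ℤ) (hq : m ≤ q) :
    IsZero ((DerivedCategory.homologyFunctor Z.Modules q).obj T.obj₃) := by
  refine (DerivedCategory.HomologySequence.exact₃ T hT q (q + 1) rfl).isZero_of_both_zeros
    ((DerivedCategory.HomologySequence.epi_homologyMap_mor₁_iff T hT q).1 (appr_epi h hq)) ?_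
  have := h.1 (q + 1) (by omega)
  exact (DerivedCategory.HomologySequence.mono_homologyMap_mor₁_iff T hT q (q + 1) rfl).1 inferInstance

theorem pc_of_pushD_step (i : Z ⟶ X) [IsClosedImmersion i] (h : HasPCUnit i) {m : ℤ} {K : DCoh.D Z}
    (hK : IsAp (m + 1) K) (hp : DCoh.IsPseudoCoherentD m ((pushD i).obj K)) :
    DCoh.IsPseudoCoherentD m K := by
  obtain ⟨E, α, hE, hα⟩ := hK
  obtain ⟨C, g, δ, hT⟩ := distinguished_cocone_triangle α
  have hEpc : ∀ n, DCoh.IsPseudoCoherentD n (DerivedCategory.Q.obj E) := fun n =>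
    pc_of_isAp ⟨E, 𝟙 _, hE, appr_of_isIso n _⟩
  refine pc₂ _ hT (hEpc m) (pc_of_pushD_top i
    (fun q hq => isZero_cone_homology _ hT hα q (by omega)) ?_)
  exact pc₃ _ ((pushD i).map_distinguished _ hT) (pc_pushD i h (hEpc (m + 1))) hp

theorem pc_of_pushD_bounded (i : Z ⟶ X) [IsClosedImmersion i] (h : HasPCUnit i) {K : DCoh.D Z}
    (b : ℤ) (hb : ∀ q, b < q → IsZero ((DerivedCategory.homologyFunctor Z.Modules q).obj K)) (d : ℕ) :
    ∀ m : ℤ, b + 1 - d ≤ m → DCoh.IsPseudoCoherentD m ((pushD i).obj K) →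
      DCoh.IsPseudoCoherentD m K := by
  induction d with
  | zero => exact fun m hm _ => pc_of_vanish fun q hq => hb q (by omega)
  | succ d ih =>
    intro m hm hp
    have h1 := ih (m + 1) (by omega) (pc_mono hp (by omega))
    refine pc_of_local fun z => ?_
    obtain ⟨V, hz, hV⟩ := h1 z
    obtain ⟨W, rfl⟩ := exists_preimage i V
    obtain ⟨E, α, hE, hα⟩ := hV (DerivedCategory.Q.objPreimage K)
      ⟨DerivedCategory.Q.objObjPreimageIso K⟩
    refine ⟨i ⁻¹ᵁ W, (i ⁻¹ᵁ W).ι, inferInstance, ⟨⟨z, hz⟩, rfl⟩,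
      pc_of_pushD_step (i ∣_ W) (h.restr W) (isAp_of_iso
        ((PerfTri.Perfect.restrQ (i ⁻¹ᵁ W).ι _).symm ≪≫
          (DCoh.restrictD _).mapIso (DerivedCategory.Q.objObjPreimageIso K)) ⟨E, α, hE, hα⟩)
        (pc_of_iso (pushDRestrict i W K) (pc_restrict W.ι hp))⟩

/-- Direct image along a closed immersion with pseudo-coherent structure sheaf reflects
pseudo-coherence. -/
theorem pc_of_pushD (i : Z ⟶ X) [IsClosedImmersion i] (h : HasPCUnit i) {m : ℤ} {K : DCoh.D Z}
    (hp : DCoh.IsPseudoCoherentD m ((pushD i).obj K)) : DCoh.IsPseudoCoherentD m K := by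
  refine pc_of_local fun z => ?_
  obtain ⟨W, hz, b, hb⟩ := exists_bound hp (i z)
  let U := i ⁻¹ᵁ W
  refine ⟨U, U.ι, inferInstance, ⟨⟨z, hz⟩, rfl⟩, ?_⟩
  refine pc_of_pushD_bounded (i ∣_ W) (h.restr W) (max b m) (fun q hq => ?_) (max b m + 1 - m).toNat m
    (by omega) (pc_of_iso (pushDRestrict i W K) (pc_restrict W.ι hp))
  exact isZero_of_push (i ∣_ W) ((hb q (by omega)).of_iso
    ((pushDHomology (i ∣_ W) _ q).symm ≪≫
      ((DerivedCategory.homologyFunctor _ q).mapIso (pushDRestrict i W K)).symm))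

end Groth.Agent.PCohD
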