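import Groth.Agent.PCohD.RelAbs
import Groth.Agent.CohOps.TildeRestrict
import Groth.Agent.KFlat.TildePC
import Groth.Agent.KFlat.QCohModel
import Groth.Agent.QCoh.Qcqs

/-!
# Relative pseudo-coherence through sections over affine opens
-/

set_option autoImplicit false
set_option backward.isDefEq.respectTransparency.types false

universe u

open CategoryTheory Limits AlgebraicGeometry
attribute [local instance] HasDerivedCategory.standard

noncomputable section

namespace Groth.Agent.PCohD

/-- Direct image of `tilde` along a morphism of affine schemes. -/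
def pushTildeIso {R S : CommRingCat.{u}} (φ : R ⟶ S) :
    tilde.functor S ⋙ Scheme.Modules.pushforward (Spec.map φ) ≅
      ModuleCat.restrictScalars.{u} φ.hom ⋙ tilde.functor R :=
  have h : ∀ M, IsIso ((tilde.adjunction (R := R)).counit.app
      ((tilde.functor S ⋙ Scheme.Modules.pushforward (Spec.map φ)).obj M)) := fun M =>
    have : SheafOfModules.IsQuasicoherent.{u} ((tilde.functor S).obj M) :=
      KFlat.TildeD.isQuasicoherent_of_essImage ⟨M, ⟨Iso.refl _⟩⟩
    have := QCoh.isQuasicoherent_pushforward (Spec.map φ) ((tilde.functor S).obj M)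
    inferInstanceAs (IsIso ((Scheme.Modules.pushforward (Spec.map φ)).obj ((tilde.functor S).obj M)).fromTildeΓ)
  have : ∀ M, IsIso ((Functor.whiskerLeft (tilde.functor S ⋙ Scheme.Modules.pushforward (Spec.map φ))
      (tilde.adjunction (R := R)).counit).app M) := h
  have : IsIso (Functor.whiskerLeft (tilde.functor S ⋙ Scheme.Modules.pushforward (Spec.map φ))
      (tilde.adjunction (R := R)).counit) := NatIso.isIso_of_isIso_app _
  (asIso (Functor.whiskerLeft (tilde.functor S ⋙ Scheme.Modules.pushforward (Spec.map φ))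
      (tilde.adjunction (R := R)).counit) ≪≫ Functor.rightUnitor _).symm ≪≫
    Functor.isoWhiskerRight (Functor.associator _ _ _ ≪≫
      Functor.isoWhiskerLeft _ (CohOps.TildeRestrict.pushΓIso φ) ≪≫ (Functor.associator _ _ _).symm ≪≫
      Functor.isoWhiskerRight tilde.toTildeΓNatIso.symm _ ≪≫ Functor.leftUnitor _) (tilde.functor R)

theorem pc_restrictD_iff {A B : Type u} [CommRing A] [CommRing B] (θ : A →+* B)
    [IsClosedImmersion (Spec.map (CommRingCat.ofHom θ))]
    [PreservesFiniteLimits (tilde.functor (CommRingCat.of A))]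
    [PreservesFiniteLimits (tilde.functor (CommRingCat.of B))] (m : ℤ) (M : Dual.D B) :
    DRing.IsPseudoCoherent A m ((DRing.restrictD θ).obj M) ↔
      DCoh.IsPseudoCoherentD m
        ((pushD (Spec.map (CommRingCat.ofHom θ))).obj ((DCoh.tildeD (CommRingCat.of B)).obj M)) := by
  have : PreservesColimitsOfSize.{0, 0} (tilde.functor (CommRingCat.of B)) :=
    (tilde.adjunction (R := CommRingCat.of B)).leftAdjoint_preservesColimits
  have : PreservesColimitsOfSize.{0, 0} (tilde.functor (CommRingCat.of A)) :=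
    (tilde.adjunction (R := CommRingCat.of A)).leftAdjoint_preservesColimits
  have := PreservesColimitsOfSize0.preservesFiniteColimits (tilde.functor (CommRingCat.of B))
  have := PreservesColimitsOfSize0.preservesFiniteColimits (tilde.functor (CommRingCat.of A))
  haveI : (tilde.functor (CommRingCat.of B)).Additive := Functor.additive_of_preserves_binary_products _
  haveI : (tilde.functor (CommRingCat.of A)).Additive := Functor.additive_of_preserves_binary_products _
  obtain ⟨e⟩ := CohOps.TildeRestrict.nonempty_mapDerived_square (tilde.functor (CommRingCat.of B))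
    (Scheme.Modules.pushforward (Spec.map (CommRingCat.ofHom θ))) (ModuleCat.restrictScalars.{u} θ)
    (tilde.functor (CommRingCat.of A)) (pushTildeIso (CommRingCat.ofHom θ)) M
  exact ⟨fun h => pc_of_iso e.symm (KFlat.TildePC.isPseudoCoherentD_tildeD (A := CommRingCat.of A) _ m h),
    fun h => KFlat.TildePC.isPseudoCoherent_of_tildeD (A := CommRingCat.of A) _ m (pc_of_iso e h)⟩

variable {X S : Scheme.{u}} {f : X ⟶ S} {m : ℤ} {K : DCoh.D X}

theorem tc_iff_ring {U : X.Opens} (hU : IsAffineOpen U) {A : Type u} [CommRing A] (θ : A →+* Γ(X, U))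
    (hθ : Function.Surjective θ) [PreservesFiniteLimits (tilde.functor Γ(X, U))] (M : Dual.D Γ(X, U))
    (e : (DCoh.tildeD Γ(X, U)).obj M ≅ (pushD hU.isoSpec.hom).obj ((DCoh.restrictD U.ι).obj K)) :
    TC m K U θ ↔ DRing.IsPseudoCoherent A m ((DRing.restrictD θ).obj M) := by
  have := isClosedImmersion_cIm hU hθ
  have : IsClosedImmersion (Spec.map (CommRingCat.ofHom θ)) :=
    IsClosedImmersion.spec_of_surjective _ hθ
  have := KFlat.TildeExact.preservesFiniteLimits_tilde (CommRingCat.of A)
  rw [tc_iff, test_congr (o' := U.ι) (i' := hU.isoSpec.hom ≫ Spec.map (CommRingCat.ofHom θ)) rfl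
    (by rw [hU.isoSpec_hom]; rfl) K, pc_restrictD_iff θ m M]
  let e' := (pushD (Spec.map (CommRingCat.ofHom θ))).mapIso e ≪≫
    pushDComp hU.isoSpec.hom (Spec.map (CommRingCat.ofHom θ)) _
  exact ⟨fun h => pc_of_iso e'.symm h, fun h => pc_of_iso e' h⟩

theorem isQCohD_pushD_isoSpec (hK : DCoh.IsQCohD K) {U : X.Opens} (hU : IsAffineOpen U) :
    DCoh.IsQCohD ((pushD hU.isoSpec.hom).obj ((DCoh.restrictD U.ι).obj K)) := fun i => by
  let F := DerivedCategory.Q.objPreimage K
  let e := DerivedCategory.Q.objObjPreimageIso K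
  have h₁ : DCoh.IsQCohD ((DCoh.restrictD U.ι).obj K) :=
    KFlat.QCohModel.isQCohD_of_iso ((PerfTri.Perfect.restrQ U.ι F).symm ≪≫ (DCoh.restrictD U.ι).mapIso e)
      (KFlat.QCohModel.isQCohD_restrJ U.ι (KFlat.QCohModel.isQCohD_of_iso e.symm hK))
  exact @Groth.Agent.QCoh.isQuasicoherent_of_iso _ _ _ (pushDHomology hU.isoSpec.hom _ i).symm
    (@QCoh.isQuasicoherent_pushforward _ _ hU.isoSpec.hom _ _ _ (h₁ i))

/-- A pair of opens passes the test iff the module of sections is relatively pseudo-coherent. -/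
theorem P_iff_isRel [LocallyOfFiniteType f] {U : X.Opens} (hU : IsAffineOpen U) {V : S.Opens}
    (hV : IsAffineOpen V) (h : U ≤ f ⁻¹ᵁ V) [PreservesFiniteLimits (tilde.functor Γ(X, U))]
    (M : Dual.D Γ(X, U))
    (e : (DCoh.tildeD Γ(X, U)).obj M ≅ (pushD hU.isoSpec.hom).obj ((DCoh.restrictD U.ι).obj K)) :
    P f m K U V ↔
      (letI := (f.appLE V U h).hom.toAlgebra; DerCA.IsRelPseudoCoherent Γ(S, V) Γ(X, U) m M) := by
  let _ := (f.appLE V U h).hom.toAlgebra
  constructor
  · intro hP
    obtain ⟨n, φ, hc⟩ := exists_chart hU hV h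
    exact ⟨n, ⟨φ, fun r => congr($(hc.2) r)⟩, hc.1,
      (tc_iff_ring hU φ hc.1 M e).1 (hP.tc hU h φ hc)⟩
  · rintro ⟨n, α, hα, hpc⟩
    exact ⟨h, n, α.toRingHom, ⟨hα, α.comp_algebraMap⟩, (tc_iff_ring hU α.toRingHom hα M e).2 hpc⟩

end Groth.Agent.PCohD
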