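import Groth.Agent.PCohD.RelRing
import Groth.Agent.CohDerLib.QC.AcyPush
import Groth.Agent.CohBase.PushEdge

/-!
# Derived direct image along affine morphisms of quasi-coherent objects
-/

set_option autoImplicit false
set_option backward.isDefEq.respectTransparency.types false

universe u

open CategoryTheory Limits AlgebraicGeometry
open Groth.Agent.KFlat.RPush Groth.Agent.CohDerLib
attribute [local instance] HasDerivedCategory.standard

noncomputable section

namespace Groth.Agent.PCohD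

variable {X Y : Scheme.{u}}

/-- On complexes of quasi-coherent modules `Rf_*` of an affine `f` is termwise direct image. -/
theorem isIso_toRpush_affine (f : X ⟶ Y) [IsAffineHom f] [DCoh.HasRpush f]
    (F : CochainComplex X.Modules ℤ) (hq : ∀ m, (F.X m).IsQuasicoherent) :
    IsIso ((toRpush f).app F) := by
  have : EnoughInjectives X.Modules := IsGrothendieckAbelian.enoughInjectives
  refine QC.isIso_toRpush_of_acyclic f F hq fun m i hi => ?_
  obtain ⟨q, rfl⟩ : ∃ q, i = q + 1 := ⟨i - 1, by omega⟩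
  have := hq m
  exact CohBase.PushEdge.isZero_Rpush_of_isAffineHom f (F.X m) q

theorem isoSpec_inv_restrict (f : X ⟶ Y) {V : Y.Opens} (hV : IsAffineOpen V)
    (hU : IsAffineOpen (f ⁻¹ᵁ V)) :
    hU.isoSpec.inv ≫ (f ∣_ V) ≫ hV.isoSpec.hom = Spec.map (f.app V) := by
  rw [← cancel_mono hV.fromSpec]
  simp only [Category.assoc, IsAffineOpen.isoSpec_hom_fromSpec]
  rw [morphismRestrict_ι, IsAffineOpen.isoSpec_inv_ι_assoc, Scheme.Hom.app_eq_appLE,
    hV.SpecMap_appLE_fromSpec f hU]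

/-- Direct image along a morphism equal to the identity. -/
def pushDOfEq (i : X ⟶ X) [IsClosedImmersion i] (h : i = 𝟙 X) (K : DCoh.D X) : (pushD i).obj K ≅ K := by
  subst h; exact pushDId K

/-- `Rf_*` of an affine morphism over an affine open, in terms of modules over the rings. -/
theorem nonempty_rpush_restrict (f : X ⟶ Y) [IsAffineHom f] [DCoh.HasRpush f] (E : DCoh.D X)
    {V : Y.Opens} (hV : IsAffineOpen V) (hU : IsAffineOpen (f ⁻¹ᵁ V))
    [PreservesFiniteLimits (tilde.functor Γ(X, f ⁻¹ᵁ V))] [PreservesFiniteLimits (tilde.functor Γ(Y, V))]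
    (M : Dual.D Γ(X, f ⁻¹ᵁ V))
    (e : (DCoh.tildeD Γ(X, f ⁻¹ᵁ V)).obj M ≅
      (pushD hU.isoSpec.hom).obj ((DCoh.restrictD (f ⁻¹ᵁ V).ι).obj E)) :
    Nonempty ((DCoh.tildeD Γ(Y, V)).obj ((DRing.restrictD (f.app V).hom).obj M) ≅
      (pushD hV.isoSpec.hom).obj ((DCoh.restrictD V.ι).obj ((DCoh.Rpush f).obj E))) := by
  have : IsAffine (V : Scheme.{u}) := hV
  have := hasRpush (f ∣_ V)
  let inv := hU.isoSpec.inv
  have : IsAffineHom (f ∣_ V) := IsZariskiLocalAtTarget.restrict ‹_› V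
  let g := f ∣_ V
  -- `E|_U` as a complex of quasi-coherent modules
  let L := DerivedCategory.Q.objPreimage M
  let eL : DerivedCategory.Q.obj L ≅ M := DerivedCategory.Q.objObjPreimageIso M
  let tL := ((tilde.functor Γ(X, f ⁻¹ᵁ V)).mapHomologicalComplex (ComplexShape.up ℤ)).obj L
  let C := ((Scheme.Modules.pushforward inv).mapHomologicalComplex (ComplexShape.up ℤ)).obj tL
  have hC : ∀ m, (C.X m).IsQuasicoherent := fun m =>
    have : SheafOfModules.IsQuasicoherent.{u} ((tilde.functor Γ(X, f ⁻¹ᵁ V)).obj (L.X m)) :=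
      KFlat.TildeD.isQuasicoherent_of_essImage ⟨L.X m, ⟨Iso.refl _⟩⟩
    QCoh.isQuasicoherent_pushforward inv ((tilde.functor Γ(X, f ⁻¹ᵁ V)).obj (L.X m))
  let et : DerivedCategory.Q.obj tL ≅ (DCoh.tildeD Γ(X, f ⁻¹ᵁ V)).obj M :=
    ((tilde.functor Γ(X, f ⁻¹ᵁ V)).mapDerivedCategoryFactors.app L).symm ≪≫
      (DCoh.tildeD Γ(X, f ⁻¹ᵁ V)).mapIso eL
  let eC : DerivedCategory.Q.obj C ≅ (DCoh.restrictD (f ⁻¹ᵁ V).ι).obj E :=
    ((Scheme.Modules.pushforward inv).mapDerivedCategoryFactors.app tL).symm ≪≫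
      (pushD inv).mapIso (et ≪≫ e) ≪≫ pushDComp hU.isoSpec.hom inv _ ≪≫
      pushDOfEq _ hU.isoSpec.hom_inv_id _
  let er : (DCoh.restrictD V.ι).obj ((DCoh.Rpush f).obj E) ≅
      DerivedCategory.Q.obj (((Scheme.Modules.pushforward g).mapHomologicalComplex (ComplexShape.up ℤ)).obj C) :=
    (KFlat.RPushBase.restrictRpushIso f V).app E ≪≫ (DCoh.Rpush g).mapIso eC.symm ≪≫
      (@asIso _ _ _ _ ((toRpush g).app C) (isIso_toRpush_affine g C hC)).symm
  let η : tilde.functor Γ(X, f ⁻¹ᵁ V) ⋙ Scheme.Modules.pushforward inv ⋙ Scheme.Modules.pushforward g ⋙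
      Scheme.Modules.pushforward hV.isoSpec.hom ≅
        ModuleCat.restrictScalars.{u} (f.app V).hom ⋙ tilde.functor Γ(Y, V) :=
    Functor.isoWhiskerLeft _ (Functor.isoWhiskerLeft _ (Scheme.Modules.pushforwardComp g hV.isoSpec.hom) ≪≫
      Scheme.Modules.pushforwardComp inv _ ≪≫
      Scheme.Modules.pushforwardCongr (isoSpec_inv_restrict f hV hU)) ≪≫ pushTildeIso (f.app V)
  let eη : (((Scheme.Modules.pushforward hV.isoSpec.hom).mapHomologicalComplex (ComplexShape.up ℤ)).obj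
      (((Scheme.Modules.pushforward g).mapHomologicalComplex (ComplexShape.up ℤ)).obj C)) ≅
      ((tilde.functor Γ(Y, V)).mapHomologicalComplex (ComplexShape.up ℤ)).obj
        (((ModuleCat.restrictScalars.{u} (f.app V).hom).mapHomologicalComplex (ComplexShape.up ℤ)).obj L) :=
    HomologicalComplex.Hom.isoOfComponents (fun n => η.app (L.X n))
      (fun i j _ => (η.hom.naturality (L.d i j)).symm)
  exact ⟨(DCoh.tildeD Γ(Y, V)).mapIso ((DRing.restrictD (f.app V).hom).mapIso eL.symm ≪≫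
      (ModuleCat.restrictScalars.{u} (f.app V).hom).mapDerivedCategoryFactors.app L) ≪≫
    (tilde.functor Γ(Y, V)).mapDerivedCategoryFactors.app _ ≪≫ DerivedCategory.Q.mapIso eη.symm ≪≫
    ((Scheme.Modules.pushforward hV.isoSpec.hom).mapDerivedCategoryFactors.app _).symm ≪≫
    (pushD hV.isoSpec.hom).mapIso er.symm⟩

/-- The third object of a triangle with quasi-coherent cohomology on two objects. -/
theorem isQCohD_obj₃ (T : Pretriangulated.Triangle (DCoh.D X))
    (hT : T ∈ Pretriangulated.distinguishedTriangles) (h₁ : DCoh.IsQCohD T.obj₁) (h₂ : DCoh.IsQCohD T.obj₂) :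
    DCoh.IsQCohD T.obj₃ := fun i =>
  (QC.closed_qcoh X).mid
    (DerivedCategory.HomologySequence.exact₂ T hT i)
    (DerivedCategory.HomologySequence.exact₃ T hT i (i + 1) rfl)
    (DerivedCategory.HomologySequence.exact₁ T hT i (i + 1) rfl)
    (h₁ i) (h₂ i) (h₁ (i + 1)) (h₂ (i + 1))

/-- An affine morphism kills no object with quasi-coherent cohomology. -/
theorem isZero_of_rpush (f : X ⟶ Y) [IsAffineHom f] [DCoh.HasRpush f] (C : DCoh.D X)
    (hC : DCoh.IsQCohD C) (h0 : IsZero ((DCoh.Rpush f).obj C)) : IsZero C := by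
  suffices ∀ i, IsZero ((DerivedCategory.homologyFunctor X.Modules i).obj C) from
    (IsZero.iff_id_eq_zero C).2 <| by
      have hi : IsIso (0 : C ⟶ C) := (DerivedCategory.isIso_iff X.Modules _).2 fun i =>
        ⟨0, (this i).eq_of_src _ _, (this i).eq_of_src _ _⟩
      rw [← cancel_mono (0 : C ⟶ C)]
      simp
  intro i
  refine QC.isZero_of_restrict (fun V : Y.affineOpens => f ⁻¹ᵁ V.1) ?_ fun V => ?_
  · rw [← Scheme.Hom.preimage_iSup, iSup_affineOpens_eq_top]; rfl
  have hU := V.2.preimage f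
  have := KFlat.TildeExact.preservesFiniteLimits_tilde Γ(X, f ⁻¹ᵁ V.1)
  have := KFlat.TildeExact.preservesFiniteLimits_tilde Γ(Y, V.1)
  obtain ⟨M, ⟨e⟩⟩ := KFlat.TildeD.exists_iso_of_isQCohD (R := Γ(X, f ⁻¹ᵁ V.1)) _
    (isQCohD_pushD_isoSpec hC hU)
  obtain ⟨eR⟩ := nonempty_rpush_restrict f C V.2 hU M e
  have hM : IsZero M := by
    have h1 : IsZero ((DRing.restrictD (f.app V.1).hom).obj M) := by
      have h2 := (Functor.map_isZero (pushD V.2.isoSpec.hom)
        (Functor.map_isZero (DCoh.restrictD V.1.ι) h0)).of_iso eR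
      rw [IsZero.iff_id_eq_zero] at h2 ⊢
      exact (DCoh.tildeD Γ(Y, V.1)).map_injective (by rw [CategoryTheory.Functor.map_id, CategoryTheory.Functor.map_zero]; exact h2)
    refine (IsZero.iff_id_eq_zero M).2 ?_
    have hH : ∀ q, IsZero ((DerivedCategory.homologyFunctor (ModuleCat.{u} Γ(X, f ⁻¹ᵁ V.1)) q).obj M) := fun q =>
      @ModuleCat.isZero_of_subsingleton _ _ _ ((DRing.PCRestrict.subsingleton_HD_restrict_iff (f.app V.1).hom M q).1
        (ModuleCat.subsingleton_of_isZero (Functor.map_isZero _ h1)))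
    have hi : IsIso (0 : M ⟶ M) := (DerivedCategory.isIso_iff (ModuleCat.{u} Γ(X, f ⁻¹ᵁ V.1)) _).2 fun q =>
      ⟨0, (hH q).eq_of_src _ _, (hH q).eq_of_src _ _⟩
    rw [← cancel_mono (0 : M ⟶ M)]
    simp
  have h3 : IsZero ((pushD hU.isoSpec.hom).obj ((DCoh.restrictD (f ⁻¹ᵁ V.1).ι).obj C)) :=
    (Functor.map_isZero (DCoh.tildeD Γ(X, f ⁻¹ᵁ V.1)) hM).of_iso e.symm
  have h4 : IsZero ((DCoh.restrictD (f ⁻¹ᵁ V.1).ι).obj C) :=
    (Functor.map_isZero (pushD hU.isoSpec.inv) h3).of_iso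
      (pushDComp hU.isoSpec.hom hU.isoSpec.inv _ ≪≫ pushDOfEq _ hU.isoSpec.hom_inv_id _).symm
  exact (Functor.map_isZero (DerivedCategory.homologyFunctor _ i) h4).of_iso
    ((KFlat.MapHomology.iso (Scheme.Modules.restrictFunctor (f ⁻¹ᵁ V.1).ι) i).app C).symm

end Groth.Agent.PCohD
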