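import Groth.Agent.PCohD.Terms
import Groth.Agent.Props.QProj
import Groth.Agent.Omega.Charts
import Groth.Agent.KFlat.MapHomology
import Mathlib.Algebra.Homology.DerivedCategory.HomologySequence
import Mathlib.Algebra.Homology.DerivedCategory.SingleTriangle

/-!
# Finite type and finite presentation through pseudo-coherence
-/

set_option autoImplicit false

universe u

open CategoryTheory Limits AlgebraicGeometry Pretriangulated TopologicalSpace
open Groth.Agent.KFlat.TildePC (Appr appr_of_isIso)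
attribute [local instance] HasDerivedCategory.standard

noncomputable section

namespace Groth.Agent.PCohD.FTFP

variable {X : Scheme.{u}} {m : ℤ}

local notation "HX" => DerivedCategory.homologyFunctor X.Modules

/-- Locally a quotient of a finite free module. -/
def LocGen (F : X.Modules) : Prop :=
  ∀ x : X, ∃ (V : X.Opens) (n : ℕ) (p : FlatMod.freeMod (↑V) n ⟶ F.restrict V.ι), x ∈ V ∧ Epi p

/-- Restricting twice. -/
def restrTwice {U W : Scheme.{u}} (k : W ⟶ U) (j : U ⟶ X) (i : W ⟶ X) [IsOpenImmersion k]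
    [IsOpenImmersion j] [IsOpenImmersion i] (h : k ≫ j = i) (F : X.Modules) :
    (F.restrict j).restrict k ≅ F.restrict i :=
  ((Scheme.Modules.restrictFunctorComp k j).symm ≪≫ Scheme.Modules.restrictFunctorCongr h).app F

/-- A free module restricts to a free module. -/
def restrFree {U W : Scheme.{u}} (k : W ⟶ U) [IsOpenImmersion k] (n : ℕ) :
    (FlatMod.freeMod U n).restrict k ≅ FlatMod.freeMod W n :=
  (Scheme.Modules.restrictFunctor k).mapIso (Props.QProj.freeModIso U n).symm ≪≫
    Props.QProj.restrictFreeIso k _ ≪≫ Props.QProj.freeModIso W n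

/-- A quotient of a finite locally free module on an open piece gives, near every point of the
piece, a quotient of a finite free module. -/
theorem exists_free_epi {F : X.Modules} {U : Scheme.{u}} (j : U ⟶ X) [IsOpenImmersion j]
    {P : U.Modules} (hP : FlatMod.IsFinLocFree P) (p : P ⟶ F.restrict j) [Epi p] (u : U) :
    ∃ (V : X.Opens) (n : ℕ) (q : FlatMod.freeMod (↑V) n ⟶ F.restrict V.ι), j u ∈ V ∧ Epi q := by
  obtain ⟨W, n, hu, ⟨e⟩⟩ := hP u
  let k := (W.ι ≫ j).isoOpensRange.inv
  refine ⟨(W.ι ≫ j).opensRange, n, (restrFree k n).inv ≫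
    (Scheme.Modules.restrictFunctor k).map (e.inv ≫ (Scheme.Modules.restrictFunctor W.ι).map p ≫
      (restrTwice W.ι j _ rfl F).hom) ≫ (restrTwice k (W.ι ≫ j) _ (by simp [k]) F).hom,
    ⟨⟨u, hu⟩, rfl⟩, ?_⟩
  infer_instance

theorem epi_iso_comp {A B C' : X.Modules} (e : A ≅ B) (f : B ⟶ C') (hf : Epi f) :
    Epi (e.hom ≫ f) :=
  @epi_comp _ _ _ _ _ e.hom inferInstance f hf

theorem epi_comp_iso {A B C' : X.Modules} (f : A ⟶ B) (e : B ≅ C') (hf : Epi f) :
    Epi (f ≫ e.hom) :=
  @epi_comp _ _ _ _ _ f hf e.hom inferInstance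

/-- A finite type module is locally a quotient of a finite free one. -/
theorem locGen_of_isFT {F : X.Modules} (hF : CohB1.IsFT F) : LocGen F := by
  intro x
  obtain ⟨σ, hσ⟩ :=
    SheafOfModules.IsFiniteType.exists_localGeneratorsData.{u} (R := X.ringCatSheaf) F
  obtain ⟨i, hi⟩ := Opens.mem_iSup.mp
    (((Opens.coversTop_iff (U := σ.X)).mp σ.coversTop).ge (trivial : x ∈ (⊤ : X.Opens)))
  have := (hσ.isFiniteType i).finite
  let V : X.Opens := σ.X i
  let G := QCoh.generatorsRestrict F V (σ.generators i)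
  have : Finite G.I := inferInstanceAs (Finite (σ.generators i).I)
  let q : (SheafOfModules.free.{u} G.I : (↑V : Scheme.{u}).Modules) ⟶ F.restrict V.ι := G.π
  have hq : Epi q := G.epi
  let e := Omega.Charts.freeIso (Z := (↑V : Scheme.{u})) (Finite.equivFin G.I)
  exact ⟨V, _, e.inv ≫ q, hi, epi_iso_comp e.symm q hq⟩

/-- Finitely many generating sections from a quotient of a finite free module. -/
def gensOfEpi {M : X.Modules} {n : ℕ} (p : FlatMod.freeMod X n ⟶ M) [Epi p] :
    M.GeneratingSections where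
  I := ULift.{u} (Fin n)
  s := M.freeHomEquiv ((Props.QProj.freeModIso X n).hom ≫ p)
  epi := by
    rw [Equiv.symm_apply_apply]
    exact inferInstanceAs (Epi ((Props.QProj.freeModIso X n).hom ≫ p))

theorem gensOfEpi_π {M : X.Modules} {n : ℕ} (p : FlatMod.freeMod X n ⟶ M) [Epi p] :
    (gensOfEpi p).π = (Props.QProj.freeModIso X n).hom ≫ p :=
  M.freeHomEquiv.symm_apply_apply _

theorem isFT_of_locGen {F : X.Modules} (h : LocGen F) : CohB1.IsFT F := by
  choose V n p hx hp using h
  let σ : SheafOfModules.LocalGeneratorsData.{u} (R := X.ringCatSheaf) F :=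
    { I := X
      X := V
      coversTop := (Opens.coversTop_iff (U := V)).mpr
        (top_le_iff.mp fun x _ ↦ Opens.mem_iSup.mpr ⟨x, hx x⟩)
      generators := fun x => have := hp x; QCoh.generatorsOver F (V x) (gensOfEpi (p x)) }
  have hσ : SheafOfModules.LocalGeneratorsData.IsFiniteType.{u} σ :=
    { isFiniteType := fun x => { finite := inferInstanceAs (Finite (ULift.{u} (Fin (n x)))) } }
  constructor
  exact ⟨σ, hσ⟩

/-- A presentation on an open gives one of the module over the open. -/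
def presOver (F : X.Modules) (U : X.Opens) (P : (F.restrict U.ι).Presentation) :
    (F.over U).Presentation :=
  let E := Scheme.Modules.overEquiv U
  let η : SheafOfModules.unit.{u} _ ≅ E.inverse.obj (SheafOfModules.unit.{u} _) :=
    (U.sheafOfModulesEquivOverInverseUnit X.ringCatSheaf).symm
  let G : SheafOfModules.{u} U.toScheme.ringCatSheaf ⥤ SheafOfModules.{u} (X.ringCatSheaf.over U) :=
    E.inverse
  have : PreservesColimitsOfSize.{u, u} G := E.symm.toAdjunction.leftAdjoint_preservesColimits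
  let e : G.obj (F.restrict U.ι) ≅ F.over U :=
    E.inverse.mapIso ((Scheme.Modules.overFunctorEquiv U).app F).symm ≪≫
      (E.unitIso.app (F.over U)).symm
  SheafOfModules.Presentation.ofIsIso.{u, u, u} e.hom (P.map G η)

/-- A presentation from a quotient map of a finite free module and generators of its kernel. -/
def presOfEpi {M : X.Modules} {n k : ℕ} (p : FlatMod.freeMod X n ⟶ M) [Epi p]
    (q : FlatMod.freeMod X k ⟶ kernel p) [Epi q] : M.Presentation where
  generators := gensOfEpi p
  relations :=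
    gensOfEpi (q ≫ (kernel.mapIso p (gensOfEpi p).π (Props.QProj.freeModIso X n).symm (Iso.refl _)
      (by rw [gensOfEpi_π]; exact (Category.comp_id p).trans (Iso.inv_hom_id_assoc (Props.QProj.freeModIso X n) p).symm)).hom)

theorem isFP_of_local {F : X.Modules} (h : ∀ x : X, ∃ (V : X.Opens) (n k : ℕ)
    (p : FlatMod.freeMod (↑V) n ⟶ F.restrict V.ι) (q : FlatMod.freeMod (↑V) k ⟶ kernel p),
    x ∈ V ∧ Epi p ∧ Epi q) : CohB1.IsFP F := by
  choose V n k p q hx hp hq using h
  let σ : SheafOfModules.QuasicoherentData.{u} (R := X.ringCatSheaf) F :=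
    { I := X
      X := V
      coversTop := (Opens.coversTop_iff (U := V)).mpr
        (top_le_iff.mp fun x _ ↦ Opens.mem_iSup.mpr ⟨x, hx x⟩)
      presentation := fun x => have := hp x; have := hq x; presOver F (V x) (presOfEpi (p x) (q x)) }
  have hσ : SheafOfModules.QuasicoherentData.IsFinitePresentation.{u} σ :=
    { isFinite_presentation := fun x =>
        { isFiniteType_generators := { finite := inferInstanceAs (Finite (ULift.{u} (Fin (n x)))) }
          isFiniteType_relations := { finite := inferInstanceAs (Finite (ULift.{u} (Fin (k x)))) } } }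
  constructor
  exact ⟨σ, hσ⟩

/-- A finitely presented module is locally a quotient of a finite free one by a finite type
submodule. -/
theorem locPres_of_isFP {F : X.Modules} (hF : CohB1.IsFP F) (x : X) :
    ∃ (V : X.Opens) (n k : ℕ) (p : FlatMod.freeMod (↑V) n ⟶ F.restrict V.ι)
      (q : FlatMod.freeMod (↑V) k ⟶ kernel p), x ∈ V ∧ Epi p ∧ Epi q := by
  obtain ⟨σ, hσ⟩ :=
    SheafOfModules.IsFinitePresentation.exists_quasicoherentData.{u} (R := X.ringCatSheaf) F
  obtain ⟨i, hi⟩ := Opens.mem_iSup.mp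
    (((Opens.coversTop_iff (U := σ.X)).mp σ.coversTop).ge (trivial : x ∈ (⊤ : X.Opens)))
  have hfin := hσ.isFinite_presentation i
  have := hfin.isFiniteType_generators.finite
  have := hfin.isFiniteType_relations.finite
  let V : X.Opens := σ.X i
  let E := Scheme.Modules.overEquiv V
  let G : SheafOfModules.{u} (X.ringCatSheaf.over V) ⥤
      SheafOfModules.{u} V.toScheme.ringCatSheaf := E.functor
  have : PreservesColimitsOfSize.{u, u} G := E.toAdjunction.leftAdjoint_preservesColimits
  let P : (F.restrict V.ι).Presentation :=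
    Omega.Charts.presOfIso ((Scheme.Modules.overFunctorEquiv V).app F)
      ((σ.presentation i).map G (V.sheafOfModulesEquivOverUnit X.ringCatSheaf).symm)
  have : Finite P.generators.I := inferInstanceAs (Finite (σ.presentation i).generators.I)
  have : Finite P.relations.I := inferInstanceAs (Finite (σ.presentation i).relations.I)
  let g : (SheafOfModules.free.{u} P.generators.I : (↑V : Scheme.{u}).Modules) ⟶
      F.restrict V.ι := P.generators.π
  have hg : Epi g := P.generators.epi
  let r : (SheafOfModules.free.{u} P.relations.I : (↑V : Scheme.{u}).Modules) ⟶ kernel g :=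
    P.relations.π
  have hr : Epi r := P.relations.epi
  let e := Omega.Charts.freeIso (Z := (↑V : Scheme.{u})) (Finite.equivFin P.generators.I)
  let e' := Omega.Charts.freeIso (Z := (↑V : Scheme.{u})) (Finite.equivFin P.relations.I)
  exact ⟨V, _, _, e.inv ≫ g,
    e'.inv ≫ r ≫ (kernel.mapIso g (e.inv ≫ g) e (Iso.refl _) (by simp)).hom, hi,
    epi_iso_comp e.symm g hg,
    epi_iso_comp e'.symm _ (epi_comp_iso r _ hr)⟩

/-! ### Homology and restriction -/

/-- Cohomology commutes with restriction. -/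
def hRestr {U : Scheme.{u}} (j : U ⟶ X) [IsOpenImmersion j] (K : DCoh.D X) (i : ℤ) :
    (DerivedCategory.homologyFunctor U.Modules i).obj ((DCoh.restrictD j).obj K) ≅
      ((HX i).obj K).restrict j :=
  (KFlat.MapHomology.iso (Scheme.Modules.restrictFunctor j) i).app K

theorem isZero_restr {U : Scheme.{u}} (j : U ⟶ X) [IsOpenImmersion j] {K : DCoh.D X} {i : ℤ}
    (h : IsZero ((HX i).obj K)) :
    IsZero ((DerivedCategory.homologyFunctor U.Modules i).obj ((DCoh.restrictD j).obj K)) :=
  ((Scheme.Modules.restrictFunctor j).map_isZero h).of_iso (hRestr j K i)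

theorem isZero_inD (F : X.Modules) {i : ℤ} (hi : i ≠ 0) :
    IsZero ((HX i).obj (DCoh.inD X F)) :=
  ((DerivedCategory.homologyFunctor _ i).mapIso
    ((DerivedCategory.singleFunctorIsoCompQ X.Modules 0).app F)).isZero_iff.mpr
    ((isZero_homology_Q _ i).mpr ((HomologicalComplex.exactAt_iff_isZero_homology _ _).mp
      (HomologicalComplex.exactAt_single_obj _ _ _ _ hi)))

/-- The zeroth cohomology of a module in degree zero. -/
def hInD (F : X.Modules) : (HX 0).obj (DCoh.inD X F) ≅ F :=
  (HX 0).mapIso ((DerivedCategory.singleFunctorIsoCompQ X.Modules 0).app F) ≪≫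
    (DerivedCategory.homologyFunctorFactors X.Modules 0).app _ ≪≫
    HomologicalComplex.singleObjHomologySelfIso (ComplexShape.up ℤ) 0 F

theorem pc_free (n : ℕ) (m : ℤ) :
    DCoh.IsPseudoCoherentD m (DCoh.inD X (FlatMod.freeMod X n)) := by
  refine pc_of_isAp ⟨_, ((DerivedCategory.singleFunctorIsoCompQ X.Modules 0).app
    (FlatMod.freeMod X n)).inv, isStrictlyPerfect_single 0 ?_, appr_of_isIso m _⟩
  exact fun x => ⟨⊤, n, trivial, ⟨restrFree _ n⟩⟩

/-- Top cohomology of an `m`-pseudo-coherent object, in degree `m`, is of finite type. -/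
theorem isFT_homology {K : DCoh.D X} (hK : DCoh.IsPseudoCoherentD m K)
    (hv : ∀ i, m < i → IsZero ((HX i).obj K)) : CohB1.IsFT ((HX m).obj K) := by
  refine isFT_of_locGen fun x => ?_
  obtain ⟨U, j, hj, ⟨u, rfl⟩, E, α, hE, hα⟩ := (pc_iff K).mp hK x
  have hEv : ∀ i, m < i → IsZero (E.homology i) := fun i hi => by
    have := hα.1 i hi
    exact (isZero_homology_Q E i).mp ((isZero_restr j (hv i hi)).of_iso
      (asIso ((DerivedCategory.homologyFunctor _ i).map α)))
  obtain ⟨W, P, p, huW, hP, hp⟩ := exists_epi_homology hE hEv u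
  have := hα.2
  let q : E.homology m ⟶ ((HX m).obj K).restrict j :=
    ((DerivedCategory.homologyFunctorFactors _ m).app E).inv ≫
      (DerivedCategory.homologyFunctor _ m).map α ≫ (hRestr j K m).hom
  have : Epi q := inferInstance
  obtain ⟨V, n, r, hV, hr⟩ := exists_free_epi (W.ι ≫ j) hP
    (p ≫ (Scheme.Modules.restrictFunctor W.ι).map q ≫ (restrTwice W.ι j _ rfl _).hom) ⟨u, huW⟩
  exact ⟨V, n, r, hV, hr⟩

/-- An object whose top cohomology, in degree `m`, is of finite type is `m`-pseudo-coherent. -/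
theorem pc_of_isFT_homology {K : DCoh.D X} (hv : ∀ i, m < i → IsZero ((HX i).obj K))
    (hF : CohB1.IsFT ((HX m).obj K)) : DCoh.IsPseudoCoherentD m K := by
  refine pc_of_local fun x => ?_
  obtain ⟨V, n, p, hx, hp⟩ := locGen_of_isFT hF x
  exact ⟨V, V.ι, inferInstance, ⟨⟨x, hx⟩, rfl⟩,
    pc_of_top_epi (fun i hi => isZero_restr V.ι (hv i hi))
      (P := FlatMod.freeMod (↑V) n) (fun y => ⟨⊤, n, trivial, ⟨restrFree _ n⟩⟩)
      (p ≫ (hRestr V.ι K m).inv) inferInstance⟩

theorem pc_zero_iff (F : X.Modules) :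
    DCoh.IsPseudoCoherentD 0 (DCoh.inD X F) ↔ CohB1.IsFT F := by
  constructor
  · intro h
    have := isFT_homology h fun i hi => isZero_inD F (by omega)
    refine isFT_of_locGen fun x => ?_
    obtain ⟨V, n, p, hx, hp⟩ := locGen_of_isFT this x
    exact ⟨V, n, p ≫ (Scheme.Modules.restrictFunctor V.ι).map (hInD F).hom, hx, inferInstance⟩
  · intro h
    refine pc_of_isFT_homology (fun i hi => isZero_inD F (by omega)) (isFT_of_locGen fun x => ?_)
    obtain ⟨V, n, p, hx, hp⟩ := locGen_of_isFT h x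
    exact ⟨V, n, p ≫ (Scheme.Modules.restrictFunctor V.ι).map (hInD F).inv, hx, inferInstance⟩

/-- The sequence of an epimorphism and its kernel. -/
theorem kerSeq {A B : X.Modules} (p : A ⟶ B) [Epi p] :
    (ShortComplex.mk (kernel.ι p) p (kernel.condition p)).ShortExact :=
  { exact := ShortComplex.exact_of_f_is_kernel _ (kernelIsKernel p) }

/-- The triangle in `D(O_X)` of a short exact sequence. -/
theorem exists_triangle {S : ShortComplex X.Modules} (hS : S.ShortExact) :
    ∃ δ : DCoh.inD X S.X₃ ⟶ (DCoh.inD X S.X₁)⟦(1 : ℤ)⟧,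
      Triangle.mk ((DerivedCategory.singleFunctor X.Modules 0).map S.f)
        ((DerivedCategory.singleFunctor X.Modules 0).map S.g) δ ∈ distinguishedTriangles :=
  ⟨hS.singleδ, hS.singleTriangle_distinguished⟩

theorem pc_kernel {n : ℕ} {F : X.Modules} (p : FlatMod.freeMod X n ⟶ F) [Epi p]
    (h : DCoh.IsPseudoCoherentD (-1) (DCoh.inD X F)) :
    DCoh.IsPseudoCoherentD 0 (DCoh.inD X (kernel p)) := by
  obtain ⟨δ, hT⟩ := exists_triangle (kerSeq p)
  exact pc₁ (m := -1) _ hT (pc_free n _) h

theorem pc_of_kernel {n : ℕ} {F : X.Modules} (p : FlatMod.freeMod X n ⟶ F) [Epi p]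
    (h : DCoh.IsPseudoCoherentD 0 (DCoh.inD X (kernel p))) :
    DCoh.IsPseudoCoherentD (-1) (DCoh.inD X F) := by
  obtain ⟨δ, hT⟩ := exists_triangle (kerSeq p)
  exact pc₃ (m := -1) _ hT h (pc_free n _)

theorem pc_neg_one_iff (F : X.Modules) :
    DCoh.IsPseudoCoherentD (-1) (DCoh.inD X F) ↔ CohB1.IsFP F := by
  constructor
  · intro h
    refine isFP_of_local fun x => ?_
    obtain ⟨V, n, p, hx, hp⟩ := locGen_of_isFT ((pc_zero_iff F).mp (pc_mono h (by omega))) x
    have hV := pc_of_iso (PerfTri.Regular.restrInD V.ι F) (pc_restrict V.ι h)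
    obtain ⟨W, k, q, hxW, hq⟩ := locGen_of_isFT ((pc_zero_iff _).mp (pc_kernel p hV)) ⟨x, hx⟩
    let l := (W.ι ≫ V.ι).isoOpensRange.inv ≫ W.ι
    let R := Scheme.Modules.restrictFunctor l
    let p' : FlatMod.freeMod _ n ⟶ F.restrict (W.ι ≫ V.ι).opensRange.ι :=
      (restrFree l n).inv ≫ R.map p ≫ (restrTwice l V.ι _ (by simp [l]) F).hom
    let κ : R.obj (kernel p) ≅ kernel p' :=
      PreservesKernel.iso R p ≪≫ kernel.mapIso (R.map p) p' (restrFree l n)
        (restrTwice l V.ι _ (by simp [l]) F) (by simp [p'])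
    let q' : FlatMod.freeMod _ k ⟶ kernel p' :=
      (restrFree (W.ι ≫ V.ι).isoOpensRange.inv k).inv ≫
        (Scheme.Modules.restrictFunctor (W.ι ≫ V.ι).isoOpensRange.inv).map q ≫
        (restrTwice _ W.ι l rfl (kernel p)).hom ≫ κ.hom
    exact ⟨_, n, k, p', q', ⟨⟨⟨x, hx⟩, hxW⟩, rfl⟩, inferInstance, inferInstance⟩
  · intro h
    refine pc_of_local fun x => ?_
    obtain ⟨V, n, k, p, q, hx, hp, hq⟩ := locPres_of_isFP h x
    refine ⟨V, V.ι, inferInstance, ⟨⟨x, hx⟩, rfl⟩,
      pc_of_iso (PerfTri.Regular.restrInD V.ι F).symm (pc_of_kernel p ?_)⟩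
    refine (pc_zero_iff _).mpr (isFT_of_locGen fun y => ?_)
    obtain ⟨W, n', r, hW, hr⟩ := exists_free_epi (𝟙 (↑V : Scheme.{u}))
      (fun y => ⟨⊤, k, trivial, ⟨restrFree _ k⟩⟩)
      (q ≫ (Scheme.Modules.restrictFunctorId.app (kernel p)).inv) y
    exact ⟨W, n', r, hW, hr⟩

/-- Top cohomology of an `m`-pseudo-coherent object, in degree `m + 1`. -/
theorem pc_top_succ {K : DCoh.D X} (hK : DCoh.IsPseudoCoherentD m K)
    (hv : ∀ i, m + 1 < i → IsZero ((HX i).obj K)) :
    DCoh.IsPseudoCoherentD (-1) (DCoh.inD X ((HX (m + 1)).obj K)) := by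
  obtain ⟨A, B, hA, hB, f, g, δ, hT⟩ :=
    DerivedCategory.TStructure.t.exists_triangle K m (m + 1) rfl
  have hAz : ∀ i, m < i → IsZero ((HX i).obj A) := fun i hi =>
    @DerivedCategory.isZero_of_isLE _ _ _ _ A m i hi ⟨hA⟩
  have hg : ∀ i, m < i → IsIso ((HX i).map g) := fun i hi => by
    have h2 := DerivedCategory.HomologySequence.exact₂ _ hT i
    have h3 := DerivedCategory.HomologySequence.exact₃ _ hT i (i + 1) rfl
    have : Mono ((HX i).map g) := h2.mono_g ((hAz i hi).eq_of_src _ _)
    have : Epi ((HX i).map g) := h3.epi_f ((hAz (i + 1) (by omega)).eq_of_tgt _ _)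
    exact isIso_of_mono_of_epi _
  have : B.IsGE (m + 1) := ⟨hB⟩
  have : B.IsLE (m + 1) := (DerivedCategory.isLE_iff B (m + 1)).mpr fun i hi => by
    have := hg i (by omega)
    exact (hv i hi).of_iso (asIso ((HX i).map g)).symm
  obtain ⟨Y, ⟨e⟩⟩ := DerivedCategory.exists_iso_singleFunctor_obj_of_isGE_of_isLE B (m + 1)
  have hBpc : DCoh.IsPseudoCoherentD m B :=
    pc₃ (Triangle.mk f g δ) hT (pc_of_vanish fun i hi => hAz i (by omega)) hK
  let e₀ := ((DerivedCategory.singleFunctors X.Modules).shiftIso (m + 1) 0 (m + 1) (add_zero _)).app Y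
  have hY : DCoh.IsPseudoCoherentD (-1) (DCoh.inD X Y) := by
    have h := pc_of_iso e₀ (pc_shift (pc_of_iso e hBpc) (m + 1))
    rwa [show m - (m + 1) = -1 by omega] at h
  have := hg (m + 1) (by omega)
  let eY : Y ≅ (HX (m + 1)).obj K :=
    (hInD Y).symm ≪≫ (HX 0).mapIso e₀.symm ≪≫
      ((HX 0).shiftIso (m + 1) 0 (m + 1) (add_zero _)).app _ ≪≫
      (HX (m + 1)).mapIso e.symm ≪≫ (asIso ((HX (m + 1)).map g)).symm
  exact pc_of_iso ((DerivedCategory.singleFunctor X.Modules 0).mapIso eY) hY

end Groth.Agent.PCohD.FTFP
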