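import Groth.Agent.PCohD.ThickStalk
import Groth.Agent.Props.GenLocus
import Groth.Agent.PerfTri.LocalLift
import Groth.Agent.S0923
import Groth.Agent.KoszTwLib.Tensor

/-!
# Spanning sections and quotients of finite locally free modules
-/

set_option autoImplicit false
set_option backward.isDefEq.respectTransparency false
set_option backward.isDefEq.respectTransparency.types false

universe u

open CategoryTheory Limits AlgebraicGeometry TopologicalSpace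

noncomputable section

namespace Groth.Agent.PCohD.Thick

open Groth.Agent.QCoh Groth.Agent.PullStalk.Sky
open Groth.Agent.Props.GenLocus (sec app_eq homOfSec sec_homOfSec one')

variable {X : Scheme.{u}}

theorem smul_restrict (W : X.Opens) (N : X.Modules) (O : (W : Scheme.{u}).Opens) (r : Γ((W : Scheme.{u}), O))
    (m : Γ((Scheme.Modules.restrictFunctor W.ι).obj N, O)) :
    @HSMul.hSMul Γ(X, W.ι ''ᵁ O) Γ(N, W.ι ''ᵁ O) Γ(N, W.ι ''ᵁ O) _ r m = r • m := by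
  refine Eq.trans ?_ (QCoh.restrict_smul W.ι N r m).symm
  rw [Scheme.Opens.ι_appIso]
  rfl

/-- Spanning sections generate every section locally. -/
theorem Spans.exists_comb {M : X.Modules} {V : X.Opens} {n : ℕ} {a : Fin n → Γ(M, V)} (ha : Spans M a)
    {O : X.Opens} (t : Γ(M, O)) (z : X) (hzO : z ∈ O) (hzV : z ∈ V) :
    ∃ (W : X.Opens) (hW : W ≤ O) (hWV : W ≤ V) (c : Fin n → Γ(X, W)), z ∈ W ∧
      LFFrame.comb M a hWV c = M.presheaf.map (homOfLE hW).op t := by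
  obtain ⟨c, hc⟩ := ha z hzV (germM M O z hzO t)
  choose W hzW r hr using fun i => X.presheaf.exists_germ_eq (x := z) (c i)
  let W₀ : X.Opens := ⟨(O : Set X) ∩ V ∩ ⋂ i, (W i : Set X),
    (O.2.inter V.2).inter (isOpen_iInter_of_finite fun i => (W i).2)⟩
  have hzW₀ : z ∈ W₀ := ⟨⟨hzO, hzV⟩, Set.mem_iInter.2 hzW⟩
  have h₁ : W₀ ≤ O := fun x hx => hx.1.1
  have h₂ : W₀ ≤ V := fun x hx => hx.1.2
  have hW₀ : ∀ i, W₀ ≤ W i := fun i x hx => Set.mem_iInter.1 hx.2 i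
  let r' : Fin n → Γ(X, W₀) := fun i => X.presheaf.map (homOfLE (hW₀ i)).op (r i)
  have hr' : ∀ i, X.presheaf.germ W₀ z hzW₀ (r' i) = c i := fun i => by
    rw [← hr i]
    exact X.presheaf.germ_res_apply (homOfLE (hW₀ i)) z hzW₀ (r i)
  have h0 : germM M W₀ z hzW₀ (LFFrame.comb M a h₂ r') =
      germM M W₀ z hzW₀ (M.presheaf.map (homOfLE h₁).op t) := by
    rw [LFFrame.germ_comb]
    simp only [hr']
    refine Eq.trans ?_ (M.presheaf.germ_res_apply (homOfLE h₁) z hzW₀ t).symm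
    exact hc
  obtain ⟨W₁, hzW₁, i₁, i₂, h1⟩ := M.presheaf.germ_eq z hzW₀ hzW₀ _ _ h0
  refine ⟨W₁, i₁.le.trans h₁, i₁.le.trans h₂, fun i => X.presheaf.map (homOfLE i₁.le).op (r' i), hzW₁, ?_⟩
  rw [← LFFrame.res_comb, ← LFFrame.res_res M h₁ i₁.le]
  exact h1

/-- A quotient of a finite locally free module on an open has spanning sections near each point. -/
theorem exists_spans_of_epi (N : X.Modules) (W : X.Opens) {P : (W : Scheme.{u}).Modules}
    (hP : FlatMod.IsFinLocFree P) (p : P ⟶ (Scheme.Modules.restrictFunctor W.ι).obj N) [Epi p]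
    (x : X) (hx : x ∈ W) : ∃ (O : X.Opens) (n : ℕ) (b : Fin n → Γ(N, O)), x ∈ O ∧ Spans N b := by
  obtain ⟨U, n, e, hxU, he⟩ := LFFrame.exists_isFrame_of_isFinLocFree hP ⟨x, hx⟩
  refine ⟨W.ι ''ᵁ U, n, fun k => p.app U (e k), ⟨⟨x, hx⟩, hxU, rfl⟩, fun z hz w => ?_⟩
  obtain ⟨O, hzO, t, rfl⟩ := exists_germM_eq N z w
  obtain ⟨z', hz'U, rfl⟩ := hz
  obtain ⟨q, hq⟩ := PullStalk.Exact.stalk_surjective p z'
    (germM ((Scheme.Modules.restrictFunctor W.ι).obj N) (W.ι ⁻¹ᵁ O) z' hzO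
      (N.presheaf.map (homOfLE (W.ι.image_preimage_eq_opensRange_inf O ▸ inf_le_right :
        W.ι ''ᵁ (W.ι ⁻¹ᵁ O) ≤ O)).op t))
  obtain ⟨O₁, hzO₁, q₁, rfl⟩ := exists_germM_eq P z' q
  rw [PullStalk.Exact.stalkLin_germ] at hq
  obtain ⟨O₂, hzO₂, i₁, i₂, h2⟩ := ((Scheme.Modules.restrictFunctor W.ι).obj N).presheaf.germ_eq z' hzO₁ hzO _ _ hq
  let O₃ := O₂ ⊓ U
  obtain ⟨c, hc⟩ := (he O₃ inf_le_right).2 (P.presheaf.map (homOfLE (inf_le_left.trans i₁.le)).op q₁)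
  refine ⟨fun k => X.presheaf.germ (W.ι ''ᵁ O₃) (W.ι z') ⟨z', ⟨hzO₂, hz'U⟩, rfl⟩ (c k), ?_⟩
  refine (LFFrame.germ_comb N _ (Scheme.Hom.image_mono W.ι (inf_le_right : O₃ ≤ U)) c (W.ι z')
    ⟨z', ⟨hzO₂, hz'U⟩, rfl⟩).symm.trans ?_
  have h3 : LFFrame.comb N (fun k => p.app U (e k)) (Scheme.Hom.image_mono W.ι (inf_le_right : O₃ ≤ U)) c =
      p.app O₃ (LFFrame.comb P e inf_le_right c) := by
    simp only [LFFrame.comb, map_sum]
    refine Finset.sum_congr rfl fun k _ => ?_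
    rw [Scheme.Modules.Hom.app_smul]
    refine Eq.trans ?_ (congrArg (fun s => (c k : Γ((W : Scheme.{u}), O₃)) • s) (app_res p (inf_le_right : O₃ ≤ U) (e k)).symm)
    exact smul_restrict W N O₃ (c k) _
  have hO : W.ι ''ᵁ O₃ ≤ O := by
    rintro _ ⟨v, hv, rfl⟩
    exact i₂.le hv.1
  refine Eq.trans ?_ (N.presheaf.germ_res_apply (homOfLE hO) (W.ι z') ⟨z', ⟨hzO₂, hz'U⟩, rfl⟩ t)
  refine congrArg (germM N (W.ι ''ᵁ O₃) (W.ι z') ⟨z', ⟨hzO₂, hz'U⟩, rfl⟩) ?_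
  rw [h3, hc]
  refine (app_res p (inf_le_left.trans i₁.le) q₁).trans ?_
  exact (LFFrame.res_res ((Scheme.Modules.restrictFunctor W.ι).obj N) i₁.le (inf_le_left : O₃ ≤ O₂) _).symm.trans
    ((congrArg (fun s => ((Scheme.Modules.restrictFunctor W.ι).obj N).presheaf.map
      (homOfLE (inf_le_left : O₃ ≤ O₂)).op s) h2).trans
      ((LFFrame.res_res ((Scheme.Modules.restrictFunctor W.ι).obj N) i₂.le (inf_le_left : O₃ ≤ O₂) _).trans
        (LFFrame.res_res N _ _ _)))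

/-- Spanning sections give an epimorphism from a finite free module. -/
theorem Spans.exists_epi {M : X.Modules} {V : X.Opens} {n : ℕ} {a : Fin n → Γ(M, V)} (ha : Spans M a) :
    ∃ (P : (V : Scheme.{u}).Modules) (p : P ⟶ (Scheme.Modules.restrictFunctor V.ι).obj M),
      FlatMod.IsFinLocFree P ∧ Epi p := by
  let R := (Scheme.Modules.restrictFunctor V.ι).obj M
  have hle : ∀ O : (V : Scheme.{u}).Opens, V.ι ''ᵁ O ≤ V := fun O =>
    (V.ι.image_le_opensRange O).trans V.opensRange_ι.le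
  let σ : Fin n → Γ(R, ⊤) := fun k => M.presheaf.map (homOfLE (hle ⊤)).op (a k)
  refine ⟨FlatMod.freeMod (V : Scheme.{u}) n, Sigma.desc fun k => homOfSec (σ k),
    Groth.Agent.S0923.isFinLocFree_freeMod n, Preadditive.epi_of_cancel_zero _ fun {T} t ht => ?_⟩
  have hk : ∀ (k) (O : (V : Scheme.{u}).Opens), t.app O (QCoh.res R (le_top : O ≤ ⊤) (σ k)) = 0 := by
    intro k O
    have h1 : homOfSec (σ k) ≫ t = 0 := by
      rw [← Sigma.ι_desc (fun k => homOfSec (σ k)) k, Category.assoc, ht, comp_zero]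
    rw [← sec_homOfSec]
    exact congrArg (fun f => Scheme.Modules.Hom.app f O (one' O)) h1
  refine Scheme.Modules.hom_ext _ _ fun O => ?_
  ext m
  change t.app O m = 0
  refine KoszTwLib.eq_zero_of_locally _ O _ fun z hz => ?_
  obtain ⟨W, hW, hWV, c, hzW, hc⟩ := ha.exists_comb (O := V.ι ''ᵁ O) m (V.ι z) ⟨z, hz, rfl⟩ (hle O ⟨z, hz, rfl⟩)
  obtain ⟨W', rfl⟩ : ∃ W' : (V : Scheme.{u}).Opens, V.ι ''ᵁ W' = W :=
    ⟨V.ι ⁻¹ᵁ W, LFFrame.le_image_preimage hWV⟩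
  have hW' : W' ≤ O := fun v hv => by
    obtain ⟨v', hv', e⟩ := hW ⟨v, hv, rfl⟩
    exact V.ι.isOpenEmbedding.injective e ▸ hv'
  refine ⟨W', hW', by obtain ⟨v, hv, e⟩ := hzW; exact V.ι.isOpenEmbedding.injective e ▸ hv, ?_⟩
  refine (app_res t hW' m).symm.trans ?_
  have h4 : QCoh.res R hW' m = ∑ k, (show Γ((V : Scheme.{u}), W') from c k) • QCoh.res R (le_top : W' ≤ ⊤) (σ k) := by
    refine hc.symm.trans (Finset.sum_congr rfl fun k _ => ?_)
    refine Eq.trans ?_ (smul_restrict V M W' (c k) _)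
    exact congrArg (fun s : Γ(M, V.ι ''ᵁ W') => c k • s) (LFFrame.res_res M (hle ⊤) _ (a k)).symm
  rw [h4, map_sum]
  refine Finset.sum_eq_zero fun k _ => ?_
  rw [Scheme.Modules.Hom.app_smul, hk, smul_zero]

end Groth.Agent.PCohD.Thick
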