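import Groth.Agent.PCohD.Appr
import Groth.Agent.PerfTri.Perfect
import Groth.Agent.KFlat.LocalD

/-!
# `m`-pseudo-coherent objects of `D(O_X)`: locality, two out of three, summands
-/

set_option autoImplicit false

universe u

open CategoryTheory Limits AlgebraicGeometry Pretriangulated
open scoped ZeroObject
open Groth.Agent.KFlat.TildePC (Appr appr_of_isIso)
open Groth.Agent.PerfTri (Perfect.restrQ Perfect.restrComp Cone.exists_lift)
attribute [local instance] HasDerivedCategory.standard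

noncomputable section

namespace Groth.Agent.PCohD

variable {X : Scheme.{u}} {m : ℤ}

abbrev resC {U X : Scheme.{u}} (j : U ⟶ X) [IsOpenImmersion j] :
    CochainComplex X.Modules ℤ ⥤ CochainComplex U.Modules ℤ :=
  PerfTri.Nullhom.resC j

/-- Approximated by a strictly perfect complex. -/
def IsAp (m : ℤ) (K : DCoh.D X) : Prop :=
  ∃ (E : CochainComplex X.Modules ℤ) (α : DerivedCategory.Q.obj E ⟶ K),
    DCoh.IsStrictlyPerfect E ∧ Appr m α

theorem isAp_of_iso {K L : DCoh.D X} (e : K ≅ L) (h : IsAp m K) : IsAp m L := by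
  obtain ⟨E, α, hE, hα⟩ := h
  exact ⟨E, α ≫ e.hom, hE, hα.comp (appr_of_isIso m e.hom)⟩

theorem isAp_mono {n : ℤ} {K : DCoh.D X} (h : IsAp m K) (hmn : m ≤ n) : IsAp n K := by
  obtain ⟨E, α, hE, hα⟩ := h
  exact ⟨E, α, hE, appr_mono hα hmn⟩

theorem isStrictlyPerfect_resC {U : Scheme.{u}} (j : U ⟶ X) [IsOpenImmersion j]
    {E : CochainComplex X.Modules ℤ} (hE : DCoh.IsStrictlyPerfect E) :
    DCoh.IsStrictlyPerfect ((resC j).obj E) := by
  obtain ⟨⟨a, b, hv⟩, hE'⟩ := hE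
  exact ⟨⟨a, b, fun i hi => (Scheme.Modules.restrictFunctor j).map_isZero (hv i hi)⟩, fun i =>
    KFlat.LocFree.isFinLocFree_of_iso ((Scheme.Modules.restrictFunctorIsoPullback j).app _).symm
      (KFlat.LocFree.isFinLocFree_pull j (hE' i))⟩

theorem isAp_restrict {U : Scheme.{u}} (j : U ⟶ X) [IsOpenImmersion j] {K : DCoh.D X}
    (h : IsAp m K) : IsAp m ((DCoh.restrictD j).obj K) := by
  obtain ⟨E, α, hE, hα⟩ := h
  exact ⟨(resC j).obj E, (Perfect.restrQ j E).inv ≫ (DCoh.restrictD j).map α,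
    isStrictlyPerfect_resC j hE,
    (appr_of_isIso m _).comp (KFlat.TildePC.Appr.map (Scheme.Modules.restrictFunctor j) hα)⟩

/-- Locally approximated. -/
def Near (m : ℤ) (K : DCoh.D X) : Prop :=
  ∀ x : X, ∃ (U : Scheme.{u}) (j : U ⟶ X) (_ : IsOpenImmersion j),
    x ∈ Set.range j ∧ IsAp m ((DCoh.restrictD j).obj K)

theorem pc_iff (K : DCoh.D X) : DCoh.IsPseudoCoherentD m K ↔ Near m K := by
  constructor
  · intro h x
    obtain ⟨V, hx, hV⟩ := h x
    obtain ⟨E, α, hE, h1, h2⟩ := hV (DerivedCategory.Q.objPreimage K)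
      ⟨DerivedCategory.Q.objObjPreimageIso K⟩
    exact ⟨V, V.ι, inferInstance, ⟨⟨x, hx⟩, rfl⟩, isAp_of_iso
      ((Perfect.restrQ V.ι _).symm ≪≫
        (DCoh.restrictD V.ι).mapIso (DerivedCategory.Q.objObjPreimageIso K)) ⟨E, α, hE, h1, h2⟩⟩
  · intro h x
    obtain ⟨U, j, hj, hx, hU⟩ := h x
    refine ⟨j.opensRange, hx, fun F ⟨eF⟩ => ?_⟩
    obtain ⟨E, α, hE, h1, h2⟩ := isAp_of_iso
      (Perfect.restrComp j.isoOpensRange.inv j j.opensRange.ι (by simp) K ≪≫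
        (DCoh.restrictD _).mapIso eF.symm ≪≫ Perfect.restrQ j.opensRange.ι F)
      (isAp_restrict j.isoOpensRange.inv hU)
    exact ⟨E, α, hE, h1, h2⟩

theorem pc_of_iso {K L : DCoh.D X} (e : K ≅ L) (h : DCoh.IsPseudoCoherentD m K) :
    DCoh.IsPseudoCoherentD m L :=
  (pc_iff L).mpr fun x => by
    obtain ⟨U, j, hj, hx, hU⟩ := (pc_iff K).mp h x
    exact ⟨U, j, hj, hx, isAp_of_iso ((DCoh.restrictD j).mapIso e) hU⟩

theorem pc_iff_of_iso {K L : DCoh.D X} (e : K ≅ L) :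
    DCoh.IsPseudoCoherentD m K ↔ DCoh.IsPseudoCoherentD m L :=
  ⟨pc_of_iso e, pc_of_iso e.symm⟩

theorem pc_mono {n : ℤ} {K : DCoh.D X} (h : DCoh.IsPseudoCoherentD m K) (hmn : m ≤ n) :
    DCoh.IsPseudoCoherentD n K :=
  (pc_iff K).mpr fun x => by
    obtain ⟨U, j, hj, hx, hU⟩ := (pc_iff K).mp h x
    exact ⟨U, j, hj, hx, isAp_mono hU hmn⟩

theorem pc_of_isAp {K : DCoh.D X} (h : IsAp m K) : DCoh.IsPseudoCoherentD m K :=
  (pc_iff K).mpr fun x => ⟨X, 𝟙 X, inferInstance, ⟨x, rfl⟩, isAp_restrict _ h⟩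

theorem pc_of_perfect {K : DCoh.D X} (h : DCoh.IsPerfect K) (m : ℤ) : DCoh.IsPseudoCoherentD m K :=
  (pc_iff K).mpr fun x => by
    obtain ⟨U, j, hj, hx, E, hE, ⟨e⟩⟩ := (PerfTri.Perfect.near_iff K).mp h x
    exact ⟨U, j, hj, hx, E, e.inv, hE, appr_of_isIso m _⟩

/-- Restriction to an open subscheme. -/
theorem pc_restrict {U : Scheme.{u}} (j : U ⟶ X) [IsOpenImmersion j] {K : DCoh.D X}
    (h : DCoh.IsPseudoCoherentD m K) : DCoh.IsPseudoCoherentD m ((DCoh.restrictD j).obj K) := by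
  refine (pc_iff _).mpr fun u => ?_
  obtain ⟨V, k, hk, hu, hV⟩ := (pc_iff K).mp h (j u)
  let W : U.Opens := j ⁻¹ᵁ k.opensRange
  let l := IsOpenImmersion.lift k (W.ι ≫ j) (by
    rintro _ ⟨y, rfl⟩
    exact y.2)
  have : IsOpenImmersion (l ≫ k) := by rw [IsOpenImmersion.lift_fac]; infer_instance
  have : IsOpenImmersion l := IsOpenImmersion.of_comp l k
  exact ⟨W, W.ι, inferInstance, ⟨⟨u, hu⟩, rfl⟩, isAp_of_iso
    (Perfect.restrComp l k (W.ι ≫ j) (IsOpenImmersion.lift_fac _ _ _) K ≪≫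
      (Perfect.restrComp W.ι j (W.ι ≫ j) rfl K).symm) (isAp_restrict l hV)⟩

/-- Pseudo-coherence is local. -/
theorem pc_of_local {K : DCoh.D X} (h : ∀ x : X, ∃ (U : Scheme.{u}) (j : U ⟶ X)
    (_ : IsOpenImmersion j), x ∈ Set.range j ∧ DCoh.IsPseudoCoherentD m ((DCoh.restrictD j).obj K)) :
    DCoh.IsPseudoCoherentD m K :=
  (pc_iff K).mpr fun x => by
    obtain ⟨U, j, hj, ⟨u, rfl⟩, hU⟩ := h x
    obtain ⟨V, k, hk, ⟨v, rfl⟩, hV⟩ := (pc_iff _).mp hU u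
    exact ⟨V, k ≫ j, inferInstance, ⟨v, by simp⟩,
      isAp_of_iso (Perfect.restrComp k j (k ≫ j) rfl K) hV⟩

theorem pc_of_appr {K L : DCoh.D X} (α : K ⟶ L) (hα : Appr m α)
    (h : DCoh.IsPseudoCoherentD m K) : DCoh.IsPseudoCoherentD m L :=
  (pc_iff L).mpr fun x => by
    obtain ⟨U, j, hj, hx, E, β, hE, hβ⟩ := (pc_iff K).mp h x
    exact ⟨U, j, hj, hx, E, β ≫ (DCoh.restrictD j).map α, hE,
      hβ.comp (KFlat.TildePC.Appr.map (Scheme.Modules.restrictFunctor j) hα)⟩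

theorem isStrictlyPerfect_zero : DCoh.IsStrictlyPerfect (0 : CochainComplex X.Modules ℤ) :=
  ⟨⟨0, 0, fun i _ => (HomologicalComplex.eval X.Modules _ i).map_isZero (isZero_zero _)⟩,
    fun i y => ⟨⊤, 0, trivial, ⟨((Scheme.Modules.restrictFunctor _).map_isZero
      ((HomologicalComplex.eval X.Modules _ i).map_isZero (isZero_zero _))).iso
      ((IsZero.iff_id_eq_zero _).mpr (Sigma.hom_ext _ _ fun i => Fin.elim0 i))⟩⟩⟩

theorem pc_of_vanish {K : DCoh.D X}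
    (h : ∀ i : ℤ, m ≤ i → IsZero ((DerivedCategory.homologyFunctor _ i).obj K)) :
    DCoh.IsPseudoCoherentD m K := by
  refine pc_of_isAp ⟨0, 0, isStrictlyPerfect_zero, fun i hi => ?_, ?_⟩
  · exact ⟨0, (((DerivedCategory.homologyFunctor _ i).map_isZero
      (DerivedCategory.Q.map_isZero (isZero_zero _)))).eq_of_src _ _, (h i hi.le).eq_of_src _ _⟩
  · exact ⟨fun _ _ _ => (h m le_rfl).eq_of_src _ _⟩

theorem pc_of_isZero {K : DCoh.D X} (hK : IsZero K) : DCoh.IsPseudoCoherentD m K :=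
  pc_of_vanish fun _ _ => Functor.map_isZero _ hK

theorem pc_shift {K : DCoh.D X} (h : DCoh.IsPseudoCoherentD m K) (n : ℤ) :
    DCoh.IsPseudoCoherentD (m - n) (K⟦n⟧) :=
  (pc_iff _).mpr fun x => by
    obtain ⟨U, j, hj, hx, E, α, hE, hα⟩ := (pc_iff K).mp h x
    exact ⟨U, j, hj, hx, isAp_of_iso (((DCoh.restrictD j).commShiftIso n).app K).symm
      ⟨E⟦n⟧, ((DerivedCategory.Q).commShiftIso n).hom.app E ≫ α⟦n⟧',
        PerfTri.Perfect.isStrictlyPerfect_shift hE n, (appr_of_isIso _ _).comp (appr_shift hα n)⟩⟩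

theorem pc_shift_iff {K : DCoh.D X} (n : ℤ) :
    DCoh.IsPseudoCoherentD (m - n) (K⟦n⟧) ↔ DCoh.IsPseudoCoherentD m K := by
  refine ⟨fun h => ?_, fun h => pc_shift h n⟩
  have := pc_of_iso ((shiftFunctorCompIsoId _ n (-n) (by omega)).app K) (pc_shift h (-n))
  rwa [show m - n - -n = m by omega] at this

theorem isStrictlyPerfect_ge {E : CochainComplex X.Modules ℤ} (hE : DCoh.IsStrictlyPerfect E)
    (m : ℤ) : DCoh.IsStrictlyPerfect (KFlat.ge E m) := by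
  obtain ⟨⟨a, b, hv⟩, hE'⟩ := hE
  have key : ∀ i, m ≤ i → (E.X i ≅ (KFlat.ge E m).X i) := fun i hi =>
    { hom := KFlat.geπ E m i, inv := KFlat.geι E m i, hom_inv_id := KFlat.geπ_ι E hi,
      inv_hom_id := KFlat.geι_π E m i }
  refine ⟨⟨a, b, fun i hi => ?_⟩, fun i => ?_⟩
  · by_cases h : m ≤ i
    · exact (hv i hi).of_iso (key i h).symm
    · exact KFlat.isZero_ge_X E (by omega)
  · by_cases h : m ≤ i
    · exact KFlat.LocFree.isFinLocFree_of_iso (key i h) (hE' i)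
    · exact KFlat.LocFree.isFinLocFree_of_iso
        (((HomologicalComplex.eval X.Modules _ i).map_isZero (isZero_zero _)).iso
          (KFlat.isZero_ge_X E (show i < m by omega))) (isStrictlyPerfect_zero.2 i)

/-- An approximation may be taken to vanish below `m`. -/
theorem exists_ge {K : DCoh.D X} (h : IsAp m K) :
    ∃ (E : CochainComplex X.Modules ℤ) (α : DerivedCategory.Q.obj E ⟶ K),
      DCoh.IsStrictlyPerfect E ∧ (∀ i, i < m → IsZero (E.X i)) ∧ Appr m α := by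
  obtain ⟨E, α, hE, hα⟩ := h
  exact ⟨KFlat.ge E m, DerivedCategory.Q.map (KFlat.geToSelf E m) ≫ α, isStrictlyPerfect_ge hE m,
    fun i hi => KFlat.isZero_ge_X E hi, (appr_geToSelf E m).comp hα⟩

theorem near_cone (T : Triangle (DCoh.D X)) (hT : T ∈ distinguishedTriangles)
    (h₁ : IsAp (m + 1) T.obj₁) (h₂ : IsAp m T.obj₂) : Near m T.obj₃ := by
  intro x
  obtain ⟨E₁, α, hE₁, hE₁z, hα⟩ := exists_ge h₁
  obtain ⟨E₂, β, hE₂, hβ⟩ := h₂
  obtain ⟨G, b, s, hs, hbs⟩ := DerivedCategory.left_fac β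
  obtain ⟨G', a, t, ht, hat⟩ := DerivedCategory.left_fac
    (α ≫ T.mor₁ ≫ DerivedCategory.Q.map s)
  let e : T.obj₂ ≅ DerivedCategory.Q.obj G' :=
    @asIso _ _ _ _ (DerivedCategory.Q.map s) hs ≪≫ @asIso _ _ _ _ (DerivedCategory.Q.map t) ht
  have hb : DerivedCategory.Q.map (b ≫ t) = β ≫ e.hom := by
    simp only [e, hbs, Functor.map_comp, Iso.trans_hom, asIso_hom, Category.assoc]
    exact ((Category.assoc _ _ _).trans (congrArg (fun f => DerivedCategory.Q.map b ≫ f)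
      (@IsIso.inv_hom_id_assoc _ _ _ _ (DerivedCategory.Q.map s) hs _ (DerivedCategory.Q.map t)))).symm
  have ha : DerivedCategory.Q.map a = α ≫ T.mor₁ ≫ e.hom := by
    rw [show α ≫ T.mor₁ ≫ e.hom = (α ≫ T.mor₁ ≫ DerivedCategory.Q.map s) ≫ DerivedCategory.Q.map t by
      simp [e], hat, Category.assoc, IsIso.inv_hom_id, Category.comp_id]
  have hf : Appr m (DerivedCategory.Q.map (b ≫ t)) := by
    rw [hb]; exact hβ.comp (appr_of_isIso m e.hom)
  obtain ⟨hf1, hf2⟩ := (appr_Q_iff _).mp hf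
  obtain ⟨V, γ, hxV, ⟨H⟩⟩ := Cone.exists_lift a (b ≫ t) hE₁ m
    (fun j hj => hE₁z j (by omega)) hf1 hf2 x
  let G₀ := DCoh.restrictD V.ι
  let α' := (Perfect.restrQ V.ι E₁).inv ≫ G₀.map α
  let β' := (Perfect.restrQ V.ι E₂).inv ≫ G₀.map β
  have hα' : Appr (m + 1) α' :=
    (appr_of_isIso _ _).comp (KFlat.TildePC.Appr.map (Scheme.Modules.restrictFunctor V.ι) hα)
  have hβ' : Appr m β' :=
    (appr_of_isIso _ _).comp (KFlat.TildePC.Appr.map (Scheme.Modules.restrictFunctor V.ι) hβ)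
  have hnat : ∀ {A B : CochainComplex X.Modules ℤ} (f : A ⟶ B),
      G₀.map (DerivedCategory.Q.map f) ≫ (Perfect.restrQ V.ι B).hom =
        (Perfect.restrQ V.ι A).hom ≫ DerivedCategory.Q.map ((DCoh.restrictCx V).map f) := fun f =>
    (Scheme.Modules.restrictFunctor V.ι).mapDerivedCategoryFactors.hom.naturality f
  have hγ : DerivedCategory.Q.map γ ≫ DerivedCategory.Q.map ((DCoh.restrictCx V).map (b ≫ t)) =
      DerivedCategory.Q.map ((DCoh.restrictCx V).map a) := by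
    rw [← Functor.map_comp]
    exact DerivedCategory.Q_map_eq_of_homotopy _ H
  have comm : DerivedCategory.Q.map γ ≫ β' = α' ≫ G₀.map T.mor₁ := by
    rw [← cancel_mono (G₀.mapIso e ≪≫ Perfect.restrQ V.ι G').hom]
    have hR : ∀ {A : CochainComplex X.Modules ℤ} (f : A ⟶ G'),
        (Perfect.restrQ V.ι A).inv ≫ G₀.map (DerivedCategory.Q.map f) ≫ (Perfect.restrQ V.ι G').hom =
          DerivedCategory.Q.map ((DCoh.restrictCx V).map f) := fun f => by
      rw [hnat, Iso.inv_hom_id_assoc]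
    calc (DerivedCategory.Q.map γ ≫ β') ≫ (G₀.mapIso e ≪≫ Perfect.restrQ V.ι G').hom
        = DerivedCategory.Q.map γ ≫ (Perfect.restrQ V.ι E₂).inv ≫
            G₀.map (β ≫ e.hom) ≫ (Perfect.restrQ V.ι G').hom := by simp [β']
      _ = DerivedCategory.Q.map γ ≫ DerivedCategory.Q.map ((DCoh.restrictCx V).map (b ≫ t)) := by
        rw [← hb, hR]
      _ = DerivedCategory.Q.map ((DCoh.restrictCx V).map a) := hγ
      _ = (Perfect.restrQ V.ι E₁).inv ≫ G₀.map (α ≫ T.mor₁ ≫ e.hom) ≫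
            (Perfect.restrQ V.ι G').hom := by rw [← ha, hR]
      _ = (α' ≫ G₀.map T.mor₁) ≫ (G₀.mapIso e ≪≫ Perfect.restrQ V.ι G').hom := by simp [α']
  let T₀ := DerivedCategory.Q.mapTriangle.obj (CochainComplex.mappingCone.triangle γ)
  have hT₀ : T₀ ∈ distinguishedTriangles := DerivedCategory.mappingCone_triangle_distinguished γ
  have hT' : G₀.mapTriangle.obj T ∈ distinguishedTriangles := G₀.map_distinguished T hT
  obtain ⟨c, hc₂, hc₃⟩ := complete_distinguished_triangle_morphism T₀ (G₀.mapTriangle.obj T)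
    hT₀ hT' α' β' comm
  let φ : T₀ ⟶ G₀.mapTriangle.obj T :=
    { hom₁ := α', hom₂ := β', hom₃ := c, comm₁ := comm, comm₂ := hc₂, comm₃ := hc₃ }
  exact ⟨V, V.ι, inferInstance, ⟨⟨x, hxV⟩, rfl⟩, CochainComplex.mappingCone γ, c,
    PerfTri.Cone.isStrictlyPerfect_mappingCone γ (isStrictlyPerfect_resC V.ι hE₁)
      (isStrictlyPerfect_resC V.ι hE₂), appr_third T₀ _ hT₀ hT' φ hα' hβ'⟩

theorem pc₃ (T : Triangle (DCoh.D X)) (hT : T ∈ distinguishedTriangles)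
    (h₁ : DCoh.IsPseudoCoherentD (m + 1) T.obj₁) (h₂ : DCoh.IsPseudoCoherentD m T.obj₂) :
    DCoh.IsPseudoCoherentD m T.obj₃ := by
  refine pc_of_local fun x => ?_
  obtain ⟨U₁, j₁, _, ⟨u₁, rfl⟩, hU₁⟩ := (pc_iff _).mp h₁ x
  obtain ⟨U₂, j₂, _, ⟨u₂, hu₂⟩, hU₂⟩ := (pc_iff _).mp h₂ (j₁ u₁)
  let W : U₁.Opens := j₁ ⁻¹ᵁ j₂.opensRange
  let l := IsOpenImmersion.lift j₂ (W.ι ≫ j₁) (by rintro _ ⟨y, rfl⟩; exact y.2)
  have : IsOpenImmersion (l ≫ j₂) := by rw [IsOpenImmersion.lift_fac]; infer_instance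
  have : IsOpenImmersion l := IsOpenImmersion.of_comp l j₂
  refine ⟨W, W.ι ≫ j₁, inferInstance, ⟨⟨u₁, ⟨u₂, hu₂⟩⟩, rfl⟩, ?_⟩
  let G₀ := DCoh.restrictD (W.ι ≫ j₁)
  exact (pc_iff _).mpr (near_cone (G₀.mapTriangle.obj T) (G₀.map_distinguished T hT)
    (isAp_of_iso (Perfect.restrComp W.ι j₁ _ rfl _) (isAp_restrict W.ι hU₁))
    (isAp_of_iso (Perfect.restrComp l j₂ _ (IsOpenImmersion.lift_fac _ _ _) _) (isAp_restrict l hU₂)))

theorem pc₂ (T : Triangle (DCoh.D X)) (hT : T ∈ distinguishedTriangles)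
    (h₁ : DCoh.IsPseudoCoherentD m T.obj₁) (h₃ : DCoh.IsPseudoCoherentD m T.obj₃) :
    DCoh.IsPseudoCoherentD m T.obj₂ := by
  refine pc₃ _ (inv_rot_of_distTriang T hT) ?_ h₁
  have := pc_shift h₃ (-1)
  rwa [show m - -1 = m + 1 by omega] at this

theorem pc₁ (T : Triangle (DCoh.D X)) (hT : T ∈ distinguishedTriangles)
    (h₂ : DCoh.IsPseudoCoherentD (m + 1) T.obj₂) (h₃ : DCoh.IsPseudoCoherentD m T.obj₃) :
    DCoh.IsPseudoCoherentD (m + 1) T.obj₁ := by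
  rw [← pc_shift_iff (m := m + 1) 1, show m + 1 - 1 = m by omega]
  exact pc₃ _ (rot_of_distTriang T hT) h₂ h₃

theorem exists_bound {K : DCoh.D X} (h : DCoh.IsPseudoCoherentD m K) (x : X) :
    ∃ (V : X.Opens), x ∈ V ∧ ∃ n : ℤ, ∀ i : ℤ, n < i →
      IsZero ((DerivedCategory.homologyFunctor _ i).obj ((DCoh.restrictD V.ι).obj K)) := by
  obtain ⟨V, hx, hV⟩ := h x
  obtain ⟨E, α, hE, h1, -⟩ := hV (DerivedCategory.Q.objPreimage K)
    ⟨DerivedCategory.Q.objObjPreimageIso K⟩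
  obtain ⟨⟨a, b, hv⟩, -⟩ := hE
  refine ⟨V, hx, max b m, fun i hi => ?_⟩
  have := h1 i (by omega)
  have hz : IsZero ((DerivedCategory.homologyFunctor _ i).obj (DerivedCategory.Q.obj E)) :=
    (ShortComplex.isZero_homology_of_isZero_X₂ _ (hv i (Or.inr (by omega)))).of_iso
      ((DerivedCategory.homologyFunctorFactors _ i).app E)
  exact hz.of_iso (((DerivedCategory.homologyFunctor _ i).mapIso
      ((Perfect.restrQ V.ι _).symm ≪≫
        (DCoh.restrictD V.ι).mapIso (DerivedCategory.Q.objObjPreimageIso K))).symm ≪≫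
    (asIso ((DerivedCategory.homologyFunctor _ i).map α)).symm)

end Groth.Agent.PCohD
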