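import Groth.Agent.PCohD.RelCalc
import Groth.Agent.QCoh.Qcqs
import Groth.Agent.S7240

/-!
# Relative pseudo-coherence: quasi-coherence, bounds, restriction
-/

set_option autoImplicit false

universe u

open CategoryTheory Limits AlgebraicGeometry
open Groth.Agent.QCoh (rres res IsLocalizingOn IsLocalizingAt unPush push_smul)
attribute [local instance] HasDerivedCategory.standard

noncomputable section

namespace Groth.Agent.PCohD

variable {Z X Y S : Scheme.{u}}

/-- A module whose direct image along a closed immersion is quasi-coherent is quasi-coherent. -/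
theorem isQuasicoherent_of_push (i : Z ⟶ X) [IsClosedImmersion i] (M : Z.Modules)
    (h : ((Scheme.Modules.pushforward i).obj M).IsQuasicoherent) : M.IsQuasicoherent := by
  refine QCoh.isQuasicoherent_of_forall_exists_isLocalizingAt M fun z => ?_
  obtain ⟨W, hW, hz, -⟩ := exists_isAffineOpen_mem_and_subset (x := i z) (U := ⊤) trivial
  refine ⟨i ⁻¹ᵁ W, hW.preimage i, hz, fun g => ?_⟩
  obtain ⟨r, rfl⟩ := i.app_surjective W hW g
  have H := QCoh.isLocalizingAt ((Scheme.Modules.pushforward i).obj M) hW r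
  have H' : IsLocalizingOn M (i.preimage_mono (X.basicOpen_le r)) (i.app W r) := by
    refine ⟨fun σ => ?_, fun t ht => ?_⟩
    · obtain ⟨n, t, ht⟩ := H.surj σ
      refine ⟨n, t, ht.trans ((push_smul i M (rres (X.basicOpen_le r) r ^ n) σ).trans ?_)⟩
      rw [map_pow]
      congr 2
      exact congr($(i.naturality (homOfLE (X.basicOpen_le r)).op) r)
    · obtain ⟨n, hn⟩ := H.eq_zero t ht
      exact ⟨n, by rw [← map_pow]; exact (push_smul i M (r ^ n) t).symm.trans hn⟩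
  exact (IsLocalizingOn.congr_iff (h' := i.preimage_mono (X.basicOpen_le r)) rfl
    (Scheme.preimage_basicOpen i r)).mpr (by rw [QCoh.rres_self]; exact H')

/-- A module vanishing on a cover vanishes. -/
theorem isZero_of_cover {ι : Type*} (U : ι → X.Opens) (hU : ∀ x : X, ∃ i, x ∈ U i) (M : X.Modules)
    (h : ∀ i, IsZero (M.restrict (U i).ι)) : IsZero M := by
  rw [IsZero.iff_id_eq_zero]
  ext V t
  refine QCoh.eq_of_locally_eq M (U := fun i => (U i).ι ''ᵁ ((U i).ι ⁻¹ᵁ V)) (fun i => ?_) ?_ _ _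
    fun i => ?_
  · rintro _ ⟨y, hy, rfl⟩; exact hy
  · intro x hx
    obtain ⟨i, hi⟩ := hU x
    exact TopologicalSpace.Opens.mem_iSup.2 ⟨i, ⟨x, hi⟩, hx, rfl⟩
  · have h0 : ∀ s : Γ(M.restrict (U i).ι, (U i).ι ⁻¹ᵁ V), s = 0 := fun s => by
      have := congrArg (fun φ => φ.app ((U i).ι ⁻¹ᵁ V) s) ((IsZero.iff_id_eq_zero _).1 (h i))
      exact this
    exact (h0 _).trans (h0 _).symm

variable {f : X ⟶ S} {m : ℤ} {K : DCoh.D X}

theorem rel_isQCoh (h : DerSch.IsPseudoCoherentRel f m K) (q : ℤ) (hq : m < q) :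
    Coh.IsQCoh (DCoh.HD K q) := by
  have := h.1
  refine QCoh.isQuasicoherent_of_forall_exists _ fun x => ?_
  obtain ⟨V, hV, hxV, -⟩ := exists_isAffineOpen_mem_and_subset (x := f x) (U := ⊤) trivial
  obtain ⟨U, hU, hxU, hUV⟩ := exists_isAffineOpen_mem_and_subset (x := x) (U := f ⁻¹ᵁ V) hxV
  refine ⟨U, hU, hxU, ?_⟩
  obtain ⟨n, φ, hφ⟩ := exists_chart hU hV hUV
  have := isClosedImmersion_cIm hU hφ.1
  have hT := (P_of_rel h hU hV hUV).tc hU hUV φ hφ
  have hq' := (Groth.Agent.S7240.result m _ ((tc_iff φ).1 hT)).1 q hq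
  have h1 := isQuasicoherent_of_push (cIm U φ) _
    (@Groth.Agent.QCoh.isQuasicoherent_of_iso _ _ _ (testHomology U.ι (cIm U φ) K q) hq')
  have : ((DCoh.HD K q).restrict U.ι).IsQuasicoherent := h1
  have h2 := Scheme.Modules.isQuasicoherent_restrictFunctor hU.isoSpec.inv ((DCoh.HD K q).restrict U.ι)
  refine @Groth.Agent.QCoh.isQuasicoherent_of_iso _ _ _ ?_ h2
  exact ((Scheme.Modules.restrictFunctorComp hU.isoSpec.inv U.ι).symm ≪≫
    Scheme.Modules.restrictFunctorCongr rfl).app (DCoh.HD K q)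

theorem rel_bound (h : DerSch.IsPseudoCoherentRel f m K) (x : X) :
    ∃ (U : X.Opens), x ∈ U ∧ ∃ n : ℤ, ∀ q, n < q → IsZero ((DCoh.HD K q).restrict U.ι) := by
  have := h.1
  obtain ⟨V, hV, hxV, -⟩ := exists_isAffineOpen_mem_and_subset (x := f x) (U := ⊤) trivial
  obtain ⟨U, hU, hxU, hUV⟩ := exists_isAffineOpen_mem_and_subset (x := x) (U := f ⁻¹ᵁ V) hxV
  obtain ⟨n, φ, hφ⟩ := exists_chart hU hV hUV
  have := isClosedImmersion_cIm hU hφ.1
  have hT := (tc_iff φ).1 ((P_of_rel h hU hV hUV).tc hU hUV φ hφ)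
  obtain ⟨W, hW, b, hb⟩ := exists_bound hT (cIm U φ ⟨x, hxU⟩)
  let U₁ : (U : Scheme.{u}).Opens := cIm U φ ⁻¹ᵁ W
  refine ⟨U.ι ''ᵁ U₁, ⟨⟨x, hxU⟩, hW, rfl⟩, b, fun q hq => ?_⟩
  have hz : IsZero (((DCoh.HD K q).restrict U.ι).restrict U₁.ι) := isZero_of_push (cIm U φ ∣_ W)
    ((hb q hq).of_iso ((((Groth.Agent.KFlat.MapHomology.iso (Scheme.Modules.restrictFunctor W.ι) q).app _ ≪≫
        (Scheme.Modules.restrictFunctor W.ι).mapIso (testHomology U.ι (cIm U φ) K q) ≪≫
        (KFlat.PushRestrict.pushRestrictIso (cIm U φ) W).app _)).symm))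
  refine ((Scheme.Modules.restrictFunctor (U.ι.isoImage U₁).inv).map_isZero hz).of_iso ?_
  exact ((Scheme.Modules.restrictFunctorCongr (show (U.ι ''ᵁ U₁).ι =
      ((U.ι.isoImage U₁).inv ≫ U₁.ι) ≫ U.ι by rw [Category.assoc, Scheme.Hom.isoImage_inv_ι])) ≪≫
    Scheme.Modules.restrictFunctorComp _ _ ≪≫
    Functor.isoWhiskerLeft _ (Scheme.Modules.restrictFunctorComp _ _)).app (DCoh.HD K q)

theorem rel_isLE [CompactSpace X] (h : DerSch.IsPseudoCoherentRel f m K) :
    ∃ b : ℤ, K.IsLE b := by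
  choose U hxU n hn using rel_bound h
  obtain ⟨t, ht⟩ := isCompact_univ.elim_finite_subcover (fun x => (U x : Set X))
    (fun x => (U x).2) (fun x _ => Set.mem_iUnion.2 ⟨x, hxU x⟩)
  obtain ⟨b, hb⟩ := (t.image n).bddAbove
  refine ⟨b, (DerivedCategory.isLE_iff K b).mpr fun q hq => ?_⟩
  refine isZero_of_cover (fun x : t => U x.1) (fun y => ?_) _ fun x => ?_
  · obtain ⟨x, hx, hyx⟩ : ∃ x ∈ t, y ∈ U x := by simpa using ht (Set.mem_univ y)
    exact ⟨⟨x, hx⟩, hyx⟩
  · exact hn x.1 q (lt_of_le_of_lt (hb (Finset.mem_coe.2 (Finset.mem_image_of_mem n x.2))) hq)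

end Groth.Agent.PCohD
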