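import Groth.Agent.PCohD.FTFP
import Groth.Agent.PerfTri.Bounded
import Groth.Agent.CohDev.Coh
import Groth.Agent.KFlat.StalkD

/-!
# Pseudo-coherence and coherent cohomology on Noetherian schemes
-/

set_option autoImplicit false

universe u

open CategoryTheory Limits AlgebraicGeometry TopologicalSpace Pretriangulated
open Groth.Agent.KFlat.TildePC (Appr appr_of_isIso)
open Groth.Agent.PerfTri (Perfect.restrQ Perfect.restrComp)
attribute [local instance] HasDerivedCategory.standard

noncomputable section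

namespace Groth.Agent.PCohD.Coherent

/-- A coherent module is pseudo-coherent. -/
theorem pc_of_isCoh (k : ℕ) : ∀ {X : Scheme.{u}} [IsLocallyNoetherian X] (F : X.Modules),
    Coh.IsCoh F → DCoh.IsPseudoCoherentD (-(k : ℤ)) (DCoh.inD X F) := by
  induction k with
  | zero =>
    intro X _ F hF
    simpa using (FTFP.pc_zero_iff F).mpr hF.2
  | succ k ih =>
    intro X _ F hF
    refine pc_of_local fun x => ?_
    obtain ⟨V, n, p, hx, hp⟩ := FTFP.locGen_of_isFT hF.2 x
    refine ⟨V, V.ι, inferInstance, ⟨⟨x, hx⟩, rfl⟩,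
      pc_of_iso (PerfTri.Regular.restrInD V.ι F).symm ?_⟩
    have hker : Coh.IsCoh (kernel p) := CohDev.isCoh_kernel p (PerfTri.Bounded.isCoh_freeMod n)
      (@Scheme.Modules.isQuasicoherent_restrictFunctor _ _ V.ι _ _ hF.1)
    obtain ⟨δ, hT⟩ := FTFP.exists_triangle (FTFP.kerSeq p)
    have h := ih (kernel p) hker
    rw [show -(k : ℤ) = -((k + 1 : ℕ) : ℤ) + 1 by push_cast; omega] at h
    exact pc₃ _ hT h (FTFP.pc_free n _)

theorem pc_of_isCoh' {X : Scheme.{u}} [IsLocallyNoetherian X] {F : X.Modules} (hF : Coh.IsCoh F)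
    (m : ℤ) : DCoh.IsPseudoCoherentD m (DCoh.inD X F) :=
  pc_mono (pc_of_isCoh (-m).toNat F hF) (by omega)

variable {X : Scheme.{u}}

theorem pc_of_isCoh_homology [IsLocallyNoetherian X] (m : ℤ) (n : ℕ) : ∀ (K : DCoh.D X),
    (∀ i, m + n ≤ i → IsZero (DCoh.HD K i)) → (∀ i, m ≤ i → Coh.IsCoh (DCoh.HD K i)) →
    DCoh.IsPseudoCoherentD m K := by
  induction n with
  | zero => intro K hv _; exact pc_of_vanish (by simpa using hv)
  | succ n ih =>
    intro K hv hc
    let b : ℤ := m + n
    obtain ⟨A, B, hA, hB, f, g, δ, hT⟩ :=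
      DerivedCategory.TStructure.t.exists_triangle K (b - 1) b (by omega)
    have hAz : ∀ i, b - 1 < i → IsZero (DCoh.HD A i) := fun i hi =>
      @DerivedCategory.isZero_of_isLE _ _ _ _ A (b - 1) i hi ⟨hA⟩
    have hBz : ∀ i, i < b → IsZero (DCoh.HD B i) := fun i hi =>
      @DerivedCategory.isZero_of_isGE _ _ _ _ B b i hi ⟨hB⟩
    let H := DerivedCategory.homologyFunctor X.Modules
    have hg : ∀ i, b ≤ i → IsIso ((H i).map g) := fun i hi => by
      have h2 := DerivedCategory.HomologySequence.exact₂ _ hT i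
      have h3 := DerivedCategory.HomologySequence.exact₃ _ hT i (i + 1) rfl
      have : Mono ((H i).map g) := h2.mono_g ((hAz i (by omega)).eq_of_src _ _)
      have : Epi ((H i).map g) := h3.epi_f ((hAz (i + 1) (by omega)).eq_of_tgt _ _)
      exact isIso_of_mono_of_epi _
    have hf : ∀ i, i < b → IsIso ((H i).map f) := fun i hi => by
      have h1 := DerivedCategory.HomologySequence.exact₁ _ hT (i - 1) i (by omega)
      have h2 := DerivedCategory.HomologySequence.exact₂ _ hT i
      have : Mono ((H i).map f) := h1.mono_g ((hBz (i - 1) (by omega)).eq_of_src _ _)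
      have : Epi ((H i).map f) := h2.epi_f ((hBz i hi).eq_of_tgt _ _)
      exact isIso_of_mono_of_epi _
    have : B.IsGE b := ⟨hB⟩
    have : B.IsLE b := (DerivedCategory.isLE_iff B b).mpr fun i hi => by
      have := hg i hi.le
      exact (hv i (by push_cast; omega)).of_iso (asIso ((H i).map g)).symm
    obtain ⟨M, ⟨eB⟩⟩ := DerivedCategory.exists_iso_singleFunctor_obj_of_isGE_of_isLE B b
    let e₀ := ((DerivedCategory.singleFunctors X.Modules).shiftIso b 0 b (add_zero _)).app M
    have hBpc : DCoh.IsPseudoCoherentD m B := by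
      have := hg b le_rfl
      let eM : M ≅ DCoh.HD K b :=
        (FTFP.hInD M).symm ≪≫ (H 0).mapIso e₀.symm ≪≫ ((H 0).shiftIso b 0 b (add_zero _)).app _ ≪≫
          (H b).mapIso eB.symm ≪≫ (asIso ((H b).map g)).symm
      refine pc_of_iso eB.symm ((pc_shift_iff b).mp (pc_of_iso e₀.symm ?_))
      exact pc_of_isCoh' (CohDev.isCoh_of_iso eM.symm (hc b (by omega))) _
    refine pc₂ (Triangle.mk f g δ) hT (ih A (fun i hi => hAz i (by omega)) fun i hi => ?_) hBpc
    by_cases hib : i < b
    · have := hf i hib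
      exact CohDev.isCoh_of_iso (asIso ((H i).map f)).symm (hc i hi)
    · exact CohDev.isCoh_of_isZero (hAz i (by omega))

theorem pc_iff_coherent [IsNoetherian X] (K : DCoh.D X) (hK : DCoh.IsQCohD K) (m : ℤ) :
    DCoh.IsPseudoCoherentD m K ↔
      (∀ i, m ≤ i → Coh.IsCoh (DCoh.HD K i)) ∧ ∃ b : ℤ, K.IsLE b := by
  constructor
  · intro h
    refine ⟨fun i hi => ?_, ?_⟩
    · choose V hx hV using h
      choose E α hE h1 h2 using fun x => hV x _ ⟨DerivedCategory.Q.objObjPreimageIso K⟩
      refine PerfTri.Bounded.isCoh_of_cover V (IsOpenCover.mk (top_le_iff.mp fun x _ =>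
        Opens.mem_iSup.mpr ⟨x, hx x⟩)) _ fun x => ?_
      let β : DerivedCategory.Q.obj (E x) ⟶ (DCoh.restrictD (V x).ι).obj K :=
        α x ≫ (Perfect.restrQ (V x).ι _).inv ≫
          (DCoh.restrictD (V x).ι).map (DerivedCategory.Q.objObjPreimageIso K).hom
      have hβ : Appr m β :=
        Appr.comp ⟨h1 x, h2 x⟩ ((appr_of_isIso _ _).comp (appr_of_isIso _ _))
      have := appr_epi hβ hi
      refine CohDev.isCoh_of_iso (FTFP.hRestr (V x).ι K i) (CohDev.isCoh_of_epi
        (((DerivedCategory.homologyFunctorFactors _ i).app (E x)).inv ≫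
          (DerivedCategory.homologyFunctor _ i).map β)
        (PerfTri.Bounded.isCoh_homology (E x)
          (fun q => PerfTri.Bounded.isCoh_of_isFinLocFree ((hE x).2 q)) i) ?_)
      exact @QCoh.isQuasicoherent_of_iso _ _ _ (FTFP.hRestr (V x).ι K i).symm
        (@Scheme.Modules.isQuasicoherent_restrictFunctor _ _ (V x).ι _ _ (hK i))
    · choose V hx n hn using fun x => exists_bound h x
      obtain ⟨s, hs⟩ := (isCompact_univ (X := X)).elim_finite_subcover (fun x => (V x : Set X))
        (fun x => (V x).2) (fun x _ => Set.mem_iUnion.mpr ⟨x, hx x⟩)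
      obtain ⟨B, hB⟩ := (s.image n).bddAbove
      refine ⟨B, (DerivedCategory.isLE_iff K B).mpr fun i hi => ?_⟩
      refine KFlat.StalkCx.isZero_of_isZero_stalk fun y => ?_
      obtain ⟨x, hxs, hyx⟩ := Set.mem_iUnion₂.mp (hs (Set.mem_univ y))
      have hnx : n x ≤ B := hB (Finset.mem_coe.mpr (Finset.mem_image_of_mem n hxs))
      exact (KFlat.StalkD.isZero_stalk_restrict_iff ⟨y, hyx⟩ _).mp
        ((DerSch.stalkFunctor _ _).map_isZero
          (((hn x i (by omega)).of_iso (FTFP.hRestr (V x).ι K i).symm)))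
  · rintro ⟨hc, b, hb⟩
    exact pc_of_isCoh_homology m (b + 1 - m).toNat K
      (fun i hi => DerivedCategory.isZero_of_isLE K b i (by omega)) hc

end Groth.Agent.PCohD.Coherent
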