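import Groth.Agent.PCohD.PerfTor
import Groth.Agent.PCohD.FTFP
import Groth.Agent.S0912
import Groth.Agent.KFlat.Pull
import Groth.Agent.KFlat.StalkD
import Groth.Agent.DRing.BaseChangeAmp
import Groth.Agent.DRing.LTensor
import Groth.Agent.ShStabLib.LocFreeAt
import Groth.Agent.PerfTri.LocalLift
import Groth.Prelude.Def_KSix
import Groth.Prelude.Def_DerSch

/-!
# Perfect amplitude and stalkwise tor amplitude
-/

set_option autoImplicit false

universe u

open CategoryTheory Limits AlgebraicGeometry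
open scoped ZeroObject
open Groth.Agent.KFlat
open Groth.Agent.KFlat.TildePC (Appr appr_of_isIso)
open Groth.Agent.PerfTri (Perfect.restrQ Perfect.restrComp)
attribute [local instance] HasDerivedCategory.standard

noncomputable section

namespace Groth.Agent.PCohD.PerfAmp

/-- Tor amplitude descends along a bijective ring map. -/
theorem torAmp_of_extCx {A B : Type u} [CommRing A] [CommRing B] (φ : A →+* B) (hφ : Function.Bijective φ)
    {S : DRing.Cx A} (hS : DRing.IsKFlat A S) {a b : ℤ}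
    (h : DRing.HasTorAmplitudeIn B a b (DRing.toD ((BaseChange.extCx φ).obj S))) :
    DRing.HasTorAmplitudeIn A a b (DRing.toD S) := by
  let ψ : B →+* A := ((RingEquiv.ofBijective φ hφ).symm : B →+* A)
  have : DRing.HasLBaseChange ψ := Groth.Agent.DRing.LTensor.hasLBaseChange ψ
  have hid : ψ.comp φ = RingHom.id A := RingHom.ext fun x => (RingEquiv.ofBijective φ hφ).symm_apply_apply x
  let c : ModuleCat.extendScalars.{u, u, u} φ ⋙ ModuleCat.extendScalars.{u, u, u} ψ ≅ 𝟭 _ :=
    (ModuleCat.extendScalarsComp φ ψ).symm ≪≫ eqToIso (by rw [hid]) ≪≫ ModuleCat.extendScalarsId A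
  let e : (Groth.Agent.DRing.LTensor.extCx ψ).obj ((BaseChange.extCx φ).obj S) ≅ S :=
    HomologicalComplex.Hom.isoOfComponents (fun i => c.app (S.X i))
      fun i j _ => (c.hom.naturality (S.d i j)).symm
  exact Groth.Agent.DRing.TorAmp.torAmp_of_iso
    ((Groth.Agent.DRing.Perfect.baseChangeIsoOfRep ψ (BaseChange.isKFlat_extCx φ hS) (Iso.refl _)).symm ≪≫
      DerivedCategory.Q.mapIso e)
    (Groth.Agent.DRing.Perfect.torAmp_baseChange ψ h)

variable {X : Scheme.{u}}

/-- The stalk complex in the derived category of the local ring. -/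
abbrev stD (y : X) (P : CochainComplex X.Modules ℤ) : Dual.D (X.presheaf.stalk y) :=
  DRing.toD ((StalkCx.stCx y).obj P)

/-- Isomorphic complexes in `D(O_X)` have isomorphic stalk complexes. -/
def stDIso (y : X) {P P' : CochainComplex X.Modules ℤ}
    (e : DerivedCategory.Q.obj P ≅ DerivedCategory.Q.obj P') : stD y P ≅ stD y P' :=
  ((DerSch.stalkFunctor X y).mapDerivedCategoryFactors.app P).symm ≪≫
    (DerSch.stalkFunctor X y).mapDerivedCategory.mapIso e ≪≫
    (DerSch.stalkFunctor X y).mapDerivedCategoryFactors.app P'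

theorem isKFlat_stalk {P : CochainComplex X.Modules ℤ} (hP : DCoh.IsKFlat P) (y : X) :
    DRing.IsKFlat (X.presheaf.stalk y) ((StalkCx.stCx y).obj P) :=
  (StalkCx.isKFlat_iff_stalk P).1 hP y

/-- Stalks of a complex of flat amplitude. -/
theorem stalk_torAmp {P : CochainComplex X.Modules ℤ} {a b : ℤ}
    (h : DCoh.HasFlatAmplitudeIn a b (DerivedCategory.Q.obj P)) (y : X) :
    DRing.HasTorAmplitudeIn (X.presheaf.stalk y) a b (stD y P) := by
  obtain ⟨G, hv, hf, ⟨e⟩⟩ := h
  exact ⟨(StalkCx.stCx y).obj G, fun i hi => (DerSch.stalkFunctor X y).map_isZero (hv i hi),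
    fun i => hf i y, ⟨stDIso y e⟩⟩

/-- Stalkwise tor amplitude gives flat amplitude. -/
theorem flatAmp_of_stalk {P : CochainComplex X.Modules ℤ} (hP : DCoh.IsKFlat P) {a b : ℤ}
    (h : ∀ y, DRing.HasTorAmplitudeIn (X.presheaf.stalk y) a b (stD y P)) :
    DCoh.HasFlatAmplitudeIn a b (DerivedCategory.Q.obj P) := by
  have hv : SchemeTor.TorVan P a b := fun F i hi => (SchemeTor.exactAt_iff_stalk _ i).2 fun y =>
    (((Groth.Agent.DRing.TorAmp.hasTorAmp_iff (isKFlat_stalk hP y) (Iso.refl _) a b).1 (h y))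
      ((DerSch.stalkFunctor X y).obj F) i hi).of_iso (SchemeTor.stTmIso y F P).symm
  by_cases hab : a ≤ b
  · exact (S0912.result _ a b hab fun G => LTensorMod.hasLTensorMod G).mp
      ((SchemeTor.torAmp_iff hP (Iso.refl _) a b).2 hv)
  · have : IsIso (DerivedCategory.Q.map (0 : (0 : CochainComplex X.Modules ℤ) ⟶ P)) :=
      (DerivedCategory.isIso_Q_map_iff_quasiIso _ _).mpr ⟨fun i => by
        rw [quasiIsoAt_iff_exactAt _ _ (ShortComplex.exact_of_isZero_X₂ _
          ((HomologicalComplex.eval _ _ i).map_isZero (isZero_zero _)))]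
        exact SchemeTor.exactAt_of_tensor fun F => hv F i (by omega)⟩
    exact ⟨0, fun i _ => (HomologicalComplex.eval _ _ i).map_isZero (isZero_zero _),
      fun i => PerfTor.isFlat_of_isZero ((HomologicalComplex.eval _ _ i).map_isZero (isZero_zero _)),
      ⟨@asIso _ _ _ _ (DerivedCategory.Q.map (0 : (0 : CochainComplex X.Modules ℤ) ⟶ P)) this⟩⟩

/-- A flat representative of an object with cohomology bounded above. -/
theorem exists_flatRep (F : CochainComplex X.Modules ℤ) (d : ℤ) (hd : ∀ i, d < i → IsZero (F.homology i)) :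
    ∃ P : CochainComplex X.Modules ℤ, DCoh.IsKFlat P ∧ Nonempty (DerivedCategory.Q.obj P ≅ DerivedCategory.Q.obj F) := by
  obtain ⟨P, g, hflat, hb, hg⟩ := FlatRes.exists_flatRes F d hd
  exact ⟨P, isKFlat_of_flat_boundedAbove P d hb hflat, ⟨asIso (DerivedCategory.Q.map g)⟩⟩

theorem flatAmp_iff_stalk (F : CochainComplex X.Modules ℤ) (d : ℤ)
    [(DCoh.toD X F).IsLE d] (a b : ℤ) :
    DCoh.HasFlatAmplitudeIn a b (DerivedCategory.Q.obj F) ↔
      ∀ y, DRing.HasTorAmplitudeIn (X.presheaf.stalk y) a b (stD y F) := by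
  refine ⟨stalk_torAmp, fun h => ?_⟩
  obtain ⟨P, hP, ⟨e⟩⟩ := exists_flatRep F d fun i hi =>
    (isZero_homology_Q F i).mp (DerivedCategory.isZero_of_isLE (DCoh.toD X F) d i hi)
  exact PerfTor.flatAmp_of_iso e (flatAmp_of_stalk hP fun y =>
    Groth.Agent.DRing.TorAmp.torAmp_of_iso (stDIso y e).symm (h y))

/-- The identity does not change the stalk complexes. -/
theorem hasTorAmplitude_id_iff (F : CochainComplex X.Modules ℤ) (a b : ℤ) :
    DerSch.HasTorAmplitude (𝟙 X) a b F ↔
      ∀ y, DRing.HasTorAmplitudeIn (X.presheaf.stalk y) a b (stD y F) := by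
  refine forall_congr' fun y => ?_
  let c : DerSch.stalkOver (𝟙 X) y ≅ DerSch.stalkFunctor X y :=
    Functor.isoWhiskerLeft (DerSch.stalkFunctor X y)
      (ModuleCat.restrictScalarsId' _ (by rw [Scheme.Hom.stalkMap_id]; rfl)) ≪≫ Functor.rightUnitor _
  let e : DRing.toD ((DerSch.stalkCxOver (𝟙 X) y).obj F) ≅ stD y F :=
    DerivedCategory.Q.mapIso (HomologicalComplex.Hom.isoOfComponents (fun i => c.app (F.X i))
      fun i j _ => (c.hom.naturality (F.d i j)).symm)
  exact ⟨Groth.Agent.DRing.TorAmp.torAmp_of_iso e, Groth.Agent.DRing.TorAmp.torAmp_of_iso e.symm⟩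

/-- Flat amplitude is local. -/
theorem flatAmp_of_local {K : DCoh.D X} {a b : ℤ} (h : ∀ x : X, ∃ V : X.Opens, x ∈ V ∧
    DCoh.HasFlatAmplitudeIn a b ((DCoh.restrictD V.ι).obj K)) : DCoh.HasFlatAmplitudeIn a b K := by
  let F := DerivedCategory.Q.objPreimage K
  let eK : DerivedCategory.Q.obj F ≅ K := DerivedCategory.Q.objObjPreimageIso K
  have hd : ∀ i, b < i → IsZero (F.homology i) := fun i hi => by
    refine (isZero_homology_Q F i).mp (IsZero.of_iso ?_ ((DerivedCategory.homologyFunctor _ i).mapIso eK))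
    refine StalkCx.isZero_of_isZero_stalk fun y => ?_
    obtain ⟨V, hy, G, hv, -, ⟨e⟩⟩ := h y
    refine (StalkD.isZero_stalk_restrict_iff (⟨y, hy⟩ : (V : Scheme.{u})) _).mp
      ((DerSch.stalkFunctor _ _).map_isZero ?_)
    exact (((isZero_homology_Q G i).mpr (ShortComplex.isZero_homology_of_isZero_X₂ _ (hv i (Or.inr hi)))).of_iso
      ((DerivedCategory.homologyFunctor _ i).mapIso e).symm).of_iso (FTFP.hRestr V.ι K i).symm
  obtain ⟨P, hP, ⟨eP⟩⟩ := exists_flatRep F b hd
  refine PerfTor.flatAmp_of_iso (eP ≪≫ eK) (flatAmp_of_stalk hP fun y => ?_)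
  obtain ⟨V, hy, hV⟩ := h y
  let v : (V : Scheme.{u}) := ⟨y, hy⟩
  let eV : (DCoh.restrictD V.ι).obj K ≅ DerivedCategory.Q.obj ((Pull.pullCx V.ι).obj P) :=
    (DCoh.restrictD V.ι).mapIso (eP ≪≫ eK).symm ≪≫ Perfect.restrQ V.ι P ≪≫
      DerivedCategory.Q.mapIso ((NatIso.mapHomologicalComplex
        (Scheme.Modules.restrictFunctorIsoPullback V.ι) (ComplexShape.up ℤ)).app P)
  have hst := Groth.Agent.DRing.TorAmp.torAmp_of_iso
    (DerivedCategory.Q.mapIso (Pull.stPullIso V.ι v P))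
    (stalk_torAmp (PerfTor.flatAmp_of_iso eV hV) v)
  exact torAmp_of_extCx (V.ι.stalkMap v).hom (ConcreteCategory.bijective_of_isIso (V.ι.stalkMap v))
    (isKFlat_stalk hP _) hst

/-! ### Trimming the top of a strictly perfect complex -/

/-- Local criterion for finite locally free. -/
theorem isFinLocFree_of_local {M : X.Modules}
    (h : ∀ x : X, ∃ V : X.Opens, x ∈ V ∧ FlatMod.IsFinLocFree (M.restrict V.ι)) : FlatMod.IsFinLocFree M := by
  intro x
  obtain ⟨V, hx, hV⟩ := h x
  obtain ⟨W, n, hW, ⟨e⟩⟩ := hV ⟨x, hx⟩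
  let l := (W.ι ≫ V.ι).isoOpensRange.inv
  exact ⟨(W.ι ≫ V.ι).opensRange, n, ⟨⟨⟨x, hx⟩, hW⟩, rfl⟩,
    ⟨(FTFP.restrTwice l (W.ι ≫ V.ι) _ (by simp [l]) M).symm ≪≫
      (Scheme.Modules.restrictFunctor l).mapIso ((FTFP.restrTwice W.ι V.ι _ rfl M).symm ≪≫ e) ≪≫
      FTFP.restrFree l n⟩⟩

/-- The kernel of an epimorphism of finite locally free modules is finite locally free. -/
theorem isFinLocFree_kernel {A B : X.Modules} (f : A ⟶ B) [Epi f] (hA : FlatMod.IsFinLocFree A)
    (hB : FlatMod.IsFinLocFree B) : FlatMod.IsFinLocFree (kernel f) := by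
  refine isFinLocFree_of_local fun x => ?_
  obtain ⟨V, hxV, l, hl⟩ := PerfTri.LocalLift.exists_local_lift f hB (𝟙 B) x
  refine ⟨V, hxV, ?_⟩
  let R := Scheme.Modules.restrictFunctor V.ι
  have hl' : l ≫ R.map f = 𝟙 _ := hl.trans (R.map_id B)
  let S := (ShortComplex.mk (kernel.ι f) f (kernel.condition f)).map R
  have hS : S.Exact := (ShortComplex.exact_of_f_is_kernel _ (kernelIsKernel f)).map R
  have : Mono S.f := inferInstanceAs (Mono (R.map (kernel.ι f)))
  let r : R.obj A ⟶ R.obj (kernel f) := hS.lift (𝟙 _ - R.map f ≫ l) (by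
    change (𝟙 _ - R.map f ≫ l) ≫ R.map f = 0
    rw [Preadditive.sub_comp, Category.id_comp, Category.assoc, hl', Category.comp_id, sub_self])
  refine ShStabLib.isFinLocFree_of_retract
    { i := R.map (kernel.ι f), r := r, retract := ?_ }
    (KFlat.LocFree.isFinLocFree_restrict hA V)
  rw [← cancel_mono (R.map (kernel.ι f)), Category.assoc,
    show r ≫ R.map (kernel.ι f) = 𝟙 _ - R.map f ≫ l from hS.lift_f _ _,
    Preadditive.comp_sub, Category.comp_id, Category.id_comp, ← Category.assoc, ← R.map_comp,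
    kernel.condition, R.map_zero, zero_comp, sub_zero]

/-- A strictly perfect complex with no cohomology above `n` may be trimmed above `n`. -/
theorem exists_trim {E : CochainComplex X.Modules ℤ} {m n : ℤ} (hmn : m ≤ n)
    (hE : DCoh.IsStrictlyPerfect E) (hlo : ∀ i, i < m → IsZero (E.X i))
    (hH : ∀ i, n < i → IsZero (E.homology i)) :
    ∃ E' : CochainComplex X.Modules ℤ, DCoh.VanishesOutside E' m n ∧ (∀ i, FlatMod.IsFinLocFree (E'.X i)) ∧
      Nonempty (DerivedCategory.Q.obj E' ≅ DerivedCategory.Q.obj E) := by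
  obtain ⟨⟨a, b, hv⟩, hf⟩ := hE
  have hcyc : ∀ (k : ℕ) (i : ℤ), b < i + k → n ≤ i → FlatMod.IsFinLocFree (E.cycles i) := by
    intro k
    induction k with
    | zero =>
      intro i hi _
      exact KFlat.LocFree.isFinLocFree_of_iso
        (((hv i (Or.inr (by omega)))).iso ((hv i (Or.inr (by omega))).of_mono (E.iCycles i))) (hf i)
    | succ k ih =>
      intro i hi hni
      have h' := ih (i + 1) (by omega) (by omega)
      have hepi : Epi (E.toCycles i (i + 1)) := by
        have hc : (ShortComplex.mk (E.toCycles i (i + 1)) (E.homologyπ (i + 1)) (by simp)).Exact :=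
          ShortComplex.exact_of_g_is_cokernel _ (E.homologyIsCokernel i (i + 1) (by simp))
        exact hc.epi_f ((hH (i + 1) (by omega)).eq_of_tgt _ _)
      refine KFlat.LocFree.isFinLocFree_of_iso ?_ (isFinLocFree_kernel (E.toCycles i (i + 1)) (hf i) h')
      exact (kernelCompMono (E.toCycles i (i + 1)) (E.iCycles (i + 1))).symm ≪≫
        kernelIsoOfEq (E.toCycles_i i (i + 1)) ≪≫
        (kernelIsKernel _).conePointUniqueUpToIso (E.cyclesIsKernel i (i + 1) (by simp))
  have : E.IsLE n := (E.isLE_iff n).mpr fun i hi =>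
    (HomologicalComplex.exactAt_iff_isZero_homology _ _).mpr (hH i hi)
  refine ⟨E.truncLE n, fun i hi => ?_, fun i => ?_, ⟨asIso (DerivedCategory.Q.map (E.ιTruncLE n))⟩⟩
  · rcases hi with hi | hi
    · exact (hlo i hi).of_iso (E.truncLEXIso n i (by omega))
    · exact (E.truncLE n).isZero_of_isStrictlyLE n i hi
  · rcases lt_trichotomy i n with h | rfl | h
    · exact KFlat.LocFree.isFinLocFree_of_iso (E.truncLEXIso n i h).symm (hf i)
    · exact KFlat.LocFree.isFinLocFree_of_iso (E.truncLEXIsoCycles i).symm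
        (hcyc (b + 1 - i).toNat i (by omega) le_rfl)
    · exact KFlat.LocFree.isFinLocFree_of_iso
        (((HomologicalComplex.eval X.Modules _ i).map_isZero (isZero_zero _)).iso
          ((E.truncLE n).isZero_of_isStrictlyLE n i h)) (isStrictlyPerfect_zero.2 i)

/-- Perfect amplitude is pseudo-coherence plus flat amplitude. -/
theorem perfAmp_iff (K : DCoh.D X) {m n : ℤ} (hmn : m ≤ n) :
    KSix.HasPerfectAmplitudeIn m n K ↔
      DCoh.IsPseudoCoherentD (m - 1) K ∧ DCoh.HasFlatAmplitudeIn m n K := by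
  constructor
  · intro h
    refine ⟨pc_of_local fun x => ?_, flatAmp_of_local fun x => ?_⟩
    all_goals obtain ⟨V, hx, hV⟩ := h x
    all_goals obtain ⟨G, hG, hGf, ⟨e⟩⟩ := hV _ ⟨DerivedCategory.Q.objObjPreimageIso K⟩
    all_goals let e' : DerivedCategory.Q.obj G ≅ (DCoh.restrictD V.ι).obj K :=
      e.symm ≪≫ (Perfect.restrQ V.ι _).symm ≪≫
        (DCoh.restrictD V.ι).mapIso (DerivedCategory.Q.objObjPreimageIso K)
    · exact ⟨V, V.ι, inferInstance, ⟨⟨x, hx⟩, rfl⟩,
        pc_of_isAp ⟨G, e'.hom, ⟨⟨m, n, hG⟩, hGf⟩, appr_of_isIso _ _⟩⟩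
    · exact ⟨V, hx, G, hG, fun i => PerfTor.isFlat_of_isFinLocFree (hGf i), ⟨e'⟩⟩
  · rintro ⟨hpc, hfl⟩ x
    obtain ⟨U, j, hj, ⟨u, rfl⟩, E, hE, hEv, ⟨e⟩⟩ := PerfTor.exists_sp hfl hpc x
    obtain ⟨G, hG, -, ⟨eG⟩⟩ := hfl
    have hH : ∀ i, n < i → IsZero (E.homology i) := fun i hi => by
      refine (isZero_homology_Q E i).mp (IsZero.of_iso ?_ ((DerivedCategory.homologyFunctor _ i).mapIso e.symm))
      refine FTFP.isZero_restr j (IsZero.of_iso ?_ ((DerivedCategory.homologyFunctor _ i).mapIso eG.symm))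
      exact (isZero_homology_Q G i).mpr (ShortComplex.isZero_homology_of_isZero_X₂ _ (hG i (Or.inr hi)))
    obtain ⟨E', hE', hEf, ⟨e₂⟩⟩ := exists_trim hmn hE hEv hH
    let l := j.isoOpensRange.inv
    refine ⟨j.opensRange, ⟨u, rfl⟩, fun F' ⟨eF⟩ => ⟨(resC l).obj E',
      fun i hi => (Scheme.Modules.restrictFunctor l).map_isZero (hE' i hi),
      fun i => KFlat.LocFree.isFinLocFree_of_iso ((Scheme.Modules.restrictFunctorIsoPullback l).app _).symm
        (KFlat.LocFree.isFinLocFree_pull l (hEf i)),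
      ⟨(Perfect.restrQ _ F').symm ≪≫ (DCoh.restrictD _).mapIso eF ≪≫
        (Perfect.restrComp l j j.opensRange.ι (by simp [l]) K).symm ≪≫
        (DCoh.restrictD l).mapIso (e ≪≫ e₂.symm) ≪≫ Perfect.restrQ l E'⟩⟩⟩

end Groth.Agent.PCohD.PerfAmp
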