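import Groth.Agent.PCohD.RelPC
import Mathlib.AlgebraicGeometry.Morphisms.FiniteType
import Mathlib.RingTheory.RingHom.FinitePresentation

/-!
# Relative pseudo-coherence may be tested on all affine opens
-/

set_option autoImplicit false

universe u

open CategoryTheory Limits AlgebraicGeometry
attribute [local instance] HasDerivedCategory.standard

noncomputable section

namespace Groth.Agent.PCohD

variable {X S : Scheme.{u}} {f : X ⟶ S} {m : ℤ} {K : DCoh.D X}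

/-- Some chart on the pair of opens passes the test. -/
def P (f : X ⟶ S) (m : ℤ) (K : DCoh.D X) (U : X.Opens) (V : S.Opens) : Prop :=
  ∃ (h : U ≤ f ⁻¹ᵁ V) (n : ℕ) (φ : MvPolynomial (Fin n) Γ(S, V) →+* Γ(X, U)),
    DerSch.IsChart f U V h φ ∧ TC m K U φ

theorem P_iff_chartPC {U : X.Opens} (hU : IsAffineOpen U) {V : S.Opens} (h : U ≤ f ⁻¹ᵁ V) :
    P f m K U V ↔ ∃ (n : ℕ) (φ : MvPolynomial (Fin n) Γ(S, V) →+* Γ(X, U)),
      DerSch.IsChart f U V h φ ∧ DerSch.ChartPC m K U V φ := by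
  constructor
  · rintro ⟨_, n, φ, hc, ht⟩
    exact ⟨n, φ, hc, (chartPC_iff hU hc.1).2 ht⟩
  · rintro ⟨n, φ, hc, ht⟩
    exact ⟨h, n, φ, hc, (chartPC_iff hU hc.1).1 ht⟩

/-- Any chart then passes. -/
theorem P.tc {U : X.Opens} (hU : IsAffineOpen U) {V : S.Opens} (hP : P f m K U V) (h : U ≤ f ⁻¹ᵁ V)
    {k : ℕ} (ψ : MvPolynomial (Fin k) Γ(S, V) →+* Γ(X, U)) (hψ : DerSch.IsChart f U V h ψ) :
    TC m K U ψ := by
  obtain ⟨_, n, φ, hc, ht⟩ := hP
  exact (tc_indep hU _ φ ψ hc.1 hψ.1 hc.2 hψ.2).1 ht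

theorem exists_chart [LocallyOfFiniteType f] {U : X.Opens} (hU : IsAffineOpen U) {V : S.Opens}
    (hV : IsAffineOpen V) (h : U ≤ f ⁻¹ᵁ V) :
    ∃ (n : ℕ) (φ : MvPolynomial (Fin n) Γ(S, V) →+* Γ(X, U)), DerSch.IsChart f U V h φ := by
  let _ := (f.appLE V U h).hom.toAlgebra
  have : Algebra.FiniteType Γ(S, V) Γ(X, U) := f.finiteType_appLE hV hU h
  obtain ⟨n, φ, hφ⟩ := Algebra.FiniteType.iff_quotient_mvPolynomial''.1 this
  exact ⟨n, φ.toRingHom, hφ, RingHom.ext fun r => φ.commutes r⟩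

/-- A flat finitely presented presentation that passes gives a chart that passes. -/
theorem P_of_tc {U : X.Opens} (hU : IsAffineOpen U) {V : S.Opens} (h : U ≤ f ⁻¹ᵁ V) {A : Type u}
    [CommRing A] [Algebra Γ(S, V) A] [Module.Flat Γ(S, V) A] [Algebra.FinitePresentation Γ(S, V) A]
    (θ : A →+* Γ(X, U)) (hθ : Function.Surjective θ)
    (hc : θ.comp (algebraMap Γ(S, V) A) = (f.appLE V U h).hom) (ht : TC m K U θ) : P f m K U V := by
  obtain ⟨n, ψ, hψ, hψc⟩ := exists_poly (R := Γ(S, V)) θ hθ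
  exact ⟨h, n, ψ, ⟨hψ, hψc.trans hc⟩, (tc_iff_poly hU θ hθ ψ hψ hψc).1 ht⟩

theorem flat_fp_away {R : Type u} [CommRing R] {n : ℕ} (a : MvPolynomial (Fin n) R) :
    Module.Flat R (Localization.Away a) ∧ Algebra.FinitePresentation R (Localization.Away a) := by
  have : Module.Flat (MvPolynomial (Fin n) R) (Localization.Away a) :=
    IsLocalization.flat _ (Submonoid.powers a)
  have : Algebra.FinitePresentation (MvPolynomial (Fin n) R) (Localization.Away a) :=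
    IsLocalization.Away.finitePresentation a
  exact ⟨Module.Flat.trans R (MvPolynomial (Fin n) R) _,
    Algebra.FinitePresentation.trans R (MvPolynomial (Fin n) R) _⟩

theorem θAway_algebraMap {U : X.Opens} {V : S.Opens} (h : U ≤ f ⁻¹ᵁ V) {n : ℕ}
    (φ : MvPolynomial (Fin n) Γ(S, V) →+* Γ(X, U)) (hφ : DerSch.IsChart f U V h φ)
    (a : MvPolynomial (Fin n) Γ(S, V)) :
    (θAway φ a).comp (algebraMap Γ(S, V) (Localization.Away a)) =
      (f.appLE V (X.basicOpen (φ a)) ((X.basicOpen_le _).trans h)).hom := by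
  rw [IsScalarTower.algebraMap_eq Γ(S, V) (MvPolynomial (Fin n) Γ(S, V)), ← RingHom.comp_assoc,
    θAway_comp, RingHom.comp_assoc, MvPolynomial.algebraMap_eq, hφ.2, ← CommRingCat.hom_comp,
    Scheme.Hom.appLE_map]

theorem P.basic {U : X.Opens} (hU : IsAffineOpen U) {V : S.Opens} (hP : P f m K U V)
    (g : Γ(X, U)) : P f m K (X.basicOpen g) V := by
  obtain ⟨h, n, φ, hc, ht⟩ := hP
  obtain ⟨a, rfl⟩ := hc.1 g
  obtain ⟨_, _⟩ := flat_fp_away a
  exact P_of_tc (hU.basicOpen _) ((X.basicOpen_le _).trans h) (θAway φ a)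
    (θAway_surjective hU φ hc.1 a) (θAway_algebraMap h φ hc a) (tc_basic hU φ hc.1 a ht)

theorem P_of_cover [LocallyOfFiniteType f] {U : X.Opens} (hU : IsAffineOpen U) {V : S.Opens}
    (hV : IsAffineOpen V) (h : U ≤ f ⁻¹ᵁ V)
    (hcov : ∀ x ∈ U, ∃ g : Γ(X, U), x ∈ X.basicOpen g ∧ P f m K (X.basicOpen g) V) :
    P f m K U V := by
  obtain ⟨n, φ, hc⟩ := exists_chart hU hV h
  refine ⟨h, n, φ, hc, tc_of_cover hU φ hc.1 fun x hx => ?_⟩
  obtain ⟨g, hxg, hg⟩ := hcov x hx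
  obtain ⟨a, rfl⟩ := hc.1 g
  obtain ⟨hf1, hf2⟩ := flat_fp_away a
  refine ⟨a, hxg, ?_⟩
  obtain ⟨k, ψ, hψ, hψc⟩ := exists_poly (R := Γ(S, V)) (θAway φ a) (θAway_surjective hU φ hc.1 a)
  exact (tc_iff_poly (hU.basicOpen _) (θAway φ a) (θAway_surjective hU φ hc.1 a) ψ hψ hψc).2
    (hg.tc (hU.basicOpen _) ((X.basicOpen_le _).trans h) ψ ⟨hψ, hψc.trans (θAway_algebraMap h φ hc a)⟩)

/-- The base may be replaced by a basic open containing the image. -/
theorem P_basicOpen_base {U : X.Opens} (hU : IsAffineOpen U) {V : S.Opens} (hV : IsAffineOpen V)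
    (r : Γ(S, V)) (h₀ : U ≤ f ⁻¹ᵁ S.basicOpen r) :
    P f m K U (S.basicOpen r) ↔ P f m K U V := by
  have hle := S.basicOpen_le r
  have h : U ≤ f ⁻¹ᵁ V := fun x hx => hle (h₀ hx)
  let _ := (S.presheaf.map (homOfLE hle).op).hom.toAlgebra
  have : IsLocalization.Away r Γ(S, S.basicOpen r) := hV.isLocalization_basicOpen r
  have hcomp : (f.appLE (S.basicOpen r) U h₀).hom.comp (algebraMap Γ(S, V) Γ(S, S.basicOpen r)) =
      (f.appLE V U h).hom := by
    rw [RingHom.algebraMap_toAlgebra, ← CommRingCat.hom_comp, Scheme.Hom.map_appLE]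
  constructor
  · rintro ⟨_, n, φ₀, hc, ht⟩
    have : Module.Flat Γ(S, V) Γ(S, S.basicOpen r) := IsLocalization.flat _ (Submonoid.powers r)
    have : Algebra.FinitePresentation Γ(S, V) Γ(S, S.basicOpen r) :=
      IsLocalization.Away.finitePresentation r
    have : Module.Flat Γ(S, V) (MvPolynomial (Fin n) Γ(S, S.basicOpen r)) :=
      Module.Flat.trans Γ(S, V) Γ(S, S.basicOpen r) _
    have : Algebra.FinitePresentation Γ(S, V) (MvPolynomial (Fin n) Γ(S, S.basicOpen r)) :=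
      Algebra.FinitePresentation.trans Γ(S, V) Γ(S, S.basicOpen r) _
    refine P_of_tc hU h φ₀ hc.1 ?_ ht
    rw [IsScalarTower.algebraMap_eq Γ(S, V) Γ(S, S.basicOpen r), MvPolynomial.algebraMap_eq,
      ← RingHom.comp_assoc, hc.2, hcomp]
  · rintro ⟨_, n, φ, hc, ht⟩
    let _ := MvPolynomial.algebraMvPolynomial (σ := Fin n) (R := Γ(S, V)) (S := Γ(S, S.basicOpen r))
    have : IsLocalization.Away (MvPolynomial.C r : MvPolynomial (Fin n) Γ(S, V))
        (MvPolynomial (Fin n) Γ(S, S.basicOpen r)) := by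
      have := MvPolynomial.isLocalization (σ := Fin n) (Submonoid.powers r) Γ(S, S.basicOpen r)
      rwa [Submonoid.map_powers] at this
    let φ₀ : MvPolynomial (Fin n) Γ(S, S.basicOpen r) →+* Γ(X, U) :=
      MvPolynomial.eval₂Hom (f.appLE (S.basicOpen r) U h₀).hom fun i => φ (MvPolynomial.X i)
    have e : φ₀.comp (algebraMap (MvPolynomial (Fin n) Γ(S, V))
        (MvPolynomial (Fin n) Γ(S, S.basicOpen r))) = φ := by
      refine MvPolynomial.ringHom_ext (fun x => ?_) fun i => ?_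
      · have h1 : φ (MvPolynomial.C x) = f.appLE V U h x := congr($(hc.2) x)
        have h2 : f.appLE (S.basicOpen r) U h₀ (algebraMap Γ(S, V) Γ(S, S.basicOpen r) x) =
          f.appLE V U h x := congr($hcomp x)
        change φ₀ (MvPolynomial.map _ (MvPolynomial.C x)) = _
        rw [MvPolynomial.map_C, MvPolynomial.eval₂Hom_C, h1]
        exact h2
      · change φ₀ (MvPolynomial.map _ (MvPolynomial.X i)) = _
        rw [MvPolynomial.map_X, MvPolynomial.eval₂Hom_X']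
    have hs : Function.Surjective φ₀ := fun b => by
      obtain ⟨a, ha⟩ := hc.1 b
      exact ⟨_, (congr($e a)).trans ha⟩
    refine ⟨h₀, n, φ₀, ⟨hs, MvPolynomial.eval₂Hom_comp_C _ _⟩, ?_⟩
    rw [← tc_localized_base hU (MvPolynomial.C r) φ₀ hs (by rw [e]; exact hc.1), e]
    exact ht

theorem P_of_rel [LocallyOfFiniteType f] (hrel : DerSch.IsPseudoCoherentRel f m K) {U : X.Opens}
    (hU : IsAffineOpen U) {V : S.Opens} (hV : IsAffineOpen V) (h : U ≤ f ⁻¹ᵁ V) : P f m K U V := by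
  obtain ⟨-, 𝒱, h𝒱, hrel⟩ := hrel
  refine P_of_cover hU hV h fun x hx => ?_
  obtain ⟨V', hV', hyV'⟩ : ∃ V' ∈ 𝒱, f x ∈ (V' : S.Opens) := by
    have : f x ∈ (⊤ : S.Opens) := trivial
    rw [← h𝒱] at this
    simpa only [TopologicalSpace.Opens.mem_iSup, exists_prop] using this
  obtain ⟨𝒰, h𝒰, hU𝒰⟩ := hrel V' hV'
  obtain ⟨U', hU', hxU'⟩ : ∃ U' ∈ 𝒰, x ∈ (U' : X.Opens) := by
    have : x ∈ f ⁻¹ᵁ (V' : S.Opens) := hyV'
    rw [← h𝒰] at this
    simpa only [TopologicalSpace.Opens.mem_iSup, exists_prop] using this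
  have hU'V' : (U' : X.Opens) ≤ f ⁻¹ᵁ (V' : S.Opens) := by
    rw [← h𝒰]; exact le_iSup₂_of_le U' hU' le_rfl
  have hP' : P f m K U' V' := (P_iff_chartPC U'.2 hU'V').2 (hU𝒰 U' hU' hU'V')
  obtain ⟨r, r', hrr', hyr⟩ := exists_basicOpen_le_affine_inter hV V'.2 (f x) ⟨h hx, hyV'⟩
  have hxr : x ∈ f ⁻¹ᵁ S.basicOpen r := hyr
  obtain ⟨g₁, hg₁, hxg₁⟩ := hU.exists_basicOpen_le (V := f ⁻¹ᵁ S.basicOpen r) ⟨x, hxr⟩ hx
  obtain ⟨g₂, hg₂, hxg₂⟩ := U'.2.exists_basicOpen_le (V := f ⁻¹ᵁ S.basicOpen r) ⟨x, hxr⟩ hxU'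
  obtain ⟨g, g', hgg', hxg⟩ := exists_basicOpen_le_affine_inter (hU.basicOpen g₁) (U'.2.basicOpen g₂)
    x ⟨hxg₁, hxg₂⟩
  obtain ⟨g₀, hg₀⟩ := hU.basicOpen_basicOpen_is_basicOpen g₁ g
  refine ⟨g₀, by rw [hg₀]; exact hxg, ?_⟩
  rw [hg₀]
  have hD : X.basicOpen g ≤ f ⁻¹ᵁ S.basicOpen r := (X.basicOpen_le g).trans hg₁
  have hPD : P f m K (X.basicOpen g) V' := by
    rw [hgg']
    exact (hP'.basic U'.2 g₂).basic (U'.2.basicOpen g₂) g'
  have h1 := (P_basicOpen_base ((hU.basicOpen g₁).basicOpen g) V'.2 r' (by rw [← hrr']; exact hD)).2 hPD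
  rw [← hrr'] at h1
  exact (P_basicOpen_base ((hU.basicOpen g₁).basicOpen g) hV r hD).1 h1

theorem rel_iff [LocallyOfFiniteType f] :
    DerSch.IsPseudoCoherentRel f m K ↔
      ∀ (U : X.affineOpens) (V : S.affineOpens), (U : X.Opens) ≤ f ⁻¹ᵁ (V : S.Opens) → P f m K U V := by
  refine ⟨fun h U V hUV => P_of_rel h U.2 V.2 hUV, fun h => ⟨inferInstance, Set.univ, ?_, fun V _ => ?_⟩⟩
  · exact eq_top_iff.2 fun y _ => by
      obtain ⟨W, hW, hy, -⟩ := exists_isAffineOpen_mem_and_subset (x := y) (U := ⊤) trivial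
      simp only [TopologicalSpace.Opens.mem_iSup, exists_prop]
      exact ⟨⟨W, hW⟩, trivial, hy⟩
  · refine ⟨{U | (U : X.Opens) ≤ f ⁻¹ᵁ (V : S.Opens)}, le_antisymm (iSup₂_le fun U hU => hU) ?_,
      fun U hU h' => (P_iff_chartPC U.2 h').1 (h U V h')⟩
    intro x hx
    obtain ⟨W, hW, hx', hle⟩ := exists_isAffineOpen_mem_and_subset hx
    simp only [TopologicalSpace.Opens.mem_iSup, exists_prop]
    exact ⟨⟨W, hW⟩, hle, hx'⟩

end Groth.Agent.PCohD
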