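import Groth.Agent.PCohD.RelRing
import Groth.Agent.CohOps.LpullDual

/-!
# Sections of flat derived inverse images over affine opens
-/

set_option autoImplicit false
set_option backward.isDefEq.respectTransparency.types false

universe u

open CategoryTheory Limits AlgebraicGeometry
open Groth.Agent.DualCx.BaseChange (FD ext)
attribute [local instance] HasDerivedCategory.standard

noncomputable section

namespace Groth.Agent.PCohD

/-- For a flat algebra derived base change is termwise. -/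
theorem nonempty_LBaseChange_FD {A B : Type u} [CommRing A] [CommRing B] [Algebra A B] [Module.Flat A B]
    [DRing.HasLBaseChange (algebraMap A B)] (M : Dual.D A) :
    Nonempty ((DRing.LBaseChange (algebraMap A B)).obj M ≅ (FD A B).obj M) := by
  obtain ⟨P, hP, -, ⟨e⟩⟩ := DRing.DBasic.exists_kproj_iso M
  exact ⟨(DRing.Perfect.baseChangeIsoOfRep (algebraMap A B) (DRing.KFlat.isKFlat_of_isKProjective P) e).symm ≪≫
    ((ext A B).mapDerivedCategoryFactors.app P).symm ≪≫ (FD A B).mapIso e⟩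

/-- Direct image along an isomorphism is restriction along its inverse. -/
def pushRestrictInv {Z W : Scheme.{u}} (e : Z ≅ W) :
    Scheme.Modules.pushforward e.hom ≅ Scheme.Modules.restrictFunctor e.inv :=
  (Functor.rightUnitor _).symm ≪≫
    Functor.isoWhiskerLeft _ (Scheme.Modules.restrictFunctorAdjCounitIso e.inv).symm ≪≫
    (Functor.associator _ _ _).symm ≪≫
    Functor.isoWhiskerRight (Scheme.Modules.pushforwardComp e.hom e.inv ≪≫
      Scheme.Modules.pushforwardCongr e.hom_inv_id ≪≫ Scheme.Modules.pushforwardId Z) _ ≪≫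
    Functor.leftUnitor _

theorem nonempty_restrictD_fromSpec {X : Scheme.{u}} {U : X.Opens} (hU : IsAffineOpen U) (K : DCoh.D X) :
    Nonempty ((pushD hU.isoSpec.hom).obj ((DCoh.restrictD U.ι).obj K) ≅
      (DCoh.restrictD hU.fromSpec).obj K) := by
  let L := DerivedCategory.Q.objPreimage ((DCoh.restrictD U.ι).obj K)
  let e := DerivedCategory.Q.objObjPreimageIso ((DCoh.restrictD U.ι).obj K)
  exact ⟨(pushD hU.isoSpec.hom).mapIso e.symm ≪≫
    (Scheme.Modules.pushforward hU.isoSpec.hom).mapDerivedCategoryFactors.app L ≪≫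
    DerivedCategory.Q.mapIso ((NatIso.mapHomologicalComplex (pushRestrictInv hU.isoSpec) (ComplexShape.up ℤ)).app L) ≪≫
    ((Scheme.Modules.restrictFunctor hU.isoSpec.inv).mapDerivedCategoryFactors.app L).symm ≪≫
    (DCoh.restrictD hU.isoSpec.inv).mapIso e ≪≫
    PerfTri.Perfect.restrComp hU.isoSpec.inv U.ι hU.fromSpec rfl K⟩

variable {X Y : Scheme.{u}} (g : Y ⟶ X) [Flat g] [DCoh.HasLpull g]

/-- Sections of `Lg^*E` for flat `g` are the base change of those of `E`. -/
theorem nonempty_sections_lpull (E : DCoh.D X) {W : X.Opens} (hW : IsAffineOpen W) {U : Y.Opens}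
    (hU : IsAffineOpen U) (h : U ≤ g ⁻¹ᵁ W)
    [PreservesFiniteLimits (tilde.functor Γ(X, W))] [PreservesFiniteLimits (tilde.functor Γ(Y, U))]
    [DRing.HasLBaseChange (g.appLE W U h).hom] (M : Dual.D Γ(X, W))
    (e : (DCoh.tildeD Γ(X, W)).obj M ≅ (pushD hW.isoSpec.hom).obj ((DCoh.restrictD W.ι).obj E)) :
    Nonempty ((DCoh.tildeD Γ(Y, U)).obj ((DRing.LBaseChange (g.appLE W U h).hom).obj M) ≅
      (pushD hU.isoSpec.hom).obj ((DCoh.restrictD U.ι).obj ((DCoh.Lpull g).obj E))) := by
  have : ∀ R : CommRingCat.{u}, PreservesFiniteLimits (tilde.functor R) := fun R =>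
    KFlat.TildeExact.preservesFiniteLimits_tilde R
  let _ := (g.appLE W U h).hom.toAlgebra
  have : Module.Flat Γ(X, W) Γ(Y, U) := g.flat_appLE hW hU h
  obtain ⟨e1⟩ := nonempty_restrictD_fromSpec hW E
  obtain ⟨e2⟩ := nonempty_restrictD_fromSpec hU ((DCoh.Lpull g).obj E)
  obtain ⟨e3⟩ := CohOps.LpullDual.chart_Lpull g hW.fromSpec hU.fromSpec
    (IsAffineOpen.SpecMap_appLE_fromSpec g hW hU h).symm (e1.symm ≪≫ e.symm)
  have : DRing.HasLBaseChange (algebraMap Γ(X, W) Γ(Y, U)) :=
    inferInstanceAs (DRing.HasLBaseChange (g.appLE W U h).hom)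
  obtain ⟨e4⟩ := nonempty_LBaseChange_FD (A := Γ(X, W)) (B := Γ(Y, U)) M
  exact ⟨(DCoh.tildeD Γ(Y, U)).mapIso e4 ≪≫ e3.symm ≪≫ e2.symm⟩

end Groth.Agent.PCohD
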