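import Groth.Agent.PCohD.Terms
import Groth.Agent.KFlat.SchemeTor
import Groth.Agent.LimTop.ModModel
import Groth.Agent.Props.QProj
import Groth.Agent.FlatMor.FlatLemmas
import Groth.Agent.PerfTri.Betti
import Groth.Agent.KFlat.Pull

/-!
# Pseudo-coherent objects of finite tor amplitude are perfect
-/

set_option autoImplicit false

universe u

open CategoryTheory Limits AlgebraicGeometry
open Groth.Agent.KFlat.TildePC (Appr appr_of_isIso)
open Groth.Agent.KFlat
open Groth.Agent.PerfTri (Perfect.restrQ Perfect.restrComp)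
attribute [local instance] HasDerivedCategory.standard

noncomputable section

namespace Groth.Agent.PCohD.PerfTor

/-- The first term of an exact bounded complex whose other terms are flat is flat. -/
theorem flat_bottom {A : Type u} [CommRing A] (K : DRing.Cx A) (n b : ℤ) (hb : ∀ i, b < i → IsZero (K.X i))
    (hn : IsZero (K.X (n - 1))) (hex : ∀ i, n ≤ i → K.ExactAt i)
    (hfl : ∀ i, n < i → Module.Flat A (K.X i)) : Module.Flat A (K.X n) := by
  have hexact : ∀ i, n ≤ i → Function.Exact (K.d (i - 1) i).hom (K.d i (i + 1)).hom := fun i hi =>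
    (ShortComplex.ShortExact.moduleCat_exact_iff_function_exact _).mp
      ((HomologicalComplex.exactAt_iff' K (i - 1) i (i + 1) (by simp) (by simp)).mp (hex i hi))
  have hker : ∀ (k : ℕ) (i : ℤ), b < i + k → n < i →
      Module.Flat A (LinearMap.ker (K.d i (i + 1)).hom) := by
    intro k
    induction k with
    | zero =>
      intro i hi _
      have := ModuleCat.subsingleton_of_isZero (hb i (by omega))
      infer_instance
    | succ k ih =>
      intro i hi hni
      have := hfl i hni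
      have := ih (i + 1) (by omega) (by omega)
      have he := hexact (i + 1) (by omega)
      rw [show i + 1 - 1 = i by omega] at he
      let d : K.X i →ₗ[A] LinearMap.ker (K.d (i + 1) (i + 1 + 1)).hom :=
        LinearMap.codRestrict _ (K.d i (i + 1)).hom fun x => he.apply_apply_eq_zero x
      have hd : Function.Surjective d := fun y => by
        obtain ⟨x, hx⟩ := (he y.1).mp y.2
        exact ⟨x, Subtype.ext hx⟩
      have hk : LinearMap.ker d = LinearMap.ker (K.d i (i + 1)).hom := LinearMap.ker_codRestrict _ _ _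
      exact hk ▸ FlatMor.FlatLemmas.flat_ker d hd
  have he := hexact (n + 1) (by omega)
  rw [show n + 1 - 1 = n by omega] at he
  let d : K.X n →ₗ[A] LinearMap.ker (K.d (n + 1) (n + 1 + 1)).hom :=
    LinearMap.codRestrict _ (K.d n (n + 1)).hom fun x => he.apply_apply_eq_zero x
  have hd : Function.Bijective d := by
    refine ⟨(injective_iff_map_eq_zero d).mpr fun x hx => ?_, fun y => ?_⟩
    · obtain ⟨z, hz⟩ := (hexact n le_rfl x).mp (congrArg Subtype.val hx)
      have := ModuleCat.subsingleton_of_isZero hn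
      rw [← hz, Subsingleton.elim z 0, map_zero]
    · obtain ⟨x, hx⟩ := (he y.1).mp y.2
      exact ⟨x, Subtype.ext hx⟩
  have := hker (b - n).toNat (n + 1) (by omega) (by omega)
  exact Module.Flat.of_linearEquiv (LinearEquiv.ofBijective d hd)

variable {X : Scheme.{u}}

theorem flat_stalk_biprod {M N : X.Modules} (y : X) (hM : FlatMod.IsFlatAt M y) (hN : FlatMod.IsFlatAt N y)
    {L : X.Modules} (e : L ≅ M ⊞ N) : FlatMod.IsFlatAt L y := by
  let F := DerSch.stalkFunctor X y
  have : PreservesBinaryBiproduct M N F := preservesBinaryBiproduct_of_preservesBinaryProduct F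
  let e' := (F.mapIso e ≪≫ F.mapBiprod M N ≪≫ ModuleCat.biprodIsoProd _ _).toLinearEquiv
  have : Module.Flat (X.presheaf.stalk y) (F.obj M) := hM
  have : Module.Flat (X.presheaf.stalk y) (F.obj N) := hN
  have := FlatMor.FlatLemmas.flat_prod (R := X.presheaf.stalk y) (M := F.obj M) (N := F.obj N)
  exact Module.Flat.of_linearEquiv e'

theorem isFlat_of_isZero {M : X.Modules} (h : IsZero M) : FlatMod.IsFlat M := fun y => by
  unfold FlatMod.IsFlatAt
  have : Subsingleton (M.presheaf.stalk y) :=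
    ModuleCat.subsingleton_of_isZero ((DerSch.stalkFunctor X y).map_isZero h)
  infer_instance

theorem isFlat_of_isFinLocFree {M : X.Modules} (h : FlatMod.IsFinLocFree M) : FlatMod.IsFlat M :=
  KFlat.LocalD.flat_of_isFinLocFree h

theorem isFlat_of_iso {M N : X.Modules} (e : M ≅ N) (h : FlatMod.IsFlat M) : FlatMod.IsFlat N := fun y => by
  have : Module.Flat (X.presheaf.stalk y) ((DerSch.stalkFunctor X y).obj M) := h y
  exact Module.Flat.of_linearEquiv ((DerSch.stalkFunctor X y).mapIso e.symm).toLinearEquiv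

theorem isFlat_restrict {U : Scheme.{u}} (j : U ⟶ X) [IsOpenImmersion j] {M : X.Modules}
    (h : FlatMod.IsFlat M) : FlatMod.IsFlat (M.restrict j) :=
  isFlat_of_iso ((Scheme.Modules.restrictFunctorIsoPullback j).app M).symm
    (KFlat.Pull.flat_pull j h)

/-- A flat cokernel of a map of finite locally free modules is finite locally free. -/
theorem isFinLocFree_cokernel {A B : X.Modules} (hA : FlatMod.IsFinLocFree A) (hB : FlatMod.IsFinLocFree B)
    (f : A ⟶ B) (h : FlatMod.IsFlat (cokernel f)) : FlatMod.IsFinLocFree (cokernel f) := by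
  have : A.IsQuasicoherent := PerfTri.Betti.isQuasicoherent_of_isFinLocFree hA
  have : B.IsQuasicoherent := PerfTri.Betti.isQuasicoherent_of_isFinLocFree hB
  have : SheafOfModules.IsFinitePresentation.{u} (R := X.ringCatSheaf) A := Props.QProj.isFP A hA
  have hA' : CohB1.IsFT A := inferInstance
  have hfp := LimTop.isFP_cokernel hA'
    (Props.QProj.isFP B hB) f
  have : (cokernel f).IsQuasicoherent := QCoh.isQuasicoherent_cokernel f
  refine Props.QProj.isFinLocFree_of _ (fun x => ?_) fun x => ?_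
  · obtain ⟨U, hU, hx, -⟩ := exists_isAffineOpen_mem_and_subset (TopologicalSpace.Opens.mem_top x)
    exact ⟨U, hU, hx, (Props.QFP.isFP_iff _).mp hfp U hU⟩
  · obtain ⟨U, hU, hx, -⟩ := exists_isAffineOpen_mem_and_subset (TopologicalSpace.Opens.mem_top x)
    have := (Props.QFP.isFP_iff _).mp hfp U hU
    have := Props.QProj.finite_stalk (cokernel f) hU hx
    have : Module.Flat (X.presheaf.stalk x) ((cokernel f).presheaf.stalk x) := h x
    exact Module.free_of_flat_of_isLocalRing

/-- The truncation of a strictly perfect complex mapping to a flat complex vanishing below `a`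
by an approximation is strictly perfect and quasi-isomorphic to it. -/
theorem exists_sp_of_approx {P G : CochainComplex X.Modules ℤ} {a b : ℤ} (hP : DCoh.IsStrictlyPerfect P)
    (hv : DCoh.VanishesOutside G a b) (hfl : ∀ i, FlatMod.IsFlat (G.X i)) (γ : P ⟶ G)
    (hγ : Appr (a - 1) (DerivedCategory.Q.map γ)) :
    ∃ E : CochainComplex X.Modules ℤ, DCoh.IsStrictlyPerfect E ∧ (∀ i, i < a → IsZero (E.X i)) ∧
      Nonempty (DerivedCategory.Q.obj G ≅ DerivedCategory.Q.obj E) := by
  obtain ⟨⟨lo, hi, hvP⟩, hfP⟩ := hP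
  have hG : G.IsStrictlyGE a := (G.isStrictlyGE_iff a).mpr fun i hi => hv i (Or.inl hi)
  let ψ := CochainComplex.truncGEMap γ a
  have hq : QuasiIso ψ := (CochainComplex.quasiIso_truncGEMap_iff γ a).mpr fun i hi => by
    rw [quasiIsoAt_iff_isIso_homologyMap]
    exact ((appr_Q_iff γ).mp hγ).1 i (by omega)
  let P' := P.truncGE a
  have hP'z : ∀ i, i < a → IsZero (P'.X i) := fun i hi => P'.isZero_of_isStrictlyGE a i hi
  let G' := G.truncGE a
  have hGiso : ∀ i, G.X i ≅ G'.X i := fun i =>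
    (HomologicalComplex.eval X.Modules _ i).mapIso (asIso (G.πTruncGE a))
  have hG'fl : ∀ i, FlatMod.IsFlat (G'.X i) := fun i => isFlat_of_iso (hGiso i) (hfl i)
  have hP'fl : ∀ i, a < i → FlatMod.IsFinLocFree (P'.X i) := fun i hi =>
    KFlat.LocFree.isFinLocFree_of_iso (P.truncGEXIso a i hi).symm (hfP i)
  have hbot : FlatMod.IsFlat (P'.X a) := fun y => by
    let D := CochainComplex.mappingCone ψ
    let eX : ∀ i, D.X i ≅ P'.X (i + 1) ⊞ G'.X i := fun i =>
      HomologicalComplex.homotopyCofiber.XIsoBiprod ψ i (i + 1) rfl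
    have hD : ∀ i, D.ExactAt i := fun i => (D.exactAt_iff_isZero_homology i).mpr
      ((isZero_homology_Q D i).mp (Functor.map_isZero _
        ((Pretriangulated.Triangle.isZero₃_iff_isIso₁ _
          (DerivedCategory.mappingCone_triangle_distinguished ψ)).mpr
          (inferInstanceAs (IsIso (DerivedCategory.Q.map ψ))))))
    have hz : ∀ i, IsZero (P'.X (i + 1)) → IsZero (G'.X i) → IsZero (D.X i) := fun i h1 h2 => by
      refine IsZero.of_iso ?_ (eX i)
      exact (biprod_isZero_iff _ _).mpr ⟨h1, h2⟩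
    let S := (StalkCx.stCx y).obj D
    have := flat_bottom S (a - 1) (max b (max hi a))
      (fun i hi' => (DerSch.stalkFunctor X y).map_isZero (hz i
        ((hvP (i + 1) (Or.inr (by omega))).of_iso (P.truncGEXIso a (i + 1) (by omega)))
        ((hv i (Or.inr (by omega))).of_iso (hGiso i).symm)))
      ((DerSch.stalkFunctor X y).map_isZero (hz _ (hP'z _ (by omega))
        (G'.isZero_of_isStrictlyGE a _ (by omega))))
      (fun i _ => KFlat.SchemeTor.exactAt_stalk y (hD i))
      (fun i hi' => flat_stalk_biprod y (isFlat_of_isFinLocFree (hP'fl (i + 1) (by omega)) y)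
        (hG'fl i y) (eX i))
    have hz' : IsZero (G'.X (a - 1)) := G'.isZero_of_isStrictlyGE a _ (by omega)
    let e : D.X (a - 1) ≅ P'.X a :=
      eX (a - 1) ≪≫ (isoBiprodZero hz').symm ≪≫ eqToIso (by rw [show a - 1 + 1 = a by omega])
    have : Module.Flat (X.presheaf.stalk y) ((DerSch.stalkFunctor X y).obj (D.X (a - 1))) := this
    exact Module.Flat.of_linearEquiv ((DerSch.stalkFunctor X y).mapIso e.symm).toLinearEquiv
  let eC : cokernel (P.d (a - 1) a) ≅ P'.X a :=
    (cokernelIsCokernel _).coconePointUniqueUpToIso (P.opcyclesIsCokernel (a - 1) a (by simp)) ≪≫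
      (P.truncGEXIsoOpcycles a).symm
  have hPa : FlatMod.IsFinLocFree (P'.X a) := KFlat.LocFree.isFinLocFree_of_iso eC
    (isFinLocFree_cokernel (hfP _) (hfP _) _ (isFlat_of_iso eC.symm hbot))
  refine ⟨P', ⟨⟨a, max hi a, fun i hi' => ?_⟩, fun i => ?_⟩, hP'z, ⟨?_⟩⟩
  · rcases hi' with hi' | hi'
    · exact hP'z i hi'
    · exact (hvP i (Or.inr (by omega))).of_iso (P.truncGEXIso a i (by omega))
  · rcases lt_trichotomy i a with h | rfl | h
    · exact KFlat.LocFree.isFinLocFree_of_iso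
        (((HomologicalComplex.eval X.Modules _ i).map_isZero (isZero_zero _)).iso (hP'z i h))
        (isStrictlyPerfect_zero.2 i)
    · exact hPa
    · exact hP'fl i h
  · exact DerivedCategory.Q.mapIso (asIso (G.πTruncGE a)) ≪≫
      (asIso (DerivedCategory.Q.map ψ)).symm

theorem isSP_of_approx {P G : CochainComplex X.Modules ℤ} {a b : ℤ} (hP : DCoh.IsStrictlyPerfect P)
    (hv : DCoh.VanishesOutside G a b) (hfl : ∀ i, FlatMod.IsFlat (G.X i)) (γ : P ⟶ G)
    (hγ : Appr (a - 1) (DerivedCategory.Q.map γ)) :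
    PerfTri.Perfect.IsSP (DerivedCategory.Q.obj G) := by
  obtain ⟨E, hE, -, he⟩ := exists_sp_of_approx hP hv hfl γ hγ
  exact ⟨E, hE, he⟩

/-- An `(a-1)`-pseudo-coherent object of flat amplitude in `[a, b]` is locally strictly perfect,
vanishing below `a`. -/
theorem exists_sp {K : DCoh.D X} {a b : ℤ} (h1 : DCoh.HasFlatAmplitudeIn a b K)
    (h2 : DCoh.IsPseudoCoherentD (a - 1) K) (x : X) :
    ∃ (U : Scheme.{u}) (j : U ⟶ X) (_ : IsOpenImmersion j), x ∈ Set.range j ∧
      ∃ E : CochainComplex U.Modules ℤ, DCoh.IsStrictlyPerfect E ∧ (∀ i, i < a → IsZero (E.X i)) ∧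
        Nonempty ((DCoh.restrictD j).obj K ≅ DerivedCategory.Q.obj E) := by
  obtain ⟨G, hv, hfl, ⟨e⟩⟩ := h1
  obtain ⟨U, j, hj, ⟨u, rfl⟩, P, α, hP, hα⟩ := (pc_iff K).mp h2 x
  let G₁ := (resC j).obj G
  let α₁ : DerivedCategory.Q.obj P ⟶ DerivedCategory.Q.obj G₁ :=
    α ≫ (DCoh.restrictD j).map e.inv ≫ (Perfect.restrQ j G).hom
  have hα₁ : Appr (a - 1) α₁ := hα.comp ((appr_of_isIso _ _).comp (appr_of_isIso _ _))
  obtain ⟨G₂, b₂, s, hs, hbs⟩ := DerivedCategory.left_fac α₁
  have hqs : QuasiIso s := (DerivedCategory.isIso_Q_map_iff_quasiIso _ s).mp hs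
  obtain ⟨⟨lo, hi, hvP⟩, -⟩ := id hP
  obtain ⟨V, β, huV, ⟨H⟩⟩ := PerfTri.Cone.exists_lift b₂ s hP lo (fun j hj => hvP j (Or.inl hj))
    (fun j _ => inferInstance) inferInstance u
  let R := DCoh.restrictD V.ι
  let E₁ := (resC V.ι).obj G₁
  have hnat : ∀ {A B : CochainComplex U.Modules ℤ} (f : A ⟶ B),
      DerivedCategory.Q.map ((DCoh.restrictCx V).map f) =
        (Perfect.restrQ V.ι A).inv ≫ R.map (DerivedCategory.Q.map f) ≫ (Perfect.restrQ V.ι B).hom :=
    fun f => by
      rw [Iso.eq_inv_comp]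
      exact ((Scheme.Modules.restrictFunctor V.ι).mapDerivedCategoryFactors.hom.naturality f).symm
  have hβ : DerivedCategory.Q.map β =
      (Perfect.restrQ V.ι P).inv ≫ R.map α₁ ≫ (Perfect.restrQ V.ι G₁).hom := by
    have h := DerivedCategory.Q_map_eq_of_homotopy _ H
    have : IsIso (DerivedCategory.Q.map ((DCoh.restrictCx V).map s)) := by rw [hnat]; infer_instance
    rw [← cancel_mono (DerivedCategory.Q.map ((DCoh.restrictCx V).map s)), ← Functor.map_comp, h, hnat,
      hnat, hbs]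
    simp
  obtain ⟨E, hE, hEv, ⟨e'⟩⟩ := exists_sp_of_approx (P := (resC V.ι).obj P) (G := E₁) (a := a) (b := b)
    (isStrictlyPerfect_resC V.ι hP)
    (fun i hi => (Scheme.Modules.restrictFunctor V.ι).map_isZero
      ((Scheme.Modules.restrictFunctor j).map_isZero (hv i hi)))
    (fun i => isFlat_restrict V.ι (isFlat_restrict j (hfl i))) β
    (hβ ▸ (appr_of_isIso _ _).comp
      ((KFlat.TildePC.Appr.map (Scheme.Modules.restrictFunctor V.ι) hα₁).comp (appr_of_isIso _ _)))
  exact ⟨V, V.ι ≫ j, inferInstance, ⟨⟨u, huV⟩, rfl⟩, E, hE, hEv,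
    ⟨(Perfect.restrComp V.ι j _ rfl K).symm ≪≫
      R.mapIso ((DCoh.restrictD j).mapIso e.symm ≪≫ Perfect.restrQ j G) ≪≫
      Perfect.restrQ V.ι G₁ ≪≫ e'⟩⟩

/-- An `(a-1)`-pseudo-coherent object of flat amplitude in `[a, b]` is perfect. -/
theorem isPerfect_of_flatAmp {K : DCoh.D X} {a b : ℤ} (h1 : DCoh.HasFlatAmplitudeIn a b K)
    (h2 : DCoh.IsPseudoCoherentD (a - 1) K) : DCoh.IsPerfect K :=
  (PerfTri.Perfect.near_iff K).mpr fun x => by
    obtain ⟨U, j, hj, hx, E, hE, -, he⟩ := exists_sp h1 h2 x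
    exact ⟨U, j, hj, hx, E, hE, he⟩

/-- Perfectness is local. -/
theorem isPerfect_of_local {K : DCoh.D X} (h : ∀ x : X, ∃ (U : Scheme.{u}) (j : U ⟶ X)
    (_ : IsOpenImmersion j), x ∈ Set.range j ∧ DCoh.IsPerfect ((DCoh.restrictD j).obj K)) :
    DCoh.IsPerfect K :=
  (PerfTri.Perfect.near_iff K).mpr fun x => by
    obtain ⟨U, j, hj, ⟨u, rfl⟩, hU⟩ := h x
    obtain ⟨V, k, hk, ⟨v, rfl⟩, hV⟩ := (PerfTri.Perfect.near_iff _).mp hU u
    exact ⟨V, k ≫ j, inferInstance, ⟨v, by simp⟩,
      PerfTri.Perfect.isSP_of_iso (Perfect.restrComp k j (k ≫ j) rfl K) hV⟩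

theorem flatAmp_of_iso {K L : DCoh.D X} {a b : ℤ} (e : K ≅ L) (h : DCoh.HasFlatAmplitudeIn a b K) :
    DCoh.HasFlatAmplitudeIn a b L := by
  obtain ⟨E, h1, h2, ⟨e'⟩⟩ := h
  exact ⟨E, h1, h2, ⟨e' ≪≫ e⟩⟩

/-- A strictly perfect complex has flat amplitude in some interval `[a, b]` with `a ≤ b`. -/
theorem exists_flatAmp {E : CochainComplex X.Modules ℤ} (hE : DCoh.IsStrictlyPerfect E)
    {K : DCoh.D X} (e : DerivedCategory.Q.obj E ≅ K) :
    ∃ a b : ℤ, a ≤ b ∧ DCoh.HasFlatAmplitudeIn a b K := by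
  obtain ⟨⟨a, b, hv⟩, hf⟩ := hE
  exact ⟨a, max a b, le_max_left a b, E, fun i hi => hv i (by omega),
    fun i => isFlat_of_isFinLocFree (hf i), ⟨e⟩⟩

theorem isPerfect_iff (K : DCoh.D X) :
    DCoh.IsPerfect K ↔ (∀ m, DCoh.IsPseudoCoherentD m K) ∧ DCoh.LocHasFiniteTorDim K := by
  constructor
  · refine fun h => ⟨pc_of_perfect h, fun x => ?_⟩
    obtain ⟨V, hx, hV⟩ := h x
    obtain ⟨E, hE, ⟨e⟩⟩ := hV _ ⟨DerivedCategory.Q.objObjPreimageIso K⟩
    obtain ⟨a, b, -, hab⟩ := exists_flatAmp hE e.symm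
    refine ⟨V, a, b, hx, fun F' ⟨eF⟩ => flatAmp_of_iso ?_ hab⟩
    exact (Perfect.restrQ V.ι _).symm ≪≫ (DCoh.restrictD V.ι).mapIso
      (DerivedCategory.Q.objObjPreimageIso K ≪≫ eF.symm) ≪≫ Perfect.restrQ V.ι F'
  · rintro ⟨hpc, htd⟩
    refine isPerfect_of_local fun x => ?_
    obtain ⟨V, a, b, hx, hV⟩ := htd x
    exact ⟨V, V.ι, inferInstance, ⟨⟨x, hx⟩, rfl⟩, isPerfect_of_flatAmp
      (flatAmp_of_iso ((Perfect.restrQ V.ι _).symm ≪≫
          (DCoh.restrictD V.ι).mapIso (DerivedCategory.Q.objObjPreimageIso K))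
        (hV _ ⟨DerivedCategory.Q.objObjPreimageIso K⟩))
      (pc_restrict V.ι (hpc (a - 1)))⟩

end Groth.Agent.PCohD.PerfTor
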