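import Groth.Agent.PCohD.FTFP
import Groth.Agent.PCohD.PerfTor
import Groth.Agent.AssSch.Restrict
import Groth.Agent.Props.QFP

/-!
# The locus where all cohomology sheaves of a pseudo-coherent object are locally free
-/

set_option autoImplicit false

universe u

open CategoryTheory Limits AlgebraicGeometry TopologicalSpace Pretriangulated
open Groth.Agent.PerfTri (Perfect.restrQ Perfect.restrComp)
attribute [local instance] HasDerivedCategory.standard
attribute [local instance] RingHomInvPair.of_ringEquiv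

noncomputable section

namespace Groth.Agent.PCohD.FreeLocus

variable {X : Scheme.{u}}

/-- The stalk is finite free. -/
def FF (M : X.Modules) (x : X) : Prop :=
  Module.Free (X.presheaf.stalk x) (M.presheaf.stalk x) ∧
    Module.Finite (X.presheaf.stalk x) (M.presheaf.stalk x)

theorem ff_of_iso {M N : X.Modules} (e : M ≅ N) {x : X} (h : FF M x) : FF N x := by
  obtain ⟨h₁, h₂⟩ := h
  let l : M.presheaf.stalk x ≃ₗ[X.presheaf.stalk x] N.presheaf.stalk x :=
    ((DerSch.stalkFunctor X x).mapIso e).toLinearEquiv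
  exact ⟨Module.Free.of_equiv l, Module.Finite.equiv l⟩

theorem ff_restrict_iff {U : Scheme.{u}} (j : U ⟶ X) [IsOpenImmersion j] (M : X.Modules) (y : U) :
    FF (M.restrict j) y ↔ FF M (j y) := by
  let σ := (asIso (j.stalkMap y)).commRingCatIsoToRingEquiv
  let g₀ : M.presheaf.stalk (j y) →ₛₗ[(σ : X.presheaf.stalk (j y) →+* U.presheaf.stalk y)]
      ((Scheme.Modules.pullback j).obj M).presheaf.stalk y :=
    { toFun := AssSch.Restrict.stalkEquivHom j M y
      map_add' := map_add _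
      map_smul' := fun r m => (AssSch.Restrict.stalkEquivHom j M y).map_smulₛₗ r m }
  let e' := LinearEquiv.ofBijective g₀ (AssSch.Restrict.bijective_unitStalkHom j M y)
  let e := (Scheme.Modules.restrictFunctorIsoPullback j).app M
  constructor
  · intro h
    obtain ⟨h₁, h₂⟩ := ff_of_iso e h
    exact ⟨(Module.Free.iff_of_equiv e').mpr h₁, Module.Finite.of_surjective e'.symm.toLinearMap e'.symm.surjective⟩
  · rintro ⟨h₁, h₂⟩
    exact ff_of_iso e.symm
      ⟨(Module.Free.iff_of_equiv e').mp h₁, Module.Finite.of_surjective e'.toLinearMap e'.surjective⟩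

theorem ff_of_isFinLocFree {M : X.Modules} (h : FlatMod.IsFinLocFree M) (x : X) : FF M x := by
  have : M.IsQuasicoherent := PerfTri.Betti.isQuasicoherent_of_isFinLocFree h
  exact Props.QProj.free_stalk M h x

theorem isFinLocFree_restrict {U : Scheme.{u}} (j : U ⟶ X) [IsOpenImmersion j] {M : X.Modules}
    (h : FlatMod.IsFinLocFree M) : FlatMod.IsFinLocFree (M.restrict j) :=
  KFlat.LocFree.isFinLocFree_of_iso ((Scheme.Modules.restrictFunctorIsoPullback j).app _).symm
    (KFlat.LocFree.isFinLocFree_pull j h)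

theorem pc_inD_of_isFinLocFree {M : X.Modules} (h : FlatMod.IsFinLocFree M) (m : ℤ) :
    DCoh.IsPseudoCoherentD m (DCoh.inD X M) :=
  pc_of_isAp ⟨_, ((DerivedCategory.singleFunctorIsoCompQ X.Modules 0).app M).inv,
    isStrictlyPerfect_single 0 h, KFlat.TildePC.appr_of_isIso m _⟩

/-- Near a point where all cohomology stalks are finite free, all cohomology sheaves are finite
locally free. -/
theorem exists_nhd (k : ℕ) : ∀ {Y : Scheme.{u}} (K : DCoh.D Y) (b : ℤ),
    (∀ m, DCoh.IsPseudoCoherentD m K) → (∀ i, b < i → IsZero (DCoh.HD K i)) →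
    (∀ i, i ≤ b - k → IsZero (DCoh.HD K i)) → ∀ x : Y, (∀ i, FF (DCoh.HD K i) x) →
    ∃ V : Y.Opens, x ∈ V ∧ ∀ i, FlatMod.IsFinLocFree ((DCoh.HD K i).restrict V.ι) := by
  induction k with
  | zero =>
    intro Y K b _ hhi hlo x _
    refine ⟨⊤, trivial, fun i => fun y => ⟨⊤, 0, trivial, ⟨?_⟩⟩⟩
    have hz : IsZero (DCoh.HD K i) := by
      by_cases h : b < i
      · exact hhi i h
      · exact hlo i (by omega)
    exact ((Scheme.Modules.restrictFunctor _).map_isZero
      ((Scheme.Modules.restrictFunctor _).map_isZero hz)).iso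
      ((IsZero.iff_id_eq_zero _).mpr (Sigma.hom_ext _ _ fun i => Fin.elim0 i))
  | succ k ih =>
    intro Y K b hpc hhi hlo x hx
    let F := DCoh.HD K b
    have hFP : CohB1.IsFP F := by
      have := FTFP.pc_top_succ (m := b - 1) (hpc _) (by simpa using hhi)
      rw [show b - 1 + 1 = b by omega] at this
      exact (FTFP.pc_neg_one_iff _).mp this
    have : SheafOfModules.IsFinitePresentation.{u} (R := Y.ringCatSheaf) F := hFP
    have : F.IsQuasicoherent := inferInstance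
    obtain ⟨U, hU, hxU, -⟩ := exists_isAffineOpen_mem_and_subset (Opens.mem_top x)
    obtain ⟨V, n, hxV, ⟨e⟩⟩ := Props.QProj.exists_free_nhd F hU hxU
      ((Props.QFP.isFP_iff _).mp hFP U hU) (hx b).1
    let K₁ := (DCoh.restrictD V.ι).obj K
    have hhi₁ : ∀ i, b < i → IsZero (DCoh.HD K₁ i) := fun i hi => FTFP.isZero_restr V.ι (hhi i hi)
    have hlo₁ : ∀ i, i ≤ b - (k + 1 : ℕ) → IsZero (DCoh.HD K₁ i) := fun i hi =>
      FTFP.isZero_restr V.ι (hlo i hi)
    obtain ⟨A, B, hA, hB, f, g, δ, hT⟩ :=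
      DerivedCategory.TStructure.t.exists_triangle K₁ (b - 1) b (by omega)
    have hAz : ∀ i, b - 1 < i → IsZero (DCoh.HD A i) := fun i hi =>
      @DerivedCategory.isZero_of_isLE _ _ _ _ A (b - 1) i hi ⟨hA⟩
    have hBz : ∀ i, i < b → IsZero (DCoh.HD B i) := fun i hi =>
      @DerivedCategory.isZero_of_isGE _ _ _ _ B b i hi ⟨hB⟩
    let H := DerivedCategory.homologyFunctor (V : Scheme.{u}).Modules
    have hg : ∀ i, b ≤ i → IsIso ((H i).map g) := fun i hi => by
      have h2 := DerivedCategory.HomologySequence.exact₂ _ hT i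
      have h3 := DerivedCategory.HomologySequence.exact₃ _ hT i (i + 1) rfl
      have : Mono ((H i).map g) := h2.mono_g ((hAz i (by omega)).eq_of_src _ _)
      have : Epi ((H i).map g) := h3.epi_f ((hAz (i + 1) (by omega)).eq_of_tgt _ _)
      exact isIso_of_mono_of_epi _
    have hf : ∀ i, i < b → IsIso ((H i).map f) := fun i hi => by
      have h1 := DerivedCategory.HomologySequence.exact₁ _ hT (i - 1) i (by omega)
      have h2 := DerivedCategory.HomologySequence.exact₂ _ hT i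
      have : Mono ((H i).map f) := h1.mono_g ((hBz (i - 1) (by omega)).eq_of_src _ _)
      have : Epi ((H i).map f) := h2.epi_f ((hBz i hi).eq_of_tgt _ _)
      exact isIso_of_mono_of_epi _
    have : B.IsGE b := ⟨hB⟩
    have : B.IsLE b := (DerivedCategory.isLE_iff B b).mpr fun i hi => by
      have := hg i hi.le
      exact (hhi₁ i hi).of_iso (asIso ((H i).map g)).symm
    obtain ⟨M, ⟨eB⟩⟩ := DerivedCategory.exists_iso_singleFunctor_obj_of_isGE_of_isLE B b
    let e₀ := ((DerivedCategory.singleFunctors (V : Scheme.{u}).Modules).shiftIso b 0 b (add_zero _)).app M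
    have hM : FlatMod.IsFinLocFree M := by
      have := hg b le_rfl
      let eM : M ≅ F.restrict V.ι :=
        (FTFP.hInD M).symm ≪≫ (H 0).mapIso e₀.symm ≪≫ ((H 0).shiftIso b 0 b (add_zero _)).app _ ≪≫
          (H b).mapIso eB.symm ≪≫ (asIso ((H b).map g)).symm ≪≫ FTFP.hRestr V.ι K b
      exact fun y => ⟨⊤, n, trivial,
        ⟨(Scheme.Modules.restrictFunctor _).mapIso (eM ≪≫ e) ≪≫ FTFP.restrFree _ n⟩⟩
    have hBpc : ∀ m, DCoh.IsPseudoCoherentD m B := fun m => by
      refine pc_of_iso eB.symm ((pc_shift_iff b).mp (pc_of_iso e₀.symm ?_))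
      exact pc_inD_of_isFinLocFree hM (m - b)
    have hApc : ∀ m, DCoh.IsPseudoCoherentD m A := fun m => by
      rw [show m = m - 1 + 1 by omega]
      exact pc₁ (Triangle.mk f g δ) hT (pc_restrict V.ι (hpc _)) (hBpc _)
    have hAlo : ∀ i, i ≤ b - 1 - (k : ℤ) → IsZero (DCoh.HD A i) := fun i hi => by
      have := hf i (by omega)
      exact (hlo₁ i (by push_cast; omega)).of_iso (asIso ((H i).map f))
    have hAx : ∀ i, FF (DCoh.HD A i) (⟨x, hxV⟩ : (V : Scheme.{u})) := fun i => by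
      by_cases hi : i < b
      · have := hf i hi
        exact ff_of_iso ((FTFP.hRestr V.ι K i).symm ≪≫ (asIso ((H i).map f)).symm)
          ((ff_restrict_iff V.ι _ _).mpr (hx i))
      · refine ff_of_isFinLocFree (fun y => ⟨⊤, 0, trivial, ⟨?_⟩⟩) _
        exact ((Scheme.Modules.restrictFunctor _).map_isZero (hAz i (by omega))).iso
          ((IsZero.iff_id_eq_zero _).mpr (Sigma.hom_ext _ _ fun i => Fin.elim0 i))
    obtain ⟨W, hxW, hW⟩ := ih A (b - 1) hApc hAz hAlo ⟨x, hxV⟩ hAx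
    let l := (W.ι ≫ V.ι).isoOpensRange.inv ≫ W.ι
    refine ⟨(W.ι ≫ V.ι).opensRange, ⟨⟨⟨x, hxV⟩, hxW⟩, rfl⟩, fun i => ?_⟩
    refine KFlat.LocFree.isFinLocFree_of_iso
      (FTFP.restrTwice l V.ι _ (by simp [l]) (DCoh.HD K i)) ?_
    rcases lt_trichotomy i b with hi | rfl | hi
    · have := hf i hi
      refine KFlat.LocFree.isFinLocFree_of_iso
        ((Scheme.Modules.restrictFunctor l).mapIso (asIso ((H i).map f) ≪≫ FTFP.hRestr V.ι K i)) ?_
      exact KFlat.LocFree.isFinLocFree_of_iso (FTFP.restrTwice _ W.ι l rfl _)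
        (isFinLocFree_restrict _ (hW i))
    · exact isFinLocFree_restrict l
        (fun y => ⟨⊤, n, trivial, ⟨(Scheme.Modules.restrictFunctor _).mapIso e ≪≫ FTFP.restrFree _ n⟩⟩)
    · exact isFinLocFree_restrict l fun y => ⟨⊤, 0, trivial,
        ⟨((Scheme.Modules.restrictFunctor _).map_isZero
          ((Scheme.Modules.restrictFunctor V.ι).map_isZero (hhi i hi))).iso
          ((IsZero.iff_id_eq_zero _).mpr (Sigma.hom_ext _ _ fun i => Fin.elim0 i))⟩⟩

/-- The locus of finite free cohomology of a perfect object. -/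
theorem locus {E : DCoh.D X} (hE : DCoh.IsPerfect E) :
    ∃ U : X.Opens, (U : Set X) = {x : X | ∀ i, FF (DCoh.HD E i) x} ∧
      (∀ i, FlatMod.IsFinLocFree ((DCoh.HD E i).restrict U.ι)) ∧
      ∀ W : X.Opens, (∀ i, FlatMod.IsFinLocFree ((DCoh.HD E i).restrict W.ι)) → W ≤ U := by
  have back : ∀ (W : X.Opens), (∀ i, FlatMod.IsFinLocFree ((DCoh.HD E i).restrict W.ι)) →
      ∀ y ∈ W, ∀ i, FF (DCoh.HD E i) y := fun W hW y hy i =>
    (ff_restrict_iff W.ι _ ⟨y, hy⟩).mp (ff_of_isFinLocFree (hW i) _)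
  have loc : ∀ x : X, (∀ i, FF (DCoh.HD E i) x) →
      ∃ V : X.Opens, x ∈ V ∧ ∀ i, FlatMod.IsFinLocFree ((DCoh.HD E i).restrict V.ι) := by
    intro x hx
    obtain ⟨U, j, hj, ⟨u, rfl⟩, E₀, hE₀, ⟨e⟩⟩ := (PerfTri.Perfect.near_iff E).mp hE x
    obtain ⟨⟨a, b, hv⟩, -⟩ := hE₀
    let E' := (DCoh.restrictD j).obj E
    have hz : ∀ i, i < a ∨ b < i → IsZero (DCoh.HD E' i) := fun i hi =>
      ((isZero_homology_Q E₀ i).mpr (ShortComplex.isZero_homology_of_isZero_X₂ _ (hv i hi))).of_iso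
        ((DerivedCategory.homologyFunctor _ i).mapIso e)
    obtain ⟨V, huV, hV⟩ := exists_nhd (b - (a - 1)).toNat E' b
      (fun m => pc_restrict j (pc_of_perfect hE m)) (fun i hi => hz i (Or.inr hi))
      (fun i hi => hz i (by omega)) u
      (fun i => ff_of_iso (FTFP.hRestr j E i).symm ((ff_restrict_iff j _ _).mpr (hx i)))
    let l := (V.ι ≫ j).isoOpensRange.inv ≫ V.ι
    exact ⟨(V.ι ≫ j).opensRange, ⟨⟨u, huV⟩, rfl⟩, fun i => KFlat.LocFree.isFinLocFree_of_iso
      (FTFP.restrTwice _ V.ι l rfl _ ≪≫ (Scheme.Modules.restrictFunctor l).mapIso (FTFP.hRestr j E i) ≪≫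
        FTFP.restrTwice l j _ (by simp [l]) _) (isFinLocFree_restrict _ (hV i))⟩
  let U : X.Opens := ⟨{x : X | ∀ i, FF (DCoh.HD E i) x}, isOpen_iff_forall_mem_open.mpr fun x hx => by
    obtain ⟨V, hxV, hV⟩ := loc x hx
    exact ⟨V, fun y hy => back V hV y hy, V.2, hxV⟩⟩
  refine ⟨U, rfl, fun i y => ?_, fun W hW y hy => back W hW y hy⟩
  obtain ⟨V, hyV, hV⟩ := loc (U.ι y) y.2
  obtain ⟨T, n, hT, ⟨e⟩⟩ := hV i ⟨U.ι y, hyV⟩
  let W : (U : Scheme.{u}).Opens := U.ι ⁻¹ᵁ (T.ι ≫ V.ι).opensRange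
  let l := IsOpenImmersion.lift (T.ι ≫ V.ι) (W.ι ≫ U.ι) (by rintro _ ⟨z, rfl⟩; exact z.2)
  have : IsOpenImmersion (l ≫ T.ι ≫ V.ι) := by rw [IsOpenImmersion.lift_fac]; infer_instance
  have : IsOpenImmersion l := IsOpenImmersion.of_comp l (T.ι ≫ V.ι)
  exact ⟨W, n, ⟨⟨_, hT⟩, rfl⟩, ⟨FTFP.restrTwice W.ι U.ι _ rfl _ ≪≫
    (FTFP.restrTwice l (T.ι ≫ V.ι) _ (IsOpenImmersion.lift_fac _ _ _) _).symm ≪≫
    (Scheme.Modules.restrictFunctor l).mapIso ((FTFP.restrTwice T.ι V.ι _ rfl _).symm ≪≫ e) ≪≫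
    FTFP.restrFree l n⟩⟩

end Groth.Agent.PCohD.FreeLocus
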