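import Groth.Agent.KFlat.TildeD
import Groth.Agent.KFlat.TildeExact
import Groth.Agent.PerfTri.Perfect
import Groth.Agent.PerfTri.Betti
import Groth.Agent.S12451
import Mathlib.Algebra.Homology.DerivedCategory.KProjective
import Mathlib.Algebra.Homology.DerivedCategory.ExactFunctor

/-!
# On an affine scheme, maps out of a bounded above complex of finite locally free modules into a
complex of quasi-coherent modules are the same in the homotopy and the derived category
-/

set_option autoImplicit false

universe w w' v v' u u'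

open CategoryTheory Limits AlgebraicGeometry
open scoped ZeroObject
attribute [local instance] HasDerivedCategory.standard

noncomputable section

namespace Groth.Agent.PCohD.AffineKD

section Abstract

variable {A : Type u} [Category.{v} A] [Abelian A] [HasDerivedCategory.{w} A]
  {B : Type u'} [Category.{v'} B] [Abelian B] [HasDerivedCategory.{w'} B]

/-- Homotopy classes and derived morphisms agree. -/
def KD (E F : CochainComplex A ℤ) : Prop :=
  Function.Bijective (fun φ : (HomotopyCategory.quotient A (ComplexShape.up ℤ)).obj E ⟶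
      (HomotopyCategory.quotient A (ComplexShape.up ℤ)).obj F => DerivedCategory.Qh.map φ)

theorem kd_iff (E F : CochainComplex A ℤ) :
    KD E F ↔ (∀ f g : E ⟶ F, DerivedCategory.Q.map f = DerivedCategory.Q.map g → Nonempty (Homotopy f g)) ∧
      Function.Surjective (fun f : E ⟶ F => DerivedCategory.Q.map f) := by
  have key : ∀ f : E ⟶ F, DerivedCategory.Qh.map ((HomotopyCategory.quotient A (ComplexShape.up ℤ)).map f) =
      (DerivedCategory.quotientCompQhIso A).hom.app E ≫ DerivedCategory.Q.map f ≫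
        (DerivedCategory.quotientCompQhIso A).inv.app F := fun f => by
    rw [← Category.assoc, ← NatTrans.naturality, Category.assoc, Iso.hom_inv_id_app, Category.comp_id]
    rfl
  constructor
  · intro h
    refine ⟨fun f g hfg => ⟨HomotopyCategory.homotopyOfEq _ _ (h.1 ?_)⟩, fun α => ?_⟩
    · simp only [key, hfg]
    · obtain ⟨φ, hφ⟩ := h.2 ((DerivedCategory.quotientCompQhIso A).hom.app E ≫ α ≫
        (DerivedCategory.quotientCompQhIso A).inv.app F)
      obtain ⟨f, rfl⟩ := (HomotopyCategory.quotient A (ComplexShape.up ℤ)).map_surjective φ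
      refine ⟨f, ?_⟩
      simp only [key] at hφ
      exact (cancel_mono _).1 ((cancel_epi _).1 hφ)
  · rintro ⟨h₁, h₂⟩
    refine ⟨fun φ ψ h => ?_, fun β => ?_⟩
    · obtain ⟨f, rfl⟩ := (HomotopyCategory.quotient A (ComplexShape.up ℤ)).map_surjective φ
      obtain ⟨g, rfl⟩ := (HomotopyCategory.quotient A (ComplexShape.up ℤ)).map_surjective ψ
      simp only [key] at h
      exact HomotopyCategory.eq_of_homotopy _ _ (h₁ f g ((cancel_mono _).1 ((cancel_epi _).1 h))).some
    · obtain ⟨f, hf⟩ := h₂ ((DerivedCategory.quotientCompQhIso A).inv.app E ≫ β ≫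
        (DerivedCategory.quotientCompQhIso A).hom.app F)
      refine ⟨(HomotopyCategory.quotient A (ComplexShape.up ℤ)).map f, ?_⟩
      simp only at hf ⊢
      rw [key, hf]
      simp

theorem kd_of_iso {E E' F F' : CochainComplex A ℤ} (e : E ≅ E') (e' : F ≅ F') (h : KD E F) : KD E' F' := by
  rw [kd_iff] at h ⊢
  refine ⟨fun f g hfg => ?_, fun α => ?_⟩
  · obtain ⟨H⟩ := h.1 (e.hom ≫ f ≫ e'.inv) (e.hom ≫ g ≫ e'.inv) (by simp only [Functor.map_comp, hfg])
    exact ⟨(Homotopy.ofEq (by simp)).trans (((H.compLeft e.inv).compRight e'.hom).trans (Homotopy.ofEq (by simp)))⟩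
  · obtain ⟨f, hf⟩ := h.2 (DerivedCategory.Q.map e.hom ≫ α ≫ DerivedCategory.Q.map e'.inv)
    refine ⟨e.inv ≫ f ≫ e'.hom, ?_⟩
    simp only at hf ⊢
    simp only [Functor.map_comp, hf, Category.assoc, ← Functor.map_comp_assoc, Iso.inv_hom_id,
      CategoryTheory.Functor.map_id, Category.id_comp]
    rw [← Functor.map_comp, Iso.inv_hom_id, CategoryTheory.Functor.map_id, Category.comp_id]

theorem kd_map (G : A ⥤ B) [G.Additive] [PreservesFiniteLimits G] [PreservesFiniteColimits G]
    [G.Full] [G.Faithful] (hfull : G.mapDerivedCategory.Full) (hfaith : G.mapDerivedCategory.Faithful)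
    {E F : CochainComplex A ℤ} (h : KD E F) :
    KD ((G.mapHomologicalComplex (ComplexShape.up ℤ)).obj E) ((G.mapHomologicalComplex (ComplexShape.up ℤ)).obj F) := by
  rw [kd_iff] at h ⊢
  let GC := G.mapHomologicalComplex (ComplexShape.up ℤ)
  let φ := G.mapDerivedCategoryFactors
  have nat : ∀ f : E ⟶ F, DerivedCategory.Q.map (GC.map f) =
      φ.inv.app E ≫ G.mapDerivedCategory.map (DerivedCategory.Q.map f) ≫ φ.hom.app F := fun f => by
    exact ((congrArg (φ.inv.app E ≫ ·) (φ.hom.naturality f)).trans (Iso.inv_hom_id_app_assoc φ E _)).symm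
  refine ⟨fun f g hfg => ?_, fun α => ?_⟩
  · obtain ⟨f₀, rfl⟩ := GC.map_surjective f
    obtain ⟨g₀, rfl⟩ := GC.map_surjective g
    rw [nat, nat] at hfg
    obtain ⟨H⟩ := h.1 f₀ g₀ (G.mapDerivedCategory.map_injective ((cancel_mono _).1 ((cancel_epi _).1 hfg)))
    exact ⟨G.mapHomotopy H⟩
  · obtain ⟨β, hβ⟩ := G.mapDerivedCategory.map_surjective (φ.hom.app E ≫ α ≫ φ.inv.app F)
    obtain ⟨f, hf⟩ := h.2 β
    refine ⟨GC.map f, ?_⟩
    simp only at hf ⊢
    rw [nat, hf, hβ]
    simp

variable (F : A ⥤ B) (G : B ⥤ A) [F.Additive] [PreservesFiniteLimits F] [PreservesFiniteColimits F]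
  [G.Additive] [PreservesFiniteLimits G] [PreservesFiniteColimits G]

/-- Composable exact functors inverse to each other, on derived categories. -/
def mapDerivedCompIso (a : F ⋙ G ≅ 𝟭 A) :
    F.mapDerivedCategory ⋙ G.mapDerivedCategory ≅ 𝟭 (DerivedCategory A) :=
  let Q : CochainComplex A ℤ ⥤ DerivedCategory A := DerivedCategory.Q
  let W := HomologicalComplex.quasiIso A (ComplexShape.up ℤ)
  let c : F.mapHomologicalComplex (ComplexShape.up ℤ) ⋙ G.mapHomologicalComplex (ComplexShape.up ℤ) ≅ 𝟭 _ :=
    NatIso.ofComponents (fun P => HomologicalComplex.Hom.isoOfComponents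
      (fun n => a.app (P.X n)) (fun i j _ => (a.hom.naturality (P.d i j)).symm))
      (fun {P P'} f => by
        ext n
        exact a.hom.naturality (f.f n))
  let e : Q ⋙ F.mapDerivedCategory ⋙ G.mapDerivedCategory ≅ Q :=
    Functor.isoWhiskerRight F.mapDerivedCategoryFactors G.mapDerivedCategory ≪≫
      Functor.isoWhiskerLeft (F.mapHomologicalComplex _) G.mapDerivedCategoryFactors ≪≫
      Functor.isoWhiskerRight c Q
  letI : Localization.Lifting Q W (Q ⋙ F.mapDerivedCategory ⋙ G.mapDerivedCategory)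
    (F.mapDerivedCategory ⋙ G.mapDerivedCategory) := ⟨Iso.refl _⟩
  letI : Localization.Lifting Q W Q (𝟭 _) := ⟨Functor.rightUnitor _⟩
  Localization.liftNatIso Q W (Q ⋙ F.mapDerivedCategory ⋙ G.mapDerivedCategory) Q _ _ e

theorem isEquivalence_mapDerived (a : F ⋙ G ≅ 𝟭 A) (b : G ⋙ F ≅ 𝟭 B) :
    F.mapDerivedCategory.IsEquivalence :=
  (CategoryTheory.Equivalence.mk F.mapDerivedCategory G.mapDerivedCategory
    (mapDerivedCompIso F G a).symm (mapDerivedCompIso G F b)).isEquivalence_functor

end Abstract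

section Affine

variable {R : CommRingCat.{u}}

instance additive_moduleSpecΓFunctor : (moduleSpecΓFunctor (R := R)).Additive :=
  (tilde.adjunction (R := R)).right_adjoint_additive

/-- A complex of quasi-coherent modules on `Spec R` comes from its global sections. -/
def tildeCxIso (F : CochainComplex (Spec R).Modules ℤ) (hF : ∀ i, (F.X i).IsQuasicoherent) :
    ((tilde.functor R).mapHomologicalComplex (ComplexShape.up ℤ)).obj
      (((moduleSpecΓFunctor (R := R)).mapHomologicalComplex (ComplexShape.up ℤ)).obj F) ≅ F :=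
  HomologicalComplex.Hom.isoOfComponents
    (fun i => @asIso _ _ _ _ ((tilde.adjunction (R := R)).counit.app (F.X i))
      (have := hF i; Scheme.Modules.isIso_fromTildeΓ_of_isQuasicoherent (F.X i)))
    (fun i j _ => ((tilde.adjunction (R := R)).counit.naturality (F.d i j)).symm)

/-- The statement on `Spec R`. -/
theorem kd_spec (E F : CochainComplex (Spec R).Modules ℤ) (b : ℤ) (hEb : ∀ i, b < i → IsZero (E.X i))
    (hE : ∀ i, FlatMod.IsFinLocFree (E.X i)) (hF : ∀ i, (F.X i).IsQuasicoherent) : KD E F := by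
  have : PreservesFiniteLimits (tilde.functor R) := KFlat.TildeExact.preservesFiniteLimits_tilde R
  let Γ' := (moduleSpecΓFunctor (R := R))
  have hEq : ∀ i, (E.X i).IsQuasicoherent := fun i => PerfTri.Betti.isQuasicoherent_of_isFinLocFree (hE i)
  let P : CochainComplex (ModuleCat.{u} R) ℤ := (Γ'.mapHomologicalComplex (ComplexShape.up ℤ)).obj E
  have hP : ∀ i, Projective (P.X i) := fun i => by
    have e : tilde (P.X i) ≅ E.X i :=
      (HomologicalComplex.eval _ _ i).mapIso (tildeCxIso E hEq)
    obtain ⟨-, hp⟩ := (S12451.result (P.X i)).mp (KFlat.LocFree.isFinLocFree_of_iso e.symm (hE i))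
    exact (IsProjective.iff_projective (P.X i)).mp hp
  have : P.IsStrictlyLE b := (P.isStrictlyLE_iff b).mpr fun i hi => Γ'.map_isZero (hEb i hi)
  have := CochainComplex.isKProjective_of_projective P b
  refine kd_of_iso (tildeCxIso E hEq) (tildeCxIso F hF) (kd_map (tilde.functor R)
    KFlat.TildeD.full_faithful.1 KFlat.TildeD.full_faithful.2 ?_)
  exact CochainComplex.IsKProjective.Qh_map_bijective P _

variable {X : Scheme.{u}} [IsAffine X]

/-- The statement on an affine scheme. -/
theorem kd (E F : CochainComplex X.Modules ℤ) (b : ℤ) (hEb : ∀ i, b < i → IsZero (E.X i))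
    (hE : ∀ i, FlatMod.IsFinLocFree (E.X i)) (hF : ∀ i, Coh.IsQCoh (F.X i)) : KD E F := by
  let k := X.isoSpec.inv
  let l := X.isoSpec.hom
  have h := kd_spec ((PerfTri.Nullhom.resC k).obj E) ((PerfTri.Nullhom.resC k).obj F) b
    (fun i hi => (Scheme.Modules.restrictFunctor k).map_isZero (hEb i hi))
    (fun i => KFlat.LocFree.isFinLocFree_of_iso ((Scheme.Modules.restrictFunctorIsoPullback k).app _).symm
      (KFlat.LocFree.isFinLocFree_pull k (hE i)))
    (fun i => @Scheme.Modules.isQuasicoherent_restrictFunctor _ _ k _ _ (hF i))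
  let a : Scheme.Modules.restrictFunctor l ⋙ Scheme.Modules.restrictFunctor k ≅ 𝟭 _ :=
    (Scheme.Modules.restrictFunctorComp k l).symm ≪≫
      Scheme.Modules.restrictFunctorCongr (X.isoSpec.inv_hom_id) ≪≫ Scheme.Modules.restrictFunctorId
  let b' : Scheme.Modules.restrictFunctor k ⋙ Scheme.Modules.restrictFunctor l ≅ 𝟭 _ :=
    (Scheme.Modules.restrictFunctorComp l k).symm ≪≫
      Scheme.Modules.restrictFunctorCongr (X.isoSpec.hom_inv_id) ≪≫ Scheme.Modules.restrictFunctorId
  have := isEquivalence_mapDerived _ _ a b'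
  have : (Scheme.Modules.restrictFunctor l).IsEquivalence :=
    (CategoryTheory.Equivalence.mk _ _ a.symm b').isEquivalence_functor
  let c : ∀ G : CochainComplex X.Modules ℤ,
      (PerfTri.Nullhom.resC l).obj ((PerfTri.Nullhom.resC k).obj G) ≅ G := fun G =>
    HomologicalComplex.Hom.isoOfComponents (fun i => b'.app (G.X i))
      fun i j _ => (b'.hom.naturality (G.d i j)).symm
  exact kd_of_iso (c E) (c F) (kd_map (Scheme.Modules.restrictFunctor l) inferInstance inferInstance h)

/-- Maps killed by a quasi-isomorphism are null homotopic. -/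
theorem nullHomotopic (E F G : CochainComplex X.Modules ℤ) (b : ℤ) (hEb : ∀ i, b < i → IsZero (E.X i))
    (hE : ∀ i, FlatMod.IsFinLocFree (E.X i)) (hF : ∀ i, Coh.IsQCoh (F.X i)) (f : E ⟶ F) (g : F ⟶ G)
    [QuasiIso g] (hgf : Nonempty (Homotopy (f ≫ g) 0)) : Nonempty (Homotopy f 0) := by
  refine ((kd_iff E F).mp (kd E F b hEb hE hF)).1 f 0 ((cancel_mono (DerivedCategory.Q.map g)).1 ?_)
  rw [← Functor.map_comp, ← Functor.map_comp, zero_comp,
    DerivedCategory.Q_map_eq_of_homotopy _ hgf.some]

/-- Acyclic means contractible. -/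
theorem acyclic_iff (E : CochainComplex X.Modules ℤ) (b : ℤ) (hEb : ∀ i, b < i → IsZero (E.X i))
    (hE : ∀ i, FlatMod.IsFinLocFree (E.X i)) : E.Acyclic ↔ Nonempty (Homotopy (𝟙 E) 0) := by
  constructor
  · intro h
    have : QuasiIso (0 : E ⟶ 0) := ⟨fun i => by
      rw [quasiIsoAt_iff_exactAt' _ _ (ShortComplex.exact_of_isZero_X₂ _
        ((HomologicalComplex.eval _ _ i).map_isZero (isZero_zero _)))]
      exact h i⟩
    exact nullHomotopic E E 0 b hEb hE
      (fun i => PerfTri.Betti.isQuasicoherent_of_isFinLocFree (hE i)) (𝟙 E) 0 ⟨Homotopy.ofEq (by simp)⟩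
  · rintro ⟨H⟩ i
    rw [HomologicalComplex.exactAt_iff_isZero_homology, IsZero.iff_id_eq_zero,
      ← HomologicalComplex.homologyMap_id, H.homologyMap_eq, HomologicalComplex.homologyMap_zero]

end Affine

end Groth.Agent.PCohD.AffineKD
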