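import Groth.Agent.PCohD.Basic

/-!
# Direct summands of pseudo-coherent objects
-/

set_option autoImplicit false

universe u

open CategoryTheory Limits AlgebraicGeometry Pretriangulated
attribute [local instance] HasDerivedCategory.standard

noncomputable section

namespace Groth.Agent.PCohD

variable {X : Scheme.{u}}

theorem pc_biprod_bounded {K L : DCoh.D X} (n : ℤ)
    (hb : ∀ i : ℤ, n < i → IsZero ((DerivedCategory.homologyFunctor _ i).obj (K ⊞ L))) (d : ℕ) :
    ∀ m : ℤ, n + 1 - d ≤ m → DCoh.IsPseudoCoherentD m (K ⊞ L) →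
      DCoh.IsPseudoCoherentD m K ∧ DCoh.IsPseudoCoherentD m L := by
  induction d with
  | zero =>
    intro m hm _
    constructor <;> refine pc_of_vanish fun i hi => ?_
    · have : IsSplitMono (biprod.inl : K ⟶ K ⊞ L) := inferInstance
      exact IsZero.of_mono ((DerivedCategory.homologyFunctor _ i).map (biprod.inl : K ⟶ K ⊞ L))
        (hb i (by omega))
    · exact IsZero.of_mono ((DerivedCategory.homologyFunctor _ i).map (biprod.inr : L ⟶ K ⊞ L))
        (hb i (by omega))
  | succ d ih =>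
    intro m hm hS
    obtain ⟨hK, hL⟩ := ih (m + 1) (by omega) (pc_mono hS (by omega))
    refine ⟨pc₃ _ (binaryBiproductTriangle_distinguished L K) hL ?_,
      pc₃ _ (binaryBiproductTriangle_distinguished K L) hK hS⟩
    exact pc_of_iso (biprod.braiding K L) hS

theorem pc_biprod {m : ℤ} {K L : DCoh.D X} (h : DCoh.IsPseudoCoherentD m (K ⊞ L)) :
    DCoh.IsPseudoCoherentD m K ∧ DCoh.IsPseudoCoherentD m L := by
  have key : ∀ x : X, ∃ (U : Scheme.{u}) (j : U ⟶ X) (_ : IsOpenImmersion j), x ∈ Set.range j ∧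
      DCoh.IsPseudoCoherentD m ((DCoh.restrictD j).obj K) ∧
      DCoh.IsPseudoCoherentD m ((DCoh.restrictD j).obj L) := fun x => by
    obtain ⟨V, hx, n, hn⟩ := exists_bound h x
    let G₀ := DCoh.restrictD V.ι
    have : PreservesBinaryBiproduct K L G₀ := by
      have := preservesBinaryBiproducts_of_preservesBiproducts G₀
      infer_instance
    refine ⟨V, V.ι, inferInstance, ⟨⟨x, hx⟩, rfl⟩, ?_⟩
    exact pc_biprod_bounded n (fun i hi => (hn i hi).of_iso
      ((DerivedCategory.homologyFunctor _ i).mapIso (G₀.mapBiprod K L).symm))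
      (n + 1 - m).toNat m (by omega) (pc_of_iso (G₀.mapBiprod K L) (pc_restrict V.ι h))
  exact ⟨pc_of_local fun x => by obtain ⟨U, j, hj, hx, h1, -⟩ := key x; exact ⟨U, j, hj, hx, h1⟩,
    pc_of_local fun x => by obtain ⟨U, j, hj, hx, -, h2⟩ := key x; exact ⟨U, j, hj, hx, h2⟩⟩

theorem pc_biprod_iff {m : ℤ} {K L : DCoh.D X} :
    DCoh.IsPseudoCoherentD m (K ⊞ L) ↔ DCoh.IsPseudoCoherentD m K ∧ DCoh.IsPseudoCoherentD m L :=
  ⟨pc_biprod, fun ⟨hK, hL⟩ => pc₂ _ (binaryBiproductTriangle_distinguished K L) hK hL⟩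

end Groth.Agent.PCohD
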