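import Groth.Agent.PCohD.ThickGen
import Groth.Agent.PCohD.FTFP
import Groth.Agent.ClUnit.Basic

/-!
# Modules of finite type and closed immersions

A module on a closed subscheme is of finite type iff its direct image is.
-/

set_option autoImplicit false
set_option backward.isDefEq.respectTransparency false
set_option backward.isDefEq.respectTransparency.types false

universe u

open CategoryTheory Limits AlgebraicGeometry TopologicalSpace

noncomputable section

namespace Groth.Agent.PCohD

open Groth.Agent.QCoh Groth.Agent.PullStalk.Sky Thick FTFP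

variable {Z X : Scheme.{u}}

theorem isFT_of_spans {M : X.Modules}
    (h : ∀ x : X, ∃ (V : X.Opens) (n : ℕ) (a : Fin n → Γ(M, V)), x ∈ V ∧ Spans M a) :
    CohB1.IsFT M := by
  refine isFT_of_locGen fun x => ?_
  obtain ⟨V, n, a, hx, ha⟩ := h x
  obtain ⟨P, p, hP, hp⟩ := ha.exists_epi
  obtain ⟨W, k, q, hW, hq⟩ := exists_free_epi V.ι hP p ⟨x, hx⟩
  exact ⟨W, k, q, hW, hq⟩

theorem exists_spans_of_isFT {M : X.Modules} (h : CohB1.IsFT M) (x : X) :
    ∃ (V : X.Opens) (n : ℕ) (a : Fin n → Γ(M, V)), x ∈ V ∧ Spans M a := by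
  obtain ⟨V, n, p, hx, hp⟩ := locGen_of_isFT h x
  exact exists_spans_of_epi M V (Groth.Agent.S0923.isFinLocFree_freeMod n) p x hx

variable (i : Z ⟶ X) (N : Z.Modules)

set_option maxHeartbeats 1000000 in
/-- The stalk map of a pushforward is semilinear. -/
theorem stalkPushforward_smul (M : Z.Modules) (z : Z) (r : X.presheaf.stalk (i z))
    (t : ((Scheme.Modules.pushforward i).obj M).presheaf.stalk (i z)) :
    (show M.presheaf.stalk z from
      TopCat.Presheaf.stalkPushforward AddCommGrpCat i.base M.presheaf z (r • t)) =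
    i.stalkMap z r • (show M.presheaf.stalk z from
      TopCat.Presheaf.stalkPushforward AddCommGrpCat i.base M.presheaf z t) := by
  obtain ⟨U, hU, m, rfl⟩ := exists_germM_eq ((Scheme.Modules.pushforward i).obj M) (i z) t
  obtain ⟨V, hV, a, rfl⟩ := X.presheaf.exists_germ_eq r
  let W := U ⊓ V
  have hW : i z ∈ W := ⟨hU, hV⟩
  rw [← show germM ((Scheme.Modules.pushforward i).obj M) W (i z) hW
      (((Scheme.Modules.pushforward i).obj M).presheaf.map (homOfLE (inf_le_left : W ≤ U)).op m) =
      germM ((Scheme.Modules.pushforward i).obj M) U (i z) hU m from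
    ((Scheme.Modules.pushforward i).obj M).presheaf.germ_res_apply (homOfLE (inf_le_left : W ≤ U)) (i z) hW m,
    ← TopCat.Presheaf.germ_res_apply X.presheaf (homOfLE (inf_le_right : W ≤ V)) (i z) hW a]
  erw [← germM_smul]
  erw [TopCat.Presheaf.stalkPushforward_germ_apply, TopCat.Presheaf.stalkPushforward_germ_apply,
    Scheme.Hom.germ_stalkMap_apply]
  exact germM_smul M (i ⁻¹ᵁ W) z hW _ _

theorem stalkPushforward_comb {W : X.Opens} {n : ℕ}
    (a : Fin n → Γ((Scheme.Modules.pushforward i).obj N, W)) (z : Z) (hz : i z ∈ W)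
    (c : Fin n → X.presheaf.stalk (i z)) :
    (show N.presheaf.stalk z from TopCat.Presheaf.stalkPushforward AddCommGrpCat i.base N.presheaf z
        (LFFrame.stalkComb ((Scheme.Modules.pushforward i).obj N) a (i z) hz c)) =
      LFFrame.stalkComb N (U := i ⁻¹ᵁ W) (fun k => a k) z hz fun k => i.stalkMap z (c k) := by
  unfold LFFrame.stalkComb
  simp only [Fintype.linearCombination_apply, map_sum]
  refine Finset.sum_congr rfl fun k _ => ?_
  refine (stalkPushforward_smul i N z (c k) _).trans (congrArg _ ?_)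
  exact TopCat.Presheaf.stalkPushforward_germ_apply _ _ _ _ _ _ _

variable [IsClosedImmersion i]

theorem spans_of_push {W : X.Opens} {n : ℕ} {a : Fin n → Γ((Scheme.Modules.pushforward i).obj N, W)}
    (ha : Spans ((Scheme.Modules.pushforward i).obj N) a) :
    Spans N (V := i ⁻¹ᵁ W) fun k => a k := by
  intro z hz w
  obtain ⟨v, rfl⟩ := (ClUnit.stalkPushforward_bijective i N i.isClosedEmbedding.isInducing z).2 w
  obtain ⟨c, rfl⟩ := ha (i z) hz v
  exact ⟨_, (stalkPushforward_comb i N a z hz c).symm⟩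

theorem spans_push {W : X.Opens} {n : ℕ} (a : Fin n → Γ((Scheme.Modules.pushforward i).obj N, W))
    (ha : Spans N (V := i ⁻¹ᵁ W) fun k => a k) :
    Spans ((Scheme.Modules.pushforward i).obj N) a := by
  intro x hx
  by_cases hi : x ∈ Set.range i
  · obtain ⟨z, rfl⟩ := hi
    intro v
    obtain ⟨c', hc'⟩ := ha z hx
      (show N.presheaf.stalk z from TopCat.Presheaf.stalkPushforward AddCommGrpCat i.base N.presheaf z v)
    choose c hc using fun k => i.stalkMap_surjective z (c' k)
    refine ⟨c, (ClUnit.stalkPushforward_bijective i N i.isClosedEmbedding.isInducing z).1 ?_⟩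
    refine (stalkPushforward_comb i N a z hx c).trans ?_
    exact Eq.trans (congrArg _ (funext hc)) hc'
  · let O : X.Opens := ⟨(Set.range i)ᶜ, i.isClosedEmbedding.isClosed_range.isOpen_compl⟩
    have := ClUnit.subsingleton_stalk_pushforward i N x O hi
      (eq_bot_iff.2 fun z hz => (hz ⟨z, rfl⟩).elim)
    exact fun v => ⟨0, Subsingleton.elim _ _⟩

/-- Finite type is detected by the direct image along a closed immersion. -/
theorem isFT_push_iff : CohB1.IsFT ((Scheme.Modules.pushforward i).obj N) ↔ CohB1.IsFT N := by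
  refine ⟨fun h => isFT_of_spans fun z => ?_, fun h => isFT_of_spans fun x => ?_⟩
  · obtain ⟨W, n, a, hx, ha⟩ := exists_spans_of_isFT h (i z)
    exact ⟨i ⁻¹ᵁ W, n, _, hx, spans_of_push i N ha⟩
  · by_cases hi : x ∈ Set.range i
    · obtain ⟨z, rfl⟩ := hi
      obtain ⟨V, n, b, hz, hb⟩ := exists_spans_of_isFT h z
      obtain ⟨W, hW, hWV⟩ := i.isClosedEmbedding.isInducing.isOpen_iff.1 V.isOpen
      obtain rfl : i ⁻¹ᵁ (⟨W, hW⟩ : X.Opens) = V := TopologicalSpace.Opens.ext hWV
      exact ⟨⟨W, hW⟩, n, b, hz, spans_push i N _ hb⟩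
    · let O : X.Opens := ⟨(Set.range i)ᶜ, i.isClosedEmbedding.isClosed_range.isOpen_compl⟩
      refine ⟨O, 0, fun k => k.elim0, hi, spans_push i N _ fun z hz => ?_⟩
      exact (hz ⟨z, rfl⟩).elim

end Groth.Agent.PCohD
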