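import Groth.Agent.KFlat.TildePC
import Groth.Agent.KFlat.Brutal
import Mathlib.CategoryTheory.Abelian.DiagramLemmas.Four

/-!
# Approximations: isomorphism on `H^i` for `i > m`, epimorphism on `H^m`
-/

set_option autoImplicit false

universe w v u

open CategoryTheory Limits Pretriangulated
open Groth.Agent.KFlat.TildePC (Appr appr_of_isIso)

noncomputable section

namespace Groth.Agent.PCohD

variable {C : Type u} [Category.{v} C] [Abelian C] [HasDerivedCategory.{w} C]

local notation "H" => DerivedCategory.homologyFunctor C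

theorem appr_mono {m n : ℤ} {K L : DerivedCategory C} {α : K ⟶ L} (h : Appr m α) (hmn : m ≤ n) :
    Appr n α := by
  refine ⟨fun i hi => h.1 i (by omega), ?_⟩
  rcases hmn.eq_or_lt with rfl | hlt
  · exact h.2
  · have := h.1 n hlt; infer_instance

theorem appr_epi {m i : ℤ} {K L : DerivedCategory C} {α : K ⟶ L} (h : Appr m α) (hi : m ≤ i) :
    Epi ((H i).map α) :=
  (appr_mono h hi).2

theorem appr_shift {m : ℤ} {K L : DerivedCategory C} {α : K ⟶ L} (h : Appr m α) (n : ℤ) :
    Appr (m - n) ((shiftFunctor (DerivedCategory C) n).map α) := by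
  have hnat : ∀ i j (hij : n + i = j), Arrow.mk ((H i).map ((shiftFunctor (DerivedCategory C) n).map α)) ≅
      Arrow.mk ((H j).map α) := fun i j hij =>
    Arrow.isoOfNatIso ((H 0).shiftIso n i j hij) (Arrow.mk α)
  refine ⟨fun i hi => ?_, ?_⟩
  · exact ((MorphismProperty.isomorphisms C).arrow_mk_iso_iff (hnat i (n + i) rfl)).mpr
      (h.1 _ (by omega))
  · exact ((MorphismProperty.epimorphisms C).arrow_mk_iso_iff (hnat (m - n) m (by omega))).mpr h.2

theorem appr_Q_iff {m : ℤ} {E F : CochainComplex C ℤ} (f : E ⟶ F) :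
    Appr m (DerivedCategory.Q.map f) ↔
      (∀ i : ℤ, m < i → IsIso (HomologicalComplex.homologyMap f i)) ∧
        Epi (HomologicalComplex.homologyMap f m) := by
  have e : ∀ i, Arrow.mk ((H i).map (DerivedCategory.Q.map f)) ≅
      Arrow.mk (HomologicalComplex.homologyMap f i) := fun i =>
    Arrow.isoOfNatIso (DerivedCategory.homologyFunctorFactors C i) (Arrow.mk f)
  exact and_congr (forall₂_congr fun i _ => (MorphismProperty.isomorphisms C).arrow_mk_iso_iff (e i))
    ((MorphismProperty.epimorphisms C).arrow_mk_iso_iff (e m))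

/-- The brutal truncation approximates. -/
theorem appr_geToSelf (E : CochainComplex C ℤ) (m : ℤ) :
    Appr m (DerivedCategory.Q.map (KFlat.geToSelf E m)) := by
  have hiso : ∀ q, m ≤ q → IsIso ((KFlat.geToSelf E m).f q) := fun q hq =>
    ⟨KFlat.geπ E m q, KFlat.geι_π E m q, KFlat.geπ_ι E hq⟩
  refine (appr_Q_iff _).mpr ⟨fun i hi => ?_, ?_⟩
  · have := hiso (i - 1) (by omega)
    have := hiso i (by omega)
    have := hiso (i + 1) (by omega)
    have hq : QuasiIsoAt (KFlat.geToSelf E m) i := by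
      rw [quasiIsoAt_iff' _ (i - 1) i (i + 1) (by simp) (by simp)]
      have : IsIso ((HomologicalComplex.shortComplexFunctor' C _ (i - 1) i (i + 1)).map
          (KFlat.geToSelf E m)) := by
        exact @ShortComplex.isIso_of_isIso _ _ _ _ _ _ (hiso (i - 1) (by omega)) (hiso i (by omega)) (hiso (i + 1) (by omega))
      infer_instance
    exact (quasiIsoAt_iff_isIso_homologyMap _ _).mp hq
  · have := hiso m le_rfl
    have := hiso (m + 1) (by omega)
    rw [HomologicalComplex.epi_homologyMap_iff_up_to_refinements _ (m - 1) m (m + 1) (by simp) (by simp)]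
    intro A x hx
    refine ⟨A, 𝟙 A, inferInstance, x ≫ inv ((KFlat.geToSelf E m).f m), ?_, 0, by simp⟩
    rw [← cancel_mono ((KFlat.geToSelf E m).f (m + 1)), Category.assoc, Category.assoc,
      ← (KFlat.geToSelf E m).comm, IsIso.inv_hom_id_assoc, hx, zero_comp]

/-- Two approximations in a morphism of triangles give a third. -/
theorem appr_third {m : ℤ} (T T' : Triangle (DerivedCategory C)) (hT : T ∈ distinguishedTriangles)
    (hT' : T' ∈ distinguishedTriangles) (φ : T ⟶ T') (h₁ : Appr (m + 1) φ.hom₁)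
    (h₂ : Appr m φ.hom₂) : Appr m φ.hom₃ := by
  have n₁ : ∀ i, (H i).map T.mor₁ ≫ (H i).map φ.hom₂ = (H i).map φ.hom₁ ≫ (H i).map T'.mor₁ :=
    fun i => by rw [← Functor.map_comp, ← Functor.map_comp, φ.comm₁]
  have n₂ : ∀ i, (H i).map T.mor₂ ≫ (H i).map φ.hom₃ = (H i).map φ.hom₂ ≫ (H i).map T'.mor₂ :=
    fun i => by rw [← Functor.map_comp, ← Functor.map_comp, φ.comm₂]
  have n₃ : ∀ i, DerivedCategory.HomologySequence.δ T i (i + 1) rfl ≫ (H (i + 1)).map φ.hom₁ = (H i).map φ.hom₃ ≫ DerivedCategory.HomologySequence.δ T' i (i + 1) rfl := by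
    intro i
    have h := congrArg (fun f => (H 0).shiftMap f i (i + 1) (add_comm 1 i)) φ.comm₃
    exact ((H 0).shiftMap_comp T.mor₃ φ.hom₁ i (i + 1) _).symm.trans
      (h.trans ((H 0).shiftMap_comp' φ.hom₃ T'.mor₃ i (i + 1) _))
  have hmono : ∀ i, m < i → Mono ((H i).map φ.hom₂) := fun i hi => by
    have := h₂.1 i hi; infer_instance
  have hepi : ∀ i, m ≤ i → Epi ((H i).map φ.hom₃) := by
    intro i hi
    exact Abelian.epi_of_epi_of_epi_of_mono'
      (ComposableArrows.homMk₃ ((H i).map φ.hom₂) ((H i).map φ.hom₃) ((H (i + 1)).map φ.hom₁)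
        ((H (i + 1)).map φ.hom₂) (n₂ i) (n₃ i) (n₁ (i + 1)) :
        ComposableArrows.mk₃ ((H i).map T.mor₂) (DerivedCategory.HomologySequence.δ T i (i + 1) rfl) ((H (i + 1)).map T.mor₁) ⟶
        ComposableArrows.mk₃ ((H i).map T'.mor₂) (DerivedCategory.HomologySequence.δ T' i (i + 1) rfl) ((H (i + 1)).map T'.mor₁))
      (DerivedCategory.HomologySequence.exact₁ T hT i (i + 1) rfl).exact_toComposableArrows
      (DerivedCategory.HomologySequence.exact₃ T' hT' i (i + 1) rfl).exact_toComposableArrows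
      (DerivedCategory.HomologySequence.δ_comp T' hT' i (i + 1) rfl)
      (appr_epi h₂ hi) (appr_epi h₁ (by omega)) (hmono _ (by omega))
  refine ⟨fun i hi => ?_, hepi m le_rfl⟩
  have := hepi i hi.le
  have : Mono ((H i).map φ.hom₃) := by
    have hz : (H i).map T.mor₁ ≫ (H i).map T.mor₂ = 0 := by
      rw [← Functor.map_comp, comp_distTriang_mor_zero₁₂ _ hT, Functor.map_zero]
    exact Abelian.mono_of_epi_of_mono_of_mono'
      (ComposableArrows.homMk₃ ((H i).map φ.hom₁) ((H i).map φ.hom₂) ((H i).map φ.hom₃)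
        ((H (i + 1)).map φ.hom₁) (n₁ i) (n₂ i) (n₃ i) :
        ComposableArrows.mk₃ ((H i).map T.mor₁) ((H i).map T.mor₂) (DerivedCategory.HomologySequence.δ T i (i + 1) rfl) ⟶
        ComposableArrows.mk₃ ((H i).map T'.mor₁) ((H i).map T'.mor₂) (DerivedCategory.HomologySequence.δ T' i (i + 1) rfl))
      hz (DerivedCategory.HomologySequence.exact₃ T hT i (i + 1) rfl).exact_toComposableArrows
      (DerivedCategory.HomologySequence.exact₂ T' hT' i).exact_toComposableArrows
      (appr_epi h₁ (by omega)) (hmono i hi) (by have := h₁.1 (i + 1) (by omega); exact inferInstanceAs (Mono ((H (i + 1)).map φ.hom₁)))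
  exact isIso_of_mono_of_epi _

end Groth.Agent.PCohD
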