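import Groth.Agent.PCohD.Push
import Groth.Agent.FlatMor.PC.PerfectPush
import Groth.Agent.FlatMor.PC.Instances
import Groth.Prelude.Def_DerSch2

/-!
# Testing pseudo-coherence after a closed immersion of an open subscheme
-/

set_option autoImplicit false

universe u

open CategoryTheory Limits AlgebraicGeometry Pretriangulated
open Groth.Agent.KFlat.TildePC (Appr appr_of_isIso)
attribute [local instance] HasDerivedCategory.standard

noncomputable section

namespace Groth.Agent.PCohD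

variable {U U' P P' X : Scheme.{u}}

/-- `K`, restricted along the open immersion `o` and pushed along the closed immersion `i`, is
`m`-pseudo-coherent. -/
def Test (m : ℤ) (o : U ⟶ X) [IsOpenImmersion o] (i : U ⟶ P) [IsClosedImmersion i] (K : DCoh.D X) :
    Prop :=
  DCoh.IsPseudoCoherentD m ((pushD i).obj ((DCoh.restrictD o).obj K))

theorem test_congr {m : ℤ} {o o' : U ⟶ X} [IsOpenImmersion o] [IsOpenImmersion o'] {i i' : U ⟶ P}
    [IsClosedImmersion i] [IsClosedImmersion i'] (ho : o = o') (hi : i = i') (K : DCoh.D X) :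
    Test m o i K ↔ Test m o' i' K := by
  subst ho hi; exact Iff.rfl

/-- A closed immersion with pseudo-coherent structure sheaf may be absorbed. -/
theorem test_closed {m : ℤ} (o : U ⟶ X) [IsOpenImmersion o] (i : U ⟶ P) [IsClosedImmersion i]
    (s : P ⟶ P') [IsClosedImmersion s] (hs : HasPCUnit s) (K : DCoh.D X) :
    Test m o (i ≫ s) K ↔ Test m o i K :=
  ⟨fun h => pc_of_pushD s hs (pc_of_iso (pushDComp i s _).symm h),
    fun h => pc_of_iso (pushDComp i s _) (pc_pushD s hs h)⟩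

/-- An open immersion containing the image may be absorbed. -/
theorem test_open {m : ℤ} (o : U ⟶ X) [IsOpenImmersion o] (i : U ⟶ P) [IsClosedImmersion i]
    (i' : U ⟶ P') [IsClosedImmersion i'] (j : P' ⟶ P) [IsOpenImmersion j] (h : i' ≫ j = i)
    (K : DCoh.D X) : Test m o i K ↔ Test m o i' K := by
  let η : Scheme.Modules.pushforward i ⋙ Scheme.Modules.restrictFunctor j ≅
      Scheme.Modules.pushforward i' :=
    Functor.isoWhiskerRight ((Scheme.Modules.pushforwardCongr h).symm ≪≫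
      (Scheme.Modules.pushforwardComp i' j).symm) _ ≪≫ Functor.associator _ _ _ ≪≫
      Functor.isoWhiskerLeft _ (Scheme.Modules.restrictFunctorAdjCounitIso j) ≪≫ Functor.rightUnitor _
  let e : (DCoh.restrictD j).obj ((pushD i).obj ((DCoh.restrictD o).obj K)) ≅
      (pushD i').obj ((DCoh.restrictD o).obj K) := dIso₁ _ _ _ η _
  refine ⟨fun hi => pc_of_iso e (pc_restrict j hi), fun hi => ?_⟩
  refine pc_of_local fun x => ?_
  by_cases hx : x ∈ Set.range j
  · exact ⟨P', j, inferInstance, hx, pc_of_iso e.symm hi⟩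
  · let W : P.Opens := ⟨(Set.range i)ᶜ, i.isClosedEmbedding.isClosed_range.isOpen_compl⟩
    have hxW : x ∈ W := fun ⟨u, hu⟩ => hx ⟨i' u, by rw [← hu, ← h]; rfl⟩
    refine ⟨W, W.ι, inferInstance, ⟨⟨x, hxW⟩, rfl⟩, pc_of_iso (pushDRestrict i W _).symm ?_⟩
    have : IsEmpty (i ⁻¹ᵁ W : Scheme.{u}) := ⟨fun z => z.2 ⟨z.1, rfl⟩⟩
    exact pc_of_vanish fun q _ => ((Scheme.Modules.pushforward (i ∣_ W)).map_isZero
      (isZero_of_isEmpty _)).of_iso (pushDHomology _ _ q)

/-- An isomorphism of sources. -/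
theorem test_iso {m : ℤ} (o : U ⟶ X) [IsOpenImmersion o] (i : U ⟶ P) [IsClosedImmersion i]
    (e : U' ⟶ U) [IsIso e] (K : DCoh.D X) :
    Test m (e ≫ o) (e ≫ i) K ↔ Test m o i K := by
  let η₀ : Scheme.Modules.pushforward (inv e) ≅ Scheme.Modules.restrictFunctor e :=
    (Functor.rightUnitor _).symm ≪≫
      Functor.isoWhiskerLeft _ (Scheme.Modules.restrictFunctorAdjCounitIso e).symm ≪≫
      (Functor.associator _ _ _).symm ≪≫
      Functor.isoWhiskerRight (Scheme.Modules.pushforwardComp (inv e) e ≪≫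
        Scheme.Modules.pushforwardCongr (IsIso.inv_hom_id e) ≪≫ Scheme.Modules.pushforwardId U) _ ≪≫
      Functor.leftUnitor _
  let η : Scheme.Modules.restrictFunctor e ⋙ Scheme.Modules.pushforward (e ≫ i) ≅
      Scheme.Modules.pushforward i :=
    Functor.isoWhiskerRight η₀.symm _ ≪≫ Scheme.Modules.pushforwardComp (inv e) (e ≫ i) ≪≫
      Scheme.Modules.pushforwardCongr (IsIso.inv_hom_id_assoc e i)
  exact pc_iff_of_iso ((pushD (e ≫ i)).mapIso (PerfTri.Perfect.restrComp e o (e ≫ o) rfl K).symm ≪≫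
    dIso₁ _ _ _ η _)

/-- The open part of the source over an open of the target. -/
theorem test_restrict {m : ℤ} (o : U ⟶ X) [IsOpenImmersion o] (i : U ⟶ P) [IsClosedImmersion i]
    (W : P.Opens) (K : DCoh.D X) (h : Test m o i K) :
    Test m ((i ⁻¹ᵁ W).ι ≫ o) (i ∣_ W) K :=
  pc_of_iso (pushDRestrict i W _ ≪≫
    (pushD (i ∣_ W)).mapIso (PerfTri.Perfect.restrComp (i ⁻¹ᵁ W).ι o _ rfl K)) (pc_restrict W.ι h)

theorem test_square_iff {m : ℤ} (o : U ⟶ X) [IsOpenImmersion o] (i : U ⟶ P) [IsClosedImmersion i]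
    (a : U' ⟶ U) [IsOpenImmersion a] (j : P' ⟶ P) [IsOpenImmersion j] (i' : U' ⟶ P')
    [IsClosedImmersion i'] (h : i' ≫ j = a ≫ i) (hr : i ⁻¹ᵁ j.opensRange = a.opensRange)
    (K : DCoh.D X) :
    Test m ((i ⁻¹ᵁ j.opensRange).ι ≫ o) (i ∣_ j.opensRange) K ↔ Test m (a ≫ o) i' K := by
  let eU : U' ≅ (i ⁻¹ᵁ j.opensRange : Scheme.{u}) := a.isoOpensRange ≪≫ U.isoOfEq hr.symm
  let eP : P' ≅ (j.opensRange : Scheme.{u}) := j.isoOpensRange
  have hU : eU.hom ≫ (i ⁻¹ᵁ j.opensRange).ι = a := by simp [eU]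
  have hP : eU.hom ≫ (i ∣_ j.opensRange) = i' ≫ eP.hom := by
    rw [← cancel_mono j.opensRange.ι, Category.assoc, Category.assoc, morphismRestrict_ι,
      ← Category.assoc, hU]
    simp [eP, h]
  have h1 := test_iso (m := m) ((i ⁻¹ᵁ j.opensRange).ι ≫ o) (i ∣_ j.opensRange) eU.hom K
  have h2 := test_congr (m := m) (o := eU.hom ≫ (i ⁻¹ᵁ j.opensRange).ι ≫ o) (o' := a ≫ o)
    (i := eU.hom ≫ (i ∣_ j.opensRange)) (i' := i' ≫ eP.hom)
    (by rw [← Category.assoc, hU]) hP K
  exact (h1.symm.trans h2).trans (test_open (a ≫ o) (i' ≫ eP.hom) i' eP.hom rfl K)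

theorem test_of_square {m : ℤ} (o : U ⟶ X) [IsOpenImmersion o] (i : U ⟶ P) [IsClosedImmersion i]
    (a : U' ⟶ U) [IsOpenImmersion a] (j : P' ⟶ P) [IsOpenImmersion j] (i' : U' ⟶ P')
    [IsClosedImmersion i'] (h : i' ≫ j = a ≫ i) (hr : i ⁻¹ᵁ j.opensRange = a.opensRange)
    (K : DCoh.D X) (ht : Test m o i K) : Test m (a ≫ o) i' K :=
  (test_square_iff o i a j i' h hr K).1 (test_restrict o i _ K ht)

/-- The test is local on the source. -/
theorem test_of_cover {m : ℤ} (o : U ⟶ X) [IsOpenImmersion o] (i : U ⟶ P) [IsClosedImmersion i]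
    (K : DCoh.D X)
    (h : ∀ u : U, ∃ W : P.Opens, i u ∈ W ∧ Test m ((i ⁻¹ᵁ W).ι ≫ o) (i ∣_ W) K) :
    Test m o i K :=
  pc_pushD_of_forall i m _ fun u => by
    obtain ⟨W, hW, hT⟩ := h u
    exact ⟨W, hW, pc_of_iso ((pushD (i ∣_ W)).mapIso
      (PerfTri.Perfect.restrComp (i ⁻¹ᵁ W).ι o _ rfl K)).symm hT⟩

/-! ### Closed immersions of open subschemes into spectra -/

/-- The morphism of an open into a spectrum given by a ring map to its functions. -/
def cIm (U : X.Opens) {A : Type u} [CommRing A] (θ : A →+* Γ(X, U)) :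
    (U : Scheme.{u}) ⟶ Spec (CommRingCat.of A) :=
  U.toSpecΓ ≫ Spec.map (CommRingCat.ofHom θ)

theorem chartImm_eq (U : X.Opens) {R : Type u} [CommRing R] {n : ℕ}
    (φ : MvPolynomial (Fin n) R →+* Γ(X, U)) : DerSch.chartImm U φ = cIm U φ := rfl

theorem isClosedImmersion_cIm {U : X.Opens} (hU : IsAffineOpen U) {A : Type u} [CommRing A]
    {θ : A →+* Γ(X, U)} (hθ : Function.Surjective θ) : IsClosedImmersion (cIm U θ) := by
  have : IsClosedImmersion (Spec.map (CommRingCat.ofHom θ)) :=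
    IsClosedImmersion.spec_of_surjective _ hθ
  rw [cIm, ← hU.isoSpec_hom]
  infer_instance

theorem cIm_comp (U : X.Opens) {A B : Type u} [CommRing A] [CommRing B] (σ : B →+* A)
    (θ : A →+* Γ(X, U)) : cIm U (θ.comp σ) = cIm U θ ≫ Spec.map (CommRingCat.ofHom σ) := by
  rw [cIm, cIm, CommRingCat.ofHom_comp, Spec.map_comp, Category.assoc]

theorem cIm_res {U V : X.Opens} (h : U ≤ V) {A : Type u} [CommRing A] (θ : A →+* Γ(X, V)) :
    cIm U ((X.presheaf.map (homOfLE h).op).hom.comp θ) = X.homOfLE h ≫ cIm V θ := by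
  rw [cIm, cIm, CommRingCat.ofHom_comp, CommRingCat.ofHom_hom, Spec.map_comp, ← Category.assoc,
    Scheme.Opens.toSpecΓ_SpecMap_presheaf_map, Category.assoc]

theorem chartPC_iff_test {Y : Scheme.{u}} (m : ℤ) (K : DCoh.D X) (U : X.Opens) (V : Y.Opens) {n : ℕ}
    (φ : MvPolynomial (Fin n) Γ(Y, V) →+* Γ(X, U)) [IsClosedImmersion (DerSch.chartImm U φ)] :
    DerSch.ChartPC m K U V φ ↔ Test m U.ι (DerSch.chartImm U φ) K := by
  let key : ∀ G : CochainComplex X.Modules ℤ, (DCoh.toD X G ≅ K) →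
      ((pushD (DerSch.chartImm U φ)).obj ((DCoh.restrictD U.ι).obj K) ≅
        DCoh.toD _ ((DerSch.pushCx (DerSch.chartImm U φ)).obj ((DCoh.restrictCx U).obj G))) :=
    fun G e => (pushD _).mapIso ((DCoh.restrictD U.ι).mapIso e.symm ≪≫ PerfTri.Perfect.restrQ U.ι G) ≪≫
      (Scheme.Modules.pushforward _).mapDerivedCategoryFactors.app _
  constructor
  · intro h
    exact pc_of_iso (key _ (DerivedCategory.Q.objObjPreimageIso K)).symm
      (h _ ⟨DerivedCategory.Q.objObjPreimageIso K⟩)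
  · rintro h G ⟨e⟩
    exact pc_of_iso (key G e) h

theorem hasPCUnit_of_perfectMor (s : P ⟶ P') [IsClosedImmersion s] (hs : MoreMor.IsPerfectMor s) :
    HasPCUnit s := fun m =>
  pc_of_perfect (FlatMor.PC.PerfectPush.isPerfect_push_structureModule s hs) m

theorem hasPCUnit_SpecMap {R A B : Type u} [CommRing R] [CommRing A] [CommRing B] [Algebra R A]
    [Algebra R B] [Algebra.Smooth R A] [Module.Flat R B] [Algebra.FinitePresentation R B]
    (σ : A →ₐ[R] B) (hσ : Function.Surjective σ) :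
    HasPCUnit (Spec.map (CommRingCat.ofHom σ.toRingHom)) := by
  have : IsClosedImmersion (Spec.map (CommRingCat.ofHom σ.toRingHom)) :=
    IsClosedImmersion.spec_of_surjective _ hσ
  refine hasPCUnit_of_perfectMor _ ((FlatMor.PC.perfectMor_eq _).2 ?_)
  have := FlatMor.PC.localHom_perfect.{u}.hasRingHomProperty
  let := σ.toRingHom.toAlgebra
  have : IsScalarTower R A B := IsScalarTower.of_algebraMap_eq fun r => (σ.commutes r).symm
  have h : MoreMor.IsPerfectHom A B :=
    FlatMor.PC.perfectHom_of_comp_smooth (A := R) FlatMor.PC.perfectHom_of_flat_fp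
  exact (HasRingHomProperty.Spec_iff (P := FlatMor.PC.Mor _)).2
    ((FlatMor.PC.toRH_iff (Q := fun A B _ _ _ => MoreMor.IsPerfectHom A B) (A := A) (B := B)).2 h)

end Groth.Agent.PCohD
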