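import Groth.Agent.PCohD.ThickTor
import Groth.Agent.FlatMor.LocalInj

/-!
# Tor amplitude over the base from the closed fibre
-/

set_option autoImplicit false
set_option backward.isDefEq.respectTransparency.types false

universe u

open CategoryTheory Limits MonoidalCategory
open scoped TensorProduct
attribute [local instance] HasDerivedCategory.standard

noncomputable section

namespace Groth.Agent.PCohD.FibreAmp

open Groth.Agent.DRing Groth.Agent.KFlat DBasic Homology TorAmp

variable {A L : Type u} [CommRing A] [CommRing L]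

/-- A complex of flat finite modules over a local ring flat and essentially of finite type over a local
ring which is exact below `a` on the closed fibre has tor amplitude `≥ a`. -/
theorem exactAt_of_residue [IsLocalRing A] [IsLocalRing L] (α : A →+* L) [IsLocalHom α] (hα : α.Flat)
    (hess : @Algebra.EssFiniteType A L _ _ α.toAlgebra) (P : DRing.Cx L)
    (hfin : ∀ i, Module.Finite L (P.X i)) (hflat : ∀ i, Module.Flat L (P.X i)) (a : ℤ)
    (h : ∀ j, j < a → (DRing.tensorCx ((BaseChange.resCx α).obj P)
      (ModuleCat.of A (IsLocalRing.ResidueField A))).ExactAt j)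
    (M : ModuleCat.{u} A) (j : ℤ) (hj : j < a) :
    (DRing.tensorCx ((BaseChange.resCx α).obj P) M).ExactAt j := by
  letI : Algebra A L := α.toAlgebra
  haveI : Module.Flat A L := hα
  haveI := hess
  haveI : IsLocalHom (algebraMap A L) := ‹IsLocalHom α›
  letI : ∀ i, Module A (P.X i) := fun i => Module.compHom (P.X i) α
  haveI : ∀ i, IsScalarTower A L (P.X i) := fun i => IsScalarTower.of_algebraMap_smul fun _ _ => rfl
  haveI : ∀ i, Module.Flat A (P.X i) := fun i => have := hflat i; Module.Flat.trans A L (P.X i)
  let d := (P.d j (j + 1)).hom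
  let d' := (P.d (j - 1) j).hom
  let C := P.X j ⧸ LinearMap.range d'
  have hdd : LinearMap.range d' ≤ LinearMap.ker d := by
    rintro _ ⟨x, rfl⟩
    exact LinearMap.mem_ker.2 (d_d (K := P) (j - 1) j (j + 1) x)
  let q : P.X j →ₗ[L] C := (LinearMap.range d').mkQ
  let v : C →ₗ[L] P.X (j + 1) := (LinearMap.range d').liftQ d hdd
  have hq : Function.Surjective q := Submodule.mkQ_surjective _
  have hvq : (v.restrictScalars A) ∘ₗ (q.restrictScalars A) = d.restrictScalars A :=
    LinearMap.ext fun x => rfl
  have hex : Function.Exact (d'.restrictScalars A) (q.restrictScalars A) := fun x =>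
    (Submodule.Quotient.mk_eq_zero _).trans LinearMap.mem_range
  have hq0 : ∀ (N : Type u) [AddCommGroup N] [Module A N] (w : P.X (j - 1) ⊗[A] N),
      (q.restrictScalars A).rTensor N ((d'.restrictScalars A).rTensor N w) = 0 := fun N _ _ w =>
    ((rTensor_exact N hex hq) _).2 ⟨w, rfl⟩
  have hcyc : ∀ (N : ModuleCat.{u} A),
      (DRing.tensorCx ((BaseChange.resCx α).obj P) N).ExactAt j ↔
        ∀ z : P.X j ⊗[A] N, (d.restrictScalars A).rTensor N z = 0 →
          ∃ w : P.X (j - 1) ⊗[A] N, (d'.restrictScalars A).rTensor N w = z := fun N => by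
    rw [exactAt_iff_forall j (j - 1) (by omega)]
    exact Iff.rfl
  have hinj : Function.Injective ((v.restrictScalars A).lTensor (IsLocalRing.ResidueField A)) := by
    rw [LinearMap.lTensor_inj_iff_rTensor_inj, injective_iff_map_eq_zero]
    intro x hx
    obtain ⟨z, rfl⟩ := LinearMap.rTensor_surjective (IsLocalRing.ResidueField A) (g := q.restrictScalars A) hq x
    rw [← LinearMap.comp_apply, ← LinearMap.rTensor_comp, hvq] at hx
    obtain ⟨w, rfl⟩ := (hcyc _).1 (h j hj) z hx
    exact hq0 _ w
  haveI : Module.Finite L C := have := hfin j; Module.Finite.of_surjective q hq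
  obtain ⟨hv, hvflat, -, -⟩ := FlatMor.LocalInj.main v hinj
  rw [hcyc]
  intro z hz
  have h1 : (v.restrictScalars A).rTensor M ((q.restrictScalars A).rTensor M z) = 0 := by
    rw [← LinearMap.comp_apply, ← LinearMap.rTensor_comp, hvq, hz]
  have hv' : Function.Injective ((v.restrictScalars A).rTensor M) :=
    (LinearMap.lTensor_inj_iff_rTensor_inj _ _).1 (LocFlat.lTensor_injective_of_flat_coker
      (v.restrictScalars A) _ (v.restrictScalars A).exact_map_mkQ_range (Submodule.mkQ_surjective _) hv M)
  exact ((rTensor_exact M hex hq) z).1 (hv' (h1.trans (map_zero _).symm))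

/-- The tor amplitude version. -/
theorem torAmp_of_residue [IsLocalRing A] [IsLocalRing L] (α : A →+* L) [IsLocalHom α] (hα : α.Flat)
    (hess : @Algebra.EssFiniteType A L _ _ α.toAlgebra) (P : DRing.Cx L)
    (hfin : ∀ i, Module.Finite L (P.X i)) (hflat : ∀ i, Module.Flat L (P.X i)) {a b : ℤ}
    (hb : DRing.VanishesAbove P b)
    (h : ∀ j, j < a → (DRing.tensorCx ((BaseChange.resCx α).obj P)
      (ModuleCat.of A (IsLocalRing.ResidueField A))).ExactAt j) :
    DRing.HasTorAmplitudeIn A a b (DRing.toD ((BaseChange.resCx α).obj P)) := by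
  refine (hasTorAmp_iff (Thick.isKFlat_restrict_flat α hα
    (KFlat.isKFlat_of_boundedAbove_flat P b hb hflat)) (Iso.refl _) a b).2 fun M i hi => ?_
  rcases hi with hi | hi
  · exact exactAt_of_residue α hα hess P hfin hflat a h M i hi
  · exact ((DRing.tensorCx _ M).exactAt_iff i).2 (ShortComplex.exact_of_isZero_X₂ _
      ((tensorRight M).map_isZero ((ModuleCat.restrictScalars α).map_isZero (hb i hi))))

end Groth.Agent.PCohD.FibreAmp
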