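import Groth.Agent.PCohD.ThickPC
import Groth.Agent.DRing.PCDescent
import Groth.Agent.DRing.RelPCLoc
import Groth.Agent.DRing.Braid
import Groth.Agent.AffDef.Basic
import Groth.Agent.Omega.ConormalBC
import Groth.Prelude.Def_DerSch

/-!
# Relative tor amplitude along thickenings of the base
-/

set_option autoImplicit false
set_option backward.isDefEq.respectTransparency.types false

universe u

open CategoryTheory Limits AlgebraicGeometry MonoidalCategory
attribute [local instance] HasDerivedCategory.standard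

noncomputable section

namespace Groth.Agent.PCohD.Thick

open Groth.Agent.DRing Groth.Agent.KFlat

section Ring

variable {A' B' : Type u} [CommRing A'] [CommRing B']

/-- Restriction of scalars along a flat map preserves K-flatness. -/
theorem isKFlat_restrict_flat (α : A' →+* B') (hα : α.Flat) {P : DRing.Cx B'} (hP : DRing.IsKFlat B' P) :
    DRing.IsKFlat A' ((BaseChange.resCx α).obj P) := by
  intro M hM i
  have : (ModuleCat.restrictScalars.{u} α).PreservesHomology := Functor.preservesHomologyOfExact _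
  have hac : ∀ j, IsZero (((BaseChange.extCx α).obj M).homology j) := fun j =>
    ((ModuleCat.extendScalars.{u, u, u} α).map_isZero (hM j)).of_iso (PCDescent.homologyExtIso α hα M j)
  have h0 : IsZero ((P ⊗ (BaseChange.extCx α).obj M).homology i) :=
    (hP _ hac i).of_iso ((HomologicalComplex.homologyFunctor _ _ i).mapIso (Tensor.braid _ _))
  have h1 : IsZero (((BaseChange.resCx α).obj (P ⊗ (BaseChange.extCx α).obj M)).homology i) :=
    ((ModuleCat.restrictScalars α).map_isZero h0).of_iso (((P ⊗ (BaseChange.extCx α).obj M).sc i).mapHomologyIso (ModuleCat.restrictScalars α))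
  exact h1.of_iso ((HomologicalComplex.homologyFunctor _ _ i).mapIso
    (Tensor.braid _ _ ≪≫ (BaseChange.projCxIso α P M).symm))

variable {A B : Type u} [CommRing A] [CommRing B] {α : A' →+* B'} {ψ : A' →+* A} {φ : B' →+* B}
  {ρ : A →+* B}

/-- Tor amplitude over `A'` of a K-flat complex over a flat `A'`-algebra, from the one modulo a nilpotent ideal. -/
theorem torAmp_of_quotient (h : ∀ r, ρ (ψ r) = φ (α r)) (hα : α.Flat) (hψ : Function.Surjective ψ)
    (hnil : IsNilpotent (RingHom.ker ψ)) (hφ : Function.Surjective φ)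
    (hker : RingHom.ker φ = (RingHom.ker ψ).map α) {P : DRing.Cx B'} (hP : DRing.IsKFlat B' P) {a b : ℤ}
    (hT : DRing.HasTorAmplitudeIn A a b
      (DRing.toD ((BaseChange.resCx ρ).obj ((BaseChange.extCx φ).obj P)))) :
    DRing.HasTorAmplitudeIn A' a b (DRing.toD ((BaseChange.resCx α).obj P)) := by
  have hpo := AffDef.isPushout_of_ker ψ hψ α φ ρ hφ (RingHom.ext fun r => (h r).symm) hker
  let iAB' : Algebra A' B' := α.toAlgebra
  let iAA : Algebra A' A := ψ.toAlgebra
  let iB'B : Algebra B' B := φ.toAlgebra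
  let iAB : Algebra A B := ρ.toAlgebra
  let : Algebra A' B := (φ.comp α).toAlgebra
  have : IsScalarTower A' B' B := .of_algebraMap_eq fun _ => rfl
  have : IsScalarTower A' A B := .of_algebraMap_eq fun r => (h r).symm
  have : Algebra.IsPushout A' A B' B := CommRingCat.isPushout_iff_isPushout.mp hpo.flip
  let e := RelPC.sqIso α ψ φ ρ h (fun M => RelPC.bijective_sqHom α ψ φ ρ h iAB' iAA iB'B iAB rfl rfl rfl rfl M)
  let e' : (BaseChange.extCx ψ).obj ((BaseChange.resCx α).obj P) ≅
      (BaseChange.resCx ρ).obj ((BaseChange.extCx φ).obj P) :=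
    HomologicalComplex.Hom.isoOfComponents (fun n => e.app (P.X n))
      fun i j _ => (e.hom.naturality (P.d i j)).symm
  have := LTensor.hasLBaseChange ψ
  exact (Nilp.torAmp_iff ψ hψ hnil _ a b).1 (TorAmp.torAmp_of_iso
    ((DerivedCategory.Q.mapIso e').symm ≪≫
      Perfect.baseChangeIsoOfRep ψ (isKFlat_restrict_flat α hα hP) (Iso.refl _)) hT)

end Ring

variable {X Y : Scheme.{u}}

instance (f : X ⟶ Y) (x : X) : PreservesFiniteLimits (DerSch.stalkOver f x) :=
  have : (DerSch.stalkFunctor X x).PreservesHomology := inferInstance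
  have : PreservesFiniteLimits (DerSch.stalkFunctor X x) := (DerSch.stalkFunctor X x).preservesFiniteLimits_of_preservesHomology
  comp_preservesFiniteLimits _ _

instance (f : X ⟶ Y) (x : X) : PreservesFiniteColimits (DerSch.stalkOver f x) :=
  inferInstanceAs (PreservesFiniteColimits (DerSch.stalkFunctor X x ⋙ ModuleCat.restrictScalars _))

/-- Complexes of stalks only depend on the derived object. -/
def stalkCxOverIso (f : X ⟶ Y) (x : X) {F G : CochainComplex X.Modules ℤ} (e : DCoh.toD X F ≅ DCoh.toD X G) :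
    DRing.toD ((DerSch.stalkCxOver f x).obj F) ≅ DRing.toD ((DerSch.stalkCxOver f x).obj G) :=
  ((DerSch.stalkOver f x).mapDerivedCategoryFactors.app F).symm ≪≫
    (DerSch.stalkOver f x).mapDerivedCategory.mapIso e ≪≫
    (DerSch.stalkOver f x).mapDerivedCategoryFactors.app G

variable {X' Y' : Scheme.{u}} {f : X ⟶ Y} {f' : X' ⟶ Y'} {i : X ⟶ X'} {j : Y ⟶ Y'}

section

variable (hsq : IsPullback i f f' j) (hj : IsNilThick j)

/-- The map from the local ring of `Y'`. -/
abbrev psi (x : X) : Y'.presheaf.stalk (f' (i x)) ⟶ Y.presheaf.stalk (f x) :=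
  Y'.presheaf.stalkSpecializes (Specializes.of_eq (show j (f x) = f' (i x) from (congr($(hsq.w) x)).symm)) ≫ j.stalkMap (f x)

include hj in
theorem square (x : X) :
    (∀ r, f.stalkMap x (psi hsq x r) = i.stalkMap x (f'.stalkMap (i x) r)) ∧
      Function.Surjective (psi hsq x).hom ∧ IsNilpotent (RingHom.ker (psi hsq x).hom) ∧
      RingHom.ker (i.stalkMap x).hom = (RingHom.ker (psi hsq x).hom).map (f'.stalkMap (i x)).hom := by
  have := hj.closed
  have : IsClosedImmersion i := MorphismProperty.of_isPullback hsq.flip hj.closed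
  have w : f ≫ j = i ≫ f' := hsq.w.symm
  have heq : j (f x) = f' (i x) := (congr($(hsq.w) x)).symm
  let s : Y'.presheaf.stalk (f' (i x)) ⟶ Y'.presheaf.stalk (j (f x)) :=
    Y'.presheaf.stalkSpecializes (Specializes.of_eq heq)
  have : IsIso s := inferInstanceAs (IsIso (Y'.presheaf.stalkCongr (Inseparable.of_eq heq.symm)).hom)
  have hσ : ∀ r, Omega.StalkSeq.σ w x (s r) = f'.stalkMap (i x) r := fun r => by
    obtain ⟨U, hU, t, rfl⟩ := Y'.presheaf.exists_germ_eq (x := f' (i x)) r
    have hs' : s (Y'.presheaf.germ U _ hU t) = Y'.presheaf.germ U (j (f x)) (heq ▸ hU) t :=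
      ConcreteCategory.congr_hom (Y'.presheaf.germ_stalkSpecializes hU (Specializes.of_eq heq)) t
    rw [hs', Omega.StalkSeq.σ_germ, Scheme.Hom.germ_stalkMap_apply]
  have hs : Function.Bijective s.hom := ConcreteCategory.bijective_of_isIso s
  refine ⟨fun r => ?_, (hj.stalk_surjective (f x)).comp hs.2, ?_, ?_⟩
  · rw [← hσ r, Omega.StalkSeq.stalkMap_σ]
    rfl
  · obtain ⟨n, hn⟩ := hj.nilp (f x)
    refine ⟨n, ?_⟩
    rw [Ideal.zero_eq_bot] at hn ⊢
    refine (Ideal.map_eq_bot_iff_of_injective hs.1).1 (eq_bot_iff.2 ?_)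
    rw [Ideal.map_pow, ← hn]
    refine Ideal.pow_right_mono (Ideal.map_le_iff_le_comap.2 fun a ha => ?_) n
    rw [Ideal.mem_comap, RingHom.mem_ker]
    exact (ConcreteCategory.comp_apply s (j.stalkMap (f x)) a).symm.trans (RingHom.mem_ker.1 ha)
  · rw [Omega.ConormalBC.ker_stalkMap_eq_map hsq w x]
    apply le_antisymm
    · refine Ideal.map_le_iff_le_comap.2 fun k hk => ?_
      obtain ⟨r, rfl⟩ := hs.2 k
      rw [Ideal.mem_comap]
      change Omega.StalkSeq.σ w x (s r) ∈ _
      rw [hσ]
      exact Ideal.mem_map_of_mem _ hk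
    · refine Ideal.map_le_iff_le_comap.2 fun r hr => ?_
      rw [Ideal.mem_comap]
      change f'.stalkMap (i x) r ∈ _
      rw [← hσ]
      exact Ideal.mem_map_of_mem _ hr

include hsq hj in
/-- Nilpotent thickenings are stable under base change. -/
theorem isNilThick_of_isPullback : IsNilThick i := by
  refine ⟨MorphismProperty.of_isPullback hsq.flip hj.closed, MorphismProperty.of_isPullback hsq.flip hj.surj,
    fun x => ?_⟩
  obtain ⟨-, -, ⟨n, hn⟩, hk⟩ := square hsq hj x
  refine ⟨n, ?_⟩
  rw [hk, Ideal.zero_eq_bot, ← Ideal.map_pow, hn, Ideal.zero_eq_bot, Ideal.map_bot]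

include hsq hj in
/-- Tor amplitude relative to the base at a point, from the one over the thickened base. -/
theorem torAmpAt_of_pull [Flat f'] {P : CochainComplex X'.Modules ℤ} (hP : DCoh.IsKFlat P) {a b : ℤ} (x : X)
    (hT : DerSch.HasTorAmplitudeAt f a b ((Pull.pullCx i).obj P) x) :
    DerSch.HasTorAmplitudeAt f' a b P (i x) := by
  obtain ⟨h1, h2, h3, h4⟩ := square hsq hj x
  have hi := isNilThick_of_isPullback hsq hj
  exact torAmp_of_quotient (α := (f'.stalkMap (i x)).hom) (ψ := (psi hsq x).hom) (φ := (i.stalkMap x).hom)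
    (ρ := (f.stalkMap x).hom) h1 ((Flat.iff_flat_stalkMap f').1 ‹_› (i x)) h2 h3 (hi.stalk_surjective x) h4
    ((StalkCx.isKFlat_iff_stalk P).1 hP (i x))
    (TorAmp.torAmp_of_iso (DerivedCategory.Q.mapIso
      ((BaseChange.resCx (f.stalkMap x).hom).mapIso (Pull.stPullIso i x P))) hT)

end

end Groth.Agent.PCohD.Thick
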