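import Groth.Agent.DRing.TorAmpLocal
import Groth.Agent.DRing.Braid
import Groth.Agent.PCohD.ThickTor
import Mathlib.AlgebraicGeometry.AffineScheme
import Mathlib.RingTheory.Localization.LocalizationLocalization
import Mathlib.RingTheory.Localization.BaseChange

/-!
# Relative tor amplitude and generisation
-/

set_option autoImplicit false
set_option backward.isDefEq.respectTransparency.types false

universe u

open CategoryTheory Limits MonoidalCategory AlgebraicGeometry
open scoped TensorProduct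
attribute [local instance] HasDerivedCategory.standard

noncomputable section

namespace Groth.Agent.PCohD.Generise

open Groth.Agent.DRing Groth.Agent.KFlat DBasic Homology TorAmp

section Localization

variable {A₀ A : Type u} [CommRing A₀] [CommRing A]

/-- Extending the restriction of a module along a localisation gives the module back. -/
theorem isIso_counit (π : A₀ →+* A)
    (hπ : ∃ S : Submonoid A₀, @IsLocalization A₀ _ S A _ π.toAlgebra) (M : ModuleCat.{u} A) :
    IsIso ((ModuleCat.extendRestrictScalarsAdj.{u} π).counit.app M) := by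
  obtain ⟨S, hS⟩ := hπ
  letI : Algebra A₀ A := π.toAlgebra
  haveI := hS
  letI : Module A₀ M := Module.compHom M π
  haveI : IsScalarTower A₀ A M := IsScalarTower.of_algebraMap_smul fun _ _ => rfl
  haveI : TensorProduct.CompatibleSMul A₀ A A M := IsLocalization.tensorProduct_compatibleSMul S A A M
  rw [ConcreteCategory.isIso_iff_bijective]
  have hkey : ∀ x : A ⊗[A₀] M, ∃ m : M, x = (1 : A) ⊗ₜ[A₀] m := fun x => by
    induction x with
    | zero => exact ⟨0, (TensorProduct.tmul_zero M 1).symm⟩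
    | tmul a m => exact ⟨a • m, by rw [← TensorProduct.smul_tmul, smul_eq_mul, mul_one]⟩
    | add x y hx hy =>
      obtain ⟨m, rfl⟩ := hx
      obtain ⟨n, rfl⟩ := hy
      exact ⟨m + n, (TensorProduct.tmul_add _ _ _).symm⟩
  have happ : ∀ m : M, (ModuleCat.extendRestrictScalarsAdj.{u} π).counit.app M ((1 : A) ⊗ₜ[A₀] m) = m :=
    fun m => one_smul A m
  refine ⟨fun x y h => ?_, fun m => ⟨(1 : A) ⊗ₜ[A₀] m, happ m⟩⟩
  obtain ⟨m, rfl⟩ := hkey x
  obtain ⟨n, rfl⟩ := hkey y
  rw [show m = n from (happ m).symm.trans (h.trans (happ n))]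

variable {L₀ L : Type u} [CommRing L₀] [CommRing L] {β₀ : A₀ →+* L₀} {β : A →+* L} {π : A₀ →+* A}
  {σ : L₀ →+* L}

/-- Relative tor amplitude passes to a flat extension of the source over a localisation of the base. -/
theorem torAmp_generise (hsq : σ.comp β₀ = β.comp π) (hβ₀ : β₀.Flat) (hβ : β.Flat) (hσ : σ.Flat)
    (hπ : ∃ S : Submonoid A₀, @IsLocalization A₀ _ S A _ π.toAlgebra) {P : DRing.Cx L₀}
    (hP : DRing.IsKFlat L₀ P) {a b : ℤ}
    (h : DRing.HasTorAmplitudeIn A₀ a b (DRing.toD ((BaseChange.resCx β₀).obj P))) :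
    DRing.HasTorAmplitudeIn A a b
      (DRing.toD ((BaseChange.resCx β).obj ((BaseChange.extCx σ).obj P))) := by
  have h0 := (hasTorAmp_iff (Thick.isKFlat_restrict_flat β₀ hβ₀ hP) (Iso.refl _) a b).1 h
  refine (hasTorAmp_iff (Thick.isKFlat_restrict_flat β hβ (BaseChange.isKFlat_extCx σ hP))
    (Iso.refl _) a b).2 fun M i hi => ?_
  let N := (ModuleCat.restrictScalars π).obj M
  let Y := (BaseChange.extCx β₀).obj (SingleTensor.S0 N)
  have hN : (P ⊗ Y).ExactAt i := by
    refine (TensorAmp.exactAt_restrictCx_iff β₀ _ i).1 ?_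
    refine (exactAt_iff_of_quasiIso (BaseChange.projCxIso β₀ P (SingleTensor.S0 N) ≪≫
      Tensor.braid _ _ ≪≫ (SingleTensor.iso N _).symm).hom i).2 ?_
    exact h0 N i hi
  have hext : ((LTensor.extCx σ).obj (P ⊗ Y)).ExactAt i := by
    rw [HomologicalComplex.exactAt_iff_isZero_homology] at hN ⊢
    exact ((ModuleCat.extendScalars.{u, u, u} σ).map_isZero hN).of_iso (PCDescent.homologyExtIso σ hσ _ i)
  have h2 : ((BaseChange.extCx σ).obj P ⊗ (BaseChange.extCx σ).obj Y).ExactAt i :=
    (TensorAmp.exactAt_restrictCx_iff σ _ i).1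
      ((exactAt_iff_of_quasiIso (TorAmpLocal.extTensorExtIso σ P Y).hom i).2
        ((TensorAmp.exactAt_restrictCx_iff σ _ i).2 hext))
  have := isIso_counit π hπ M
  let e0 : (BaseChange.extCx π).obj (SingleTensor.S0 N) ≅ SingleTensor.S0 M :=
    (HomologicalComplex.singleMapHomologicalComplex (ModuleCat.extendScalars.{u, u, u} π)
        (ComplexShape.up ℤ) 0).app N ≪≫
      (HomologicalComplex.single (ModuleCat.{u} A) (ComplexShape.up ℤ) 0).mapIso
        (asIso ((ModuleCat.extendRestrictScalarsAdj.{u} π).counit.app M))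
  let e1 : (BaseChange.extCx σ).obj Y ≅ (BaseChange.extCx β).obj (SingleTensor.S0 M) :=
    (NatIso.mapHomologicalComplex ((ModuleCat.extendScalarsComp.{u} β₀ σ).symm ≪≫
      eqToIso (by rw [hsq]) ≪≫ ModuleCat.extendScalarsComp.{u} π β) (ComplexShape.up ℤ)).app _ ≪≫
      (BaseChange.extCx β).mapIso e0
  have h3 := (exactAt_iff_of_quasiIso (MonoidalCategory.whiskerLeftIso _ e1).hom i).1 h2
  refine (exactAt_iff_of_quasiIso (BaseChange.projCxIso β ((BaseChange.extCx σ).obj P)
    (SingleTensor.S0 M) ≪≫ Tensor.braid _ _ ≪≫ (SingleTensor.iso M _).symm).hom i).1 ?_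
  exact (TensorAmp.exactAt_restrictCx_iff β _ i).2 h3

end Localization

section Stalk

variable {X : Scheme.{u}}

/-- The map of stalks to a generisation is a localisation. -/
theorem isLocalization_stalkSpecializes {x c : X} (h : x ⤳ c) :
    ∃ S : Submonoid (X.presheaf.stalk c),
      @IsLocalization (X.presheaf.stalk c) _ S (X.presheaf.stalk x) _
        (X.presheaf.stalkSpecializes h).hom.toAlgebra := by
  obtain ⟨_, ⟨U, hU, rfl⟩, hcU, -⟩ :=
    X.isBasis_affineOpens.exists_subset_of_mem_open (Set.mem_univ c) isOpen_univ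
  have hxU : x ∈ U := h.mem_open U.2 hcU
  letI := TopCat.Presheaf.algebra_section_stalk X.presheaf ⟨x, hxU⟩
  letI := TopCat.Presheaf.algebra_section_stalk X.presheaf ⟨c, hcU⟩
  haveI := hU.isLocalization_stalk ⟨x, hxU⟩
  haveI := hU.isLocalization_stalk ⟨c, hcU⟩
  letI : Algebra (X.presheaf.stalk c) (X.presheaf.stalk x) :=
    (X.presheaf.stalkSpecializes h).hom.toAlgebra
  haveI : IsScalarTower Γ(X, U) (X.presheaf.stalk c) (X.presheaf.stalk x) :=
    IsScalarTower.of_algebraMap_eq fun r =>
      (TopCat.Presheaf.germ_stalkSpecializes_apply X.presheaf hcU h r).symm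
  have hle : (hU.primeIdealOf ⟨c, hcU⟩).asIdeal.primeCompl ≤
      (hU.primeIdealOf ⟨x, hxU⟩).asIdeal.primeCompl := by
    have he := (IsAffineOpen.isOpenImmersion_fromSpec hU).base_open.isEmbedding.isInducing
    have hs : hU.primeIdealOf ⟨x, hxU⟩ ⤳ hU.primeIdealOf ⟨c, hcU⟩ := by
      refine he.specializes_iff.mp ?_
      convert! h
      · exact hU.fromSpec_primeIdealOf ⟨x, hxU⟩
      · exact hU.fromSpec_primeIdealOf ⟨c, hcU⟩
    exact fun r hr hrx => hr ((PrimeSpectrum.le_iff_specializes _ _).mpr hs hrx)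
  exact ⟨_, IsLocalization.isLocalization_of_submonoid_le (X.presheaf.stalk c) (X.presheaf.stalk x)
    _ _ hle⟩

theorem flat_stalkSpecializes {x c : X} (h : x ⤳ c) : (X.presheaf.stalkSpecializes h).hom.Flat := by
  obtain ⟨S, hS⟩ := isLocalization_stalkSpecializes h
  letI : Algebra (X.presheaf.stalk c) (X.presheaf.stalk x) :=
    (X.presheaf.stalkSpecializes h).hom.toAlgebra
  haveI := hS
  exact IsLocalization.flat (X.presheaf.stalk x) S

end Stalk

end Groth.Agent.PCohD.Generise
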