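import Groth.Agent.PCohD.FibreAmp
import Groth.Agent.PCohD.Generise
import Groth.Agent.PCohD.Basic
import Groth.Agent.KFlat.TildeKFlat
import Groth.Agent.KFlat.TildePC
import Groth.Agent.KFlat.QCohModel
import Groth.Agent.DRing.PCTools
import Groth.Agent.S7240

/-!
# Tor amplitude near a closed fibre
-/

set_option autoImplicit false
set_option backward.isDefEq.respectTransparency.types false

universe u

open CategoryTheory Limits AlgebraicGeometry MonoidalCategory
attribute [local instance] HasDerivedCategory.standard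

noncomputable section

namespace Groth.Agent.PCohD.FibreGeom

open Groth.Agent.DRing Groth.Agent.KFlat

section Ring

variable {A B : Type u} [CommRing A] [CommRing B]

/-- A bijective extension of scalars is undone by restriction. -/
theorem nonempty_unit_iso (φ : A →+* B) (hφ : Function.Bijective φ) (P : DRing.Cx A) :
    Nonempty (P ≅ (BaseChange.resCx φ).obj ((BaseChange.extCx φ).obj P)) := by
  have hu : ∀ N : ModuleCat.{u} A, IsIso ((ModuleCat.extendRestrictScalarsAdj.{u} φ).unit.app N) := fun N => by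
    letI : Algebra A B := φ.toAlgebra
    rw [ConcreteCategory.isIso_iff_bijective]
    have hb : Function.Bijective (fun n : N => (1 : B) ⊗ₜ[A] n) := by
      let e : A ≃ₗ[A] B := LinearEquiv.ofBijective (Algebra.linearMap A B) hφ
      let e' : TensorProduct A A N ≃ₗ[A] TensorProduct A B N := TensorProduct.congr e (LinearEquiv.refl A N)
      have : (fun n : N => (1 : B) ⊗ₜ[A] n) = ⇑((TensorProduct.lid A N).symm.trans e') :=
        funext fun n => by simp [e', e]
      rw [this]
      exact LinearEquiv.bijective _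
    exact hb
  exact ⟨HomologicalComplex.Hom.isoOfComponents
    (fun n => @asIso _ _ _ _ ((ModuleCat.extendRestrictScalarsAdj.{u} φ).unit.app (P.X n)) (hu _))
    (fun i j _ => ((ModuleCat.extendRestrictScalarsAdj.{u} φ).unit.naturality (P.d i j)).symm)⟩

end Ring

variable {X : Scheme.{u}}

instance (x : X) : PreservesFiniteLimits (DerSch.stalkFunctor X x) :=
  have : (DerSch.stalkFunctor X x).PreservesHomology := inferInstance
  (DerSch.stalkFunctor X x).preservesFiniteLimits_of_preservesHomology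

instance (x : X) : PreservesFiniteColimits (DerSch.stalkFunctor X x) :=
  have : (DerSch.stalkFunctor X x).PreservesHomology := inferInstance
  (DerSch.stalkFunctor X x).preservesFiniteColimits_of_preservesHomology

/-- Complexes of stalks only depend on the derived object. -/
def stCxIso (x : X) {F G : CochainComplex X.Modules ℤ} (e : DCoh.toD X F ≅ DCoh.toD X G) :
    DRing.toD ((StalkCx.stCx x).obj F) ≅ DRing.toD ((StalkCx.stCx x).obj G) :=
  ((DerSch.stalkFunctor X x).mapDerivedCategoryFactors.app F).symm ≪≫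
    (DerSch.stalkFunctor X x).mapDerivedCategory.mapIso e ≪≫
    (DerSch.stalkFunctor X x).mapDerivedCategoryFactors.app G

/-- A pseudo-coherent complex on an affine open has stalks given by a complex of finite free modules. -/
theorem exists_rep {R : CommRingCat.{u}} (j : Spec R ⟶ X) [IsOpenImmersion j]
    (P : CochainComplex X.Modules ℤ) (hpc : ∀ m : ℤ, DCoh.IsPseudoCoherentD m (DCoh.toD X P)) :
    ∃ (E : DRing.Cx R) (b : ℤ), DRing.VanishesAbove E b ∧ DRing.TermwiseFiniteFree E ∧
      ∀ p : Spec R, Nonempty (DRing.toD ((BaseChange.extCx (TildeKFlat.toLocal R p)).obj E) ≅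
        DRing.toD ((BaseChange.extCx (j.stalkMap p).hom).obj ((StalkCx.stCx (j.base p)).obj P))) := by
  have := KFlat.TildeExact.preservesFiniteLimits_tilde R
  let K := DerivedCategory.Q.obj ((Pull.pullCx j).obj P)
  have hK : ∀ m : ℤ, DCoh.IsPseudoCoherentD m K := fun m =>
    pc_of_iso (PerfTri.Perfect.restrQ j P ≪≫ DerivedCategory.Q.mapIso ((QCohModel.restrJIso j).app P))
      (pc_restrict j (hpc m))
  have hq : DCoh.IsQCohD K := fun i =>
    (Groth.Agent.S7240.result (i - 1) K (hK (i - 1))).1 i (by omega)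
  obtain ⟨M, ⟨eM⟩⟩ := TildeD.exists_iso_of_isQCohD (R := R) K hq
  obtain ⟨E, b, hb, hE, ⟨eE⟩⟩ := (DRing.PC.pc'_iff M).2 fun m =>
    TildePC.isPseudoCoherent_of_tildeD (A := R) M m (pc_of_iso eM.symm (hK m))
  refine ⟨E, b, hb, hE, fun p => ⟨?_⟩⟩
  exact (DerivedCategory.Q.mapIso (TildeKFlat.stTildeIso R p E)).symm ≪≫
    stCxIso p (((tilde.functor R).mapDerivedCategoryFactors.app E).symm ≪≫
      (DCoh.tildeD R).mapIso eE ≪≫ eM) ≪≫
    DerivedCategory.Q.mapIso (Pull.stPullIso j p P)

variable {Y : Scheme.{u}} (f : X ⟶ Y)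

/-- The closed fibre condition at a point. -/
def ExactResidue (P : CochainComplex X.Modules ℤ) (a : ℤ) (x : X) : Prop :=
  ∀ k, k < a → (DRing.tensorCx ((BaseChange.resCx (f.stalkMap x).hom).obj ((StalkCx.stCx x).obj P))
    (ModuleCat.of (Y.presheaf.stalk (f.base x))
      (IsLocalRing.ResidueField (Y.presheaf.stalk (f.base x))))).ExactAt k

/-- On an affine open the tor amplitude at a point and all its generisations is controlled by the
residue field. -/
theorem exists_bound_open [Flat f] [LocallyOfFiniteType f] {U : X.Opens} (hU : IsAffineOpen U)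
    (P : CochainComplex X.Modules ℤ) (hP : DCoh.IsKFlat P)
    (hpc : ∀ m : ℤ, DCoh.IsPseudoCoherentD m (DCoh.toD X P)) :
    ∃ b : ℤ, ∀ (a : ℤ) (y y₀ : X), y ⤳ y₀ → y₀ ∈ U → ExactResidue f P a y₀ →
      DerSch.HasTorAmplitudeAt f a b P y := by
  obtain ⟨E, b, hb, hE, hiso⟩ := exists_rep hU.fromSpec P hpc
  refine ⟨b, fun a y y₀ hyy hy₀ hex => ?_⟩
  let j := hU.fromSpec
  have hy : y ∈ U := hyy.mem_open U.2 hy₀
  obtain ⟨p, rfl⟩ : ∃ p, j.base p = y := by rw [← Set.mem_range, hU.range_fromSpec]; exact hy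
  obtain ⟨p₀, rfl⟩ : ∃ p, j.base p = y₀ := by rw [← Set.mem_range, hU.range_fromSpec]; exact hy₀
  have hpp : p ⤳ p₀ := j.isOpenEmbedding.isInducing.specializes_iff.1 hyy
  let β : ∀ q : Spec Γ(X, U), Y.presheaf.stalk (f.base (j.base q)) →+*
      (Spec Γ(X, U)).presheaf.stalk q := fun q => ((j ≫ f).stalkMap q).hom
  have hβflat : ∀ q, (β q).Flat := fun q => Flat.stalkMap (j ≫ f) q
  have hEflat : ∀ q i, Module.Flat ((Spec Γ(X, U)).presheaf.stalk q)
      (((BaseChange.extCx (TildeKFlat.toLocal _ q)).obj E).X i) := fun q i =>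
    Perfect.flat_extendScalars _ (have := (hE i).2; inferInstance)
  have hEabove : ∀ q, DRing.VanishesAbove ((BaseChange.extCx (TildeKFlat.toLocal _ q)).obj E) b :=
    fun q i hi => (ModuleCat.extendScalars.{u, u, u} _).map_isZero (hb i hi)
  have hEK : ∀ q, DRing.IsKFlat _ ((BaseChange.extCx (TildeKFlat.toLocal _ q)).obj E) := fun q =>
    KFlat.isKFlat_of_boundedAbove_flat _ b (hEabove q) (hEflat q)
  have hcomp : ∀ q, β q = (j.stalkMap q).hom.comp (f.stalkMap (j.base q)).hom := fun q => by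
    simp only [β, Scheme.Hom.stalkMap_comp]
    rfl
  have hcmp : ∀ q, Nonempty (DRing.toD ((BaseChange.resCx (β q)).obj
      ((BaseChange.extCx (TildeKFlat.toLocal _ q)).obj E)) ≅
      DRing.toD ((BaseChange.resCx (f.stalkMap (j.base q)).hom).obj ((StalkCx.stCx (j.base q)).obj P))) := fun q => by
    obtain ⟨e⟩ := hiso q
    obtain ⟨u⟩ := nonempty_unit_iso (j.stalkMap q).hom (ConcreteCategory.bijective_of_isIso (j.stalkMap q))
      ((StalkCx.stCx (j.base q)).obj P)
    refine ⟨TensorAmp.restrictDIso (β q) e ≪≫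
      (TensorAmp.restrictDIso (β q) (Iso.refl _)).symm ≪≫ DerivedCategory.Q.mapIso ?_⟩
    refine eqToIso (by rw [hcomp q]; rfl) ≪≫ (NatIso.mapHomologicalComplex
      (ModuleCat.restrictScalarsComp'.{u} (f.stalkMap (j.base q)).hom (j.stalkMap q).hom _ rfl)
      (ComplexShape.up ℤ)).app _ ≪≫ ((BaseChange.resCx (f.stalkMap (j.base q)).hom).mapIso u.symm)
  obtain ⟨e₀⟩ := hcmp p₀
  have hsK : DRing.IsKFlat _ ((BaseChange.resCx (f.stalkMap (j.base p₀)).hom).obj
      ((StalkCx.stCx (j.base p₀)).obj P)) :=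
    Thick.isKFlat_restrict_flat _ (Flat.stalkMap f _) ((StalkCx.isKFlat_iff_stalk P).1 hP _)
  have h0 : DRing.HasTorAmplitudeIn (Y.presheaf.stalk (f.base (j.base p₀))) a b
      (DRing.toD ((BaseChange.resCx (β p₀)).obj
        ((BaseChange.extCx (TildeKFlat.toLocal _ p₀)).obj E))) := by
    have : IsLocalHom (β p₀) := inferInstanceAs (IsLocalHom ((j ≫ f).stalkMap p₀).hom)
    refine FibreAmp.torAmp_of_residue (β p₀) (hβflat p₀) (LocallyOfFiniteType.stalkMap (j ≫ f) p₀) _
      (fun i => ?_) (hEflat p₀) (hEabove p₀) fun k hk =>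
        (TorAmp.exactAt_tensor_congr (Thick.isKFlat_restrict_flat _ (hβflat p₀) (hEK p₀)) hsK e₀ _ k).2
          (hex k hk)
    have := (hE i).1
    letI : Algebra Γ(X, U) ((Spec Γ(X, U)).presheaf.stalk p₀) := (TildeKFlat.toLocal _ p₀).toAlgebra
    exact inferInstanceAs (Module.Finite _ (TensorProduct Γ(X, U) ((Spec Γ(X, U)).presheaf.stalk p₀) (E.X i)))
  have hπ : f.base (j.base p) ⤳ f.base (j.base p₀) := hyy.map f.base.hom.continuous
  have h1 := Generise.torAmp_generise (β₀ := β p₀) (β := β p) (π := (Y.presheaf.stalkSpecializes hπ).hom)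
    (σ := ((Spec Γ(X, U)).presheaf.stalkSpecializes hpp).hom)
    (by
      have := Scheme.Hom.stalkSpecializes_stalkMap (j ≫ f) p p₀ hpp
      exact congrArg CommRingCat.Hom.hom this.symm)
    (hβflat p₀) (hβflat p) (Generise.flat_stalkSpecializes hpp)
    (Generise.isLocalization_stalkSpecializes hπ) (hEK p₀) h0
  have hloc : ((Spec Γ(X, U)).presheaf.stalkSpecializes hpp).hom.comp (TildeKFlat.toLocal _ p₀) =
      TildeKFlat.toLocal _ p := RingHom.ext fun r =>
    TopCat.Presheaf.germ_stalkSpecializes_apply (Spec Γ(X, U)).presheaf (U := ⊤) (show p₀ ∈ (⊤ : (Spec Γ(X, U)).Opens) from trivial) hpp ((Scheme.ΓSpecIso Γ(X, U)).inv r)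
  obtain ⟨e⟩ := hcmp p
  refine TorAmp.torAmp_of_iso (DerivedCategory.Q.mapIso ((BaseChange.resCx (β p)).mapIso
    ((NatIso.mapHomologicalComplex ((ModuleCat.extendScalarsComp.{u} _ _).symm ≪≫ eqToIso (by rw [hloc]))
      (ComplexShape.up ℤ)).app E)) ≪≫ e) h1

variable {X₀ Y₀ : Scheme.{u}} {f₀ : X₀ ⟶ Y₀} {i : X₀ ⟶ X} {k : Y₀ ⟶ Y}

/-- The square of stalks of a cartesian square with a closed immersion. -/
theorem square_closed (hsq : IsPullback i f₀ f k) [IsClosedImmersion k] (x : X₀) :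
    (∀ r, f₀.stalkMap x (Thick.psi hsq x r) = i.stalkMap x (f.stalkMap (i x) r)) ∧
      Function.Surjective (Thick.psi hsq x).hom ∧ Function.Surjective (i.stalkMap x).hom ∧
      RingHom.ker (i.stalkMap x).hom = (RingHom.ker (Thick.psi hsq x).hom).map (f.stalkMap (i x)).hom := by
  have : IsClosedImmersion i := MorphismProperty.of_isPullback hsq.flip ‹_›
  have w : f₀ ≫ k = i ≫ f := hsq.w.symm
  have heq : k (f₀ x) = f (i x) := (congr($(hsq.w) x)).symm
  let s : Y.presheaf.stalk (f (i x)) ⟶ Y.presheaf.stalk (k (f₀ x)) :=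
    Y.presheaf.stalkSpecializes (Specializes.of_eq heq)
  have : IsIso s := inferInstanceAs (IsIso (Y.presheaf.stalkCongr (Inseparable.of_eq heq.symm)).hom)
  have hσ : ∀ r, Omega.StalkSeq.σ w x (s r) = f.stalkMap (i x) r := fun r => by
    obtain ⟨U, hU, t, rfl⟩ := Y.presheaf.exists_germ_eq (x := f (i x)) r
    have hs' : s (Y.presheaf.germ U _ hU t) = Y.presheaf.germ U (k (f₀ x)) (heq ▸ hU) t :=
      ConcreteCategory.congr_hom (Y.presheaf.germ_stalkSpecializes hU (Specializes.of_eq heq)) t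
    rw [hs', Omega.StalkSeq.σ_germ, Scheme.Hom.germ_stalkMap_apply]
  have hs : Function.Bijective s.hom := ConcreteCategory.bijective_of_isIso s
  refine ⟨fun r => ?_, (k.stalkMap_surjective (f₀ x)).comp hs.2, i.stalkMap_surjective x, ?_⟩
  · rw [← hσ r, Omega.StalkSeq.stalkMap_σ]
    rfl
  · rw [Omega.ConormalBC.ker_stalkMap_eq_map hsq w x]
    apply le_antisymm
    · refine Ideal.map_le_iff_le_comap.2 fun c hc => ?_
      obtain ⟨r, rfl⟩ := hs.2 c
      rw [Ideal.mem_comap]
      change Omega.StalkSeq.σ w x (s r) ∈ _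
      rw [hσ]
      exact Ideal.mem_map_of_mem _ hc
    · refine Ideal.map_le_iff_le_comap.2 fun r hr => ?_
      rw [Ideal.mem_comap]
      change f.stalkMap (i x) r ∈ _
      rw [← hσ]
      exact Ideal.mem_map_of_mem _ hr

/-- Tor amplitude on a closed fibre gives exactness against the residue field. -/
theorem exactResidue_of_pull (hsq : IsPullback i f₀ f k) [IsClosedImmersion k] [Flat f]
    {P : CochainComplex X.Modules ℤ} (hP : DCoh.IsKFlat P) {a b : ℤ} (x : X₀)
    (hT : DerSch.HasTorAmplitudeAt f₀ a b ((Pull.pullCx i).obj P) x) :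
    ExactResidue f P a (i.base x) := by
  obtain ⟨h, hψ, hφ, hker⟩ := square_closed f hsq x
  let α := (f.stalkMap (i x)).hom
  let ψ := (Thick.psi hsq x).hom
  let φ := (i.stalkMap x).hom
  let ρ := (f₀.stalkMap x).hom
  let S := (StalkCx.stCx (i x)).obj P
  have hpo := AffDef.isPushout_of_ker ψ hψ α φ ρ hφ (RingHom.ext fun r => (h r).symm) hker
  let iAB' : Algebra (Y.presheaf.stalk (f (i x))) (X.presheaf.stalk (i x)) := α.toAlgebra
  let iAA : Algebra (Y.presheaf.stalk (f (i x))) (Y₀.presheaf.stalk (f₀ x)) := ψ.toAlgebra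
  let iB'B : Algebra (X.presheaf.stalk (i x)) (X₀.presheaf.stalk x) := φ.toAlgebra
  let iAB : Algebra (Y₀.presheaf.stalk (f₀ x)) (X₀.presheaf.stalk x) := ρ.toAlgebra
  let : Algebra (Y.presheaf.stalk (f (i x))) (X₀.presheaf.stalk x) := (φ.comp α).toAlgebra
  have : IsScalarTower (Y.presheaf.stalk (f (i x))) (X.presheaf.stalk (i x)) (X₀.presheaf.stalk x) :=
    .of_algebraMap_eq fun _ => rfl
  have : IsScalarTower (Y.presheaf.stalk (f (i x))) (Y₀.presheaf.stalk (f₀ x)) (X₀.presheaf.stalk x) :=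
    .of_algebraMap_eq fun r => (h r).symm
  have : Algebra.IsPushout (Y.presheaf.stalk (f (i x))) (Y₀.presheaf.stalk (f₀ x))
      (X.presheaf.stalk (i x)) (X₀.presheaf.stalk x) := CommRingCat.isPushout_iff_isPushout.mp hpo.flip
  let e := RelPC.sqIso α ψ φ ρ h (fun M => RelPC.bijective_sqHom α ψ φ ρ h iAB' iAA iB'B iAB rfl rfl rfl rfl M)
  let e' : (BaseChange.extCx ψ).obj ((BaseChange.resCx α).obj S) ≅
      (BaseChange.resCx ρ).obj ((BaseChange.extCx φ).obj S) :=
    HomologicalComplex.Hom.isoOfComponents (fun n => e.app (S.X n))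
      fun c d _ => (e.hom.naturality (S.d c d)).symm
  have hSK : DRing.IsKFlat _ ((BaseChange.resCx α).obj S) :=
    Thick.isKFlat_restrict_flat α (Flat.stalkMap f (i x)) ((StalkCx.isKFlat_iff_stalk P).1 hP (i x))
  have hT' := TorAmp.torAmp_of_iso (DerivedCategory.Q.mapIso
    ((BaseChange.resCx ρ).mapIso (Pull.stPullIso i x P) ≪≫ e'.symm)) hT
  have hv := (TorAmp.hasTorAmp_iff (BaseChange.isKFlat_extCx ψ hSK) (Iso.refl _) a b).1 hT'
  intro c hc
  refine Nilp.exactAt_tensor_killed ψ hψ _ _ c (fun r hr z => ?_) fun N' => hv N' c (Or.inl hc)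
  obtain ⟨z, rfl⟩ := IsLocalRing.residue_surjective z
  change IsLocalRing.residue _ (r * z) = 0
  refine (IsLocalRing.residue_eq_zero_iff _).2 (Ideal.mul_mem_right z _ ?_)
  rw [IsLocalRing.mem_maximalIdeal, mem_nonunits_iff]
  intro hu
  have := hu.map ψ
  rw [RingHom.mem_ker.1 hr] at this
  exact not_isUnit_zero this

end Groth.Agent.PCohD.FibreGeom
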