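import Groth.Agent.PCohD.PerfAmp
import Groth.Agent.DRing.TorBalance
import Groth.Agent.DRing.DBasic
import Mathlib.Algebra.Homology.HomotopyCategory.KProjective

/-!
# Pseudo-coherent objects with stalks of finite tor amplitude are perfect
-/

set_option autoImplicit false

universe u

open CategoryTheory Limits AlgebraicGeometry
open scoped ZeroObject
open Groth.Agent.KFlat
open Groth.Agent.KFlat.TildePC (Appr appr_of_isIso)
open Groth.Agent.PerfTri (Perfect.restrQ Perfect.restrComp)
attribute [local instance] HasDerivedCategory.standard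

noncomputable section

namespace Groth.Agent.PCohD.PerfStalk

section Ring

variable {A : Type u} [CommRing A]

/-- The cokernel under an approximation of an object of tor amplitude `≥ a` is flat. -/
theorem flat_truncGE {R : DRing.Cx A} {b' : ℤ} (hR : ∀ i, Module.Projective A (R.X i))
    (hb' : ∀ i, b' < i → IsZero (R.X i)) {K : Dual.D A} {a d : ℤ}
    (h : DRing.HasTorAmplitudeIn A a d K) (φ : DRing.toD R ⟶ K) (hφ : Appr (a - 1) φ) :
    Module.Flat A ((CochainComplex.truncGE R a).X a) := by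
  obtain ⟨G, hv, hfl, ⟨e⟩⟩ := h
  have : R.IsStrictlyLE b' := (CochainComplex.isStrictlyLE_iff R b').mpr hb'
  have : ∀ i, Projective (R.X i) := fun i => (IsProjective.iff_projective (R.X i)).mp (hR i)
  have := CochainComplex.isKProjective_of_projective R b'
  obtain ⟨γ, hγ⟩ := Groth.Agent.DRing.DBasic.exists_Q_map_eq (L := G) (φ ≫ e.inv)
  have hγa : Appr (a - 1) (DerivedCategory.Q.map γ) := by
    rw [hγ]; exact hφ.comp (appr_of_isIso _ _)
  have : CochainComplex.IsStrictlyGE G a := (CochainComplex.isStrictlyGE_iff G a).mpr fun i hi => hv i (Or.inl hi)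
  let ψ := CochainComplex.truncGEMap γ a
  have hq : QuasiIso ψ := (CochainComplex.quasiIso_truncGEMap_iff γ a).mpr fun i hi => by
    rw [quasiIsoAt_iff_isIso_homologyMap]
    exact ((appr_Q_iff γ).mp hγa).1 i (by omega)
  let R' : CochainComplex (ModuleCat.{u} A) ℤ := CochainComplex.truncGE R a
  let G' : CochainComplex (ModuleCat.{u} A) ℤ := CochainComplex.truncGE G a
  have hGiso : ∀ i, G.X i ≅ G'.X i := fun i =>
    (HomologicalComplex.eval (ModuleCat.{u} A) _ i).mapIso (asIso (CochainComplex.πTruncGE G a))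
  let D := CochainComplex.mappingCone ψ
  let eX : ∀ i, D.X i ≅ R'.X (i + 1) ⊞ G'.X i := fun i =>
    HomologicalComplex.homotopyCofiber.XIsoBiprod ψ i (i + 1) rfl
  have hD : ∀ i, D.ExactAt i := fun i => (D.exactAt_iff_isZero_homology i).mpr
    (((DerivedCategory.homologyFunctor _ i).map_isZero
      ((Pretriangulated.Triangle.isZero₃_iff_isIso₁ _
        (DerivedCategory.mappingCone_triangle_distinguished ψ)).mpr
        (inferInstanceAs (IsIso (DerivedCategory.Q.map ψ))))).of_iso
      ((DerivedCategory.homologyFunctorFactors _ i).app D).symm)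
  have hz : ∀ i, IsZero (R'.X (i + 1)) → IsZero (G'.X i) → IsZero (D.X i) := fun i h1 h2 =>
    IsZero.of_iso ((biprod_isZero_iff _ _).mpr ⟨h1, h2⟩) (eX i)
  have hR'z : IsZero (R'.X (a - 1)) := R'.isZero_of_isStrictlyGE a _ (by omega)
  have hfl' : ∀ i, a - 1 < i → Module.Flat A (D.X i) := fun i hi => by
    have : Module.Flat A (R'.X (i + 1)) := by
      have := hR (i + 1)
      exact Module.Flat.of_linearEquiv (CochainComplex.truncGEXIso R a (i + 1) (by omega)).toLinearEquiv
    have : Module.Flat A (G'.X i) := by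
      have := hfl i
      exact Module.Flat.of_linearEquiv (hGiso i).symm.toLinearEquiv
    have := FlatMor.FlatLemmas.flat_prod (R := A) (M := R'.X (i + 1)) (N := G'.X i)
    exact Module.Flat.of_linearEquiv (eX i ≪≫ ModuleCat.biprodIsoProd _ _).toLinearEquiv
  have := PerfTor.flat_bottom D (a - 1) (max d (max b' a))
    (fun i hi => hz i ((hb' (i + 1) (by omega)).of_iso (CochainComplex.truncGEXIso R a (i + 1) (by omega)))
      ((hv i (Or.inr (by omega))).of_iso (hGiso i).symm))
    (hz _ (R'.isZero_of_isStrictlyGE a _ (by omega)) (G'.isZero_of_isStrictlyGE a _ (by omega)))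
    (fun i _ => hD i) hfl'
  exact Module.Flat.of_linearEquiv
    (eX (a - 1) ≪≫ (isoBiprodZero (G'.isZero_of_isStrictlyGE a _ (by omega))).symm ≪≫
      eqToIso (by rw [show a - 1 + 1 = a by omega])).symm.toLinearEquiv

end Ring

variable {X : Scheme.{u}}

/-- The truncation bottom, as a cokernel. -/
def truncBottom {C : Type*} [Category C] [Abelian C] (P : CochainComplex C ℤ) (a : ℤ) :
    cokernel (P.d (a - 1) a) ≅ (P.truncGE a).X a :=
  (cokernelIsCokernel _).coconePointUniqueUpToIso (P.opcyclesIsCokernel (a - 1) a (by simp)) ≪≫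
    (P.truncGEXIsoOpcycles a).symm

theorem appr_πTruncGE {C : Type*} [Category C] [Abelian C] [HasDerivedCategory C] (P : CochainComplex C ℤ)
    (a : ℤ) : Appr (a - 1) (DerivedCategory.Q.map (P.πTruncGE a)) := by
  refine (appr_Q_iff _).mpr ⟨fun i hi => ?_, ?_⟩
  · have := P.quasiIsoAt_πTruncGE a i (by omega)
    rwa [← quasiIsoAt_iff_isIso_homologyMap]
  · exact ⟨fun _ _ _ => ((HomologicalComplex.exactAt_iff_isZero_homology _ _).mp
      ((P.truncGE a).exactAt_of_isGE a (a - 1) (by omega))).eq_of_src _ _⟩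

/-- Tor amplitude of the stalks of a bounded complex, when all modules have finite tor dimension. -/
theorem exists_stalk_torAmp (y : X)
    (hX : ∀ (M : Type u) [AddCommGroup M] [Module (X.presheaf.stalk y) M],
      DRing.HasFiniteTorDim (X.presheaf.stalk y) M)
    (F : CochainComplex X.Modules ℤ) {c d : ℤ} (hv : ∀ i, i < c ∨ d < i → IsZero (F.homology i)) :
    ∃ a, a ≤ c ∧ DRing.HasTorAmplitudeIn (X.presheaf.stalk y) a d (PerfAmp.stD y F) := by
  let K := PerfAmp.stD y F
  have hs : ∀ i, i < c ∨ d < i → Subsingleton (Dual.HD (X.presheaf.stalk y) K i) := fun i hi => by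
    rw [Groth.Agent.DRing.DBasic.subsingleton_HD_toD_iff]
    exact (HomologicalComplex.exactAt_iff_isZero_homology _ _).mp
      (SchemeTor.exactAt_stalk y ((HomologicalComplex.exactAt_iff_isZero_homology _ _).mpr (hv i hi)))
  choose N hN using fun i => hX (Dual.HD (X.presheaf.stalk y) K i)
  obtain ⟨B, hB⟩ := ((Finset.Icc c d).image N).bddAbove
  refine ⟨c - B, by omega, Groth.Agent.DRing.Perfect.torAmp_of_cohomology K hs fun i => ?_⟩
  by_cases hi : i < c ∨ d < i
  · have := hs i hi
    exact Groth.Agent.DRing.Perfect.torAmp_of_isZero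
      ((DerivedCategory.singleFunctor _ 0).map_isZero (ModuleCat.isZero_of_subsingleton _)) _ _
  · have hNi : N i ≤ B := hB (Finset.mem_coe.mpr (Finset.mem_image_of_mem N (Finset.mem_Icc.mpr (by omega))))
    exact Groth.Agent.DRing.TorAmp.torAmp_mono
      ((Groth.Agent.DRing.TorBalance.hasTorDimLE_iff _ _).mp (hN i)) (by omega) (by omega)

/-- A bounded pseudo-coherent object with stalks of finite tor amplitude is perfect. -/
theorem isPerfect_of_stalks (hX : ∀ (x : X) (M : Type u) [AddCommGroup M] [Module (X.presheaf.stalk x) M],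
      DRing.HasFiniteTorDim (X.presheaf.stalk x) M)
    (F : CochainComplex X.Modules ℤ) {c d : ℤ} (hv : ∀ i, i < c ∨ d < i → IsZero (F.homology i))
    (hpc : ∀ m, DCoh.IsPseudoCoherentD m (DCoh.toD X F)) : DCoh.IsPerfect (DCoh.toD X F) := by
  refine (PerfTri.Perfect.near_iff _).mpr fun x => ?_
  obtain ⟨a, hac, ha⟩ := exists_stalk_torAmp x (hX x) F hv
  obtain ⟨P₀, hP₀, ⟨e₀⟩⟩ := PerfAmp.exists_flatRep F d fun i hi => hv i (Or.inr hi)
  obtain ⟨U, j, hj, ⟨u, rfl⟩, P, α, hP, hα⟩ := (pc_iff _).mp (hpc (a - 1)) x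
  let G₁ := (Pull.pullCx j).obj P₀
  let eK : (DCoh.restrictD j).obj (DCoh.toD X F) ≅ DerivedCategory.Q.obj G₁ :=
    (DCoh.restrictD j).mapIso e₀.symm ≪≫ Perfect.restrQ j P₀ ≪≫
      DerivedCategory.Q.mapIso ((NatIso.mapHomologicalComplex
        (Scheme.Modules.restrictFunctorIsoPullback j) (ComplexShape.up ℤ)).app P₀)
  let α₁ : DerivedCategory.Q.obj P ⟶ DerivedCategory.Q.obj G₁ := α ≫ eK.hom
  have hα₁ : Appr (a - 1) α₁ := hα.comp (appr_of_isIso _ _)
  -- `Q (truncGE P a) ≅ Q G₁`
  have hG₁ : G₁.IsGE a := (G₁.isGE_iff a).mpr fun i hi =>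
    (HomologicalComplex.exactAt_iff_isZero_homology _ _).mpr ((isZero_homology_Q G₁ i).mp
      ((FTFP.isZero_restr j ((isZero_homology_Q F i).mpr (hv i (Or.inl (by omega))))).of_iso
        ((DerivedCategory.homologyFunctor _ i).mapIso eK.symm)))
  obtain ⟨G₂, b₂, s, hs, hbs⟩ := DerivedCategory.left_fac α₁
  have hqs : QuasiIso s := (DerivedCategory.isIso_Q_map_iff_quasiIso _ s).mp hs
  have hb₂ : Appr (a - 1) (DerivedCategory.Q.map b₂) := by
    have hb : DerivedCategory.Q.map b₂ = α₁ ≫ DerivedCategory.Q.map s := by rw [hbs]; simp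
    rw [hb]; exact hα₁.comp (appr_of_isIso _ _)
  have h1 : QuasiIso (CochainComplex.truncGEMap b₂ a) :=
    (CochainComplex.quasiIso_truncGEMap_iff b₂ a).mpr fun i hi => by
      rw [quasiIsoAt_iff_isIso_homologyMap]
      exact ((appr_Q_iff b₂).mp hb₂).1 i (by omega)
  have h2 : QuasiIso (CochainComplex.truncGEMap s a) :=
    (CochainComplex.quasiIso_truncGEMap_iff s a).mpr fun i _ => inferInstance
  let P' := P.truncGE a
  let eP : DerivedCategory.Q.obj P' ≅ DerivedCategory.Q.obj G₁ :=
    asIso (DerivedCategory.Q.map (CochainComplex.truncGEMap b₂ a)) ≪≫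
      (asIso (DerivedCategory.Q.map (CochainComplex.truncGEMap s a))).symm ≪≫
      (asIso (DerivedCategory.Q.map (G₁.πTruncGE a))).symm
  -- the bottom term is flat at `u`
  have : DRing.HasLBaseChange (j.stalkMap u).hom := Groth.Agent.DRing.LTensor.hasLBaseChange _
  have hu : DRing.HasTorAmplitudeIn (U.presheaf.stalk u) a d (PerfAmp.stD u G₁) :=
    Groth.Agent.DRing.TorAmp.torAmp_of_iso
      ((Groth.Agent.DRing.Perfect.baseChangeIsoOfRep (j.stalkMap u).hom (PerfAmp.isKFlat_stalk hP₀ (j u))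
        (Iso.refl _)).symm ≪≫ DerivedCategory.Q.mapIso (Pull.stPullIso j u P₀).symm)
      (Groth.Agent.DRing.Perfect.torAmp_baseChange (j.stalkMap u).hom
        (Groth.Agent.DRing.TorAmp.torAmp_of_iso (PerfAmp.stDIso (j u) e₀).symm ha))
  obtain ⟨⟨lo, hi, hvP⟩, hfP⟩ := hP
  let Fu := DerSch.stalkFunctor U u
  have hproj : ∀ i, Module.Projective (U.presheaf.stalk u) (((StalkCx.stCx u).obj P).X i) := fun i => by
    have : (P.X i).IsQuasicoherent := PerfTri.Betti.isQuasicoherent_of_isFinLocFree (hfP i)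
    have : Module.Free (U.presheaf.stalk u) ((P.X i).presheaf.stalk u) := (Props.QProj.free_stalk (P.X i) (hfP i) u).1
    exact (inferInstance : Module.Projective (U.presheaf.stalk u) ((P.X i).presheaf.stalk u))
  let φ : DRing.toD ((StalkCx.stCx u).obj P) ⟶ PerfAmp.stD u G₁ :=
    (Fu.mapDerivedCategoryFactors.app P).inv ≫
      Fu.mapDerivedCategory.map (DerivedCategory.Q.map (P.πTruncGE a) ≫ eP.hom) ≫
      (Fu.mapDerivedCategoryFactors.app G₁).hom
  have hφ : Appr (a - 1) φ :=
    (appr_of_isIso _ _).comp ((KFlat.TildePC.Appr.map Fu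
      ((appr_πTruncGE P a).comp (appr_of_isIso _ _))).comp (appr_of_isIso _ _))
  have hflat := flat_truncGE hproj (fun i hi' => Fu.map_isZero (hvP i (Or.inr hi'))) hu φ hφ
  let C := cokernel (P.d (a - 1) a)
  have hflatC : Module.Flat (U.presheaf.stalk u) (Fu.obj C) :=
    Module.Flat.of_linearEquiv (PreservesCokernel.iso Fu (P.d (a - 1) a) ≪≫
      truncBottom ((StalkCx.stCx u).obj P) a).toLinearEquiv
  -- hence free nearby
  have : (P.X (a - 1)).IsQuasicoherent := PerfTri.Betti.isQuasicoherent_of_isFinLocFree (hfP _)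
  have : (P.X a).IsQuasicoherent := PerfTri.Betti.isQuasicoherent_of_isFinLocFree (hfP _)
  have : SheafOfModules.IsFinitePresentation.{u} (R := U.ringCatSheaf) (P.X (a - 1)) :=
    Props.QProj.isFP _ (hfP _)
  have hA' : CohB1.IsFT (P.X (a - 1)) := inferInstance
  have hfp := LimTop.isFP_cokernel hA' (Props.QProj.isFP _ (hfP a)) (P.d (a - 1) a)
  have : C.IsQuasicoherent := QCoh.isQuasicoherent_cokernel _
  obtain ⟨T, hT, huT, -⟩ := exists_isAffineOpen_mem_and_subset (TopologicalSpace.Opens.mem_top u)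
  have hfpT := (Props.QFP.isFP_iff _).mp hfp T hT
  have := Props.QProj.finite_stalk C hT huT
  have : Module.Flat (U.presheaf.stalk u) (C.presheaf.stalk u) := hflatC
  obtain ⟨W, n, huW, ⟨eW⟩⟩ := Props.QProj.exists_free_nhd C hT huT hfpT Module.free_of_flat_of_isLocalRing
  refine ⟨W, W.ι ≫ j, inferInstance, ⟨⟨u, huW⟩, rfl⟩, (resC W.ι).obj P',
    ⟨⟨a, max hi a, fun i hi' => (Scheme.Modules.restrictFunctor W.ι).map_isZero ?_⟩, fun i => ?_⟩,
    ⟨(Perfect.restrComp W.ι j _ rfl _).symm ≪≫ (DCoh.restrictD W.ι).mapIso (eK ≪≫ eP.symm) ≪≫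
      Perfect.restrQ W.ι P'⟩⟩
  · rcases hi' with hi' | hi'
    · exact P'.isZero_of_isStrictlyGE a i hi'
    · exact (hvP i (Or.inr (by omega))).of_iso (P.truncGEXIso a i (by omega))
  · rcases lt_trichotomy i a with h | rfl | h
    · exact KFlat.LocFree.isFinLocFree_of_iso
        (((HomologicalComplex.eval (W : Scheme.{u}).Modules _ i).map_isZero (isZero_zero _)).iso
          ((Scheme.Modules.restrictFunctor W.ι).map_isZero (P'.isZero_of_isStrictlyGE a i h)))
        (isStrictlyPerfect_zero.2 i)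
    · exact fun z => ⟨⊤, n, trivial, ⟨(Scheme.Modules.restrictFunctor _).mapIso
        ((Scheme.Modules.restrictFunctor W.ι).mapIso (truncBottom P i).symm ≪≫ eW) ≪≫ FTFP.restrFree _ n⟩⟩
    · exact KFlat.LocFree.isFinLocFree_restrict
        (KFlat.LocFree.isFinLocFree_of_iso (P.truncGEXIso a i h).symm (hfP i)) W

end Groth.Agent.PCohD.PerfStalk
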