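import Groth.Agent.PCohD.StalkExt
import Groth.Agent.DRing.PointHom.DualNbhd
import Mathlib.Algebra.Category.ModuleCat.Biproducts

/-!
# A bounded complex of finite free modules over a local ring spreads to a neighbourhood
-/

set_option autoImplicit false

universe u

open CategoryTheory Limits AlgebraicGeometry
open scoped ZeroObject
open Groth.Agent.PerfTri (Perfect.restrQ Perfect.restrComp)
open Groth.Agent.PerfTri.Nullhom (resC)
open Groth.Agent.KFlat
open Groth.Agent.PCohD.StalkExt
attribute [local instance] HasDerivedCategory.standard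

noncomputable section

namespace Groth.Agent.PCohD.StalkModel

variable {X : Scheme.{u}}

/-- The stalk of a free module of finite rank. -/
theorem nonempty_stalk_free (x : X) (n : ℕ) :
    Nonempty ((DerSch.stalkFunctor X x).obj (FlatMod.freeMod X n) ≅
      ModuleCat.of (X.presheaf.stalk x) (Fin n → X.presheaf.stalk x)) := by
  let S := DerSch.stalkFunctor X x
  obtain ⟨ε⟩ := Groth.Agent.DRing.PointHom.exists_unitStalkEquiv x
  have : S.IsLeftAdjoint := (StalkTensor.stalkSkyAdj x).isLeftAdjoint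
  let f : Fin n → X.Modules := fun _ => Coh.structureModule X
  exact ⟨PreservesCoproduct.iso S f ≪≫ Sigma.mapIso (fun _ => ε.toModuleIso) ≪≫
    (biproduct.isoCoproduct (fun _ : Fin n => ModuleCat.of (X.presheaf.stalk x) (X.presheaf.stalk x))).symm ≪≫
    ModuleCat.biproductIsoPi _⟩

theorem isFinLocFree_free (n : ℕ) : FlatMod.IsFinLocFree (FlatMod.freeMod X n) := fun _ =>
  ⟨⊤, n, trivial, ⟨FTFP.restrFree _ n⟩⟩

theorem nonempty_iso_of_ext {A B : Type u} [CommRing A] [CommRing B] (φ : A →+* B) (h : Function.Bijective φ)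
    {K L : CochainComplex (ModuleCat.{u} A) ℤ}
    (t : Nonempty ((BaseChange.extCx φ).obj K ≅ (BaseChange.extCx φ).obj L)) : Nonempty (K ≅ L) := by
  obtain ⟨t⟩ := t
  let F := ModuleCat.extendScalars.{u, u, u} φ
  have : F.IsEquivalence := isEquivalence_extend φ h
  refine ⟨HomologicalComplex.Hom.isoOfComponents (fun i => F.preimageIso ((HomologicalComplex.eval _ _ i).mapIso t))
    fun i j _ => F.map_injective ?_⟩
  simp only [Functor.map_comp, Functor.preimageIso_hom, Functor.map_preimage]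
  exact t.hom.comm i j

theorem stalk_comp_zero {V : Scheme.{u}} (j : V ⟶ X) [IsOpenImmersion j] (v : V) {P P' P'' : X.Modules}
    (g : (DerSch.stalkFunctor X (j v)).obj P ⟶ (DerSch.stalkFunctor X (j v)).obj P')
    (g' : (DerSch.stalkFunctor X (j v)).obj P' ⟶ (DerSch.stalkFunctor X (j v)).obj P'') (h : g ≫ g' = 0)
    (l : P.restrict j ⟶ P'.restrict j) (l' : P'.restrict j ⟶ P''.restrict j)
    (hl : (DerSch.stalkFunctor V v).map l = (stRes j v).hom.app P ≫
      (ModuleCat.extendScalars.{u, u, u} (j.stalkMap v).hom).map g ≫ (stRes j v).inv.app P')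
    (hl' : (DerSch.stalkFunctor V v).map l' = (stRes j v).hom.app P' ≫
      (ModuleCat.extendScalars.{u, u, u} (j.stalkMap v).hom).map g' ≫ (stRes j v).inv.app P'') :
    (DerSch.stalkFunctor V v).map (l ≫ l') = 0 := by
  rw [Functor.map_comp, hl, hl']
  simp only [Category.assoc, Iso.inv_hom_id_app_assoc]
  rw [← Functor.map_comp_assoc, h, Functor.map_zero, zero_comp, comp_zero]

/-- The stalk of a double restriction, through a trivialisation. -/
def stTwo {V : Scheme.{u}} (j : V ⟶ X) [IsOpenImmersion j] {W : Scheme.{u}} (k : W ⟶ V) [IsOpenImmersion k]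
    (w : W) {P : X.Modules} {Q : ModuleCat.{u} (X.presheaf.stalk (j (k w)))}
    (e : (DerSch.stalkFunctor X (j (k w))).obj P ≅ Q) :
    (DerSch.stalkFunctor W w).obj ((P.restrict j).restrict k) ≅
      (ModuleCat.extendScalars.{u, u, u} (k.stalkMap w).hom).obj
        ((ModuleCat.extendScalars.{u, u, u} (j.stalkMap (k w)).hom).obj Q) :=
  (stRes k w).app (P.restrict j) ≪≫ (ModuleCat.extendScalars.{u, u, u} (k.stalkMap w).hom).mapIso
    ((stRes j (k w)).app P ≪≫ (ModuleCat.extendScalars.{u, u, u} (j.stalkMap (k w)).hom).mapIso e)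

theorem stTwo_comm {V : Scheme.{u}} (j : V ⟶ X) [IsOpenImmersion j] {W : Scheme.{u}} (k : W ⟶ V)
    [IsOpenImmersion k] (w : W) {P P' : X.Modules} {Q Q' : ModuleCat.{u} (X.presheaf.stalk (j (k w)))}
    (e : (DerSch.stalkFunctor X (j (k w))).obj P ≅ Q) (e' : (DerSch.stalkFunctor X (j (k w))).obj P' ≅ Q')
    (d : Q ⟶ Q') (l : P.restrict j ⟶ P'.restrict j)
    (hl : (DerSch.stalkFunctor V (k w)).map l = (stRes j (k w)).hom.app P ≫
      (ModuleCat.extendScalars.{u, u, u} (j.stalkMap (k w)).hom).map (e.hom ≫ d ≫ e'.inv) ≫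
        (stRes j (k w)).inv.app P') :
    (DerSch.stalkFunctor W w).map ((Scheme.Modules.restrictFunctor k).map l) ≫ (stTwo j k w e').hom =
      (stTwo j k w e).hom ≫ (ModuleCat.extendScalars.{u, u, u} (k.stalkMap w).hom).map
        ((ModuleCat.extendScalars.{u, u, u} (j.stalkMap (k w)).hom).map d) := by
  let N := stRes k w
  simp only [stTwo, Iso.trans_hom, Iso.app_hom, Functor.mapIso_hom, Category.assoc, ← Functor.map_comp]
  erw [NatTrans.naturality_assoc N.hom l]
  rw [Functor.comp_map, ← Functor.map_comp, hl]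
  simp only [Category.assoc, Iso.inv_hom_id_app_assoc, Functor.map_comp]
  simp only [← Functor.map_comp, Iso.inv_hom_id_assoc, Iso.inv_hom_id, Category.comp_id]
  rfl

/-- A bounded complex of finite projective modules over a local ring of a scheme is the stalk of a
complex which is strictly perfect near the point. -/
theorem exists_model (x : X) (E : DRing.Cx (X.presheaf.stalk x)) (a b : ℤ)
    (hv : DRing.VanishesOutside E a b) (hE : DRing.TermwiseFiniteProjective E) :
    ∃ (W : Scheme.{u}) (j : W ⟶ X) (_ : IsOpenImmersion j) (F' : CochainComplex X.Modules ℤ),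
      x ∈ Set.range j ∧ PerfTri.Perfect.IsSP ((DCoh.restrictD j).obj (DerivedCategory.Q.obj F')) ∧
      Nonempty ((StalkCx.stCx x).obj F' ≅ E) := by
  classical
  let A := (X.presheaf.stalk x : Type u)
  have hfin : ∀ i, Module.Finite A (E.X i) := fun i => (hE i).1
  have hfree : ∀ i, Module.Free A (E.X i) := fun i =>
    have := (hE i).2
    Module.free_of_flat_of_isLocalRing
  let n : ℤ → ℕ := fun i => Module.finrank A (E.X i)
  let P : ℤ → X.Modules := fun i => FlatMod.freeMod X (n i)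
  have e : ∀ i, (DerSch.stalkFunctor X x).obj (P i) ≅ E.X i := fun i =>
    (nonempty_stalk_free x (n i)).some ≪≫ (Module.finBasis A (E.X i)).equivFun.symm.toModuleIso
  have hP0 : ∀ i, i < a ∨ b < i → IsZero (P i) := fun i hi => by
    have hz : IsZero (E.X i) := hv i hi
    have := ModuleCat.subsingleton_of_isZero hz
    have hn : n i = 0 := Module.finrank_zero_of_subsingleton
    rw [IsZero.iff_id_eq_zero]
    refine Sigma.hom_ext _ _ fun k => ?_
    exact Fin.elim0 (hn ▸ k : Fin 0)
  let g : ∀ i, (DerSch.stalkFunctor X x).obj (P i) ⟶ (DerSch.stalkFunctor X x).obj (P (i + 1)) :=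
    fun i => (e i).hom ≫ E.d i (i + 1) ≫ (e (i + 1)).inv
  choose V₀ hxV₀ l₀ hl₀ using fun i => exists_lifts (isFinLocFree_free (n i)) x (g i)
  let V : X.Opens := (Finset.Icc a b).inf V₀
  have hxV : x ∈ V := mem_finset_inf _ _ _ hxV₀
  have hlift : ∀ i, ∃ l, Lifts x (g i) V l := fun i => by
    by_cases hi' : i ∈ Finset.Icc a b
    · exact (hl₀ i).shrink (Finset.inf_le hi')
    · refine ⟨0, ?_⟩
      have hz : IsZero (P i) := hP0 i (by simp only [Finset.mem_Icc] at hi'; omega)
      exact ((Scheme.Modules.restrictFunctor V.ι).map_isZero hz).eq_of_src _ _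
  choose l hl using hlift
  let v : (V : Scheme.{u}) := ⟨x, hxV⟩
  let R₁ := Scheme.Modules.restrictFunctor V.ι
  let S := DerSch.stalkFunctor (V : Scheme.{u}) v
  let E₁ := ModuleCat.extendScalars.{u, u, u} (V.ι.stalkMap v).hom
  have hst : ∀ i, S.map (l i) = (stRes V.ι v).hom.app (P i) ≫ E₁.map (g i) ≫ (stRes V.ι v).inv.app (P (i + 1)) :=
    fun i => Lifts.stalk_map v (hl i)
  have hdd : ∀ i, S.map (l i ≫ l (i + 1)) = 0 := fun i => by
    have h0 : g i ≫ g (i + 1) = 0 := by simp [g]
    exact stalk_comp_zero V.ι v (g i) (g (i + 1)) h0 _ _ (hst i) (hst (i + 1))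
  choose W₀ hvW₀ hW₀ using fun i =>
    exists_map_eq_zero (FreeLocus.isFinLocFree_restrict V.ι (isFinLocFree_free (n i))) (l i ≫ l (i + 1)) v (hdd i)
  let W : (V : Scheme.{u}).Opens := (Finset.Icc a b).inf W₀
  have hvW : v ∈ W := mem_finset_inf _ _ _ hvW₀
  let R := Scheme.Modules.restrictFunctor W.ι
  have hW : ∀ i, R.map (l i ≫ l (i + 1)) = 0 := fun i => by
    by_cases hi' : i ∈ Finset.Icc a b
    · exact map_eq_zero_of_le (Finset.inf_le hi') _ (hW₀ i)
    · exact (R.map_isZero (R₁.map_isZero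
        (hP0 i (by simp only [Finset.mem_Icc] at hi'; omega)))).eq_of_src _ _
  let G : CochainComplex (W : Scheme.{u}).Modules ℤ :=
    CochainComplex.of (fun i => R.obj (R₁.obj (P i))) (fun i => R.map (l i))
      fun i => (R.map_comp _ _).symm.trans (hW i)
  have hG : DCoh.IsStrictlyPerfect G :=
    ⟨⟨a, b, fun i hi => R.map_isZero (R₁.map_isZero (hP0 i hi))⟩, fun i =>
      FreeLocus.isFinLocFree_restrict W.ι (FreeLocus.isFinLocFree_restrict V.ι (isFinLocFree_free (n i)))⟩
  let F₁ : CochainComplex (V : Scheme.{u}).Modules ℤ :=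
    ((Scheme.Modules.pushforward W.ι).mapHomologicalComplex _).obj G
  let F' : CochainComplex X.Modules ℤ :=
    ((Scheme.Modules.pushforward V.ι).mapHomologicalComplex _).obj F₁
  let cV : (resC V.ι).obj F' ≅ F₁ := HomologicalComplex.Hom.isoOfComponents
    (fun i => (asIso (Scheme.Modules.restrictAdjunction V.ι).counit).app (F₁.X i))
    fun i j _ => ((Scheme.Modules.restrictAdjunction V.ι).counit.naturality (F₁.d i j)).symm
  let cW : (resC W.ι).obj F₁ ≅ G := HomologicalComplex.Hom.isoOfComponents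
    (fun i => (asIso (Scheme.Modules.restrictAdjunction W.ι).counit).app (G.X i))
    fun i j _ => ((Scheme.Modules.restrictAdjunction W.ι).counit.naturality (G.d i j)).symm
  let c : (resC W.ι).obj ((resC V.ι).obj F') ≅ G := (resC W.ι).mapIso cV ≪≫ cW
  let w : (W : Scheme.{u}) := ⟨v, hvW⟩
  refine ⟨W, W.ι ≫ V.ι, inferInstance, F', ⟨w, rfl⟩, ⟨G, hG,
    ⟨(Perfect.restrComp W.ι V.ι _ rfl _).symm ≪≫ (DCoh.restrictD W.ι).mapIso (Perfect.restrQ V.ι F') ≪≫
      Perfect.restrQ W.ι _ ≪≫ DerivedCategory.Q.mapIso c⟩⟩, ?_⟩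
  let k₁ := BaseChange.extCx (V.ι.stalkMap v).hom
  let k₂ := BaseChange.extCx (W.ι.stalkMap w).hom
  let E₂ := ModuleCat.extendScalars.{u, u, u} (W.ι.stalkMap w).hom
  -- the stalk of `G`
  let eG : ∀ i, (DerSch.stalkFunctor (W : Scheme.{u}) w).obj (G.X i) ≅ E₂.obj (E₁.obj (E.X i)) := fun i =>
    stTwo V.ι W.ι w (e i)
  have hGd : ∀ i, (DerSch.stalkFunctor (W : Scheme.{u}) w).map (G.d i (i + 1)) ≫ (eG (i + 1)).hom =
      (eG i).hom ≫ E₂.map (E₁.map (E.d i (i + 1))) := fun i => by
    rw [show G.d i (i + 1) = R.map (l i) by simp [G]]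
    exact stTwo_comm V.ι W.ι w (e i) (e (i + 1)) (E.d i (i + 1)) (l i) (hst i)
  let eC : (StalkCx.stCx w).obj G ≅ k₂.obj (k₁.obj E) :=
    HomologicalComplex.Hom.isoOfComponents eG fun i j hij => by
      obtain rfl : i + 1 = j := hij
      exact (hGd i).symm
  let t : k₂.obj (k₁.obj ((StalkCx.stCx x).obj F')) ≅ k₂.obj (k₁.obj E) :=
    (stResCx W.ι w ((resC V.ι).obj F') ≪≫ k₂.mapIso (stResCx V.ι v F')).symm ≪≫
      (StalkCx.stCx w).mapIso c ≪≫ eC
  exact nonempty_iso_of_ext _ (ConcreteCategory.bijective_of_isIso (V.ι.stalkMap v))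
    (nonempty_iso_of_ext _ (ConcreteCategory.bijective_of_isIso (W.ι.stalkMap w)) ⟨t⟩)

end Groth.Agent.PCohD.StalkModel
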