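import Groth.Agent.DRing.TensorAmp
import Groth.Agent.DRing.Descent
import Groth.Agent.DRing.DBasic
import Groth.Agent.DRing.RelPCLoc
import Groth.Agent.PCohD.ThickTor
import Groth.Agent.KFlat.RelTor
import Groth.Agent.FDesc.BaseChangeStalk
import Groth.Agent.DRing.PointHom.DualNbhd

/-!
# Composition and flat base change of relative tor amplitude
-/

set_option autoImplicit false

universe u

open CategoryTheory CategoryTheory.Limits DerivedCategory MonoidalCategory AlgebraicGeometry
open scoped TensorProduct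

attribute [local instance] HasDerivedCategory.standard

noncomputable section

namespace Groth.Agent.PCohD.TorComp

open Groth.Agent.DRing Groth.Agent.DRing.KFlat Groth.Agent.DRing.TorAmp

section Ring

variable {A B C : Type u} [CommRing A] [CommRing B] [CommRing C] (θ : A →+* B) (φ : B →+* C)

/-- Restriction along a composite. -/
def restrictCompIso (K : DRing.Cx C) :
    (DRing.restrictCx (φ.comp θ)).obj K ≅ (DRing.restrictCx θ).obj ((DRing.restrictCx φ).obj K) :=
  HomologicalComplex.Hom.isoOfComponents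
    (fun i => ModuleCat.restrictScalarsComp'App θ φ (φ.comp θ) rfl (K.X i)) fun i j _ => rfl

/-- Restriction of scalars keeps quasi-isomorphisms. -/
def restrictQIso {K L : DRing.Cx B} (f : K ⟶ L) [QuasiIso f] :
    DRing.toD ((DRing.restrictCx θ).obj K) ≅ DRing.toD ((DRing.restrictCx θ).obj L) :=
  have : (ModuleCat.restrictScalars.{u} θ).PreservesHomology := Functor.preservesHomologyOfExact _
  have : QuasiIso ((DRing.restrictCx θ).map f) :=
    inferInstanceAs (QuasiIso (((ModuleCat.restrictScalars.{u} θ).mapHomologicalComplex _).map f))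
  asIso (Q.map ((DRing.restrictCx θ).map f))

/-- The unit of the tensor product of complexes. -/
def unitLeftIso (Z : DRing.Cx C) : SingleTensor.S0 (ModuleCat.of C C) ⊗ Z ≅ Z :=
  (SingleTensor.iso (ModuleCat.of C C) Z).symm ≪≫
    (NatIso.mapHomologicalComplex (rightUnitorNatIso (ModuleCat.{u} C)) (ComplexShape.up ℤ)).app Z ≪≫
      (Functor.mapHomologicalComplexIdIso (ModuleCat.{u} C) (ComplexShape.up ℤ)).app Z

/-- Tor amplitudes add up in a composite. -/
theorem torAmp_pull_tensor (K : DRing.Cx C) (P : DRing.Cx B) (hP : IsKFlat P) {a b c d : ℤ}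
    (hK : DRing.HasTorAmplitudeIn B a b (DRing.toD ((DRing.restrictCx φ).obj K)))
    (hPA : DRing.HasTorAmplitudeIn A c d (DRing.toD ((DRing.restrictCx θ).obj P))) :
    DRing.HasTorAmplitudeIn A (a + c) (b + d)
      (DRing.toD ((DRing.restrictCx (φ.comp θ)).obj (K ⊗ (Groth.Agent.KFlat.BaseChange.extCx φ).obj P))) := by
  obtain ⟨E, hv, hf, ⟨e⟩⟩ := hK
  obtain ⟨R, π, hR, -, hq, -⟩ := KProjRes.exists_resolution ((DRing.restrictCx φ).obj K)
  obtain ⟨g, hg⟩ := DBasic.exists_Q_map_eq (L := E) (Q.map π ≫ e.inv)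
  have : QuasiIso g :=
    (DerivedCategory.isIso_Q_map_iff_quasiIso (C := ModuleCat.{u} B) g).1 (by rw [hg]; infer_instance)
  have := quasiIso_whiskerRight hP π
  have := quasiIso_whiskerRight hP g
  exact torAmp_of_iso
    ((restrictQIso θ (g ▷ P)).symm ≪≫ restrictQIso θ (π ▷ P) ≪≫
      Q.mapIso ((DRing.restrictCx θ).mapIso (Groth.Agent.KFlat.BaseChange.projCxIso φ K P).symm ≪≫
        (restrictCompIso θ φ _).symm))
    (TensorAmp.torAmp_restrict_tensor θ E P hv hf hPA)

/-- A complex of amplitude `[a, b]` over the middle ring. -/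
theorem torAmp_comp (K : DRing.Cx C) {a b c d : ℤ}
    (hK : DRing.HasTorAmplitudeIn B a b (DRing.toD ((DRing.restrictCx φ).obj K)))
    (hB : DRing.HasTorAmplitudeIn A c d
      (DRing.toD ((DRing.restrictCx θ).obj (SingleTensor.S0 (ModuleCat.of B B))))) :
    DRing.HasTorAmplitudeIn A (a + c) (b + d) (DRing.toD ((DRing.restrictCx (φ.comp θ)).obj K)) := by
  obtain ⟨E, hv, hf, ⟨e⟩⟩ := hK
  exact torAmp_of_iso
    (Q.mapIso ((DRing.restrictCx θ).mapIso (Tensor.braid _ _ ≪≫ unitLeftIso E)) ≪≫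
      ((ModuleCat.restrictScalars.{u} θ).mapDerivedCategoryFactors.app E).symm ≪≫
      (DRing.restrictD θ).mapIso e ≪≫ (ModuleCat.restrictScalars.{u} θ).mapDerivedCategoryFactors.app _ ≪≫
      Q.mapIso (restrictCompIso θ φ K).symm)
    (TensorAmp.torAmp_restrict_tensor θ E _ hv hf hB)

/-- Extension along a flat map over the base keeps the amplitude. -/
theorem torAmp_ext_flat (hφ : φ.Flat) (Q₀ : DRing.Cx B) {a b : ℤ}
    (h : DRing.HasTorAmplitudeIn A a b (DRing.toD ((DRing.restrictCx θ).obj Q₀))) :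
    DRing.HasTorAmplitudeIn A a b
      (DRing.toD ((DRing.restrictCx (φ.comp θ)).obj ((Groth.Agent.KFlat.BaseChange.extCx φ).obj Q₀))) := by
  let Cm := (ModuleCat.restrictScalars φ).obj (ModuleCat.of C C)
  have hC : Module.Flat B Cm := hφ
  let i2 : SingleTensor.S0 Cm ⊗ Q₀ ≅
      (DRing.restrictCx φ).obj ((Groth.Agent.KFlat.BaseChange.extCx φ).obj Q₀) :=
    ((NatIso.mapHomologicalComplex (SingleTensor.restrictExtendIso φ) (ComplexShape.up ℤ)).app Q₀ ≪≫
      SingleTensor.iso Cm Q₀).symm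
  have h0 := TensorAmp.torAmp_restrict_tensor θ (SingleTensor.S0 Cm) Q₀ (a := 0) (b := 0)
    (fun i hi => HomologicalComplex.isZero_single_obj_X _ _ _ _ (by omega))
    (fun i => by
      by_cases hi : i = 0
      · subst hi
        exact Module.Flat.of_linearEquiv
          (HomologicalComplex.singleObjXSelf (ComplexShape.up ℤ) 0 Cm).toLinearEquiv
      · have := ModuleCat.subsingleton_of_isZero
          (HomologicalComplex.isZero_single_obj_X (ComplexShape.up ℤ) 0 Cm i hi)
        infer_instance) h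
  rw [zero_add, zero_add] at h0
  exact torAmp_of_iso
    (Q.mapIso ((DRing.restrictCx θ).mapIso i2 ≪≫ (restrictCompIso θ φ _).symm)) h0

/-- Extension along a composite. -/
def extCompIso {ψ : A →+* C} (e : φ.comp θ = ψ) (K : DRing.Cx A) :
    (Groth.Agent.KFlat.BaseChange.extCx φ).obj ((Groth.Agent.KFlat.BaseChange.extCx θ).obj K) ≅
      (Groth.Agent.KFlat.BaseChange.extCx ψ).obj K :=
  (HomologicalComplex.Hom.isoOfComponents (fun n => ((ModuleCat.extendScalarsComp θ φ).app (K.X n)).symm)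
    (fun i j _ => ((ModuleCat.extendScalarsComp θ φ).inv.naturality (K.d i j)).symm) :
      (Groth.Agent.KFlat.BaseChange.extCx φ).obj ((Groth.Agent.KFlat.BaseChange.extCx θ).obj K) ≅
        (Groth.Agent.KFlat.BaseChange.extCx (φ.comp θ)).obj K) ≪≫ eqToIso (by rw [e])

variable {A' : Type u} [CommRing A'] [Algebra A A'] [Algebra A B]

/-- Tor amplitude is stable under flat base change. -/
theorem torAmp_pushout (hflat : Module.Flat A A') (P : DRing.Cx B) {a b : ℤ}
    (h : DRing.HasTorAmplitudeIn A a b (DRing.toD ((DRing.restrictCx (algebraMap A B)).obj P))) :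
    DRing.HasTorAmplitudeIn A' a b
      (DRing.toD ((DRing.restrictCx (Algebra.TensorProduct.includeLeftRingHom : A' →+* A' ⊗[A] B)).obj
        ((Groth.Agent.KFlat.BaseChange.extCx
          (Algebra.TensorProduct.includeRight (R := A) (A := A')).toRingHom).obj P))) := by
  let α := algebraMap A B
  let ψ := algebraMap A A'
  let φ' := (Algebra.TensorProduct.includeRight (R := A) (A := A') (B := B)).toRingHom
  let ρ : A' →+* A' ⊗[A] B := Algebra.TensorProduct.includeLeftRingHom
  have hsq : ∀ r, ρ (ψ r) = φ' (α r) := fun r =>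
    (Algebra.TensorProduct.algebraMap_apply r).symm.trans
      ((Algebra.TensorProduct.includeRight (R := A) (A := A') (B := B)).commutes r).symm
  let : Algebra B (A' ⊗[A] B) := Algebra.TensorProduct.rightAlgebra
  let e := Groth.Agent.DRing.RelPC.sqIso α ψ φ' ρ hsq (fun M =>
    Groth.Agent.DRing.RelPC.bijective_sqHom α ψ φ' ρ hsq inferInstance inferInstance inferInstance inferInstance
      (Algebra.algebra_ext _ _ fun _ => rfl) (Algebra.algebra_ext _ _ fun _ => rfl)
      (Algebra.algebra_ext _ _ fun _ => rfl) (Algebra.algebra_ext _ _ fun _ => rfl) M)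
  let e' : (Groth.Agent.KFlat.BaseChange.extCx ψ).obj ((DRing.restrictCx α).obj P) ≅
      (DRing.restrictCx ρ).obj ((Groth.Agent.KFlat.BaseChange.extCx φ').obj P) :=
    HomologicalComplex.Hom.isoOfComponents (fun n => e.app (P.X n))
      fun i j _ => (e.hom.naturality (P.d i j)).symm
  obtain ⟨R, π, hR, -, hq, -⟩ := KProjRes.exists_resolution ((DRing.restrictCx α).obj P)
  have hψ : ψ.Flat := RingHom.flat_algebraMap_iff.mpr hflat
  have : PreservesFiniteLimits (ModuleCat.extendScalars.{u, u, u} ψ) :=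
    ModuleCat.preservesFiniteLimits_extendScalars_of_flat hψ
  have : (ModuleCat.extendScalars.{u, u, u} ψ).PreservesHomology := Functor.preservesHomologyOfExact _
  have : QuasiIso ((Groth.Agent.KFlat.BaseChange.extCx ψ).map π) := inferInstance
  have := LTensor.hasLBaseChange ψ
  exact torAmp_of_iso
    ((Perfect.baseChangeIsoOfRep ψ (isKFlat_of_isKProjective R) (Iso.refl _)).symm ≪≫
      asIso (Q.map ((Groth.Agent.KFlat.BaseChange.extCx ψ).map π)) ≪≫ Q.mapIso e')
    (Perfect.torAmp_baseChange ψ (torAmp_of_iso (asIso (Q.map π)).symm h))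

end Ring

section Scheme

open Groth.Agent.KFlat (StalkCx.stCx StalkCx.stTensIso)
open Groth.Agent.KFlat.Pull

variable {X Y Z : Scheme.{u}}

/-- The stalk complex over the base, as a restriction. -/
def stalkCxOverRefl (f : X ⟶ Y) (x : X) (F : CochainComplex X.Modules ℤ) :
    (DerSch.stalkCxOver f x).obj F ≅
      (DRing.restrictCx (f.stalkMap x).hom).obj ((Groth.Agent.KFlat.StalkCx.stCx x).obj F) :=
  HomologicalComplex.Hom.isoOfComponents (fun _ => Iso.refl _) fun _ _ _ => by
    erw [Category.id_comp]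

/-- Restriction along equal maps. -/
def restrictCongr {A C : Type u} [CommRing A] [CommRing C] {ψ ψ' : A →+* C} (e : ψ = ψ') (K : DRing.Cx C) :
    (DRing.restrictCx ψ).obj K ≅ (DRing.restrictCx ψ').obj K :=
  eqToIso (by rw [e])

/-- Stalks over a composite. -/
def stalkCxCompIso (f : X ⟶ Y) (g : Y ⟶ Z) (x : X) (F : CochainComplex X.Modules ℤ) :
    (DerSch.stalkCxOver (f ≫ g) x).obj F ≅
      (DRing.restrictCx ((f.stalkMap x).hom.comp (g.stalkMap (f x)).hom)).obj
        ((Groth.Agent.KFlat.StalkCx.stCx x).obj F) :=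
  stalkCxOverRefl (f ≫ g) x F ≪≫
    restrictCongr (A := Z.presheaf.stalk (g (f x))) (congrArg CommRingCat.Hom.hom (Scheme.Hom.stalkMap_comp f g x)) _

/-- The structure sheaf in degree zero, at a stalk, is the local ring. -/
theorem torAmp_unit (g : Y ⟶ Z) (y : Y) {a b : ℤ} (h : DerSch.HasTorAmplitudeAt g a b (DerSch.unitCx Y) y) :
    DRing.HasTorAmplitudeIn (Z.presheaf.stalk (g y)) a b
      (DRing.toD ((DRing.restrictCx (g.stalkMap y).hom).obj
        (SingleTensor.S0 (ModuleCat.of (Y.presheaf.stalk y) (Y.presheaf.stalk y))))) := by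
  obtain ⟨ε⟩ := Groth.Agent.DRing.PointHom.exists_unitStalkEquiv y
  exact torAmp_of_iso (Q.mapIso ((DRing.restrictCx (g.stalkMap y).hom).mapIso
    ((HomologicalComplex.singleMapHomologicalComplex (DerSch.stalkFunctor Y y) (ComplexShape.up ℤ) 0).app _ ≪≫
      (HomologicalComplex.single _ (ComplexShape.up ℤ) 0).mapIso ε.toModuleIso))) h

/-- Tor amplitude in a composite. -/
theorem hasTorAmplitude_comp (f : X ⟶ Y) (g : Y ⟶ Z) {a b c d : ℤ}
    (hg : DerSch.HasTorAmplitude g c d (DerSch.unitCx Y)) (F : CochainComplex X.Modules ℤ)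
    (hF : DerSch.HasTorAmplitude f a b F) : DerSch.HasTorAmplitude (f ≫ g) (a + c) (b + d) F := fun x =>
  torAmp_of_iso (Q.mapIso (stalkCxCompIso f g x F).symm)
    (torAmp_comp _ _ _ (hF x) (torAmp_unit g (f x) (hg (f x))))

/-- A K-flat representative keeps the relative amplitude. -/
theorem hasTorAmplitude_resY (g : Y ⟶ Z) (G : CochainComplex Y.Modules ℤ) {c d : ℤ}
    (hG : DerSch.HasTorAmplitude g c d G) : DerSch.HasTorAmplitude g c d ((resY Y).obj G) := fun y => by
  have := quasiIso_resYπ G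
  exact torAmp_of_iso (Thick.stalkCxOverIso g y (asIso (Q.map ((resYπ Y).app G)))).symm (hG y)

/-- Tor amplitude of `F ⊗ f^*P` in a composite. -/
theorem hasTorAmplitude_tensor_pull (f : X ⟶ Y) (g : Y ⟶ Z) (F : CochainComplex X.Modules ℤ)
    (P : CochainComplex Y.Modules ℤ) (hP : DCoh.IsKFlat P) {a b c d : ℤ}
    (hF : DerSch.HasTorAmplitude f a b F) (hPg : DerSch.HasTorAmplitude g c d P) :
    DerSch.HasTorAmplitude (f ≫ g) (a + c) (b + d) ((DCoh.tensorCx.obj F).obj ((pullCx f).obj P)) := fun x =>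
  torAmp_of_iso (Q.mapIso ((stalkCxCompIso f g x _) ≪≫ (DRing.restrictCx _).mapIso
      (Groth.Agent.KFlat.StalkCx.stTensIso x F ((pullCx f).obj P) ≪≫
        MonoidalCategory.whiskerLeftIso _ (stPullIso f x P))).symm)
    (torAmp_pull_tensor _ _ _ _ ((Groth.Agent.KFlat.StalkCx.isKFlat_iff_stalk P).1 hP (f x)) (hF x) (hPg (f x)))

/-- Tor amplitude of an inverse image in a composite. -/
theorem hasTorAmplitude_pull (f : X ⟶ Y) (g : Y ⟶ Z)
    (P : CochainComplex Y.Modules ℤ) (hP : DCoh.IsKFlat P) {a b c d : ℤ}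
    (hf : DerSch.HasTorAmplitude f a b (DerSch.unitCx X)) (hPg : DerSch.HasTorAmplitude g c d P) :
    DerSch.HasTorAmplitude (f ≫ g) (a + c) (b + d) ((pullCx f).obj P) := fun x =>
  torAmp_of_iso (Q.mapIso ((stalkCxCompIso f g x _) ≪≫ (DRing.restrictCx _).mapIso
      (stPullIso f x P ≪≫ (unitLeftIso _).symm)).symm)
    (torAmp_pull_tensor _ _ _ _ ((Groth.Agent.KFlat.StalkCx.isKFlat_iff_stalk P).1 hP (f x))
      (torAmp_unit f x (hf x)) (hPg (f x)))

/-- The derived inverse image in a composite. -/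
theorem hasTorAmplitudeD_Lpull (f : X ⟶ Y) (g : Y ⟶ Z) [DCoh.HasLpull f]
    (G : CochainComplex Y.Modules ℤ) {a b c d : ℤ}
    (hf : DerSch.HasTorAmplitude f a b (DerSch.unitCx X)) (hG : DerSch.HasTorAmplitude g c d G) :
    DerSch.HasTorAmplitudeD (f ≫ g) (a + c) (b + d) ((DCoh.Lpull f).obj (DCoh.toD Y G)) := by
  rintro F' ⟨eF⟩ x
  let P := (resY Y).obj G
  have hP : DCoh.IsKFlat P := isKFlat_resY G
  have := quasiIso_resYπ G
  have := isIso_toPull f hP
  exact torAmp_of_iso (Thick.stalkCxOverIso (f ≫ g) x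
      (eF ≪≫ (DCoh.Lpull f).mapIso (asIso (Q.map ((resYπ Y).app G))).symm ≪≫ asIso ((toPull f).app P))).symm
    (hasTorAmplitude_pull f g P hP hf (hasTorAmplitude_resY g G hG) x)

/-- Derived tensor product with a derived inverse image in a composite. -/
theorem hasTorAmplitudeD_tensor_Lpull (f : X ⟶ Y) (g : Y ⟶ Z) (F : CochainComplex X.Modules ℤ)
    [DCoh.HasLpull f] [DCoh.HasLTensorCx F] (G : CochainComplex Y.Modules ℤ) {a b c d : ℤ}
    (hF : DerSch.HasTorAmplitude f a b F) (hG : DerSch.HasTorAmplitude g c d G) :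
    DerSch.HasTorAmplitudeD (f ≫ g) (a + c) (b + d)
      ((DCoh.LTensorCx F).obj ((DCoh.Lpull f).obj (DCoh.toD Y G))) := by
  rintro F' ⟨eF⟩ x
  let P := (resY Y).obj G
  have hP : DCoh.IsKFlat P := isKFlat_resY G
  have := quasiIso_resYπ G
  have := isIso_toPull f hP
  have := Groth.Agent.KFlat.LTensor.isIso_toTensor F (isKFlat_pullCx f hP)
  exact torAmp_of_iso (Thick.stalkCxOverIso (f ≫ g) x
      (eF ≪≫ (DCoh.LTensorCx F).mapIso
        ((DCoh.Lpull f).mapIso (asIso (Q.map ((resYπ Y).app G))).symm ≪≫ asIso ((toPull f).app P)) ≪≫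
      asIso ((Groth.Agent.KFlat.LTensor.toTensor F).app ((pullCx f).obj P)) ≪≫
      Q.mapIso (((Groth.Agent.KFlat.tensFlipIso X.sheaf).app ((pullCx f).obj P)).app F).symm)).symm
    (hasTorAmplitude_tensor_pull f g F P hP hF (hasTorAmplitude_resY g G hG) x)

/-- Inverse image along the first projection of a flat base change. -/
theorem hasTorAmplitude_baseChange {X' Y' : Scheme.{u}} {p : X' ⟶ X} {q : X' ⟶ Y'} {f : X ⟶ Y}
    {g : Y' ⟶ Y} (sq : IsPullback p q f g) [Flat g] (P : CochainComplex X.Modules ℤ) {a b : ℤ}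
    (hP : DerSch.HasTorAmplitude f a b P) : DerSch.HasTorAmplitude q a b ((pullCx p).obj P) := fun x' => by
  have he : g (q x') = f (p x') := by rw [← Scheme.Hom.comp_apply, ← Scheme.Hom.comp_apply, sq.w]
  let φ : Y.presheaf.stalk (f (p x')) ⟶ Y'.presheaf.stalk (q x') :=
    Y.presheaf.stalkSpecializes (specializes_of_eq he) ≫ g.stalkMap (q x')
  let : Algebra (Y.presheaf.stalk (f (p x'))) (X.presheaf.stalk (p x')) := (f.stalkMap (p x')).hom.toAlgebra
  let : Algebra (Y.presheaf.stalk (f (p x'))) (Y'.presheaf.stalk (q x')) := φ.hom.toAlgebra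
  let : Algebra (X.presheaf.stalk (p x')) (X'.presheaf.stalk x') := (p.stalkMap x').hom.toAlgebra
  let : Algebra (Y'.presheaf.stalk (q x')) (X'.presheaf.stalk x') := (q.stalkMap x').hom.toAlgebra
  let : Algebra (Y.presheaf.stalk (f (p x'))) (X'.presheaf.stalk x') :=
    (f.stalkMap (p x') ≫ p.stalkMap x').hom.toAlgebra
  have : IsScalarTower (Y.presheaf.stalk (f (p x'))) (X.presheaf.stalk (p x')) (X'.presheaf.stalk x') :=
    IsScalarTower.of_algebraMap_eq' rfl
  have : IsScalarTower (Y.presheaf.stalk (f (p x'))) (Y'.presheaf.stalk (q x')) (X'.presheaf.stalk x') := by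
    refine IsScalarTower.of_algebraMap_eq' (congrArg CommRingCat.Hom.hom
      (?_ : f.stalkMap (p x') ≫ p.stalkMap x' = φ ≫ q.stalkMap x'))
    rw [← Scheme.Hom.stalkMap_comp, Scheme.Hom.stalkMap_congr_hom _ _ sq.w x', Category.assoc,
      Scheme.Hom.stalkMap_comp]
    rfl
  let R := Y'.presheaf.stalk (q x') ⊗[Y.presheaf.stalk (f (p x'))] X.presheaf.stalk (p x')
  let μ : R →ₐ[Y.presheaf.stalk (f (p x'))] X'.presheaf.stalk x' :=
    Algebra.TensorProduct.productMap (IsScalarTower.toAlgHom _ _ _) (IsScalarTower.toAlgHom _ _ _)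
  have hμ : μ.toRingHom.Flat := FDesc.BaseChangeStalk.flat_stalk_of_isPullback sq x' (CommRingCat.ofHom μ.toRingHom)
    (by ext a; exact Algebra.TensorProduct.productMap_left_apply _ _ a)
    (by ext a; exact Algebra.TensorProduct.productMap_right_apply _ _ a) rfl rfl
  have hflat : Module.Flat (Y.presheaf.stalk (f (p x'))) (Y'.presheaf.stalk (q x')) :=
    (RingHom.Flat.of_bijective (ConcreteCategory.bijective_of_isIso
      (Y.presheaf.stalkCongr (Inseparable.of_eq he.symm)).hom)).comp (Flat.stalkMap g (q x'))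
  let inr : X.presheaf.stalk (p x') →+* R :=
    (Algebra.TensorProduct.includeRight (R := Y.presheaf.stalk (f (p x')))
      (A := Y'.presheaf.stalk (q x'))).toRingHom
  have hr : μ.toRingHom.comp inr = (p.stalkMap x').hom :=
    RingHom.ext fun b => Algebra.TensorProduct.productMap_right_apply _ _ b
  have hl : μ.toRingHom.comp (Algebra.TensorProduct.includeLeftRingHom : Y'.presheaf.stalk (q x') →+* R) =
      (q.stalkMap x').hom :=
    RingHom.ext fun b => Algebra.TensorProduct.productMap_left_apply _ _ b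
  have h1 := torAmp_ext_flat _ μ.toRingHom hμ _ (torAmp_pushout hflat ((Groth.Agent.KFlat.StalkCx.stCx (p x')).obj P)
    (torAmp_of_iso (Q.mapIso (stalkCxOverRefl f (p x') P)) (hP (p x'))))
  rw [hl] at h1
  let eE := extCompIso inr μ.toRingHom hr ((Groth.Agent.KFlat.StalkCx.stCx (p x')).obj P)
  exact torAmp_of_iso (Q.mapIso ((DRing.restrictCx (q.stalkMap x').hom).mapIso
    ((stPullIso p x' P) ≪≫ eE.symm)).symm) h1

/-- The derived inverse image under a flat base change. -/
theorem hasTorAmplitudeD_baseChange {X' Y' : Scheme.{u}} {p : X' ⟶ X} {q : X' ⟶ Y'} {f : X ⟶ Y}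
    {g : Y' ⟶ Y} (sq : IsPullback p q f g) [Flat g] [DCoh.HasLpull p] (F : CochainComplex X.Modules ℤ) {a b : ℤ}
    (hF : DerSch.HasTorAmplitude f a b F) :
    DerSch.HasTorAmplitudeD q a b ((DCoh.Lpull p).obj (DCoh.toD X F)) := by
  rintro F' ⟨eF⟩ x
  let P := (resY X).obj F
  have hP : DCoh.IsKFlat P := isKFlat_resY F
  have := quasiIso_resYπ F
  have := isIso_toPull p hP
  exact torAmp_of_iso (Thick.stalkCxOverIso q x
      (eF ≪≫ (DCoh.Lpull p).mapIso (asIso (Q.map ((resYπ X).app F))).symm ≪≫ asIso ((toPull p).app P))).symm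
    (hasTorAmplitude_baseChange sq P (hasTorAmplitude_resY f F hF) x)

end Scheme

end Groth.Agent.PCohD.TorComp
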