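import Groth.Agent.S1101
import Groth.Agent.PCohD.PerfAmp
import Groth.Agent.PCohD.PerfStalk
import Groth.Agent.PCohD.FreeLocus
import Groth.Agent.PCohD.StalkModel
import Groth.Agent.PCohD.TorComp
import Groth.Agent.KFlat.LocalD

/-!
# Perfection from perfection relative to the base and perfection of the fibres
-/

set_option autoImplicit false
set_option backward.isDefEq.respectTransparency.types false

universe u

open CategoryTheory CategoryTheory.Limits AlgebraicGeometry MonoidalCategory
open scoped TensorProduct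
attribute [local instance] HasDerivedCategory.standard

noncomputable section

namespace Groth.Agent.PCohD.FibrePerfect

open Groth.Agent.DRing Groth.Agent.KFlat
open Groth.Agent.PerfTri (Perfect.restrQ Perfect.restrComp)

section Ring

variable {A B B' : Type u} [CommRing A] [CommRing B] [CommRing B'] [IsLocalRing A] [IsLocalRing B]
  [Algebra A B] [IsLocalHom (algebraMap A B)] [Algebra.EssFiniteType A B]

/-- A finite module which is flat over the base and flat on the closed fibre is free. -/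
theorem free_of_fibre (M : Type u) [AddCommGroup M] [Module B M] [Module A M] [IsScalarTower A B M]
    [Module.Finite B M] [Module.Flat A M] (φ : B →+* B') (hφ : Function.Surjective φ)
    (hker : RingHom.ker φ = (IsLocalRing.maximalIdeal A).map (algebraMap A B))
    (h : Module.Flat B' ((ModuleCat.extendScalars.{u, u, u} φ).obj (ModuleCat.of B M))) :
    Module.Free B M := by
  letI : Algebra B B' := φ.toAlgebra
  haveI : Module.Flat B' (B' ⊗[B] M) := h
  have hle : RingHom.ker φ ≤ IsLocalRing.maximalIdeal B := by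
    rw [hker]
    exact Ideal.map_le_iff_le_comap.mpr (IsLocalRing.maximalIdeal_comap (algebraMap A B)).ge
  haveI : Nontrivial B' := nontrivial_of_ne (1 : B') 0 fun h1 => by
    have h2 : (1 : B) ∈ IsLocalRing.maximalIdeal B := hle (by rw [RingHom.mem_ker, map_one, h1])
    exact (IsLocalRing.maximalIdeal.isMaximal B).ne_top ((Ideal.eq_top_iff_one _).mpr h2)
  haveI : IsLocalRing B' := IsLocalRing.of_surjective' φ hφ
  haveI : Module.Free B' (B' ⊗[B] M) := Module.free_of_flat_of_isLocalRing
  let b := Module.Free.chooseBasis B' (B' ⊗[B] M)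
  let ι := Module.Free.ChooseBasisIndex B' (B' ⊗[B] M)
  have hsurj : Function.Surjective (TensorProduct.mk B B' M 1) := TensorProduct.mk_surjective B M B' hφ
  choose m hm using fun k : ι => hsurj (b k)
  let v : (ι → B) →ₗ[B] M := Fintype.linearCombination B m
  have hv1 : ∀ n : ι → B, TensorProduct.mk B B' M 1 (v n) = ∑ k, φ (n k) • b k := fun n => by
    rw [Fintype.linearCombination_apply, map_sum]
    refine Finset.sum_congr rfl fun k _ => ?_
    rw [map_smul, hm, ← algebraMap_smul B' (n k) (b k)]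
    rfl
  have hv : Function.Surjective v := by
    refine LinearMap.range_eq_top.mp (top_le_iff.mp ?_)
    refine Submodule.le_of_le_smul_of_le_jacobson_bot (I := RingHom.ker φ) Module.Finite.fg_top
      (by rw [IsLocalRing.jacobson_eq_maximalIdeal ⊥ bot_ne_top]; exact hle) fun z _ => ?_
    choose n hn using fun k : ι => hφ (b.repr (TensorProduct.mk B B' M 1 z) k)
    refine Submodule.mem_sup.mpr ⟨v n, LinearMap.mem_range_self v n, z - v n, ?_, by abel⟩
    refine LocFlat.Artinian.mem_smul_top_of_tmul_eq_zero (RingHom.ker φ) (z - v n) ?_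
    let e : (B ⧸ RingHom.ker φ) ≃ₐ[B] B' :=
      Ideal.quotientKerAlgEquivOfSurjective (f := Algebra.ofId B B') hφ
    apply (TensorProduct.congr e.toLinearEquiv (LinearEquiv.refl B M)).injective
    rw [map_zero, TensorProduct.congr_tmul]
    have he : e (Submodule.Quotient.mk 1) = 1 := map_one e
    change (e (Submodule.Quotient.mk 1)) ⊗ₜ[B] (z - v n) = 0
    rw [he]
    change TensorProduct.mk B B' M 1 (z - v n) = 0
    rw [map_sub, hv1, sub_eq_zero]
    refine (b.sum_repr _).symm.trans (Finset.sum_congr rfl fun k _ => ?_)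
    rw [hn]
  let J := IsLocalRing.maximalIdeal A
  have hinj : Function.Injective ((v.restrictScalars A).lTensor (IsLocalRing.ResidueField A)) := by
    refine FlatMor.LocalInj.lTensor_injective_of_mem (v.restrictScalars A) J fun n hn => ?_
    have h0 : TensorProduct.mk B B' M 1 (v n) = 0 := by
      refine Submodule.smul_induction_on (p := fun z => TensorProduct.mk B B' M 1 z = 0) hn
        (fun a ha z _ => ?_) fun z w hz hw => by rw [map_add, hz, hw, add_zero]
      rw [← algebraMap_smul B a z, map_smul, ← algebraMap_smul B' (algebraMap A B a)]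
      rw [show algebraMap B B' (algebraMap A B a) = 0 from RingHom.mem_ker.mp
        (hker ▸ Ideal.mem_map_of_mem _ ha), zero_smul]
    rw [hv1] at h0
    have h1 : ∀ k, n k ∈ (IsLocalRing.maximalIdeal A).map (algebraMap A B) := fun k => by
      rw [← hker, RingHom.mem_ker]
      exact Fintype.linearIndependent_iff.mp b.linearIndependent _ h0 k
    classical
    rw [show n = ∑ k, (n k) • (Pi.single k (1 : B) : ι → B) from pi_eq_sum_univ' n]
    refine Submodule.sum_mem _ fun k _ => ?_
    have h2 : (n k) • (Pi.single k (1 : B) : ι → B) ∈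
        ((IsLocalRing.maximalIdeal A).map (algebraMap A B)) • (⊤ : Submodule B (ι → B)) :=
      Submodule.smul_mem_smul (h1 k) trivial
    have h3 := (Ideal.smul_restrictScalars J (⊤ : Submodule B (ι → B))).le h2
    rwa [Submodule.restrictScalars_top] at h3
  exact Module.Free.of_equiv (LinearEquiv.ofBijective v ⟨(FlatMor.LocalInj.main v hinj).1, hv⟩)

end Ring

section Scheme

variable {X S : Scheme.{u}}

/-- The map of local rings of a fibre at a point equal to the image. -/
theorem exists_fibre_map {F : Scheme.{u}} (i : F ⟶ X) (f : X ⟶ S) (y : F) (x : X) (hy : i y = x)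
    (hsurj : Function.Surjective (i.stalkMap y).hom)
    (hk : RingHom.ker (i.stalkMap y).hom =
      (IsLocalRing.maximalIdeal (S.presheaf.stalk (f (i y)))).map (f.stalkMap (i y)).hom)
    (P : CochainComplex X.Modules ℤ) :
    ∃ φ : X.presheaf.stalk x →+* F.presheaf.stalk y, Function.Surjective φ ∧
      RingHom.ker φ = (IsLocalRing.maximalIdeal (S.presheaf.stalk (f x))).map (f.stalkMap x).hom ∧
      Nonempty ((StalkCx.stCx y).obj ((Pull.pullCx i).obj P) ≅
        (BaseChange.extCx φ).obj ((StalkCx.stCx x).obj P)) := by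
  subst hy
  exact ⟨_, hsurj, hk, ⟨Pull.stPullIso i y P⟩⟩

/-- Stalks of a perfect object have finite tor amplitude. -/
theorem exists_stalk_amp {F : Scheme.{u}} {K : DCoh.D F} (hK : DCoh.IsPerfect K)
    {P : CochainComplex F.Modules ℤ} (hP : DCoh.IsKFlat P) (e : DCoh.toD F P ≅ K) (y : F) :
    ∃ a b : ℤ, DRing.HasTorAmplitudeIn (F.presheaf.stalk y) a b (PerfAmp.stD y P) := by
  obtain ⟨U, j, hj, ⟨u, rfl⟩, E, hE, ⟨eE⟩⟩ := (PerfTri.Perfect.near_iff K).mp hK y
  obtain ⟨a, b, -, hab⟩ := PerfTor.exists_flatAmp hE eE.symm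
  have h := PerfAmp.stalk_torAmp
    (PerfTor.flatAmp_of_iso ((DCoh.restrictD j).mapIso e.symm ≪≫ Perfect.restrQ j P) hab) u
  exact ⟨a, b, PerfAmp.torAmp_of_extCx (j.stalkMap u).hom (ConcreteCategory.bijective_of_isIso _)
    (PerfAmp.isKFlat_stalk hP _) (TorAmp.torAmp_of_iso (DerivedCategory.Q.mapIso (StalkExt.stResCx j u P)) h)⟩

set_option maxHeartbeats 1000000 in
/-- Perfect relative to the base with perfect fibres gives strictly perfect near every point. -/
theorem perfect_at (f : X ⟶ S) [Flat f] [LocallyOfFinitePresentation f]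
    [∀ s : S, DCoh.HasLpull (f.fiberι s)]
    (K : DCoh.D X) (hK : ∀ m : ℤ, DCoh.IsPseudoCoherentD m K) (x : X)
    (hb : ∃ (V : X.Opens) (a : ℤ), x ∈ V ∧ ((DCoh.restrictD V.ι).obj K).IsGE a)
    (hfib : ∀ (s : S) (y : ↥(f.fiber s)), ∃ (W : (f.fiber s).Opens) (a : ℤ), y ∈ W ∧
      ((DCoh.restrictD W.ι).obj ((DCoh.Lpull (f.fiberι s)).obj K)).IsGE a)
    (hperf : ∀ s : S, DCoh.IsPerfect ((DCoh.Lpull (f.fiberι s)).obj K)) :
    ∃ (U : Scheme.{u}) (j : U ⟶ X) (_ : IsOpenImmersion j),
      x ∈ Set.range j ∧ PerfTri.Perfect.IsSP ((DCoh.restrictD j).obj K) := by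
  obtain ⟨V, a, hxV, hV⟩ := hb
  let P := (Pull.resY X).obj (DerivedCategory.Q.objPreimage K)
  have hP : DCoh.IsKFlat P := Pull.isKFlat_resY _
  have := Pull.quasiIso_resYπ (DerivedCategory.Q.objPreimage K)
  let eP : DCoh.toD X P ≅ K :=
    asIso (DerivedCategory.Q.map ((Pull.resYπ X).app (DerivedCategory.Q.objPreimage K))) ≪≫
      DerivedCategory.Q.objObjPreimageIso K
  have hPpc : ∀ m : ℤ, DCoh.IsPseudoCoherentD m (DCoh.toD X P) := fun m =>
    PCohD.pc_of_iso eP.symm (hK m)
  obtain ⟨y, hy⟩ : ∃ y, f.fiberι (f x) y = x := ⟨f.asFiber x, f.fiberι_asFiber x⟩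
  obtain ⟨W, a', hyW, hW⟩ := hfib (f x) y
  let eLP := (@asIso _ _ _ _ ((Pull.toPull (f.fiberι (f x))).app P) (Pull.isIso_toPull _ hP)).symm ≪≫
    (DCoh.Lpull (f.fiberι (f x))).mapIso eP
  obtain ⟨a'', b'', hamp'⟩ := exists_stalk_amp (hperf (f x)) (Pull.isKFlat_pullCx _ hP) eLP y
  obtain ⟨φx, hφs, hφk, ⟨eφ⟩⟩ := exists_fibre_map (f.fiberι (f x)) f y x hy
    ((f.fiberι (f x)).stalkMap_surjective y) (FlatMor.FibreStalk.ker_stalkMap_fiberι f (f x) y) P
  let c := min (min a a') a''
  have hres : PCohD.FibreGeom.ExactResidue f P c x := by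
    have h := Groth.Agent.S1101.exactResidue_of_fibre f (f x) y P W hyW c
      ((DerivedCategory.isGE_iff _ c).2 fun i hi =>
        (Groth.Agent.S1101.isZero_HD_of_isGE hW (show i < a' by omega)).of_iso
        ((DerivedCategory.homologyFunctor _ i).mapIso ((DCoh.restrictD W.ι).mapIso eLP)))
    rwa [hy] at h
  -- the affine model
  obtain ⟨U, hU, hxU, hUV⟩ := exists_isAffineOpen_mem_and_subset hxV
  obtain ⟨b₀, hb₀⟩ := PCohD.FibreGeom.exists_bound_open f hU P hP hPpc
  have hamp := hb₀ c x x (specializes_refl x) hxU hres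
  let R := Γ(X, U)
  let j := hU.fromSpec
  obtain ⟨E, b, hEb, hEf, ⟨eE⟩⟩ := Groth.Agent.S1101.exists_tilde_rep j P hPpc
  obtain ⟨p, rfl⟩ : ∃ p, j.base p = x := by rw [← Set.mem_range, hU.range_fromSpec]; exact hxU
  let tE := ((tilde.functor R).mapHomologicalComplex (ComplexShape.up ℤ)).obj E
  let g := j ≫ f
  let β := (g.stalkMap p).hom
  have hβ : β.Flat := Flat.stalkMap g p
  let EL := (BaseChange.extCx (TildeKFlat.toLocal R p)).obj E
  let T := (BaseChange.resCx β).obj EL
  have hELflat : ∀ i, Module.Flat ((Spec R).presheaf.stalk p) (EL.X i) := fun i =>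
    Perfect.flat_extendScalars _ (have := (hEf i).2; inferInstance)
  have hELK : DRing.IsKFlat _ EL := KFlat.isKFlat_of_boundedAbove_flat _ b
    (fun i hi => (ModuleCat.extendScalars.{u, u, u} _).map_isZero (hEb i hi)) hELflat
  have hTK : DRing.IsKFlat _ T := PCohD.Thick.isKFlat_restrict_flat β hβ hELK
  have hTflat : ∀ i, Module.Flat (S.presheaf.stalk (g.base p)) (T.X i) := fun i => by
    letI : Algebra (S.presheaf.stalk (g.base p)) ((Spec R).presheaf.stalk p) := β.toAlgebra
    letI : Module (S.presheaf.stalk (g.base p)) (EL.X i) := Module.compHom (EL.X i) β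
    haveI : IsScalarTower (S.presheaf.stalk (g.base p)) ((Spec R).presheaf.stalk p) (EL.X i) :=
      IsScalarTower.of_algebraMap_smul fun _ _ => rfl
    haveI : Module.Flat (S.presheaf.stalk (g.base p)) ((Spec R).presheaf.stalk p) := hβ
    haveI := hELflat i
    exact Module.Flat.trans (S.presheaf.stalk (g.base p)) ((Spec R).presheaf.stalk p) (EL.X i)
  have eT : DRing.toD T ≅ DRing.toD ((DerSch.stalkCxOver f (j.base p)).obj P) := by
    have hcomp : β = (j.stalkMap p).hom.comp (f.stalkMap (j.base p)).hom := by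
      simp only [β, g, Scheme.Hom.stalkMap_comp]
      rfl
    let u := (PCohD.FibreGeom.nonempty_unit_iso (j.stalkMap p).hom
      (ConcreteCategory.bijective_of_isIso (j.stalkMap p)) ((StalkCx.stCx (j.base p)).obj P)).some
    refine TensorAmp.restrictDIso β
        ((DerivedCategory.Q.mapIso (TildeKFlat.stTildeIso R p E)).symm ≪≫
          PCohD.FibreGeom.stCxIso p eE ≪≫ DerivedCategory.Q.mapIso (Pull.stPullIso j p P)) ≪≫
      (TensorAmp.restrictDIso β (Iso.refl _)).symm ≪≫ DerivedCategory.Q.mapIso ?_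
    exact eqToIso (by rw [hcomp]; rfl) ≪≫ (NatIso.mapHomologicalComplex
      (ModuleCat.restrictScalarsComp'.{u} (f.stalkMap (j.base p)).hom (j.stalkMap p).hom _ rfl)
      (ComplexShape.up ℤ)).app _ ≪≫ ((BaseChange.resCx (f.stalkMap (j.base p)).hom).mapIso u.symm)
  have hvan := (TorAmp.hasTorAmp_iff hTK eT c b₀).1 hamp
  -- the cokernel is free at `p`
  let jst := (j.stalkMap p).hom
  let σe := RingEquiv.ofBijective jst (ConcreteCategory.bijective_of_isIso (j.stalkMap p))
  let φ' := φx.comp σe.symm.toRingHom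
  have hφj : φ'.comp jst = φx := RingHom.ext fun r => congrArg φx (σe.symm_apply_apply r)
  let eEL : DRing.toD EL ≅ DRing.toD ((BaseChange.extCx jst).obj ((StalkCx.stCx (j.base p)).obj P)) :=
    (DerivedCategory.Q.mapIso (TildeKFlat.stTildeIso R p E)).symm ≪≫
      PCohD.FibreGeom.stCxIso p eE ≪≫ DerivedCategory.Q.mapIso (Pull.stPullIso j p P)
  have := LTensor.hasLBaseChange φ'
  let eF' := DRing.Perfect.baseChangeIsoOfRep φ' hELK eEL ≪≫
    (DRing.Perfect.baseChangeIsoOfRep φ'
      (BaseChange.isKFlat_extCx jst (PerfAmp.isKFlat_stalk hP (j.base p))) (Iso.refl _)).symm ≪≫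
    DerivedCategory.Q.mapIso (TorComp.extCompIso jst φ' hφj ((StalkCx.stCx (j.base p)).obj P) ≪≫ eφ.symm)
  let TF := (BaseChange.extCx φ').obj EL
  have hFflat : ∀ i, Module.Flat _ (TF.X i) := fun i =>
    have := hELflat i
    Perfect.flat_extendScalars φ' this
  have hvan' := (TorAmp.hasTorAmp_iff (BaseChange.isKFlat_extCx φ' hELK) eF' a'' b'').1 hamp'
  have hFcok := TorAmp.flat_coker hFflat c fun M => hvan' M (c - 1) (Or.inl (by omega))
  let M := cokernel (EL.d (c - 1) c)
  have hMfin : Module.Finite ((Spec R).presheaf.stalk p) M := by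
    have := (hEf c).1
    letI : Algebra R ((Spec R).presheaf.stalk p) := (TildeKFlat.toLocal R p).toAlgebra
    haveI : Module.Finite ((Spec R).presheaf.stalk p) (EL.X c) :=
      inferInstanceAs (Module.Finite _ (TensorProduct R ((Spec R).presheaf.stalk p) (E.X c)))
    exact Module.Finite.of_surjective (cokernel.π (EL.d (c - 1) c)).hom
      ((ModuleCat.epi_iff_surjective _).mp inferInstance)
  letI : Algebra (S.presheaf.stalk (g.base p)) ((Spec R).presheaf.stalk p) := β.toAlgebra
  letI : Module (S.presheaf.stalk (g.base p)) M := Module.compHom M β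
  haveI : IsScalarTower (S.presheaf.stalk (g.base p)) ((Spec R).presheaf.stalk p) M :=
    IsScalarTower.of_algebraMap_smul fun _ _ => rfl
  haveI : IsLocalHom (algebraMap (S.presheaf.stalk (g.base p)) ((Spec R).presheaf.stalk p)) :=
    inferInstanceAs (IsLocalHom (g.stalkMap p).hom)
  haveI : Algebra.EssFiniteType (S.presheaf.stalk (g.base p)) ((Spec R).presheaf.stalk p) :=
    LocallyOfFiniteType.stalkMap g p
  haveI : Module.Flat (S.presheaf.stalk (g.base p)) M := by
    have := TorAmp.flat_coker hTflat c fun N => hvan N (c - 1) (Or.inl (by omega))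
    exact Module.Flat.of_linearEquiv
      (PreservesCokernel.iso (ModuleCat.restrictScalars β) (EL.d (c - 1) c) ≪≫
        ModuleCat.cokernelIsoRangeQuotient (T.d (c - 1) c)).toLinearEquiv
  have hker : RingHom.ker φ' = (IsLocalRing.maximalIdeal (S.presheaf.stalk (g.base p))).map β := by
    have hcomp : β = jst.comp (f.stalkMap (j.base p)).hom := by
      simp only [β, g, jst, Scheme.Hom.stalkMap_comp]
      rfl
    refine (RingHom.comap_ker φx σe.symm.toRingHom).symm.trans ?_
    rw [hφk, hcomp]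
    exact (Ideal.comap_symm σe).trans (Ideal.map_map _ _)
  haveI : Module.Free ((Spec R).presheaf.stalk p) M := free_of_fibre M φ'
    (hφs.comp σe.symm.surjective) hker (by
      haveI := hFcok
      exact Module.Flat.of_linearEquiv
        (PreservesCokernel.iso (ModuleCat.extendScalars.{u, u, u} φ') (EL.d (c - 1) c) ≪≫
          ModuleCat.cokernelIsoRangeQuotient (TF.d (c - 1) c)).toLinearEquiv)
  have hflf : ∀ i, FlatMod.IsFinLocFree (tE.X i) := fun i =>
    (Groth.Agent.S12451.result (E.X i)).2 ⟨(hEf i).1, have := (hEf i).2; inferInstance⟩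
  let D := cokernel (tE.d (c - 1) c)
  have hDfree : Module.Free ((Spec R).presheaf.stalk p) (D.presheaf.stalk p) := by
    let eTE := TildeKFlat.stTildeIso R p E
    let eD : (DerSch.stalkFunctor (Spec R) p).obj D ≅ M :=
      PreservesCokernel.iso (DerSch.stalkFunctor (Spec R) p) (tE.d (c - 1) c) ≪≫
        cokernel.mapIso _ (EL.d (c - 1) c) ((HomologicalComplex.eval _ _ (c - 1)).mapIso eTE)
          ((HomologicalComplex.eval _ _ c).mapIso eTE) (eTE.hom.comm (c - 1) c).symm
    exact Module.Free.of_equiv eD.toLinearEquiv.symm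
  have hAq : ∀ i, (tE.X i).IsQuasicoherent := fun i =>
    PerfTri.Betti.isQuasicoherent_of_isFinLocFree (hflf i)
  have hD : CohB1.IsFP D := by
    have := hAq (c - 1)
    have := hAq c
    have : SheafOfModules.IsFinitePresentation.{u} (R := (Spec R).ringCatSheaf) (tE.X (c - 1)) :=
      Props.QProj.isFP _ (hflf (c - 1))
    exact LimTop.isFP_cokernel inferInstance (Props.QProj.isFP _ (hflf c)) _
  have : D.IsQuasicoherent := by
    have := hAq (c - 1)
    have := hAq c
    exact QCoh.isQuasicoherent_cokernel _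
  have : SheafOfModules.IsFinitePresentation.{u} (R := (Spec R).ringCatSheaf) D := hD
  obtain ⟨O, n, hpO, ⟨eO⟩⟩ := Props.QProj.exists_free_nhd D (isAffineOpen_top (Spec R)) (x := p) trivial
    ((Props.QFP.isFP_iff _).mp hD ⊤ (isAffineOpen_top (Spec R))) hDfree
  let N : X.Opens := j ''ᵁ O
  have hNU : N ≤ V := fun z hz => by
    obtain ⟨q, -, rfl⟩ := hz
    exact hUV (hU.range_fromSpec.le ⟨q, rfl⟩)
  have hr : Set.range N.ι ⊆ Set.range j := by
    rintro _ ⟨z, rfl⟩
    obtain ⟨q, -, hq⟩ := z.2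
    exact ⟨q, hq⟩
  let t := IsOpenImmersion.lift j N.ι hr
  have ht : t ≫ j = N.ι := IsOpenImmersion.lift_fac _ _ hr
  have htO : ∀ z, t z ∈ O := fun z => by
    obtain ⟨q, hqO, hq⟩ := z.2
    have : t z = q := j.isOpenEmbedding.injective (by rw [← Scheme.Hom.comp_apply, ht]; exact hq.symm)
    exact this ▸ hqO
  let tO := IsOpenImmersion.lift O.ι t (by rintro _ ⟨z, rfl⟩; rw [O.range_ι]; exact htO z)
  let G := (PerfTri.Nullhom.resC t).obj tE
  have hEK : DRing.IsKFlat R E :=
    KFlat.isKFlat_of_boundedAbove_flat _ b hEb fun i => have := (hEf i).2; inferInstance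
  let eG : DerivedCategory.Q.obj G ≅ (DCoh.restrictD N.ι).obj K :=
    DerivedCategory.Q.mapIso ((QCohModel.restrJIso t).app tE) ≪≫
      LocalD.pullQIso t (TildeKFlat.isKFlat_tilde R E hEK) (Pull.isKFlat_pullCx j hP) eE ≪≫
      DerivedCategory.Q.mapIso ((Pull.pullCxComp t j).app P ≪≫
        (NatIso.mapHomologicalComplex (Scheme.Modules.pullbackCongr ht) (ComplexShape.up ℤ)).app P ≪≫
        ((QCohModel.restrJIso N.ι).app P).symm) ≪≫
      (Perfect.restrQ N.ι P).symm ≪≫ (DCoh.restrictD N.ι).mapIso eP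
  have hNK := Groth.Agent.S1101.isGE_of_isGE_le hNU (show c ≤ a from le_trans (min_le_left _ _) (min_le_left _ _)) hV
  have hGge : G.IsGE c := (CochainComplex.isGE_iff _ _).mpr fun i hi =>
    (HomologicalComplex.exactAt_iff_isZero_homology _ _).mpr ((PCohD.isZero_homology_Q _ i).mp
      ((Groth.Agent.S1101.isZero_HD_of_isGE hNK hi).of_iso ((DerivedCategory.homologyFunctor _ i).mapIso eG)))
  let G' := G.truncGE c
  have hbot : FlatMod.IsFinLocFree (G'.X c) := by
    let F₀ := Scheme.Modules.restrictFunctor t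
    let e₁ : G'.X c ≅ (Scheme.Modules.pullback t).obj D :=
      (G.truncGEXIsoOpcycles c) ≪≫
        ((cokernelIsCokernel _).coconePointUniqueUpToIso (G.opcyclesIsCokernel (c - 1) c (by simp))).symm ≪≫
        (PreservesCokernel.iso F₀ (tE.d (c - 1) c)).symm ≪≫
        (Scheme.Modules.restrictFunctorIsoPullback t).app D
    refine KFlat.LocFree.isFinLocFree_of_iso
      ((Scheme.Modules.pullback tO).mapIso ((Scheme.Modules.restrictFunctorIsoPullback O.ι).app D) ≪≫
        (Scheme.Modules.pullbackComp tO O.ι).app D ≪≫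
        (Scheme.Modules.pullbackCongr (IsOpenImmersion.lift_fac _ _ _)).app D ≪≫ e₁.symm)
      (KFlat.LocFree.isFinLocFree_pull tO
        (KFlat.LocFree.isFinLocFree_of_iso eO.symm (StalkModel.isFinLocFree_free n)))
  refine ⟨_, N.ι, inferInstance, ?_, G', ⟨⟨c, max b c, fun i hi => ?_⟩, fun i => ?_⟩, ⟨?_⟩⟩
  · exact ⟨⟨_, p, hpO, rfl⟩, rfl⟩
  · rcases hi with hi | hi
    · exact G'.isZero_of_isStrictlyGE c i hi
    · exact (((Scheme.Modules.restrictFunctor t).map_isZero
        ((tilde.functor R).map_isZero (hEb i (by omega))))).of_iso (G.truncGEXIso c i (by omega))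
  · rcases lt_trichotomy i c with h | rfl | h
    · exact fun z => ⟨⊤, 0, trivial, ⟨((Scheme.Modules.restrictFunctor _).map_isZero
        (G'.isZero_of_isStrictlyGE c i h)).iso
          ((IsZero.iff_id_eq_zero _).mpr (Sigma.hom_ext _ _ fun i => Fin.elim0 i))⟩⟩
    · exact hbot
    · exact KFlat.LocFree.isFinLocFree_of_iso (G.truncGEXIso c i h).symm
        (FreeLocus.isFinLocFree_restrict t (hflf i))
  · exact eG.symm ≪≫ asIso (DerivedCategory.Q.map (G.πTruncGE c))

/-- A perfect object is locally bounded below. -/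
theorem isGE_of_perfect {K : DCoh.D X} (hK : DCoh.IsPerfect K) (x : X) :
    ∃ (V : X.Opens) (a : ℤ), x ∈ V ∧ ((DCoh.restrictD V.ι).obj K).IsGE a := by
  obtain ⟨V, hx, hV⟩ := hK x
  obtain ⟨E, ⟨⟨a, b, hv⟩, -⟩, ⟨e⟩⟩ := hV _ ⟨DerivedCategory.Q.objObjPreimageIso K⟩
  refine ⟨V, a, hx, (DerivedCategory.isGE_iff _ a).2 fun i hi => ?_⟩
  exact ((PCohD.isZero_homology_Q E i).mpr (ShortComplex.isZero_homology_of_isZero_X₂ _ (hv i (Or.inl hi)))).of_iso
    ((DerivedCategory.homologyFunctor _ i).mapIso
      ((DCoh.restrictD V.ι).mapIso (DerivedCategory.Q.objObjPreimageIso K).symm ≪≫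
        Perfect.restrQ V.ι _ ≪≫ e))

/-- Criterion of perfection by fibres. -/
theorem isPerfect_iff_fibres (f : X ⟶ S) [Flat f] [LocallyOfFinitePresentation f]
    [∀ s : S, DCoh.HasLpull (f.fiberι s)] (E : DCoh.D X) :
    DCoh.IsPerfect E ↔
      ((∀ m : ℤ, DCoh.IsPseudoCoherentD m E) ∧ DCoh.LocHasFiniteRelTorDim f E ∧
        ∀ s : S, DCoh.IsPerfect ((DCoh.Lpull (f.fiberι s)).obj E)) := by
  haveI : ∀ (Y : Scheme.{u}) (V : Y.Opens), PreservesFiniteLimits (Scheme.Modules.restrictFunctor V.ι) :=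
    fun Y V => inferInstance
  constructor
  · intro h
    have hfib : ∀ s : S, DCoh.IsPerfect ((DCoh.Lpull (f.fiberι s)).obj E) := fun s =>
      KFlat.LocalD.isPerfect_Lpull _ h
    exact ⟨PCohD.pc_of_perfect h, (Groth.Agent.S1101.result f E (PCohD.pc_of_perfect h)).2
      ⟨isGE_of_perfect h, fun s y => isGE_of_perfect (hfib s) y⟩, hfib⟩
  · rintro ⟨hpc, htor, hperf⟩
    obtain ⟨hb, hfib⟩ := (Groth.Agent.S1101.result f E hpc).1 htor
    exact (PerfTri.Perfect.near_iff E).mpr fun x => perfect_at f E hpc x (hb x) hfib hperf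

end Scheme

end Groth.Agent.PCohD.FibrePerfect
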