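import Groth.Agent.PCohD.TorComp
import Groth.Agent.KFlat.LocFree

/-!
# Base change of relative tor dimension between schemes flat over a common base
-/

set_option autoImplicit false

universe u

open CategoryTheory CategoryTheory.Limits DerivedCategory MonoidalCategory AlgebraicGeometry
open scoped TensorProduct

attribute [local instance] HasDerivedCategory.standard

noncomputable section

namespace Groth.Agent.PCohD.TorBC

open Groth.Agent.DRing Groth.Agent.DRing.KFlat Groth.Agent.DRing.TorAmp

section Ring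

variable {R A C : Type u} [CommRing R] [CommRing A] [CommRing C] [Algebra R A] [Algebra R C]
  {A' B : Type u} [CommRing A'] [CommRing B]

theorem quasiIso_restrict {A B : Type u} [CommRing A] [CommRing B] (φ : A →+* B) {K L : DRing.Cx B}
    (f : K ⟶ L) : QuasiIso ((Groth.Agent.KFlat.BaseChange.resCx φ).map f) ↔ QuasiIso f :=
  have : (ModuleCat.restrictScalars.{u} φ).PreservesHomology := Functor.preservesHomologyOfExact _
  HomologicalComplex.quasiIso_map_iff_of_preservesHomology f (ModuleCat.restrictScalars φ)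

/-- Extension along `A → A'` of a resolution stays one, when everything is flat over a common base. -/
theorem quasiIso_indep [Module.Flat R A] (α : A →+* B) (hB : (α.comp (algebraMap R A)).Flat) (ψ : A →+* A')
    (ν : C ⊗[R] A →+* A') (hν : ν.Flat)
    (hνψ : ν.comp (Algebra.TensorProduct.includeRight (R := R) (A := C)).toRingHom = ψ)
    {R₀ : DRing.Cx A} (π : R₀ ⟶ (DRing.restrictCx α).obj (SingleTensor.S0 (ModuleCat.of B B)))
    (hR : DRing.IsKFlat A R₀) (hπ : QuasiIso π) :
    QuasiIso ((Groth.Agent.KFlat.BaseChange.extCx ψ).map π) := by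
  let θ := algebraMap R A
  let η := algebraMap R C
  let φ' := (Algebra.TensorProduct.includeRight (R := R) (A := C) (B := A)).toRingHom
  let ρ : C →+* C ⊗[R] A := Algebra.TensorProduct.includeLeftRingHom
  have hθ : θ.Flat := RingHom.flat_algebraMap_iff.mpr inferInstance
  let S := (DRing.restrictCx α).obj (SingleTensor.S0 (ModuleCat.of B B))
  let π₁ := (Groth.Agent.KFlat.BaseChange.resCx θ).map π
  have hπ₁ : QuasiIso π₁ := (quasiIso_restrict θ π).mpr hπ
  have hk₁ := Thick.isKFlat_restrict_flat θ hθ hR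
  have hk₂ : DRing.IsKFlat R ((Groth.Agent.KFlat.BaseChange.resCx θ).obj S) := by
    have hflat : ∀ i, Module.Flat R (((Groth.Agent.KFlat.BaseChange.resCx θ).obj S).X i) := fun i => by
      by_cases hi : i = 0
      · subst hi
        have : Module.Flat R ((ModuleCat.restrictScalars (α.comp θ)).obj (ModuleCat.of B B)) := hB
        exact Module.Flat.of_linearEquiv
          ((ModuleCat.restrictScalars θ).mapIso ((ModuleCat.restrictScalars α).mapIso
            (HomologicalComplex.singleObjXSelf (ComplexShape.up ℤ) 0 (ModuleCat.of B B))) ≪≫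
            (ModuleCat.restrictScalarsComp'App θ α (α.comp θ) rfl (ModuleCat.of B B)).symm).toLinearEquiv
      · have := ModuleCat.subsingleton_of_isZero
          ((ModuleCat.restrictScalars θ).map_isZero ((ModuleCat.restrictScalars α).map_isZero
            (HomologicalComplex.isZero_single_obj_X (ComplexShape.up ℤ) 0 (ModuleCat.of B B) i hi)))
        exact inferInstanceAs (Module.Flat R ((ModuleCat.restrictScalars θ).obj
          ((ModuleCat.restrictScalars α).obj (((SingleTensor.S0 (ModuleCat.of B B))).X i))))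
    exact TorAmp.isKFlat_of_flat (a := 0) (b := 0) (fun i hi =>
      (ModuleCat.restrictScalars θ).map_isZero ((ModuleCat.restrictScalars α).map_isZero
        (HomologicalComplex.isZero_single_obj_X (ComplexShape.up ℤ) 0 (ModuleCat.of B B) i (by omega)))) hflat
  have h2 := SingleTensor.quasiIso_extendScalars η π₁ hk₁ hk₂
  have hsq : ∀ r, ρ (η r) = φ' (θ r) := fun r =>
    (Algebra.TensorProduct.algebraMap_apply r).symm.trans
      ((Algebra.TensorProduct.includeRight (R := R) (A := C) (B := A)).commutes r).symm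
  let : Algebra A (C ⊗[R] A) := Algebra.TensorProduct.rightAlgebra
  let e := Groth.Agent.DRing.RelPC.sqIso θ η φ' ρ hsq (fun M =>
    Groth.Agent.DRing.RelPC.bijective_sqHom θ η φ' ρ hsq inferInstance inferInstance inferInstance inferInstance
      (Algebra.algebra_ext _ _ fun _ => rfl) (Algebra.algebra_ext _ _ fun _ => rfl)
      (Algebra.algebra_ext _ _ fun _ => rfl) (Algebra.algebra_ext _ _ fun _ => rfl) M)
  have h3 : QuasiIso ((Groth.Agent.KFlat.BaseChange.resCx ρ).map ((Groth.Agent.KFlat.BaseChange.extCx φ').map π)) := by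
    let eC := NatIso.mapHomologicalComplex e (ComplexShape.up ℤ)
    refine (quasiIso_iff_of_arrow_mk_iso _ _ (Arrow.isoMk (eC.app R₀) (eC.app S) ?_)).mp h2
    exact (eC.hom.naturality π).symm
  have h4 : QuasiIso ((Groth.Agent.KFlat.BaseChange.extCx φ').map π) := (quasiIso_restrict ρ _).mp h3
  have : PreservesFiniteLimits (ModuleCat.extendScalars.{u, u, u} ν) :=
    ModuleCat.preservesFiniteLimits_extendScalars_of_flat hν
  have : (ModuleCat.extendScalars.{u, u, u} ν).PreservesHomology := Functor.preservesHomologyOfExact _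
  have h5 : QuasiIso ((Groth.Agent.KFlat.BaseChange.extCx ν).map ((Groth.Agent.KFlat.BaseChange.extCx φ').map π)) :=
    inferInstance
  subst hνψ
  let eE := NatIso.mapHomologicalComplex (ModuleCat.extendScalarsComp φ' ν).symm (ComplexShape.up ℤ)
  refine (quasiIso_iff_of_arrow_mk_iso _ _ (Arrow.isoMk (eE.app R₀) (eE.app S) ?_)).mp h5
  exact (eE.hom.naturality π).symm

variable [Algebra A A'] [Algebra A B]

/-- Tor amplitude of `A' ⊗ B` over `A'`, from a resolution which stays one. -/
theorem torAmp_pushout_of (P : DRing.Cx B) {a b : ℤ}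
    {R₀ : DRing.Cx A} (π : R₀ ⟶ (DRing.restrictCx (algebraMap A B)).obj P) (hR : DRing.IsKFlat A R₀)
    (hπ : QuasiIso π) (hψ : QuasiIso ((Groth.Agent.KFlat.BaseChange.extCx (algebraMap A A')).map π))
    (h : DRing.HasTorAmplitudeIn A a b (DRing.toD ((DRing.restrictCx (algebraMap A B)).obj P))) :
    DRing.HasTorAmplitudeIn A' a b
      (DRing.toD ((DRing.restrictCx (Algebra.TensorProduct.includeLeftRingHom : A' →+* A' ⊗[A] B)).obj
        ((Groth.Agent.KFlat.BaseChange.extCx
          (Algebra.TensorProduct.includeRight (R := A) (A := A')).toRingHom).obj P))) := by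
  let α := algebraMap A B
  let ψ := algebraMap A A'
  let φ' := (Algebra.TensorProduct.includeRight (R := A) (A := A') (B := B)).toRingHom
  let ρ : A' →+* A' ⊗[A] B := Algebra.TensorProduct.includeLeftRingHom
  have hsq : ∀ r, ρ (ψ r) = φ' (α r) := fun r =>
    (Algebra.TensorProduct.algebraMap_apply r).symm.trans
      ((Algebra.TensorProduct.includeRight (R := A) (A := A') (B := B)).commutes r).symm
  let : Algebra B (A' ⊗[A] B) := Algebra.TensorProduct.rightAlgebra
  let e := Groth.Agent.DRing.RelPC.sqIso α ψ φ' ρ hsq (fun M =>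
    Groth.Agent.DRing.RelPC.bijective_sqHom α ψ φ' ρ hsq inferInstance inferInstance inferInstance inferInstance
      (Algebra.algebra_ext _ _ fun _ => rfl) (Algebra.algebra_ext _ _ fun _ => rfl)
      (Algebra.algebra_ext _ _ fun _ => rfl) (Algebra.algebra_ext _ _ fun _ => rfl) M)
  let e' : (Groth.Agent.KFlat.BaseChange.extCx ψ).obj ((DRing.restrictCx α).obj P) ≅
      (DRing.restrictCx ρ).obj ((Groth.Agent.KFlat.BaseChange.extCx φ').obj P) :=
    HomologicalComplex.Hom.isoOfComponents (fun n => e.app (P.X n))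
      fun i j _ => (e.hom.naturality (P.d i j)).symm
  have := LTensor.hasLBaseChange ψ
  exact torAmp_of_iso
    ((Perfect.baseChangeIsoOfRep ψ hR (Iso.refl _)).symm ≪≫
      asIso (Q.map ((Groth.Agent.KFlat.BaseChange.extCx ψ).map π)) ≪≫ Q.mapIso e')
    (Perfect.torAmp_baseChange ψ (torAmp_of_iso (asIso (Q.map π)).symm h))

end Ring

section Scheme

open Groth.Agent.KFlat.Pull

variable {X Y S Y₁ X' Y' : Scheme.{u}}

/-- Tor dimension is stable under base change along a map which is base changed from a common base,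
over which source and target are flat. -/
theorem hasTorAmplitude_baseChange_unit {p : X' ⟶ X} {q : X' ⟶ Y'} {f : X ⟶ Y} {g : Y' ⟶ Y}
    (sq : IsPullback p q f g) {q₂ : Y ⟶ S} {pY₁ : Y' ⟶ Y₁} {q₁ : Y₁ ⟶ S} (hY : IsPullback g pY₁ q₂ q₁)
    [Flat q₂] [Flat (f ≫ q₂)] {a b : ℤ} (hf : DerSch.HasTorAmplitude f a b (DerSch.unitCx X)) :
    DerSch.HasTorAmplitude q a b (DerSch.unitCx X') := fun x' => by
  have he : g (q x') = f (p x') := by rw [← Scheme.Hom.comp_apply, ← Scheme.Hom.comp_apply, sq.w]
  let σ := Y.presheaf.stalkSpecializes (specializes_of_eq he)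
  let φ : Y.presheaf.stalk (f (p x')) ⟶ Y'.presheaf.stalk (q x') := σ ≫ g.stalkMap (q x')
  have hσ : Function.Bijective σ.hom :=
    ConcreteCategory.bijective_of_isIso (Y.presheaf.stalkCongr (Inseparable.of_eq he.symm)).hom
  let : Algebra (Y.presheaf.stalk (f (p x'))) (X.presheaf.stalk (p x')) := (f.stalkMap (p x')).hom.toAlgebra
  let : Algebra (Y.presheaf.stalk (f (p x'))) (Y'.presheaf.stalk (q x')) := φ.hom.toAlgebra
  let : Algebra (X.presheaf.stalk (p x')) (X'.presheaf.stalk x') := (p.stalkMap x').hom.toAlgebra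
  let : Algebra (Y'.presheaf.stalk (q x')) (X'.presheaf.stalk x') := (q.stalkMap x').hom.toAlgebra
  let : Algebra (Y.presheaf.stalk (f (p x'))) (X'.presheaf.stalk x') :=
    (f.stalkMap (p x') ≫ p.stalkMap x').hom.toAlgebra
  have : IsScalarTower (Y.presheaf.stalk (f (p x'))) (X.presheaf.stalk (p x')) (X'.presheaf.stalk x') :=
    IsScalarTower.of_algebraMap_eq' rfl
  have : IsScalarTower (Y.presheaf.stalk (f (p x'))) (Y'.presheaf.stalk (q x')) (X'.presheaf.stalk x') := by
    refine IsScalarTower.of_algebraMap_eq' (congrArg CommRingCat.Hom.hom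
      (?_ : f.stalkMap (p x') ≫ p.stalkMap x' = φ ≫ q.stalkMap x'))
    rw [← Scheme.Hom.stalkMap_comp, Scheme.Hom.stalkMap_congr_hom _ _ sq.w x', Category.assoc,
      Scheme.Hom.stalkMap_comp]
    rfl
  let R := Y'.presheaf.stalk (q x') ⊗[Y.presheaf.stalk (f (p x'))] X.presheaf.stalk (p x')
  let μ : R →ₐ[Y.presheaf.stalk (f (p x'))] X'.presheaf.stalk x' :=
    Algebra.TensorProduct.productMap (IsScalarTower.toAlgHom _ _ _) (IsScalarTower.toAlgHom _ _ _)
  have hμ : μ.toRingHom.Flat := FDesc.BaseChangeStalk.flat_stalk_of_isPullback sq x' (CommRingCat.ofHom μ.toRingHom)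
    (by ext a; exact Algebra.TensorProduct.productMap_left_apply _ _ a)
    (by ext a; exact Algebra.TensorProduct.productMap_right_apply _ _ a) rfl rfl
  let inr : X.presheaf.stalk (p x') →+* R :=
    (Algebra.TensorProduct.includeRight (R := Y.presheaf.stalk (f (p x')))
      (A := Y'.presheaf.stalk (q x'))).toRingHom
  have hr : μ.toRingHom.comp inr = (p.stalkMap x').hom :=
    RingHom.ext fun b => Algebra.TensorProduct.productMap_right_apply _ _ b
  have hl : μ.toRingHom.comp (Algebra.TensorProduct.includeLeftRingHom : Y'.presheaf.stalk (q x') →+* R) =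
      (q.stalkMap x').hom :=
    RingHom.ext fun b => Algebra.TensorProduct.productMap_left_apply _ _ b
  -- the common base
  let y := q x'
  have hs : q₁ (pY₁ y) = q₂ (g y) := congr($(hY.w.symm) y)
  let A'' := Y.presheaf.stalk (g y)
  let η : S.presheaf.stalk (q₂ (g y)) ⟶ Y₁.presheaf.stalk (pY₁ y) :=
    S.presheaf.stalkSpecializes (specializes_of_eq hs) ≫ q₁.stalkMap (pY₁ y)
  let τ := Y.presheaf.stalkSpecializes (specializes_of_eq he.symm)
  let : Algebra (S.presheaf.stalk (q₂ (g y))) A'' := (q₂.stalkMap (g y)).hom.toAlgebra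
  let : Algebra (S.presheaf.stalk (q₂ (g y))) (Y₁.presheaf.stalk (pY₁ y)) := η.hom.toAlgebra
  let : Algebra A'' (Y'.presheaf.stalk y) := (g.stalkMap y).hom.toAlgebra
  let : Algebra (Y₁.presheaf.stalk (pY₁ y)) (Y'.presheaf.stalk y) := (pY₁.stalkMap y).hom.toAlgebra
  let : Algebra (S.presheaf.stalk (q₂ (g y))) (Y'.presheaf.stalk y) :=
    (q₂.stalkMap (g y) ≫ g.stalkMap y).hom.toAlgebra
  have : IsScalarTower (S.presheaf.stalk (q₂ (g y))) A'' (Y'.presheaf.stalk y) :=
    IsScalarTower.of_algebraMap_eq' rfl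
  have : IsScalarTower (S.presheaf.stalk (q₂ (g y))) (Y₁.presheaf.stalk (pY₁ y)) (Y'.presheaf.stalk y) := by
    refine IsScalarTower.of_algebraMap_eq' (congrArg CommRingCat.Hom.hom
      (?_ : q₂.stalkMap (g y) ≫ g.stalkMap y = η ≫ pY₁.stalkMap y))
    rw [← Scheme.Hom.stalkMap_comp, Scheme.Hom.stalkMap_congr_hom _ _ hY.w y, Category.assoc,
      Scheme.Hom.stalkMap_comp]
    rfl
  let ν₀ : Y₁.presheaf.stalk (pY₁ y) ⊗[S.presheaf.stalk (q₂ (g y))] A'' →ₐ[S.presheaf.stalk (q₂ (g y))]
      Y'.presheaf.stalk y :=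
    Algebra.TensorProduct.productMap (IsScalarTower.toAlgHom _ _ _) (IsScalarTower.toAlgHom _ _ _)
  have hν₀ : ν₀.toRingHom.Flat := FDesc.BaseChangeStalk.flat_stalk_of_isPullback hY y (CommRingCat.ofHom ν₀.toRingHom)
    (by ext a; exact Algebra.TensorProduct.productMap_left_apply _ _ a)
    (by ext a; exact Algebra.TensorProduct.productMap_right_apply _ _ a) rfl rfl
  let : Algebra (S.presheaf.stalk (q₂ (g y))) (Y.presheaf.stalk (f (p x'))) :=
    (q₂.stalkMap (g y) ≫ τ).hom.toAlgebra
  have hτσ : τ ≫ σ = 𝟙 _ := by simp [τ, σ]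
  have hτ : Function.Bijective τ.hom :=
    ConcreteCategory.bijective_of_isIso (Y.presheaf.stalkCongr (Inseparable.of_eq he)).hom
  let eA : A'' ≃ₐ[S.presheaf.stalk (q₂ (g y))] Y.presheaf.stalk (f (p x')) :=
    AlgEquiv.ofBijective { τ.hom with commutes' := fun _ => rfl } hτ
  let ν : Y₁.presheaf.stalk (pY₁ y) ⊗[S.presheaf.stalk (q₂ (g y))] Y.presheaf.stalk (f (p x')) →+*
      Y'.presheaf.stalk y :=
    ν₀.toRingHom.comp (Algebra.TensorProduct.congr
      (AlgEquiv.refl (R := S.presheaf.stalk (q₂ (g y))) (A₁ := Y₁.presheaf.stalk (pY₁ y))) eA.symm).toRingEquiv.toRingHom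
  have hν : ν.Flat := RingHom.Flat.comp (RingHom.Flat.of_bijective (by exact AlgEquiv.bijective _)) hν₀
  have hflatA : Module.Flat (S.presheaf.stalk (q₂ (g y))) (Y.presheaf.stalk (f (p x'))) :=
    RingHom.flat_algebraMap_iff.mp
      ((Flat.stalkMap q₂ (g y)).comp (RingHom.Flat.of_bijective hτ))
  have hB : ((f.stalkMap (p x')).hom.comp (algebraMap (S.presheaf.stalk (q₂ (g y))) (Y.presheaf.stalk (f (p x'))))).Flat := by
    have h1 : q₂.stalkMap (g y) ≫ τ ≫ f.stalkMap (p x') =
        S.presheaf.stalkSpecializes (q₂.base.hom.map_specializes (specializes_of_eq he.symm)) ≫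
          (f ≫ q₂).stalkMap (p x') := by
      rw [Scheme.Hom.stalkMap_comp, ← Category.assoc, ← Scheme.Hom.stalkSpecializes_stalkMap, Category.assoc]
    change (q₂.stalkMap (g y) ≫ τ ≫ f.stalkMap (p x')).hom.Flat
    rw [h1]
    have hqe : q₂ (g y) = q₂ (f (p x')) := congrArg _ he
    exact (RingHom.Flat.of_bijective (ConcreteCategory.bijective_of_isIso
      (S.presheaf.stalkCongr (Inseparable.of_eq hqe)).hom)).comp (Flat.stalkMap (f ≫ q₂) (p x'))
  have hνψ : ν.comp (Algebra.TensorProduct.includeRight (R := S.presheaf.stalk (q₂ (g y)))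
      (A := Y₁.presheaf.stalk (pY₁ y))).toRingHom = φ.hom := RingHom.ext fun r => by
    change ν₀ (Algebra.TensorProduct.congr AlgEquiv.refl eA.symm (1 ⊗ₜ r)) = g.stalkMap y (σ r)
    rw [Algebra.TensorProduct.congr_apply, Algebra.TensorProduct.map_tmul]
    refine (Algebra.TensorProduct.productMap_right_apply _ _ (eA.symm r)).trans ?_
    change g.stalkMap y (eA.symm r) = _
    congr 1
    obtain ⟨r', rfl⟩ := eA.surjective r
    rw [AlgEquiv.symm_apply_apply]
    exact (ConcreteCategory.congr_hom hτσ r').symm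
  let K := SingleTensor.S0 (ModuleCat.of (X.presheaf.stalk (p x')) (X.presheaf.stalk (p x')))
  obtain ⟨R₀, π, hR, -, hπ, -⟩ := KProjRes.exists_resolution
    ((DRing.restrictCx (algebraMap (Y.presheaf.stalk (f (p x'))) (X.presheaf.stalk (p x')))).obj K)
  have hk := KFlat.isKFlat_of_isKProjective R₀
  have hq := quasiIso_indep (f.stalkMap (p x')).hom hB φ.hom ν hν hνψ π hk hπ
  have h1 := TorComp.torAmp_ext_flat _ μ.toRingHom hμ _
    (torAmp_pushout_of K π hk hπ hq (TorComp.torAmp_unit f (p x') (hf (p x'))))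
  rw [hl] at h1
  obtain ⟨ε⟩ := Groth.Agent.DRing.PointHom.exists_unitStalkEquiv x'
  let eK : (Groth.Agent.KFlat.BaseChange.extCx (p.stalkMap x').hom).obj K ≅
      (Groth.Agent.KFlat.StalkCx.stCx x').obj (DerSch.unitCx X') :=
    (HomologicalComplex.singleMapHomologicalComplex (ModuleCat.extendScalars.{u, u, u} (p.stalkMap x').hom)
        (ComplexShape.up ℤ) 0).app _ ≪≫
      (HomologicalComplex.single _ (ComplexShape.up ℤ) 0).mapIso
        ((letI := (p.stalkMap x').hom.toAlgebra
          (TensorProduct.AlgebraTensorModule.rid (X.presheaf.stalk (p x')) (X'.presheaf.stalk x')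
            (X'.presheaf.stalk x')).toModuleIso) ≪≫ ε.toModuleIso.symm) ≪≫
      ((HomologicalComplex.singleMapHomologicalComplex (DerSch.stalkFunctor X' x') (ComplexShape.up ℤ) 0).app _).symm
  exact torAmp_of_iso (Q.mapIso (TorComp.stalkCxOverRefl q x' _ ≪≫ (DRing.restrictCx (q.stalkMap x').hom).mapIso
    (eK.symm ≪≫ (TorComp.extCompIso inr μ.toRingHom hr K).symm)).symm) h1

end Scheme

end Groth.Agent.PCohD.TorBC
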