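import Groth.Agent.PCohD.PerfAmpNhd
import Groth.Agent.PCohD.TorBC
import Groth.Agent.DRing.BaseChangeAmp
import Groth.Agent.S1483
import Mathlib.RingTheory.TensorProduct.Quotient

/-!
# Tor amplitude at a point from the fibre
-/

set_option autoImplicit false
set_option backward.isDefEq.respectTransparency.types false

universe u

open CategoryTheory CategoryTheory.Limits AlgebraicGeometry
open scoped TensorProduct
open Groth.Agent.PerfTri (Perfect.restrQ Perfect.restrComp)
open Groth.Agent.PerfTri.Nullhom (resC)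
open Groth.Agent.PCohD.TorBC
attribute [local instance] HasDerivedCategory.standard

noncomputable section

namespace Groth.Agent.PCohD.FibreTor

section Ring

open Groth.Agent.DRing Groth.Agent.DRing.TorAmp

variable {R A C : Type u} [CommRing R] [CommRing A] [CommRing C] [Algebra R A] [Algebra R C]
  {A' : Type u} [CommRing A']

/-- Extension along `A → A'`, base changed from `R → C`, of a resolution of a complex K-flat over `R`. -/
theorem quasiIso_ext [Module.Flat R A] (ψ : A →+* A') (ν : C ⊗[R] A →+* A') (hν : ν.Flat)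
    (hνψ : ν.comp (Algebra.TensorProduct.includeRight (R := R) (A := C)).toRingHom = ψ)
    {R₀ S : DRing.Cx A} (π : R₀ ⟶ S) (hR : DRing.IsKFlat A R₀)
    (hS : DRing.IsKFlat R ((Groth.Agent.KFlat.BaseChange.resCx (algebraMap R A)).obj S)) (hπ : QuasiIso π) :
    QuasiIso ((Groth.Agent.KFlat.BaseChange.extCx ψ).map π) := by
  let θ := algebraMap R A
  let η := algebraMap R C
  let φ' := (Algebra.TensorProduct.includeRight (R := R) (A := C) (B := A)).toRingHom
  let ρ : C →+* C ⊗[R] A := Algebra.TensorProduct.includeLeftRingHom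
  have hθ : θ.Flat := RingHom.flat_algebraMap_iff.mpr inferInstance
  let π₁ := (Groth.Agent.KFlat.BaseChange.resCx θ).map π
  have hπ₁ : QuasiIso π₁ := (quasiIso_restrict θ π).mpr hπ
  have hk₁ := Thick.isKFlat_restrict_flat θ hθ hR
  have h2 := SingleTensor.quasiIso_extendScalars η π₁ hk₁ hS
  have hsq : ∀ r, ρ (η r) = φ' (θ r) := fun r =>
    (Algebra.TensorProduct.algebraMap_apply r).symm.trans
      ((Algebra.TensorProduct.includeRight (R := R) (A := C) (B := A)).commutes r).symm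
  let : Algebra A (C ⊗[R] A) := Algebra.TensorProduct.rightAlgebra
  let e := Groth.Agent.DRing.RelPC.sqIso θ η φ' ρ hsq (fun M =>
    Groth.Agent.DRing.RelPC.bijective_sqHom θ η φ' ρ hsq inferInstance inferInstance inferInstance inferInstance
      (Algebra.algebra_ext _ _ fun _ => rfl) (Algebra.algebra_ext _ _ fun _ => rfl)
      (Algebra.algebra_ext _ _ fun _ => rfl) (Algebra.algebra_ext _ _ fun _ => rfl) M)
  have h3 : QuasiIso ((Groth.Agent.KFlat.BaseChange.resCx ρ).map ((Groth.Agent.KFlat.BaseChange.extCx φ').map π)) := by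
    let eC := NatIso.mapHomologicalComplex e (ComplexShape.up ℤ)
    refine (quasiIso_iff_of_arrow_mk_iso _ _ (Arrow.isoMk (eC.app R₀) (eC.app S) ?_)).mp h2
    exact (eC.hom.naturality π).symm
  have h4 : QuasiIso ((Groth.Agent.KFlat.BaseChange.extCx φ').map π) := (quasiIso_restrict ρ _).mp h3
  have : PreservesFiniteLimits (ModuleCat.extendScalars.{u, u, u} ν) :=
    ModuleCat.preservesFiniteLimits_extendScalars_of_flat hν
  have : (ModuleCat.extendScalars.{u, u, u} ν).PreservesHomology := Functor.preservesHomologyOfExact _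
  have h5 : QuasiIso ((Groth.Agent.KFlat.BaseChange.extCx ν).map ((Groth.Agent.KFlat.BaseChange.extCx φ').map π)) :=
    inferInstance
  subst hνψ
  let eE := NatIso.mapHomologicalComplex (ModuleCat.extendScalarsComp φ' ν).symm (ComplexShape.up ℤ)
  refine (quasiIso_iff_of_arrow_mk_iso _ _ (Arrow.isoMk (eE.app R₀) (eE.app S) ?_)).mp h5
  exact (eE.hom.naturality π).symm

end Ring

/-- The bottom term is flat over the closed fibre. -/
theorem flat_bottom_fibre {A B : Type u} [CommRing A] [CommRing B] (θ : A →+* B) (hθ : θ.Flat) (I : Ideal A)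
    [DRing.HasLBaseChange (Ideal.Quotient.mk (I.map θ))] (S : DRing.Cx B) {a b hi : ℤ}
    (hv : DRing.VanishesOutside S a hi) (hflB : ∀ i, a < i → Module.Flat B (S.X i))
    (hflA : ∀ i, Module.Flat A ((ModuleCat.restrictScalars θ).obj (S.X i)))
    (h : DRing.HasTorAmplitudeIn (B ⧸ I.map θ) a b
      ((DRing.LBaseChange (Ideal.Quotient.mk (I.map θ))).obj (DRing.toD S))) :
    Module.Flat (B ⧸ I.map θ) (S.X a ⧸ I.map θ • (⊤ : Submodule B (S.X a))) := by
  let _ : Algebra A B := θ.toAlgebra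
  have : Module.Flat A B := hθ
  let ψ := Ideal.Quotient.mk (I.map θ)
  let eν : (B ⧸ I.map θ) ≃ₐ[B] B ⊗[A] (A ⧸ I) := Algebra.TensorProduct.quotIdealMapEquivTensorQuot B I
  let ν : (A ⧸ I) ⊗[A] B →+* B ⧸ I.map θ :=
    (eν.symm.toRingEquiv : B ⊗[A] (A ⧸ I) →+* B ⧸ I.map θ).comp
      ((Algebra.TensorProduct.comm A (A ⧸ I) B).toRingEquiv : (A ⧸ I) ⊗[A] B →+* B ⊗[A] (A ⧸ I))
  have hν : ν.Flat := RingHom.Flat.of_bijective
    (eν.symm.bijective.comp (Algebra.TensorProduct.comm A (A ⧸ I) B).bijective)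
  have hνψ : ν.comp (Algebra.TensorProduct.includeRight (R := A) (A := A ⧸ I)).toRingHom = ψ :=
    RingHom.ext fun x => eν.symm.commutes x
  obtain ⟨P, π, hP, -, hπ, -⟩ := Groth.Agent.DRing.KProjRes.exists_resolution S
  have hPf := Groth.Agent.DRing.KFlat.isKFlat_of_isKProjective P
  have hq := quasiIso_ext (R := A) ψ ν hν hνψ π hPf
    (Groth.Agent.DRing.KFlat.isKFlat_of_boundedAbove_flat _ hi
      (fun i hi' => (ModuleCat.restrictScalars θ).map_isZero (hv i (Or.inr hi'))) hflA) hπ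
  let eS : DRing.toD ((Groth.Agent.KFlat.BaseChange.extCx ψ).obj S) ≅
      (DRing.LBaseChange ψ).obj (DRing.toD S) :=
    (asIso (DerivedCategory.Q.map ((Groth.Agent.KFlat.BaseChange.extCx ψ).map π))).symm ≪≫
      Groth.Agent.DRing.Perfect.baseChangeIsoOfRep ψ hPf (asIso (DerivedCategory.Q.map π))
  have hb := PerfAmpNhd.flat_bottom_of_torAmp _ (b := b) (hi := hi)
    (fun i hi' => (ModuleCat.extendScalars.{u, u, u} ψ).map_isZero (hv i hi'))
    (fun i hi' => Groth.Agent.DRing.Perfect.flat_extendScalars ψ (hflB i hi'))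
    (Groth.Agent.DRing.TorAmp.torAmp_of_iso eS.symm h)
  have : IsScalarTower B (B ⧸ I.map θ) ((B ⧸ I.map θ) ⊗[B] (S.X a)) :=
    TensorProduct.isScalarTower_left
  let e : ((B ⧸ I.map θ) ⊗[B] (S.X a)) ≃ₗ[B ⧸ I.map θ] S.X a ⧸ I.map θ • (⊤ : Submodule B (S.X a)) :=
    LinearEquiv.extendScalarsOfSurjective Ideal.Quotient.mk_surjective
      (TensorProduct.quotTensorEquivQuotSMul (S.X a) (I.map θ))
  exact @Module.Flat.of_linearEquiv (B ⧸ I.map θ) _ _ _ _ _ _ _ hb e.symm

/-- Flatness along an isomorphism of module categories objects. -/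
theorem flat_of_iso {R : Type u} [CommRing R] {M N : ModuleCat.{u} R} (e : M ≅ N) (h : Module.Flat R M) :
    Module.Flat R N := Module.Flat.of_linearEquiv e.toLinearEquiv.symm

variable {X Y S : Scheme.{u}}

/-- An approximation, truncated. -/
theorem exists_model {Q : Scheme.{u}} (i : X ⟶ Q) [IsClosedImmersion i] (F : CochainComplex X.Modules ℤ)
    (a b : ℤ) (x : X) (hpc : DCoh.IsPseudoCoherentD (a - 1) ((pushD i).obj (DCoh.toD X F)))
    (hv : ∀ n, n < a ∨ b < n → IsZero (DCoh.HD (DCoh.toD X F) n)) :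
    ∃ (V : Q.Opens) (_ : i x ∈ V) (T : CochainComplex (V : Scheme.{u}).Modules ℤ) (hi : ℤ),
      DCoh.VanishesOutside T a hi ∧ (∀ n, a < n → FlatMod.IsFlat (T.X n)) ∧
      CohB1.IsFP (T.X a) ∧ (T.X a).IsQuasicoherent ∧
      Nonempty (DerivedCategory.Q.obj T ≅
        DerivedCategory.Q.obj ((DCoh.restrictCx V).obj ((DerSch.pushCx i).obj F))) := by
  let G := (DerSch.pushCx i).obj F
  let eF : (pushD i).obj (DCoh.toD X F) ≅ DCoh.toD Q G :=
    (Scheme.Modules.pushforward i).mapDerivedCategoryFactors.app F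
  obtain ⟨V, hxV, hV⟩ := hpc (i x)
  obtain ⟨P, α, hP, hα⟩ := hV G ⟨eF.symm⟩
  let G₁ := (DCoh.restrictCx V).obj G
  have hG : G₁.IsGE a := StalkNhd.isGE_resC V.ι fun n hn => (isZero_homology_Q G n).1
    ((((Scheme.Modules.pushforward i).map_isZero (hv n (Or.inl hn))).of_iso
      (pushDHomology i (DCoh.toD X F) n)).of_iso ((DerivedCategory.homologyFunctor _ n).mapIso eF.symm))
  obtain ⟨eT⟩ := StalkNhd.nonempty_truncGE_iso hG α hα
  let T := P.truncGE a
  obtain ⟨⟨lo, hi, hvP⟩, hfP⟩ := hP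
  have hlf : ∀ n, a < n → FlatMod.IsFinLocFree (T.X n) := fun n hn =>
    KFlat.LocFree.isFinLocFree_of_iso (P.truncGEXIso a n hn).symm (hfP n)
  have hq : ∀ n, (P.X n).IsQuasicoherent := fun n =>
    PerfTri.Betti.isQuasicoherent_of_isFinLocFree (hfP n)
  let eC : cokernel (P.d (a - 1) a) ≅ T.X a :=
    (cokernelIsCokernel _).coconePointUniqueUpToIso (P.opcyclesIsCokernel (a - 1) a (by simp)) ≪≫
      (P.truncGEXIsoOpcycles a).symm
  have := hq (a - 1)
  have := hq a
  have hC : CohB1.IsFP (cokernel (P.d (a - 1) a)) := LimTop.isFP_cokernel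
    ((FTFP.pc_zero_iff _).1 (FreeLocus.pc_inD_of_isFinLocFree (hfP _) 0))
    ((FTFP.pc_neg_one_iff _).1 (FreeLocus.pc_inD_of_isFinLocFree (hfP _) (-1))) _
  refine ⟨V, hxV, T, max hi a, fun n hn => ?_, fun n hn => PerfTor.isFlat_of_isFinLocFree (hlf n hn),
    (FTFP.pc_neg_one_iff _).1
      (pc_of_iso ((DerivedCategory.singleFunctor _ 0).mapIso eC) ((FTFP.pc_neg_one_iff _).2 hC)),
    @Groth.Agent.QCoh.isQuasicoherent_of_iso _ _ _ eC
      (inferInstanceAs (cokernel (P.d (a - 1) a)).IsQuasicoherent), ⟨eT⟩⟩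
  rcases hn with hn | hn
  · exact T.isZero_of_isStrictlyGE a n hn
  · exact (hvP n (Or.inr (by omega))).of_iso (P.truncGEXIso a n (by omega))

/-- Tor amplitude over the middle scheme from the base and the closed fibre. -/
theorem torAt_of_fibre {Q : Scheme.{u}} (i : X ⟶ Q) [IsClosedImmersion i] (p : Q ⟶ Y) [Flat p]
    [LocallyOfFinitePresentation p] (g : Y ⟶ S) [Flat g] [LocallyOfFinitePresentation g]
    (F : CochainComplex X.Modules ℤ) (a b : ℤ) (x : X)
    (hpc : DCoh.IsPseudoCoherentD (a - 1) ((pushD i).obj (DCoh.toD X F)))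
    (hv : ∀ n, n < a ∨ b < n → IsZero (DCoh.HD (DCoh.toD X F) n))
    (htor : DerSch.HasTorAmplitudeAt (i ≫ p ≫ g) a b F x)
    [DRing.HasLBaseChange (Ideal.Quotient.mk (Ideal.map (g.stalkMap (p (i x))).hom
      (IsLocalRing.maximalIdeal (S.presheaf.stalk (g (p (i x)))))))]
    (hfib : DRing.HasTorAmplitudeIn ((Y.presheaf.stalk (p (i x))) ⧸ Ideal.map (g.stalkMap (p (i x))).hom
        (IsLocalRing.maximalIdeal (S.presheaf.stalk (g (p (i x)))))) a b
      ((DRing.LBaseChange (Ideal.Quotient.mk (Ideal.map (g.stalkMap (p (i x))).hom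
        (IsLocalRing.maximalIdeal (S.presheaf.stalk (g (p (i x)))))))).obj
        (DRing.toD ((DerSch.stalkCxOver (i ≫ p) x).obj F)))) :
    DerSch.HasTorAmplitudeAt (i ≫ p) a b F x := by
  obtain ⟨V, hxV, T, hi, hvT, hflT, hFP, hq, ⟨eT⟩⟩ := exists_model i F a b x hpc hv
  let v : (V : Scheme.{u}) := ⟨i x, hxV⟩
  let G := (DerSch.pushCx i).obj F
  let eB : DRing.toD ((DerSch.stalkCxOver (V.ι ≫ p) v).obj T) ≅
      DRing.toD ((DerSch.stalkCxOver (i ≫ p) x).obj F) :=
    PerfAmpNhd.ovDIso _ v eT ≪≫ DerivedCategory.Q.mapIso (PerfAmpNhd.stalkCxOverRestr V.ι p v G) ≪≫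
      DerivedCategory.Q.mapIso (PerfAmpNhd.stalkCxOverPush i i.isClosedEmbedding.isInducing p x F).symm
  have hflS : ∀ n, a < n → FlatMod.IsFlatOverAt (V.ι ≫ p) (T.X n) v := fun n hn =>
    PerfAmpNhd.flatOver_of_flat _ (hflT n hn) v
  have hbotA : FlatMod.IsFlatOverAt (V.ι ≫ p ≫ g) (T.X a) v :=
    PerfAmpNhd.flat_bottom_of_torAmp ((DerSch.stalkCxOver (V.ι ≫ p ≫ g) v).obj T) (b := b) (hi := hi)
      (fun n hn => (DerSch.stalkOver _ v).map_isZero (hvT n hn))
      (fun n hn => PerfAmpNhd.flatOver_of_flat _ (hflT n hn) v)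
      (Groth.Agent.DRing.TorAmp.torAmp_of_iso (DerivedCategory.Q.mapIso
        (PerfAmpNhd.stalkCxOverPush i i.isClosedEmbedding.isInducing (p ≫ g) x F) ≪≫
        DerivedCategory.Q.mapIso (PerfAmpNhd.stalkCxOverRestr V.ι (p ≫ g) v G).symm ≪≫
        (PerfAmpNhd.ovDIso _ v eT).symm) htor)
  have hflA : ∀ n, FlatMod.IsFlatOverAt ((V.ι ≫ p) ≫ g) (T.X n) v := fun n => by
    rw [Category.assoc]
    rcases lt_trichotomy n a with hn | rfl | hn
    · have hT0 := hvT n (Or.inl hn)
      letI := FlatMod.moduleStalkOver (V.ι ≫ p ≫ g) (T.X n) v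
      have : Subsingleton ((T.X n).presheaf.stalk v) :=
        ModuleCat.subsingleton_of_isZero ((DerSch.stalkFunctor _ v).map_isZero hT0)
      exact (inferInstance : Module.Flat (S.presheaf.stalk ((V.ι ≫ p ≫ g).base v)) ((T.X n).presheaf.stalk v))
    · exact hbotA
    · exact PerfAmpNhd.flatOver_of_flat _ (hflT n hn) v
  let θ := (g.stalkMap (p (i x))).hom
  let T' := (DerSch.stalkCxOver (V.ι ≫ p) v).obj T
  let eC : (DerSch.stalkCxOver ((V.ι ≫ p) ≫ g) v).obj T ≅ (DRing.restrictCx θ).obj T' :=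
    TorComp.stalkCxCompIso (V.ι ≫ p) g v T ≪≫ TorComp.restrictCompIso _ _ _ ≪≫
      (DRing.restrictCx θ).mapIso (TorComp.stalkCxOverRefl (V.ι ≫ p) v T).symm
  have hbot := flat_bottom_fibre θ (Flat.stalkMap g _)
    (IsLocalRing.maximalIdeal (S.presheaf.stalk (g (p (i x))))) T' (a := a) (b := b) (hi := hi)
    (fun n hn => (DerSch.stalkOver _ v).map_isZero (hvT n hn)) hflS
    (fun n => flat_of_iso (R := S.presheaf.stalk (((V.ι ≫ p) ≫ g) v)) ((HomologicalComplex.eval _ _ n).mapIso eC) (hflA n))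
    (Groth.Agent.DRing.TorAmp.torAmp_of_iso ((DRing.LBaseChange _).mapIso eB.symm) hfib)
  have ha : FlatMod.IsFlatOverAt (V.ι ≫ p) (T.X a) v := by
    rcases subsingleton_or_nontrivial ((T.X a).presheaf.stalk v) with hs | hs
    · letI := FlatMod.moduleStalkOver (V.ι ≫ p) (T.X a) v
      exact (inferInstance : Module.Flat (Y.presheaf.stalk ((V.ι ≫ p).base v)) ((T.X a).presheaf.stalk v))
    · exact ((Groth.Agent.S1483.result (V.ι ≫ p) g (T.X a) hq hFP v hs).1 ⟨hflA a, hbot⟩).2
  refine Groth.Agent.DRing.TorAmp.torAmp_of_iso eB (PerfAmpNhd.torAmp_shrink T' (hi := hi)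
    (fun n hn => (DerSch.stalkOver _ v).map_isZero (hvT n hn)) (fun n => ?_) fun n hn => ?_)
  · rcases lt_trichotomy n a with hn | rfl | hn
    · have := ModuleCat.subsingleton_of_isZero ((DerSch.stalkOver (V.ι ≫ p) v).map_isZero (hvT n (Or.inl hn)))
      have : Subsingleton (T'.X n) := this
      exact (inferInstance : Module.Flat (Y.presheaf.stalk ((V.ι ≫ p).base v)) (T'.X n))
    · exact ha
    · exact hflS n hn
  · have hT : T.ExactAt n := by
      rw [HomologicalComplex.exactAt_iff_isZero_homology]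
      exact (isZero_homology_Q T n).1 ((FTFP.isZero_restr V.ι
        (((Scheme.Modules.pushforward i).map_isZero (hv n (Or.inr hn))).of_iso
          (pushDHomology i (DCoh.toD X F) n))).of_iso ((DerivedCategory.homologyFunctor _ n).mapIso
            (eT ≪≫ (Perfect.restrQ V.ι G).symm ≪≫ (DCoh.restrictD V.ι).mapIso
              ((Scheme.Modules.pushforward i).mapDerivedCategoryFactors.app F).symm)))
    exact ShortComplex.Exact.map hT (DerSch.stalkOver (V.ι ≫ p) v)

end Groth.Agent.PCohD.FibreTor
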