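import Groth.Agent.PCohD.RelRing
import Groth.Agent.PCohD.RelLpull
import Groth.Agent.ProjTwist.Invertible
import Groth.Agent.CohDerLib.QC.HomBound

/-!
# Pseudo-coherence of a morphism through rings
-/

set_option autoImplicit false
set_option backward.isDefEq.respectTransparency.types false

universe u

open CategoryTheory Limits AlgebraicGeometry
attribute [local instance] HasDerivedCategory.standard

noncomputable section

namespace Groth.Agent.PCohD

variable {X S : Scheme.{u}} (f : X ⟶ S) {n : ℤ}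

theorem nonempty_unit_sections {U : X.Opens} (hU : IsAffineOpen U)
    [PreservesFiniteLimits (tilde.functor Γ(X, U))] :
    Nonempty ((DCoh.tildeD Γ(X, U)).obj (Dual.inD Γ(X, U) Γ(X, U)) ≅
      (pushD hU.isoSpec.hom).obj ((DCoh.restrictD U.ι).obj (DCoh.toD X (DerSch.unitCx X)))) := by
  let e₁ : (Scheme.Modules.pushforward hU.isoSpec.hom).obj ((Coh.structureModule X).restrict U.ι) ≅
      (tilde.functor Γ(X, U)).obj (ModuleCat.of Γ(X, U) Γ(X, U)) :=
    (Scheme.Modules.pushforward hU.isoSpec.hom).mapIso (Scheme.Modules.restrictUnitIso U.ι) ≪≫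
      (pushRestrictInv hU.isoSpec).app _ ≪≫ Scheme.Modules.restrictUnitIso hU.isoSpec.inv ≪≫ tildeSelf.symm
  exact ⟨((tilde.functor Γ(X, U)).mapDerivedCategorySingleFunctor 0).app _ ≪≫
    (DerivedCategory.singleFunctor _ 0).mapIso e₁.symm ≪≫
    (testInD U.ι hU.isoSpec.hom (Coh.structureModule X)).symm ≪≫
    (pushD hU.isoSpec.hom).mapIso ((DCoh.restrictD U.ι).mapIso
      ((DerivedCategory.singleFunctorIsoCompQ X.Modules 0).app _))⟩

/-- `f` is `n`-pseudo-coherent iff on affine opens the sections are so as modules. -/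
theorem npc_iff [LocallyOfFiniteType f] :
    DerSch.IsNPseudoCoherent f n ↔
      ∀ (U : X.affineOpens) (V : S.affineOpens) (h : (U : X.Opens) ≤ f ⁻¹ᵁ (V : S.Opens)),
        letI := (f.appLE (V : S.Opens) (U : X.Opens) h).hom.toAlgebra
        DerCA.IsRelPseudoCoherentModule Γ(S, (V : S.Opens)) Γ(X, (U : X.Opens)) n Γ(X, (U : X.Opens)) := by
  rw [DerSch.IsNPseudoCoherent, rel_iff]
  refine forall₃_congr fun U V h => ?_
  have := KFlat.TildeExact.preservesFiniteLimits_tilde Γ(X, (U : X.Opens))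
  obtain ⟨e⟩ := nonempty_unit_sections U.2
  exact P_iff_isRel U.2 V.2 h _ e

/-- A chosen family of affine pairs covering the source suffices. -/
theorem npc_of_cover [LocallyOfFiniteType f]
    (H : ∀ x : X, ∃ (U : X.affineOpens) (V : S.affineOpens) (h : (U : X.Opens) ≤ f ⁻¹ᵁ (V : S.Opens)),
      x ∈ (U : X.Opens) ∧
      (letI := (f.appLE (V : S.Opens) (U : X.Opens) h).hom.toAlgebra
       DerCA.IsRelPseudoCoherentModule Γ(S, (V : S.Opens)) Γ(X, (U : X.Opens)) n Γ(X, (U : X.Opens)))) :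
    DerSch.IsNPseudoCoherent f n := by
  refine rel_iff.2 fun U' V' h' => P_of_cover U'.2 V'.2 h' fun x hx => ?_
  obtain ⟨U, V, h, hxU, hM⟩ := H x
  have := KFlat.TildeExact.preservesFiniteLimits_tilde Γ(X, (U : X.Opens))
  obtain ⟨e⟩ := nonempty_unit_sections U.2
  have hP : P f n (DCoh.toD X (DerSch.unitCx X)) (U : X.Opens) (V : S.Opens) := (P_iff_isRel U.2 V.2 h _ e).2 hM
  have hxV : f x ∈ (V : S.Opens) := h hxU
  obtain ⟨r, r', hrr', hyr⟩ := exists_basicOpen_le_affine_inter V'.2 V.2 (f x) ⟨h' hx, hxV⟩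
  have hxr : x ∈ f ⁻¹ᵁ S.basicOpen r := hyr
  obtain ⟨g₁, hg₁, hxg₁⟩ := U'.2.exists_basicOpen_le (V := f ⁻¹ᵁ S.basicOpen r) ⟨x, hxr⟩ hx
  obtain ⟨g₂, hg₂, hxg₂⟩ := U.2.exists_basicOpen_le (V := f ⁻¹ᵁ S.basicOpen r) ⟨x, hxr⟩ hxU
  obtain ⟨g, g', hgg', hxg⟩ := exists_basicOpen_le_affine_inter (U'.2.basicOpen g₁) (U.2.basicOpen g₂)
    x ⟨hxg₁, hxg₂⟩
  obtain ⟨g₀, hg₀⟩ := U'.2.basicOpen_basicOpen_is_basicOpen g₁ g
  refine ⟨g₀, by rw [hg₀]; exact hxg, ?_⟩
  rw [hg₀]
  have hD : X.basicOpen g ≤ f ⁻¹ᵁ S.basicOpen r := (X.basicOpen_le g).trans hg₁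
  have hPD : P f n (DCoh.toD X (DerSch.unitCx X)) (X.basicOpen g) (V : S.Opens) := by
    rw [hgg']
    exact (hP.basic U.2 g₂).basic (U.2.basicOpen g₂) g'
  have h1 := (P_basicOpen_base ((U'.2.basicOpen g₁).basicOpen g) V.2 r' (by rw [← hrr']; exact hD)).2 hPD
  rw [← hrr'] at h1
  exact (P_basicOpen_base ((U'.2.basicOpen g₁).basicOpen g) V'.2 r hD).1 h1

end Groth.Agent.PCohD
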