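import Groth.Agent.DRing.RelPCBaseChange
import Groth.Agent.DRing.TwoIdeals
import Groth.Agent.FlatMor.PC.Flat

/-!
# Descent of relative pseudo-coherence along flat liftable families
-/

set_option autoImplicit false

universe u

open CategoryTheory CategoryTheory.Limits DerivedCategory
open scoped TensorProduct
attribute [local instance] HasDerivedCategory.standard

noncomputable section

namespace Groth.Agent.PCohD.RelDescent

open Groth.Agent.DRing Groth.Agent.DRing.PC Groth.Agent.DRing.RelPC Groth.Agent.DRing.DBasic TensorAmp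

/-- A flat algebra which is finitely presented is pseudo-coherent relative to the base. -/
theorem isRelAll_of_flat_fp (A B : Type u) [CommRing A] [CommRing B] [Algebra A B] [Module.Flat A B]
    [Algebra.FinitePresentation A B] : DerCA.IsRelPseudoCoherentModuleAll A B B :=
  FlatMor.PC.rel_of_pcHom FlatMor.PC.pcHom_of_flat_fp

/-- A presentation by a relatively pseudo-coherent algebra may be used. -/
theorem isRel_iff_restrict {R P B : Type u} [CommRing R] [CommRing P] [CommRing B] [Algebra R P]
    [Algebra P B] [Algebra R B] [IsScalarTower R P B] [Algebra.FiniteType R P]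
    (hP : DerCA.IsRelPseudoCoherentModuleAll R P P) (hs : Function.Surjective (algebraMap P B))
    (K : Dual.D B) (m : ℤ) :
    DerCA.IsRelPseudoCoherent R B m K ↔
      DRing.IsPseudoCoherent P m ((DRing.restrictD (algebraMap P B)).obj K) := by
  have : Algebra.FiniteType P B := Algebra.FiniteType.of_surjective (Algebra.ofId P B) hs
  let α : MvPolynomial (Fin 0) P →ₐ[P] B := MvPolynomial.aeval fun i => i.elim0
  have hα : Function.Surjective α := fun b => by
    obtain ⟨a, rfl⟩ := hs b
    exact ⟨MvPolynomial.C a, α.commutes a⟩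
  rw [← relPC_intermediate (R := R) hP K m, isRel_iff α hα]
  have hg : Good (MvPolynomial.C : P →+* MvPolynomial (Fin 0) P) :=
    good_of_bijective _ ⟨MvPolynomial.C_injective _ _, MvPolynomial.C_surjective _⟩
  obtain ⟨e⟩ := nonempty_restrictComp (MvPolynomial.C : P →+* MvPolynomial (Fin 0) P)
    (α : MvPolynomial (Fin 0) P →+* B) K
  refine (hg _ m).trans (Iff.trans ⟨pc_of_iso e.symm, pc_of_iso e⟩ (pc_restrict_congr ?_ K m))
  ext a
  exact α.commutes a

variable {P : Type u} [CommRing P]

/-- Flat algebras whose spectra cover detect. -/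
theorem detects_of_primes {ι : Type} {B : ι → Type u} [∀ i, CommRing (B i)] (φ : ∀ i, P →+* B i)
    (hf : ∀ i, (φ i).Flat)
    (hp : ∀ p : PrimeSpectrum P, ∃ i, p ∈ Set.range (PrimeSpectrum.comap (φ i))) :
    PCDescent.Detects φ := by
  intro M h
  refine subsingleton_of_forall_eq 0 fun x => ?_
  by_contra hx
  let I : Ideal P := LinearMap.ker (LinearMap.toSpanSingleton P M x)
  have hI : I ≠ ⊤ := fun h => hx (by simpa [I] using (Ideal.eq_top_iff_one _).1 h)
  obtain ⟨p, hpmax, hIp⟩ := Ideal.exists_le_maximal I hI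
  obtain ⟨i, Q, hQ⟩ := hp ⟨p, hpmax.isPrime⟩
  let _ := (φ i).toAlgebra
  have : Module.Flat P (B i) := hf i
  have hs : Subsingleton (B i ⊗[P] M) := h i
  let f : (P ⧸ I) →ₗ[P] M := Submodule.liftQ I (LinearMap.toSpanSingleton P M x) le_rfl
  have hfi : Function.Injective f := LinearMap.ker_eq_bot.1 (Submodule.ker_liftQ_eq_bot' _ _ rfl)
  have hs' : Subsingleton (B i ⊗[P] (P ⧸ I)) :=
    (Module.Flat.lTensor_preserves_injective_linearMap (M := B i) f hfi).subsingleton
  have hIQ : ∀ a ∈ I, algebraMap P (B i ⧸ Q.asIdeal) a = 0 := fun a ha => by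
    rw [IsScalarTower.algebraMap_apply P (B i), Ideal.Quotient.algebraMap_eq, Ideal.Quotient.eq_zero_iff_mem]
    have : a ∈ (PrimeSpectrum.comap (φ i) Q).asIdeal := by rw [hQ]; exact hIp ha
    exact this
  let g : B i ⊗[P] (P ⧸ I) →ₐ[P] B i ⧸ Q.asIdeal :=
    Algebra.TensorProduct.lift (Ideal.Quotient.mkₐ P Q.asIdeal)
      (Ideal.Quotient.liftₐ I (Algebra.ofId P _) hIQ) (fun _ _ => Commute.all _ _)
  have h1 : (1 : B i ⧸ Q.asIdeal) = 0 := by
    rw [← map_one g, Subsingleton.elim (1 : B i ⊗[P] (P ⧸ I)) 0, map_zero]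
  exact Q.2.ne_top ((Ideal.eq_top_iff_one _).2 (Ideal.Quotient.eq_zero_iff_mem.1 (by
    rw [map_one]; exact h1)))

variable {R A : Type u} [CommRing R] [CommRing A] [Algebra R A]

/-- Descent along flat algebras over a polynomial presentation. -/
theorem isRel_of_lifts {n : ℕ} (α : MvPolynomial (Fin n) R →ₐ[R] A) (hα : Function.Surjective α)
    {ι : Type} [Fintype ι] (P' : ι → Type u) [∀ i, CommRing (P' i)]
    [∀ i, Algebra (MvPolynomial (Fin n) R) (P' i)] [∀ i, Module.Flat (MvPolynomial (Fin n) R) (P' i)]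
    [∀ i, Algebra.FinitePresentation (MvPolynomial (Fin n) R) (P' i)]
    (hcov : ∀ p : PrimeSpectrum A, ∃ i, PrimeSpectrum.comap (α : MvPolynomial (Fin n) R →+* A) p ∈
      Set.range (PrimeSpectrum.comap (algebraMap (MvPolynomial (Fin n) R) (P' i))))
    (M : Dual.D A) (m : ℤ)
    (h : letI := (α : MvPolynomial (Fin n) R →+* A).toAlgebra
      ∀ (i : ι) [DRing.HasLBaseChange (algebraMap A (A ⊗[MvPolynomial (Fin n) R] P' i))],
      haveI : IsScalarTower R (MvPolynomial (Fin n) R) A :=
        IsScalarTower.of_algebraMap_eq fun r => (α.commutes r).symm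
      DerCA.IsRelPseudoCoherent R (A ⊗[MvPolynomial (Fin n) R] P' i) m
        ((DRing.LBaseChange (algebraMap A (A ⊗[MvPolynomial (Fin n) R] P' i))).obj M)) :
    DerCA.IsRelPseudoCoherent R A m M := by
  classical
  let φ : MvPolynomial (Fin n) R →+* A := α
  let _ := φ.toAlgebra
  have : IsScalarTower R (MvPolynomial (Fin n) R) A :=
    IsScalarTower.of_algebraMap_eq fun r => (α.commutes r).symm
  obtain ⟨X, hX, -, ⟨e⟩⟩ := exists_kproj_iso M
  -- the kernel is covered away from the images
  let U : Set (PrimeSpectrum (MvPolynomial (Fin n) R)) :=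
    ⋃ i, Set.range (PrimeSpectrum.comap (algebraMap (MvPolynomial (Fin n) R) (P' i)))
  have hU : IsOpen U := isOpen_iUnion fun i =>
    (PrimeSpectrum.isOpenMap_comap_of_hasGoingDown_of_finitePresentation
      (R := MvPolynomial (Fin n) R) (S := P' i)).isOpen_range
  obtain ⟨t, ht⟩ := (hU.isClosed_compl.isCompact).elim_finite_subcover
    (fun a : RingHom.ker φ => (PrimeSpectrum.basicOpen a.1 : Set (PrimeSpectrum (MvPolynomial (Fin n) R))))
    (fun a => (PrimeSpectrum.basicOpen a.1).isOpen) (fun p hp => by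
      by_contra hc
      simp only [Set.mem_iUnion, SetLike.mem_coe, PrimeSpectrum.mem_basicOpen, not_exists, not_not] at hc
      have hle : RingHom.ker φ ≤ p.asIdeal := fun a ha => hc ⟨a, ha⟩
      have hprime : (p.asIdeal.map φ).IsPrime := Ideal.map_isPrime_of_surjective hα hle
      obtain ⟨i, hi⟩ := hcov ⟨p.asIdeal.map φ, hprime⟩
      refine hp (Set.mem_iUnion.2 ⟨i, ?_⟩)
      have he : PrimeSpectrum.comap φ ⟨p.asIdeal.map φ, hprime⟩ = p := by
        ext1
        change (p.asIdeal.map φ).comap φ = p.asIdeal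
        rw [Ideal.comap_map_of_surjective φ hα, ← RingHom.ker_eq_comap_bot, sup_eq_left.2 hle]
      rwa [he] at hi)
  let Bf : ι ⊕ Fin t.card → CommRingCat.{u} := Sum.elim (fun i => CommRingCat.of (P' i))
    fun j => CommRingCat.of (Localization.Away ((t.equivFin.symm j).1.1))
  let ψ : ∀ i, MvPolynomial (Fin n) R →+* Bf i
    | .inl i => algebraMap (MvPolynomial (Fin n) R) (P' i)
    | .inr j => algebraMap (MvPolynomial (Fin n) R) (Localization.Away ((t.equivFin.symm j).1.1))
  have hψ : ∀ i, (ψ i).Flat := by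
    rintro (i | j)
    · exact (RingHom.flat_algebraMap_iff.2 inferInstance : (algebraMap (MvPolynomial (Fin n) R) (P' i)).Flat)
    · exact flat_away _
  refine ⟨n, α, hα, pc_of_iso (restrictDIso φ e) ?_⟩
  refine PCDescent.pc_of_detects (B' := fun i => Bf i) hψ (detects_of_primes ψ hψ fun p => ?_) _ m ?_
  · by_cases hp : p ∈ U
    · obtain ⟨i, hi⟩ := Set.mem_iUnion.1 hp
      exact ⟨.inl i, hi⟩
    · obtain ⟨a, ha, hpa⟩ := Set.mem_iUnion₂.1 (ht hp)
      refine ⟨.inr (t.equivFin ⟨a, ha⟩), ?_⟩
      have hmem : p ∈ PrimeSpectrum.basicOpen ((t.equivFin.symm (t.equivFin ⟨a, ha⟩)).1.1) := by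
        rw [Equiv.symm_apply_apply]; exact hpa
      change p ∈ Set.range (PrimeSpectrum.comap (algebraMap (MvPolynomial (Fin n) R)
        (Localization.Away ((t.equivFin.symm (t.equivFin ⟨a, ha⟩)).1.1))))
      rw [PrimeSpectrum.localization_away_comap_range (Localization.Away ((t.equivFin.symm (t.equivFin ⟨a, ha⟩)).1.1))
        ((t.equivFin.symm (t.equivFin ⟨a, ha⟩)).1.1)]
      exact hmem
  rintro (i | j)
  · let A' := A ⊗[MvPolynomial (Fin n) R] P' i
    let _ : Algebra (P' i) A' := Algebra.TensorProduct.rightAlgebra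
    have := LTensor.hasLBaseChange (algebraMap A A')
    have : IsScalarTower (MvPolynomial (Fin n) R) (P' i) A' :=
      Algebra.TensorProduct.right_isScalarTower
    have : Algebra.IsPushout (MvPolynomial (Fin n) R) (P' i) A A' :=
      (TensorProduct.isPushout' (R := MvPolynomial (Fin n) R) (S := A) (T := P' i))
    have : IsScalarTower (MvPolynomial (Fin n) R) A A' := IsScalarTower.of_algebraMap_eq fun _ => rfl
    let _ : Algebra R (P' i) :=
      ((algebraMap (MvPolynomial (Fin n) R) (P' i)).comp (algebraMap R _)).toAlgebra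
    have : IsScalarTower R (MvPolynomial (Fin n) R) (P' i) := IsScalarTower.of_algebraMap_eq fun _ => rfl
    have : IsScalarTower R (P' i) A' := IsScalarTower.of_algebraMap_eq fun r => by
      rw [IsScalarTower.algebraMap_apply R (MvPolynomial (Fin n) R) A',
        IsScalarTower.algebraMap_apply (MvPolynomial (Fin n) R) (P' i) A']
      rfl
    have : Module.Flat R (P' i) := Module.Flat.trans R (MvPolynomial (Fin n) R) _
    have : Algebra.FinitePresentation R (P' i) :=
      Algebra.FinitePresentation.trans R (MvPolynomial (Fin n) R) _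
    have hs : Function.Surjective (algebraMap (P' i) A') :=
      Algebra.TensorProduct.includeRight_surjective _ hα
    have h1 := (isRel_iff_restrict (isRelAll_of_flat_fp R (P' i)) hs _ m).1 (h i)
    have hsq : ∀ x, algebraMap (P' i) A' (algebraMap (MvPolynomial (Fin n) R) (P' i) x) =
        algebraMap A A' (φ x) := fun x =>
      (Algebra.TensorProduct.includeRight (R := MvPolynomial (Fin n) R) (A := A) (B := P' i)).commutes x
    refine pc_of_iso ?_ h1
    exact (DRing.restrictD (algebraMap (P' i) A')).mapIso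
        (Perfect.baseChangeIsoOfRep (algebraMap A A') (KFlat.isKFlat_of_isKProjective X) e).symm ≪≫
      (restrictDIso (algebraMap (P' i) A') (Iso.refl _)).symm ≪≫
      (DerivedCategory.Q.mapIso ((NatIso.mapHomologicalComplex (sqIso φ _ _ _ hsq fun N =>
        bijective_sqHom φ _ _ _ hsq inferInstance inferInstance inferInstance inferInstance rfl (Algebra.algebra_ext _ _ fun _ => rfl)
          (Algebra.algebra_ext _ _ fun _ => rfl) (Algebra.algebra_ext _ _ fun _ => rfl) N)
          (ComplexShape.up ℤ)).app X)).symm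
  · refine pc_of_vanishGE fun k _ => (subsingleton_HD_toD_iff _ k).2 ?_
    refine ShortComplex.isZero_homology_of_isZero_X₂ _ ?_
    refine isZero_ext_of_smul_eq_zero _ (x := (t.equivFin.symm j).1.1)
      (IsLocalization.Away.algebraMap_isUnit (S := Localization.Away ((t.equivFin.symm j).1.1)) _) _ fun y => ?_
    change φ ((t.equivFin.symm j).1.1) • (show (X.X k : Type u) from y) = 0
    rw [show φ ((t.equivFin.symm j).1.1) = 0 from (t.equivFin.symm j).1.2, zero_smul]

end Groth.Agent.PCohD.RelDescent
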