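import Groth.Agent.FlatMor.PC.Hom
import Groth.Agent.PCohD.RelDescentA

/-!
# Relative pseudo-coherence of algebras under flat base change and descent
-/

set_option autoImplicit false

universe u

open CategoryTheory CategoryTheory.Limits AlgebraicGeometry
open scoped TensorProduct
attribute [local instance] HasDerivedCategory.standard

noncomputable section

namespace Groth.Agent.PCohD

open Groth.Agent.DRing Groth.Agent.DRing.PC

attribute [local instance] MvPolynomial.algebraMvPolynomial

section Square

variable {A A' B B' : Type u} [CommRing A] [CommRing A'] [CommRing B] [CommRing B'] [Algebra A A']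
  [Algebra A B] [Algebra A' B'] [Algebra B B'] [Algebra A B'] [IsScalarTower A A' B']
  [IsScalarTower A B B'] [Algebra.IsPushout A A' B B']

/-- The base change of a given presentation. -/
lemma exists_square {n : ℕ} (φ : MvPolynomial (Fin n) A →ₐ[A] B) (hφ : Function.Surjective φ) :
    ∃ φ' : MvPolynomial (Fin n) A' →ₐ[A'] B', Function.Surjective φ' ∧
      (letI := φ.toRingHom.toAlgebra; letI := φ'.toRingHom.toAlgebra
       Nonempty ((MvPolynomial (Fin n) A') ⊗[MvPolynomial (Fin n) A] B ≃ₗ[MvPolynomial (Fin n) A'] B')) := by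
  let φ' : MvPolynomial (Fin n) A' →ₐ[A'] B' :=
    MvPolynomial.aeval fun i => algebraMap B B' (φ (MvPolynomial.X i))
  let := φ.toRingHom.toAlgebra
  let := φ'.toRingHom.toAlgebra
  let : Algebra (MvPolynomial (Fin n) A) B' := ((algebraMap B B').comp φ.toRingHom).toAlgebra
  have t1 : IsScalarTower A (MvPolynomial (Fin n) A) B :=
    IsScalarTower.of_algebraMap_eq fun x => (φ.commutes x).symm
  have t2 : IsScalarTower A' (MvPolynomial (Fin n) A') B' :=
    IsScalarTower.of_algebraMap_eq fun x => (φ'.commutes x).symm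
  have t3 : IsScalarTower (MvPolynomial (Fin n) A) B B' := IsScalarTower.of_algebraMap_eq fun _ => rfl
  have t4 : IsScalarTower A (MvPolynomial (Fin n) A) B' := IsScalarTower.of_algebraMap_eq fun x => by
    rw [IsScalarTower.algebraMap_apply A B B', IsScalarTower.algebraMap_apply A (MvPolynomial (Fin n) A) B]
    rfl
  have hsq : φ'.toRingHom.comp (algebraMap (MvPolynomial (Fin n) A) (MvPolynomial (Fin n) A')) =
      (algebraMap B B').comp φ.toRingHom := by
    refine MvPolynomial.ringHom_ext (fun r => ?_) fun i => ?_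
    · simp [φ', ← IsScalarTower.algebraMap_apply]
    · simp [φ']
  have t5 : IsScalarTower (MvPolynomial (Fin n) A) (MvPolynomial (Fin n) A') B' :=
    IsScalarTower.of_algebraMap_eq fun x => (RingHom.congr_fun hsq x).symm
  have t6 : IsScalarTower A (MvPolynomial (Fin n) A') B' := IsScalarTower.of_algebraMap_eq fun x => by
    rw [IsScalarTower.algebraMap_apply A A' B', IsScalarTower.algebraMap_apply A A' (MvPolynomial (Fin n) A'),
      ← IsScalarTower.algebraMap_apply A' (MvPolynomial (Fin n) A') B']
  have hbig : Algebra.IsPushout A B A' B' := Algebra.IsPushout.symm inferInstance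
  have hsmall : Algebra.IsPushout (MvPolynomial (Fin n) A) B (MvPolynomial (Fin n) A') B' :=
    (Algebra.IsPushout.comp_iff A (MvPolynomial (Fin n) A) A' (MvPolynomial (Fin n) A')).1 hbig
  have hb := hsmall.symm.out
  refine ⟨φ', ?_, ⟨hb.equiv⟩⟩
  intro y
  induction y using hb.inductionOn with
  | zero => exact ⟨0, map_zero _⟩
  | tmul b =>
    obtain ⟨p, rfl⟩ := hφ b
    exact ⟨algebraMap _ _ p, (RingHom.congr_fun hsq p)⟩
  | smul s y hy =>
    obtain ⟨q, rfl⟩ := hy
    exact ⟨s * q, by rw [map_mul, Algebra.smul_def]; rfl⟩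
  | add x y hx hy =>
    obtain ⟨a, rfl⟩ := hx
    obtain ⟨b, rfl⟩ := hy
    exact ⟨a + b, map_add _ _ _⟩

omit [Algebra A A'] [Algebra A' B'] [Algebra B B'] [Algebra A B'] in
/-- An algebra is pseudo-coherent relative to the base iff it is so over a presentation. -/
lemma rel_iff_pcModule {n : ℕ} (φ : MvPolynomial (Fin n) A →ₐ[A] B) (hφ : Function.Surjective φ) (m : ℤ) :
    DerCA.IsRelPseudoCoherentModule A B m B ↔
      (letI := φ.toRingHom.toAlgebra; DRing.IsPseudoCoherentModule (MvPolynomial (Fin n) A) m B) := by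
  let := φ.toRingHom.toAlgebra
  exact (RelPC.isRel_iff φ hφ _ m).trans (FlatMor.PC.pc_restrict_inD_iff B m)

/-- Flat base change. -/
theorem rel_baseChange [Module.Flat A A'] {m : ℤ} (h : DerCA.IsRelPseudoCoherentModule A B m B) :
    DerCA.IsRelPseudoCoherentModule A' B' m B' := by
  obtain ⟨n, φ, hφ, h⟩ := h
  obtain ⟨φ', hφ', ⟨e⟩⟩ := exists_square (A' := A') (B' := B') φ hφ
  let := φ.toRingHom.toAlgebra
  let := φ'.toRingHom.toAlgebra
  rw [rel_iff_pcModule φ' hφ']
  have hflat : (algebraMap (MvPolynomial (Fin n) A) (MvPolynomial (Fin n) A')).Flat :=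
    RingHom.flat_algebraMap_iff.2 (FlatMor.PC.flat_mvPolynomial n)
  have h' := Perfect.pcModule_baseChange _ hflat ((FlatMor.PC.pc_restrict_inD_iff B m).1 h)
  have key : ∀ i : Algebra (MvPolynomial (Fin n) A) (MvPolynomial (Fin n) A'),
      i = MvPolynomial.algebraMvPolynomial →
      (letI := i; DRing.IsPseudoCoherentModule (MvPolynomial (Fin n) A') m
        ((MvPolynomial (Fin n) A') ⊗[MvPolynomial (Fin n) A] B)) →
      DRing.IsPseudoCoherentModule (MvPolynomial (Fin n) A') m B' := by
    rintro i rfl h
    exact PC.pcModule_congr e h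
  exact key _ (Algebra.algebra_ext _ _ fun _ => rfl) h'

end Square

/-- Descent of pseudo-coherence of modules along a finite family of flat algebras. -/
lemma pcModule_of_family {ι : Type} [Finite ι] {P : Type u} [CommRing P] {P' : ι → Type u}
    [∀ i, CommRing (P' i)] [iP : ∀ i, Algebra P (P' i)] (hflat : ∀ i, Module.Flat P (P' i))
    (hd : PCDescent.Detects (fun i => algebraMap P (P' i))) {M : Type u} [AddCommGroup M] [Module P M]
    {m : ℤ} (h : ∀ i, DRing.IsPseudoCoherentModule (P' i) m (P' i ⊗[P] M)) :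
    DRing.IsPseudoCoherentModule P m M := by
  have : Fintype ι := Fintype.ofFinite ι
  have hi : iP = fun i => (algebraMap P (P' i)).toAlgebra :=
    funext fun i => Algebra.algebra_ext _ _ fun _ => rfl
  have key : ∀ (ψ : ∀ i, P →+* P' i) (ins : ∀ i, Algebra P (P' i)), (∀ i, (ψ i).Flat) →
      PCDescent.Detects ψ → (ins = fun i => (ψ i).toAlgebra) →
      (∀ i, letI := ins i; DRing.IsPseudoCoherentModule (P' i) m (P' i ⊗[P] M)) →
      DRing.IsPseudoCoherentModule P m M := by
    intro ψ ins hψ hd hi h
    subst hi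
    refine pc_of_iso (TorBalance.inDS0 M) (PCDescent.pc_of_detects hψ hd _ m fun i => ?_)
    obtain ⟨j⟩ := Perfect.nonempty_extendScalarsIso (ψ i) M
    let := (ψ i).toAlgebra
    exact pc_of_iso (DerivedCategory.Q.mapIso
      ((HomologicalComplex.singleMapHomologicalComplex (ModuleCat.extendScalars.{u, u, u} (ψ i))
        (ComplexShape.up ℤ) 0).app (ModuleCat.of P M) ≪≫
        (HomologicalComplex.single (ModuleCat.{u} (P' i)) (ComplexShape.up ℤ) 0).mapIso j) ≪≫
      ((DerivedCategory.singleFunctorIsoCompQ (ModuleCat.{u} (P' i)) 0).app _).symm).symm (h i)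
  exact key _ iP (fun i => RingHom.flat_algebraMap_iff.2 (hflat i)) hd hi h

/-- Descent along finitely many flat algebras covering the spectrum of the base. -/
theorem rel_of_family {ι : Type} [Finite ι] {A B : Type u} [CommRing A] [CommRing B] [Algebra A B]
    [Algebra.FiniteType A B] {A' B' : ι → Type u}
    [∀ i, CommRing (A' i)] [∀ i, CommRing (B' i)] [∀ i, Algebra A (A' i)] [∀ i, Algebra (A' i) (B' i)]
    [∀ i, Algebra B (B' i)] [∀ i, Algebra A (B' i)] [∀ i, IsScalarTower A (A' i) (B' i)]
    [∀ i, IsScalarTower A B (B' i)] [∀ i, Algebra.IsPushout A (A' i) B (B' i)]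
    [∀ i, Module.Flat A (A' i)]
    (hp : ∀ p : PrimeSpectrum A, ∃ i, p ∈ Set.range (PrimeSpectrum.comap (algebraMap A (A' i))))
    {m : ℤ} (h : ∀ i, DerCA.IsRelPseudoCoherentModule (A' i) (B' i) m (B' i)) :
    DerCA.IsRelPseudoCoherentModule A B m B := by
  obtain ⟨n, φ, hφ⟩ := Algebra.FiniteType.iff_quotient_mvPolynomial''.1
    (inferInstance : Algebra.FiniteType A B)
  rw [rel_iff_pcModule φ hφ]
  let := φ.toRingHom.toAlgebra
  refine pcModule_of_family (P' := fun i => MvPolynomial (Fin n) (A' i))
    (fun i => FlatMor.PC.flat_mvPolynomial n) ?_ fun i => ?_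
  · intro M hM
    let _ : Module A M := Module.compHom M (algebraMap A (MvPolynomial (Fin n) A))
    have : IsScalarTower A (MvPolynomial (Fin n) A) M := IsScalarTower.of_algebraMap_smul fun _ _ => rfl
    exact RelDescent.detects_of_primes (fun i => algebraMap A (A' i))
      (fun i => RingHom.flat_algebraMap_iff.2 inferInstance) hp (ModuleCat.of A M) fun i => by
        have key : ∀ j : Algebra (MvPolynomial (Fin n) A) (MvPolynomial (Fin n) (A' i)),
            j = MvPolynomial.algebraMvPolynomial →
            (letI := j; Subsingleton (MvPolynomial (Fin n) (A' i) ⊗[MvPolynomial (Fin n) A] M)) →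
            Subsingleton (MvPolynomial (Fin n) (A' i) ⊗[MvPolynomial (Fin n) A] M) := by
          rintro j rfl h
          exact h
        have := key _ (Algebra.algebra_ext _ _ fun _ => rfl) (hM i)
        have e := Algebra.IsPushout.cancelBaseChange A (A' i) (MvPolynomial (Fin n) A)
          (MvPolynomial (Fin n) (A' i)) M
        have key' : ∀ j : Algebra A (A' i), j = ‹∀ i, Algebra A (A' i)› i →
            (letI := j; Subsingleton (A' i ⊗[A] M)) := by
          rintro j rfl
          exact e.symm.toEquiv.subsingleton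
        exact key' (algebraMap A (A' i)).toAlgebra (Algebra.algebra_ext _ _ fun _ => rfl)
  · obtain ⟨φ', hφ', ⟨e⟩⟩ := exists_square (A' := A' i) (B' := B' i) φ hφ
    let := φ'.toRingHom.toAlgebra
    exact PC.pcModule_congr e.symm ((rel_iff_pcModule φ' hφ' m).1 (h i))

end Groth.Agent.PCohD
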