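import Groth.Agent.PCohD.NPCSquare
import Groth.Agent.DRing.RelPCTorBC

/-!
# Relative pseudo-coherence of algebras flat over a base, under base change of that base
-/

set_option autoImplicit false

universe u

open CategoryTheory CategoryTheory.Limits AlgebraicGeometry DerivedCategory
open scoped TensorProduct
attribute [local instance] HasDerivedCategory.standard

noncomputable section

namespace Groth.Agent.PCohD

open Groth.Agent.DRing Groth.Agent.DRing.PC

attribute [local instance] MvPolynomial.algebraMvPolynomial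

set_option backward.isDefEq.respectTransparency.types false in
/-- Base change of a pseudo-coherent module which is flat over the base. -/
theorem pcModule_baseChange_of_flat {R R' P P' : Type u} [CommRing R] [CommRing R'] [CommRing P] [CommRing P']
    [Algebra R R'] [Algebra R P] [iPP : Algebra P P'] [Algebra R' P'] [Algebra R P'] [IsScalarTower R P P']
    [IsScalarTower R R' P'] [Algebra.IsPushout R R' P P'] [Module.Flat R P]
    (M : Type u) [AddCommGroup M] [Module P M] [Module R M] [IsScalarTower R P M] [Module.Flat R M] {m : ℤ}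
    (h : DRing.IsPseudoCoherentModule P m M) : DRing.IsPseudoCoherentModule P' m (P' ⊗[P] M) := by
  let ψ : P →+* P' := algebraMap P P'
  have hi : iPP = ψ.toAlgebra := Algebra.algebra_ext _ _ fun _ => rfl
  have hsq2 : ∀ r, algebraMap R' P' (algebraMap R R' r) = ψ (algebraMap R P r) := fun r => by
    rw [← IsScalarTower.algebraMap_apply, ← IsScalarTower.algebraMap_apply]
  have hb2 : ∀ N, Function.Bijective (RelPC.sqHom (algebraMap R P) (algebraMap R R') ψ (algebraMap R' P') hsq2 N).hom :=
    fun N => RelPC.bijective_sqHom _ _ _ _ hsq2 inferInstance inferInstance inferInstance inferInstance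
      (Algebra.algebra_ext _ _ fun _ => rfl) (Algebra.algebra_ext _ _ fun _ => rfl)
      (Algebra.algebra_ext _ _ fun _ => rfl) (Algebra.algebra_ext _ _ fun _ => rfl) N
  let Y : DRing.Cx P := (HomologicalComplex.single (ModuleCat.{u} P) (ComplexShape.up ℤ) 0).obj (ModuleCat.of P M)
  have hYz : ∀ i : ℤ, i ≠ 0 → IsZero (Y.X i) := fun i hi => HomologicalComplex.isZero_single_obj_X _ _ _ _ hi
  have hYb : DRing.VanishesAbove Y 0 := fun i hi => hYz i (by omega)
  obtain ⟨Q, π, hQb, hQp, hq⟩ := Trunc.exists_projRes Y 0 fun i hi =>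
    HomologicalComplex.exactAt_iff_isZero_homology _ _ |>.2
      (ShortComplex.isZero_homology_of_isZero_X₂ _ (hYb i hi))
  haveI := hq
  have hI₁ : ∀ i, TorIndep.Ind ((ModuleCat.restrictScalars (algebraMap R R')).obj (ModuleCat.of R' R'))
      ((ModuleCat.restrictScalars (algebraMap R P)).obj (Q.X i)) := fun i => by
    let N : Type u := Q.X i
    letI : Module R N := Module.compHom N (algebraMap R P)
    haveI : IsScalarTower R P N := IsScalarTower.of_algebraMap_smul fun _ _ => rfl
    haveI : Module.Projective P N := hQp i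
    haveI : Module.Flat R N := Module.Flat.trans R P N
    exact @TorIndep.ind_of_flat R _ _ ((ModuleCat.restrictScalars (algebraMap R P)).obj (Q.X i))
      (inferInstanceAs (Module.Flat R N))
  have hI₂ : ∀ i, TorIndep.Ind ((ModuleCat.restrictScalars (algebraMap R R')).obj (ModuleCat.of R' R'))
      ((ModuleCat.restrictScalars (algebraMap R P)).obj (Y.X i)) := fun i => by
    have hflat : Module.Flat R ((ModuleCat.restrictScalars (algebraMap R P)).obj (Y.X i)) := by
      by_cases hi0 : i = 0
      · subst hi0
        let l : M ≃ₗ[R] ((ModuleCat.restrictScalars (algebraMap R P)).obj (ModuleCat.of P M)) :=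
          { AddEquiv.refl M with map_smul' := fun r x => (IsScalarTower.algebraMap_smul P r x).symm }
        haveI : Module.Flat R ((ModuleCat.restrictScalars (algebraMap R P)).obj (ModuleCat.of P M)) :=
          Module.Flat.of_linearEquiv l.symm
        exact Module.Flat.of_linearEquiv ((ModuleCat.restrictScalars (algebraMap R P)).mapIso
          (HomologicalComplex.singleObjXSelf (ComplexShape.up ℤ) 0 (ModuleCat.of P M))).toLinearEquiv
      · have := ModuleCat.subsingleton_of_isZero
          ((ModuleCat.restrictScalars (algebraMap R P)).map_isZero (hYz i hi0))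
        infer_instance
    exact @TorIndep.ind_of_flat R _ _ _ hflat
  have hqi := RelPCTorBC.quasiIso_extCx (algebraMap R P) (algebraMap R' P') ψ hsq2 hb2 π hQb hYb hI₁ hI₂
  haveI := LTensor.hasLBaseChange ψ
  have hpc := pc_baseChange ψ h
  haveI : IsIso (DerivedCategory.Q.map π) :=
    (DerivedCategory.isIso_Q_map_iff_quasiIso (C := ModuleCat.{u} P) π).2 hq
  haveI : IsIso (DerivedCategory.Q.map ((LTensor.extCx ψ).map π)) :=
    (DerivedCategory.isIso_Q_map_iff_quasiIso (C := ModuleCat.{u} P') _).2 hqi
  let i₁ : DRing.toD ((LTensor.extCx ψ).obj Q) ≅ (DRing.LBaseChange ψ).obj (Dual.inD P M) :=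
    Perfect.baseChangeIsoOfRep ψ (TorAmp.isKFlat_of_projective hQb hQp)
      (asIso (DerivedCategory.Q.map π) ≪≫ (TorBalance.inDS0 M).symm)
  have key : ∀ iA : Algebra P P', iA = ψ.toAlgebra →
      (letI := iA; DRing.IsPseudoCoherentModule P' m (P' ⊗[P] M)) := by
    rintro iA rfl
    letI := ψ.toAlgebra
    obtain ⟨j⟩ := Perfect.nonempty_extendScalarsIso ψ M
    let i₂ : (LTensor.extCx ψ).obj Y ≅
        (CochainComplex.singleFunctor (ModuleCat.{u} P') 0).obj (ModuleCat.of P' (P' ⊗[P] M)) :=
      (HomologicalComplex.singleMapHomologicalComplex (ModuleCat.extendScalars.{u, u, u} ψ)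
          (ComplexShape.up ℤ) 0).app (ModuleCat.of P M) ≪≫
        (HomologicalComplex.single (ModuleCat.{u} P') (ComplexShape.up ℤ) 0).mapIso j
    let i₃ : DRing.toD ((LTensor.extCx ψ).obj Y) ≅ Dual.inD P' (P' ⊗[P] M) :=
      DerivedCategory.Q.mapIso i₂ ≪≫
        ((DerivedCategory.singleFunctorIsoCompQ (ModuleCat.{u} P') 0).app _).symm
    let i₄ : DRing.toD ((LTensor.extCx ψ).obj Q) ≅ DRing.toD ((LTensor.extCx ψ).obj Y) :=
      @asIso _ _ _ _ (DerivedCategory.Q.map ((LTensor.extCx ψ).map π)) ‹_›
    exact PC.pc_of_iso (i₁.symm ≪≫ i₄ ≪≫ i₃) hpc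
  exact key iPP hi

/-- Tor-independent base change of algebras which are flat over a base. -/
theorem rel_baseChange_of_flat {R R' A A' B B' : Type u} [CommRing R] [CommRing R'] [CommRing A] [CommRing A']
    [CommRing B] [CommRing B'] [Algebra R R'] [Algebra R A] [Algebra A A'] [Algebra R' A'] [Algebra R A']
    [IsScalarTower R A A'] [IsScalarTower R R' A'] [Algebra.IsPushout R R' A A'] [Module.Flat R A]
    [Algebra R B] [Algebra A B] [IsScalarTower R A B] [Module.Flat R B]
    [Algebra A' B'] [Algebra B B'] [Algebra A B'] [IsScalarTower A A' B'] [IsScalarTower A B B']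
    [Algebra.IsPushout A A' B B'] {m : ℤ}
    (h : DerCA.IsRelPseudoCoherentModule A B m B) : DerCA.IsRelPseudoCoherentModule A' B' m B' := by
  obtain ⟨n, φ, hφ, h⟩ := h
  obtain ⟨φ', hφ', ⟨e⟩⟩ := exists_square (A' := A') (B' := B') φ hφ
  let := φ.toRingHom.toAlgebra
  let := φ'.toRingHom.toAlgebra
  rw [rel_iff_pcModule φ' hφ']
  have hAP : Algebra.IsPushout A A' (MvPolynomial (Fin n) A) (MvPolynomial (Fin n) A') := inferInstance
  haveI : IsScalarTower R (MvPolynomial (Fin n) A) (MvPolynomial (Fin n) A') :=
    IsScalarTower.of_algebraMap_eq fun r => by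
      rw [IsScalarTower.algebraMap_apply R A (MvPolynomial (Fin n) A),
        IsScalarTower.algebraMap_apply R A' (MvPolynomial (Fin n) A'),
        ← IsScalarTower.algebraMap_apply A (MvPolynomial (Fin n) A) (MvPolynomial (Fin n) A'),
        IsScalarTower.algebraMap_apply A A' (MvPolynomial (Fin n) A'), ← IsScalarTower.algebraMap_apply R A A']
  haveI : Algebra.IsPushout R A R' A' := Algebra.IsPushout.symm inferInstance
  have hRP : Algebra.IsPushout R R' (MvPolynomial (Fin n) A) (MvPolynomial (Fin n) A') :=
    ((Algebra.IsPushout.comp_iff R A R' A').2 hAP.symm).symm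
  haveI : IsScalarTower R (MvPolynomial (Fin n) A) B := IsScalarTower.of_algebraMap_eq fun r => by
    rw [IsScalarTower.algebraMap_apply R A B, IsScalarTower.algebraMap_apply R A (MvPolynomial (Fin n) A)]
    exact (φ.commutes _).symm
  haveI : Module.Flat R (MvPolynomial (Fin n) A) := Module.Flat.trans R A _
  exact PC.pcModule_congr e
    (pcModule_baseChange_of_flat (R := R) (R' := R') B ((FlatMor.PC.pc_restrict_inD_iff B m).1 h))

end Groth.Agent.PCohD
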