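import Groth.Agent.PCohD.NPCFlatBC
import Groth.Agent.S6985

/-!
# Relative pseudo-coherence of fibre products of algebras
-/

set_option autoImplicit false

universe u

open scoped TensorProduct
attribute [local instance] HasDerivedCategory.standard
attribute [local instance] Algebra.TensorProduct.rightAlgebra

noncomputable section

namespace Groth.Agent.PCohD

set_option maxHeartbeats 1000000 in
/-- The product over `R` of two pseudo-coherent algebra maps, the second between flat `R`-algebras. -/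
theorem rel_prod {R A₁ A₂ B₁ B₂ A B : Type u} [CommRing R] [CommRing A₁] [CommRing A₂] [CommRing B₁]
    [CommRing B₂] [CommRing A] [CommRing B]
    [Algebra R A₁] [Algebra R A₂] [Algebra R A] [Algebra A₁ A] [Algebra A₂ A] [IsScalarTower R A₁ A]
    [IsScalarTower R A₂ A] [Algebra.IsPushout R A₁ A₂ A]
    [Algebra R B₁] [Algebra R B₂] [Algebra R B] [Algebra B₁ B] [Algebra B₂ B] [IsScalarTower R B₁ B]
    [IsScalarTower R B₂ B] [Algebra.IsPushout R B₁ B₂ B]
    [Algebra A₁ B₁] [Algebra A₂ B₂] [IsScalarTower R A₁ B₁] [IsScalarTower R A₂ B₂] [Algebra A B]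
    [Algebra.FiniteType A₁ B₁] [Algebra.FiniteType A₂ B₂]
    (h1 : ∀ a, algebraMap A B (algebraMap A₁ A a) = algebraMap B₁ B (algebraMap A₁ B₁ a))
    (h2 : ∀ a, algebraMap A B (algebraMap A₂ A a) = algebraMap B₂ B (algebraMap A₂ B₂ a))
    [Module.Flat R A₂] [Module.Flat R B₂]
    (hB₁ : ∀ m : ℤ, DerCA.IsRelPseudoCoherentModule A₁ B₁ m B₁)
    (hB₂ : ∀ m : ℤ, DerCA.IsRelPseudoCoherentModule A₂ B₂ m B₂) (n : ℤ) :
    DerCA.IsRelPseudoCoherentModule A B n B := by
  let C := A₁ ⊗[R] B₂
  letI iA₂C : Algebra A₂ C := ((algebraMap B₂ C).comp (algebraMap A₂ B₂)).toAlgebra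
  haveI : IsScalarTower A₂ B₂ C := IsScalarTower.of_algebraMap_eq fun _ => rfl
  haveI : IsScalarTower R A₂ C := IsScalarTower.of_algebraMap_eq fun r => by
    rw [IsScalarTower.algebraMap_apply R B₂ C, IsScalarTower.algebraMap_apply R A₂ B₂]; rfl
  let e := Algebra.IsPushout.equiv R A₁ A₂ A
  let γ : A →+* C :=
    ((Algebra.TensorProduct.map (AlgHom.id A₁ A₁) (IsScalarTower.toAlgHom R A₂ B₂)).toRingHom).comp
      e.symm.toAlgHom.toRingHom
  letI : Algebra A C := γ.toAlgebra
  have hγ : ∀ t, γ (e t) = Algebra.TensorProduct.map (AlgHom.id A₁ A₁) (IsScalarTower.toAlgHom R A₂ B₂) t :=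
    fun t => congrArg (Algebra.TensorProduct.map (AlgHom.id A₁ A₁) (IsScalarTower.toAlgHom R A₂ B₂))
      (e.symm_apply_apply t)
  haveI : IsScalarTower A₁ A C := IsScalarTower.of_algebraMap_eq fun a => by
    have h := hγ (a ⊗ₜ 1)
    rw [Algebra.IsPushout.equiv_tmul, map_one, mul_one] at h
    exact (h.trans (by simp [C, Algebra.TensorProduct.algebraMap_apply])).symm
  haveI : IsScalarTower A₂ A C := IsScalarTower.of_algebraMap_eq fun a => by
    have h := hγ (1 ⊗ₜ a)
    rw [Algebra.IsPushout.equiv_tmul, map_one, one_mul] at h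
    exact (h.trans (by simp [C, RingHom.algebraMap_toAlgebra])).symm
  haveI : IsScalarTower R A C := IsScalarTower.of_algebraMap_eq fun r => by
    rw [IsScalarTower.algebraMap_apply R A₁ A, ← IsScalarTower.algebraMap_apply A₁ A C,
      ← IsScalarTower.algebraMap_apply R A₁ C]
  haveI hC : Algebra.IsPushout R A₁ B₂ C := inferInstance
  haveI hA : Algebra.IsPushout R A₂ A₁ A := Algebra.IsPushout.symm inferInstance
  haveI : Algebra.IsPushout A₂ A B₂ C :=
    ((Algebra.IsPushout.comp_iff R A₂ A₁ A (T := B₂) (T' := C)).1 hC.symm).symm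
  have hAC : ∀ m : ℤ, DerCA.IsRelPseudoCoherentModule A C m C := fun m =>
    rel_baseChange_of_flat (R := R) (R' := A₁) (A := A₂) (A' := A) (B := B₂) (B' := C) (hB₂ m)
  letI iA₁B : Algebra A₁ B := ((algebraMap B₁ B).comp (algebraMap A₁ B₁)).toAlgebra
  haveI : IsScalarTower A₁ B₁ B := IsScalarTower.of_algebraMap_eq fun _ => rfl
  haveI : IsScalarTower R A₁ B := IsScalarTower.of_algebraMap_eq fun r => by
    rw [IsScalarTower.algebraMap_apply R B₁ B, IsScalarTower.algebraMap_apply R A₁ B₁]; rfl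
  let δ : C →ₐ[A₁] B := Algebra.TensorProduct.lift (Algebra.ofId A₁ B) (IsScalarTower.toAlgHom R B₂ B)
    fun _ _ => Commute.all _ _
  letI : Algebra C B := δ.toRingHom.toAlgebra
  have hδ : ∀ a b, δ (a ⊗ₜ b) = algebraMap A₁ B a * algebraMap B₂ B b := fun _ _ =>
    Algebra.TensorProduct.lift_tmul _ _ _ _ _
  haveI : IsScalarTower A₁ C B := IsScalarTower.of_algebraMap_eq fun a => (δ.commutes a).symm
  haveI : IsScalarTower B₂ C B := IsScalarTower.of_algebraMap_eq fun b => by
    show algebraMap B₂ B b = δ (1 ⊗ₜ b)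
    rw [hδ, map_one, one_mul]
  haveI : IsScalarTower A C B := IsScalarTower.of_algebraMap_eq fun x => by
    obtain ⟨t, rfl⟩ := e.surjective x
    show algebraMap A B (e t) = δ (γ (e t))
    rw [hγ]
    induction t using TensorProduct.induction_on with
    | zero => simp
    | add a b ha hb => simp only [map_add, ha, hb]
    | tmul a b =>
      rw [Algebra.IsPushout.equiv_tmul, map_mul, h1, h2, Algebra.TensorProduct.map_tmul, hδ]
      rfl
  haveI : IsScalarTower R C B := IsScalarTower.of_algebraMap_eq fun r => by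
    rw [IsScalarTower.algebraMap_apply R A₁ C, ← IsScalarTower.algebraMap_apply A₁ C B,
      ← IsScalarTower.algebraMap_apply R A₁ B]
  haveI : Algebra.IsPushout A₁ C B₁ B := by
    have hB' : Algebra.IsPushout R B₁ B₂ B := inferInstance
    exact ((Algebra.IsPushout.comp_iff R A₁ B₂ C (T := B₁) (T' := B)).1 hB').symm
  haveI : Module.Flat A₁ C := inferInstance
  have hCB : ∀ m : ℤ, DerCA.IsRelPseudoCoherentModule C B m B := fun m =>
    rel_baseChange (A := A₁) (A' := C) (B := B₁) (B' := B) (hB₁ m)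
  haveI : Algebra.FiniteType A C := Algebra.FiniteType.equiv (inferInstance : Algebra.FiniteType A (A ⊗[A₂] B₂))
    (Algebra.IsPushout.equiv A₂ A B₂ C)
  haveI : Algebra.FiniteType C B := Algebra.FiniteType.equiv (inferInstance : Algebra.FiniteType C (C ⊗[A₁] B₁))
    (Algebra.IsPushout.equiv A₁ C B₁ B)
  haveI : Algebra.FiniteType A B := Algebra.FiniteType.trans (S := C) inferInstance inferInstance
  exact (Groth.Agent.S6985.result (R := A) (A := C) (B := B) hAC (Dual.inD B B) n).1.1 (hCB n)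

end Groth.Agent.PCohD
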