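import Groth.Agent.PCohD.NPC
import Groth.Agent.PCohD.NPCBaseChange
import Mathlib.AlgebraicGeometry.Morphisms.Flat

/-!
# Affine squares in a base change
-/

set_option autoImplicit false

universe u

open CategoryTheory Limits AlgebraicGeometry
attribute [local instance] HasDerivedCategory.standard

noncomputable section

namespace Groth.Agent.PCohD

/-- Sections on an affine square of a fibre product form a pushout. -/
theorem exists_pushout {X Y Y' : Scheme.{u}} (f : X ⟶ Y) (h : Y' ⟶ Y) {V : Y.Opens} (hV : IsAffineOpen V)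
    {U : X.Opens} (hU : IsAffineOpen U) {V' : Y'.Opens} (hV' : IsAffineOpen V')
    (e : U ≤ f ⁻¹ᵁ V) (e' : V' ≤ h ⁻¹ᵁ V) :
    ∃ (W : (pullback f h).Opens) (_ : IsAffineOpen W) (e₁ : W ≤ pullback.fst f h ⁻¹ᵁ U)
      (e₂ : W ≤ pullback.snd f h ⁻¹ᵁ V'),
      W = pullback.fst f h ⁻¹ᵁ U ⊓ pullback.snd f h ⁻¹ᵁ V' ∧
      IsPushout (f.appLE V U e) (h.appLE V V' e') ((pullback.fst f h).appLE U W e₁)
        ((pullback.snd f h).appLE V' W e₂) := by
  have H := IsPullback.of_hasPullback f h
  have : IsAffine _ := hV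
  have : IsAffine _ := hU
  have : IsAffine _ := hV'
  exact ⟨_, .of_isIso (Scheme.Hom.isPullback_resLE H e' e rfl).isoPullback.hom, inf_le_left, inf_le_right, rfl,
    (isIso_pushoutSection_iff H e' e rfl).mp (isIso_pushoutSection_of_isAffineOpen H e' e rfl hV hV' hU)⟩

end Groth.Agent.PCohD
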