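import Groth.Agent.PCohD.SmoothTor

/-!
# Flat amplitude of a direct image into a smooth scheme
-/

set_option autoImplicit false

universe u

open CategoryTheory CategoryTheory.Limits DerivedCategory AlgebraicGeometry

attribute [local instance] HasDerivedCategory.standard

noncomputable section

namespace Groth.Agent.PCohD.PushSmooth

open Groth.Agent.DRing.TorAmp

variable {X X' Y : Scheme.{u}} (i : X ⟶ X') [IsClosedImmersion i] (f' : X' ⟶ Y)

/-- At a point of the image. -/
theorem torAmp_push_range (F : CochainComplex X.Modules ℤ) {a b : ℤ} (z : X) (n : ℕ) (W : X'.Opens)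
    (hzW : i z ∈ W) [SmoothOfRelativeDimension n (W.ι ≫ f')]
    (hF : DerSch.HasTorAmplitudeAt (i ≫ f') a b F z) :
    DRing.HasTorAmplitudeIn (X'.presheaf.stalk (i z)) (a - n) b (PerfAmp.stD (i z)
      (((Scheme.Modules.pushforward i).mapHomologicalComplex (ComplexShape.up ℤ)).obj F)) :=
  SmoothTor.torAmp_stalk_smooth f' n (i z) W hzW _
    (torAmp_of_iso (Q.mapIso (TorComp.stalkCxCompIso i f' z F ≪≫ TorComp.restrictCompIso _ _ _ ≪≫
      (DRing.restrictCx _).mapIso (PushTor.pushStalkCxIso i i.isClosedEmbedding.isInducing z F).symm)) hF)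

omit f' in
/-- Off the image. -/
theorem torAmp_push_off (F : CochainComplex X.Modules ℤ) (y : X') (hy : y ∉ Set.range i) (a b : ℤ) :
    DRing.HasTorAmplitudeIn (X'.presheaf.stalk y) a b (PerfAmp.stD y
      (((Scheme.Modules.pushforward i).mapHomologicalComplex (ComplexShape.up ℤ)).obj F)) := by
  let O : X'.Opens := ⟨(Set.range i)ᶜ, i.isClosedEmbedding.isClosed_range.isOpen_compl⟩
  refine ⟨_, fun n _ => ?_, fun n => ?_, ⟨Iso.refl _⟩⟩
  · have := ClUnit.subsingleton_stalk_pushforward i (F.X n) y O hy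
      (TopologicalSpace.Opens.ext (Set.eq_empty_of_forall_notMem fun z hz => hz ⟨z, rfl⟩))
    exact @ModuleCat.isZero_of_subsingleton _ _ _ this
  · have := ClUnit.subsingleton_stalk_pushforward i (F.X n) y O hy
      (TopologicalSpace.Opens.ext (Set.eq_empty_of_forall_notMem fun z hz => hz ⟨z, rfl⟩))
    exact inferInstanceAs (Module.Flat (X'.presheaf.stalk y)
      (((Scheme.Modules.pushforward i).obj (F.X n)).presheaf.stalk y))

/-- Cohomology of a direct image vanishes above the amplitude. -/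
theorem isLE_of_stalks (G : CochainComplex X'.Modules ℤ) (d : ℤ)
    (h : ∀ y, ∃ a, DRing.HasTorAmplitudeIn (X'.presheaf.stalk y) a d (PerfAmp.stD y G)) :
    (DCoh.toD X' G).IsLE d := by
  refine (DerivedCategory.isLE_iff _ d).mpr fun j hj => (isZero_homology_Q G j).mpr
    ((HomologicalComplex.exactAt_iff_isZero_homology _ _).mp ?_)
  refine (Groth.Agent.KFlat.SchemeTor.exactAt_iff_stalk G j).mpr fun y => ?_
  obtain ⟨a, E, hv, -, ⟨e⟩⟩ := h y
  rw [HomologicalComplex.exactAt_iff_isZero_homology, ← Groth.Agent.DRing.DBasic.subsingleton_HD_toD_iff]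
  refine (Groth.Agent.DRing.DBasic.subsingleton_HD_congr e _).mp ?_
  rw [Groth.Agent.DRing.DBasic.subsingleton_HD_toD_iff]
  exact (HomologicalComplex.exactAt_iff_isZero_homology _ _).mp
    (ShortComplex.exact_of_isZero_X₂ _ (hv j (Or.inr hj)))

/-- Flat amplitude of the direct image, when the dimension is bounded. -/
theorem flatAmp_push (d : ℕ)
    (hd : ∀ x : X', ∃ (n : ℕ) (V : X'.Opens), n ≤ d ∧ x ∈ V ∧ SmoothOfRelativeDimension n (V.ι ≫ f'))
    (F : CochainComplex X.Modules ℤ) {a b : ℤ} (hF : DerSch.HasTorAmplitude (i ≫ f') a b F) :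
    DCoh.HasFlatAmplitudeIn (a - d) b (DCoh.toD X'
      (((Scheme.Modules.pushforward i).mapHomologicalComplex (ComplexShape.up ℤ)).obj F)) := by
  have hst : ∀ y, DRing.HasTorAmplitudeIn (X'.presheaf.stalk y) (a - d) b (PerfAmp.stD y
      (((Scheme.Modules.pushforward i).mapHomologicalComplex (ComplexShape.up ℤ)).obj F)) := fun y => by
    by_cases hy : y ∈ Set.range i
    · obtain ⟨z, rfl⟩ := hy
      obtain ⟨n, V, hn, hzV, hsm⟩ := hd (i z)
      exact torAmp_mono (torAmp_push_range i f' F z n V hzV (hF z)) (by omega) le_rfl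
    · exact torAmp_push_off i F y hy _ _
  have := isLE_of_stalks _ b fun y => ⟨a - d, hst y⟩
  exact (PerfAmp.flatAmp_iff_stalk _ b _ _).mpr hst

end Groth.Agent.PCohD.PushSmooth
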