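import Groth.Agent.PCohD.PerfStalk
import Groth.Agent.PCohD.FreeLocus
import Groth.Agent.PerfTri.LocalLift

/-!
# Maps of stalks of finite locally free modules extend to neighbourhoods
-/

set_option autoImplicit false

universe u

open CategoryTheory Limits AlgebraicGeometry
open Groth.Agent.QCoh Groth.Agent.PullStalk.Sky Groth.Agent.PullStalk.Exact
open Groth.Agent.Props.GenLocus (sec sec_res app_eq homOfSec sec_homOfSec)
open Groth.Agent.PerfTri (Perfect.restrQ Perfect.restrComp)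
open Groth.Agent.PerfTri.Nullhom (resC)
open Groth.Agent.KFlat
open Groth.Agent.KFlat.TildePC (Appr appr_of_isIso)
attribute [local instance] HasDerivedCategory.standard

noncomputable section

namespace Groth.Agent.PCohD.StalkExt

variable {X : Scheme.{u}}

/-- Maps out of finite locally free modules lift near a point along maps surjective on its stalk. -/
theorem exists_local_lift {A B P : X.Modules} (g : A ⟶ B) (x : X)
    (hg : Function.Surjective (stalkLin g x)) (hP : FlatMod.IsFinLocFree P) (h : P ⟶ B) :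
    ∃ V : X.Opens, x ∈ V ∧ ∃ l : P.restrict V.ι ⟶ A.restrict V.ι,
      l ≫ (Scheme.Modules.restrictFunctor V.ι).map g = (Scheme.Modules.restrictFunctor V.ι).map h := by
  classical
  obtain ⟨U₁, n₁, e, hx₁, he⟩ := LFFrame.exists_isFrame_of_isFinLocFree hP x
  obtain ⟨U₂, n₂, hx₂, ⟨φ⟩⟩ := hP x
  have hlift : ∀ j : Fin n₁, ∃ (W : X.Opens) (hW : W ≤ U₁) (a : Γ(A, W)),
      x ∈ W ∧ g.app W a = res B hW (h.app U₁ (e j)) := by
    intro j
    obtain ⟨t, ht⟩ := hg (germM B U₁ x hx₁ (h.app U₁ (e j)))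
    obtain ⟨W₀, hxW₀, a₀, rfl⟩ := exists_germM_eq A x t
    have h1 := (stalkLin_germ g W₀ x hxW₀ a₀).symm.trans ht
    obtain ⟨W, hxW, i₁, i₂, hW⟩ := B.presheaf.germ_eq x hxW₀ hx₁ _ _ h1
    exact ⟨W, i₂.le, res A i₁.le a₀, hxW, (app_res g i₁.le a₀).trans hW⟩
  choose W hW a hxW ha using hlift
  have hopen : IsOpen ((U₁ : Set X) ∩ U₂ ∩ ⋂ j, (W j : Set X)) :=
    (U₁.2.inter U₂.2).inter (isOpen_iInter_of_finite fun j => (W j).2)
  let V : X.Opens := ⟨_, hopen⟩
  have hV₁ : V ≤ U₁ := fun y hy => hy.1.1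
  have hV₂ : V ≤ U₂ := fun y hy => hy.1.2
  have hVW : ∀ j, V ≤ W j := fun j y hy => Set.mem_iInter.mp hy.2 j
  refine ⟨V, ⟨⟨hx₁, hx₂⟩, Set.mem_iInter.mpr hxW⟩, ?_⟩
  let φV : P.restrict V.ι ≅ FlatMod.freeMod (V : Scheme.{u}) n₂ :=
    PerfTri.LocalLift.restrLEIso hV₂ P ≪≫ (Scheme.Modules.restrictFunctor (X.homOfLE hV₂)).mapIso φ ≪≫
      PerfTri.LocalLift.freeRestrIso _ n₂
  let p : Fin n₂ → (Coh.structureModule (V : Scheme.{u}) ⟶ P.restrict V.ι) := fun i =>
    Sigma.ι (fun _ : Fin n₂ => Coh.structureModule (V : Scheme.{u})) i ≫ φV.inv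
  have hle : V.ι ''ᵁ ⊤ ≤ V := by simp
  let s : Fin n₂ → Γ(P, V.ι ''ᵁ ⊤) := fun i => sec (p i) ⊤
  choose c hc using fun i => (he _ (hle.trans hV₁)).2 (s i)
  let t : Fin n₂ → Γ(A, V.ι ''ᵁ ⊤) := fun i => ∑ j, c i j • res A (hle.trans (hVW j)) (a j)
  have key : ∀ i, g.app (V.ι ''ᵁ ⊤) (t i) = h.app (V.ι ''ᵁ ⊤) (s i) := by
    intro i
    rw [← hc i]
    change g.app (V.ι ''ᵁ ⊤) (∑ j, c i j • res A (hle.trans (hVW j)) (a j)) =
      h.app (V.ι ''ᵁ ⊤) (∑ j, c i j • res P (hle.trans hV₁) (e j))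
    rw [map_sum, map_sum]
    refine Finset.sum_congr rfl fun j _ => ?_
    rw [Scheme.Modules.Hom.app_smul, Scheme.Modules.Hom.app_smul, app_res, app_res, ha j, res_res]
  refine ⟨φV.hom ≫ Sigma.desc (fun i => homOfSec (L := A.restrict V.ι) (t i)), ?_⟩
  rw [← cancel_epi φV.inv, Category.assoc, Iso.inv_hom_id_assoc]
  refine Sigma.hom_ext _ _ fun i => ?_
  rw [Sigma.ι_desc_assoc]
  change _ = Sigma.ι (fun _ : Fin n₂ => Coh.structureModule (V : Scheme.{u})) i ≫ φV.inv ≫ _
  rw [← Category.assoc (Sigma.ι _ i)]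
  refine PerfTri.LocalLift.hom_ext_sec ?_
  have e₁ : sec (homOfSec (L := A.restrict V.ι) (t i)) ⊤ = t i :=
    (sec_homOfSec (L := A.restrict V.ι) (t i) ⊤).trans (res_self _ _ _)
  refine Eq.trans ?_ ((congrArg (g.app (V.ι ''ᵁ ⊤)) e₁).trans (key i) |>.trans ?_)
  · rfl
  · rfl

/-- The map to the skyscraper of the stalk is bijective on the stalk. -/
theorem bijective_unit (M : X.Modules) (x : X) :
    Function.Bijective (stalkLin (toSky (LinearMap.id : M.presheaf.stalk x →ₗ[_] M.presheaf.stalk x)) x) ∧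
      ∀ t, ofSky (𝟙 (sky x (M.presheaf.stalk x)))
        (stalkLin (toSky (LinearMap.id : M.presheaf.stalk x →ₗ[_] M.presheaf.stalk x)) x t) = t := by
  set η := toSky (LinearMap.id : M.presheaf.stalk x →ₗ[_] M.presheaf.stalk x)
  have hid : ∀ t, ofSky (𝟙 (sky x (M.presheaf.stalk x))) (stalkLin η x t) = t := fun t => by
    obtain ⟨U, hx, m, rfl⟩ := exists_germM_eq M x t
    rw [stalkLin_germ, ofSky_germ]
    rfl
  refine ⟨⟨fun a b hab => by rw [← hid a, hab, hid b], fun t => ?_⟩, hid⟩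
  obtain ⟨U, hx, s, rfl⟩ := exists_germM_eq _ x t
  obtain ⟨W, hxW, m, hm⟩ := exists_germM_eq M x ((show PLift (x ∈ U) → M.presheaf.stalk x from s) ⟨hx⟩)
  refine ⟨germM M W x hxW m, ?_⟩
  rw [stalkLin_germ]
  refine TopCat.Presheaf.germ_ext _ (U ⊓ W) ⟨hx, hxW⟩ (homOfLE inf_le_right) (homOfLE inf_le_left) ?_
  funext h
  exact hm

/-- The stalk of a restriction. -/
def stRes {V : Scheme.{u}} (j : V ⟶ X) [IsOpenImmersion j] (v : V) :
    Scheme.Modules.restrictFunctor j ⋙ DerSch.stalkFunctor V v ≅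
      DerSch.stalkFunctor X (j v) ⋙ ModuleCat.extendScalars (j.stalkMap v).hom :=
  Functor.isoWhiskerRight (Scheme.Modules.restrictFunctorIsoPullback j) _ ≪≫ Pull.stalkPullIso j v

/-- The stalk complex of a restriction. -/
def stResCx {V : Scheme.{u}} (j : V ⟶ X) [IsOpenImmersion j] (v : V) (K : CochainComplex X.Modules ℤ) :
    (StalkCx.stCx v).obj ((resC j).obj K) ≅
      (BaseChange.extCx (j.stalkMap v).hom).obj ((StalkCx.stCx (j v)).obj K) :=
  HomologicalComplex.Hom.isoOfComponents (fun n => (stRes j v).app (K.X n))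
    fun i j' _ => ((stRes j v).hom.naturality (K.d i j')).symm

theorem isEquivalence_extend {A B : Type u} [CommRing A] [CommRing B] (φ : A →+* B)
    (h : Function.Bijective φ) : (ModuleCat.extendScalars.{u, u, u} φ).IsEquivalence := by
  have : (ModuleCat.restrictScalars.{u} φ).IsEquivalence :=
    ModuleCat.restrictScalars_isEquivalence_of_ringEquiv (RingEquiv.ofBijective φ h)
  exact (ModuleCat.extendRestrictScalarsAdj.{u, u, u} φ).isEquivalence_left_of_isEquivalence_right

theorem quasiIsoAt_ext {A B : Type u} [CommRing A] [CommRing B] (φ : A →+* B) (h : Function.Bijective φ)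
    {K L : CochainComplex (ModuleCat.{u} A) ℤ} (f : K ⟶ L) (i : ℤ) (hf : QuasiIsoAt f i) :
    QuasiIsoAt ((BaseChange.extCx φ).map f) i := by
  have := isEquivalence_extend φ h
  exact HomologicalComplex.quasiIsoAt_map_of_preservesHomology (hφ := hf) f (ModuleCat.extendScalars.{u, u, u} φ) i

instance {V : Scheme.{u}} (j : V ⟶ X) [IsOpenImmersion j] (v : V) :
    (ModuleCat.extendScalars.{u, u, u} (j.stalkMap v).hom).IsEquivalence :=
  isEquivalence_extend _ (ConcreteCategory.bijective_of_isIso (j.stalkMap v))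

/-- The map of a module to the skyscraper of its stalk. -/
abbrev unit' (M : X.Modules) (x : X) : M ⟶ sky x (M.presheaf.stalk x) :=
  toSky (LinearMap.id : M.presheaf.stalk x →ₗ[_] M.presheaf.stalk x)

/-- A morphism of stalks as a linear map. -/
abbrev lin {P M : X.Modules} {x : X}
    (g : (DerSch.stalkFunctor X x).obj P ⟶ (DerSch.stalkFunctor X x).obj M) :
    P.presheaf.stalk x →ₗ[X.presheaf.stalk x] M.presheaf.stalk x := g.hom

theorem stalk_toSky {P M : X.Modules} (x : X)
    (g : (DerSch.stalkFunctor X x).obj P ⟶ (DerSch.stalkFunctor X x).obj M) :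
    (DerSch.stalkFunctor X x).map (toSky (lin g)) =
      g ≫ (DerSch.stalkFunctor X x).map (unit' M x) := by
  ext t
  obtain ⟨U, hx, m, rfl⟩ := exists_germM_eq P x t
  obtain ⟨hb, hid⟩ := bijective_unit M x
  obtain ⟨t', ht'⟩ := hb.2 (stalkLin (toSky (lin g)) x (germM P U x hx m))
  change stalkLin (toSky (lin g)) x (germM P U x hx m) = stalkLin (unit' M x) x (lin g (germM P U x hx m))
  refine ht'.symm.trans (congrArg _ ?_)
  rw [← hid t', ht', stalkLin_germ, ofSky_germ]
  rfl

/-- A stalkwise map, lifted on an open. -/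
def Lifts {P M : X.Modules} (x : X) (g : (DerSch.stalkFunctor X x).obj P ⟶ (DerSch.stalkFunctor X x).obj M)
    (V : X.Opens) (l : P.restrict V.ι ⟶ M.restrict V.ι) : Prop :=
  l ≫ (Scheme.Modules.restrictFunctor V.ι).map (unit' M x) =
    (Scheme.Modules.restrictFunctor V.ι).map (toSky (lin g))

theorem exists_lifts {P M : X.Modules} (hP : FlatMod.IsFinLocFree P) (x : X)
    (g : (DerSch.stalkFunctor X x).obj P ⟶ (DerSch.stalkFunctor X x).obj M) :
    ∃ V : X.Opens, x ∈ V ∧ ∃ l, Lifts x g V l :=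
  exists_local_lift _ x (bijective_unit M x).1.2 hP _

theorem Lifts.shrink {P M : X.Modules} {x : X}
    {g : (DerSch.stalkFunctor X x).obj P ⟶ (DerSch.stalkFunctor X x).obj M}
    {V W : X.Opens} (h : W ≤ V) {l : P.restrict V.ι ⟶ M.restrict V.ι} (hl : Lifts x g V l) :
    ∃ l', Lifts x g W l' := by
  let F := Scheme.Modules.restrictFunctor (X.homOfLE h)
  let e : Scheme.Modules.restrictFunctor W.ι ≅ Scheme.Modules.restrictFunctor V.ι ⋙ F :=
    Scheme.Modules.restrictFunctorCongr (X.homOfLE_ι h).symm ≪≫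
      Scheme.Modules.restrictFunctorComp (X.homOfLE h) V.ι
  refine ⟨e.hom.app P ≫ F.map l ≫ e.inv.app M, ?_⟩
  have h2 : F.map l ≫ (Scheme.Modules.restrictFunctor V.ι ⋙ F).map (unit' M x) =
      (Scheme.Modules.restrictFunctor V.ι ⋙ F).map (toSky (lin g)) :=
    (F.map_comp _ _).symm.trans (congrArg F.map hl)
  unfold Lifts
  rw [Category.assoc, Category.assoc, ← e.inv.naturality, ← Category.assoc (F.map l), h2, e.inv.naturality,
    e.hom_inv_id_app_assoc]

theorem Lifts.stalk_map {P M : X.Modules} {V : X.Opens} (v : (V : Scheme.{u}))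
    {g : (DerSch.stalkFunctor X (V.ι v)).obj P ⟶ (DerSch.stalkFunctor X (V.ι v)).obj M}
    {l : P.restrict V.ι ⟶ M.restrict V.ι} (hl : Lifts (V.ι v) g V l) :
    (DerSch.stalkFunctor.{u} (V : Scheme.{u}) v).map l = (stRes V.ι v).hom.app P ≫
      (ModuleCat.extendScalars.{u, u, u} (V.ι.stalkMap v).hom).map g ≫ (stRes V.ι v).inv.app M := by
  let N := stRes V.ι v
  let S := DerSch.stalkFunctor (V : Scheme.{u}) v
  let E := ModuleCat.extendScalars.{u, u, u} (V.ι.stalkMap v).hom
  have : IsIso ((DerSch.stalkFunctor X (V.ι v)).map (unit' M (V.ι v))) :=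
    (LinearEquiv.ofBijective ((DerSch.stalkFunctor X (V.ι v)).map (unit' M (V.ι v))).hom
      (bijective_unit M (V.ι v)).1).toModuleIso.isIso_hom
  have hm : Mono (E.map ((DerSch.stalkFunctor X (V.ι v)).map (unit' M (V.ι v)))) := by
    have := E.map_isIso ((DerSch.stalkFunctor X (V.ι v)).map (unit' M (V.ι v)))
    exact IsIso.mono_of_iso _
  rw [← Category.assoc, ← Iso.app_inv N M, Iso.eq_comp_inv, Iso.app_hom,
    ← cancel_mono (E.map ((DerSch.stalkFunctor X (V.ι v)).map (unit' M (V.ι v)))), Category.assoc,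
    Category.assoc, ← E.map_comp, ← stalk_toSky]
  have h := congrArg S.map hl
  rw [S.map_comp] at h
  erw [← N.hom.naturality (unit' M (V.ι v)), ← N.hom.naturality, ← Category.assoc]
  exact congrArg (· ≫ N.hom.app _) h

/-- A map out of a finite locally free module vanishing on a stalk vanishes nearby. -/
theorem exists_map_eq_zero {P M : X.Modules} (hP : FlatMod.IsFinLocFree P) (d : P ⟶ M) (x : X)
    (h : (DerSch.stalkFunctor X x).map d = 0) :
    ∃ V : X.Opens, x ∈ V ∧ (Scheme.Modules.restrictFunctor V.ι).map d = 0 := by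
  let S := DerSch.stalkFunctor X x
  let T : ShortComplex X.Modules := ShortComplex.mk (kernel.ι d) d (kernel.condition d)
  have hT : T.Exact := ShortComplex.exact_kernel d
  have : Epi (S.map (kernel.ι d)) := (hT.map S).epi_f h
  obtain ⟨V, hV, l, hl⟩ := exists_local_lift (kernel.ι d) x
    ((ModuleCat.epi_iff_surjective _).mp this) hP (𝟙 P)
  refine ⟨V, hV, ?_⟩
  have h2 := congrArg (· ≫ (Scheme.Modules.restrictFunctor V.ι).map d) hl
  simp only [Category.assoc, ← Functor.map_comp, kernel.condition, Category.id_comp] at h2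
  rw [← h2, Functor.map_zero, comp_zero]

theorem map_eq_zero_of_le {P M : X.Modules} {V W : X.Opens} (h : W ≤ V) (d : P ⟶ M)
    (hd : (Scheme.Modules.restrictFunctor V.ι).map d = 0) :
    (Scheme.Modules.restrictFunctor W.ι).map d = 0 := by
  let F := Scheme.Modules.restrictFunctor (X.homOfLE h)
  let e : Scheme.Modules.restrictFunctor W.ι ≅ Scheme.Modules.restrictFunctor V.ι ⋙ F :=
    Scheme.Modules.restrictFunctorCongr (X.homOfLE_ι h).symm ≪≫
      Scheme.Modules.restrictFunctorComp (X.homOfLE h) V.ι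
  rw [← cancel_mono (e.hom.app M), e.hom.naturality, zero_comp, Functor.comp_map, hd,
    Functor.map_zero, comp_zero]

theorem stalk_sq {V : Scheme.{u}} (j : V ⟶ X) [IsOpenImmersion j] (v : V) {P P' M M' : X.Modules}
    (d : P ⟶ P') (d' : M ⟶ M') (g : (DerSch.stalkFunctor X (j v)).obj P ⟶ (DerSch.stalkFunctor X (j v)).obj M)
    (g' : (DerSch.stalkFunctor X (j v)).obj P' ⟶ (DerSch.stalkFunctor X (j v)).obj M')
    (h : g ≫ (DerSch.stalkFunctor X (j v)).map d' = (DerSch.stalkFunctor X (j v)).map d ≫ g')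
    (l : P.restrict j ⟶ M.restrict j) (l' : P'.restrict j ⟶ M'.restrict j)
    (hl : (DerSch.stalkFunctor V v).map l = (stRes j v).hom.app P ≫
      (ModuleCat.extendScalars.{u, u, u} (j.stalkMap v).hom).map g ≫ (stRes j v).inv.app M)
    (hl' : (DerSch.stalkFunctor V v).map l' = (stRes j v).hom.app P' ≫
      (ModuleCat.extendScalars.{u, u, u} (j.stalkMap v).hom).map g' ≫ (stRes j v).inv.app M') :
    (DerSch.stalkFunctor V v).map (l ≫ (Scheme.Modules.restrictFunctor j).map d' -
      (Scheme.Modules.restrictFunctor j).map d ≫ l') = 0 := by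
  let N := stRes j v
  let E := ModuleCat.extendScalars.{u, u, u} (j.stalkMap v).hom
  rw [Functor.map_sub, Functor.map_comp, Functor.map_comp, hl, hl', sub_eq_zero]
  have n₁ := N.inv.naturality d'
  have n₂ := N.hom.naturality d
  simp only [Functor.comp_map] at n₁ n₂
  rw [Category.assoc, Category.assoc, ← n₁, reassoc_of% n₂, ← E.map_comp_assoc, ← E.map_comp_assoc, h]

theorem stalk_restrict {V : Scheme.{u}} (j : V ⟶ X) [IsOpenImmersion j] (v : V) {W : Scheme.{u}}
    (k : W ⟶ V) [IsOpenImmersion k] (w : W) (hw : k w = v) {P M : X.Modules}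
    (g : (DerSch.stalkFunctor X (j (k w))).obj P ⟶ (DerSch.stalkFunctor X (j (k w))).obj M)
    (l : P.restrict j ⟶ M.restrict j)
    (hl : (DerSch.stalkFunctor V (k w)).map l = (stRes j (k w)).hom.app P ≫
      (ModuleCat.extendScalars.{u, u, u} (j.stalkMap (k w)).hom).map g ≫ (stRes j (k w)).inv.app M) :
    (DerSch.stalkFunctor W w).map ((Scheme.Modules.restrictFunctor k).map l) =
      ((stRes k w).hom.app (P.restrict j) ≫
        (ModuleCat.extendScalars.{u, u, u} (k.stalkMap w).hom).map ((stRes j (k w)).hom.app P)) ≫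
      (ModuleCat.extendScalars.{u, u, u} (k.stalkMap w).hom).map
        ((ModuleCat.extendScalars.{u, u, u} (j.stalkMap (k w)).hom).map g) ≫
      (ModuleCat.extendScalars.{u, u, u} (k.stalkMap w).hom).map ((stRes j (k w)).inv.app M) ≫
        (stRes k w).inv.app (M.restrict j) := by
  let N' := stRes k w
  have h₁ := N'.hom.naturality l
  simp only [Functor.comp_map] at h₁
  refine Eq.trans (b := ((DerSch.stalkFunctor W w).map ((Scheme.Modules.restrictFunctor k).map l) ≫
    N'.hom.app (M.restrict j)) ≫ N'.inv.app (M.restrict j)) ?_ ?_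
  · erw [Category.assoc, Iso.hom_inv_id_app, Category.comp_id]
  · rw [h₁, hl]
    simp only [Functor.map_comp, Category.assoc]
    rfl

theorem mem_finset_inf {Y : Scheme.{u}} {ι : Type*} (s : Finset ι) (V : ι → Y.Opens) (y : Y)
    (h : ∀ i, y ∈ V i) : y ∈ s.inf V :=
  Finset.inf_induction (p := fun U : Y.Opens => y ∈ U) trivial (fun _ ha _ hb => ⟨ha, hb⟩) fun i _ => h i

/-- A map of stalk complexes out of a bounded complex of finite locally free modules
extends near the point, and keeps its quasi-isomorphic degrees. -/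
theorem exists_chainMap {P G : CochainComplex X.Modules ℤ} (hP : DCoh.IsStrictlyPerfect P) (x : X)
    (γ : (StalkCx.stCx x).obj P ⟶ (StalkCx.stCx x).obj G) :
    ∃ (W : Scheme.{u}) (j : W ⟶ X) (_ : IsOpenImmersion j) (w : W), j w = x ∧
      ∃ φ : (resC j).obj P ⟶ (resC j).obj G,
        ∀ i, QuasiIsoAt γ i → QuasiIsoAt ((StalkCx.stCx w).map φ) i := by
  classical
  obtain ⟨⟨lo, hi, hv⟩, hf⟩ := hP
  choose V₀ hxV₀ l₀ hl₀ using fun i => exists_lifts (hf i) x (γ.f i)
  let V : X.Opens := (Finset.Icc lo hi).inf V₀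
  have hxV : x ∈ V := mem_finset_inf _ _ _ hxV₀
  have hlift : ∀ i, ∃ l, Lifts x (γ.f i) V l := fun i => by
    by_cases hi' : i ∈ Finset.Icc lo hi
    · exact (hl₀ i).shrink (Finset.inf_le hi')
    · refine ⟨0, ?_⟩
      have hz : IsZero (P.X i) := hv i (by simp only [Finset.mem_Icc] at hi'; omega)
      exact ((Scheme.Modules.restrictFunctor V.ι).map_isZero hz).eq_of_src _ _
  choose l hl using hlift
  let v : (V : Scheme.{u}) := ⟨x, hxV⟩
  let S := DerSch.stalkFunctor (V : Scheme.{u}) v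
  let N := stRes V.ι v
  let E := ModuleCat.extendScalars.{u, u, u} (V.ι.stalkMap v).hom
  have hst : ∀ i, S.map (l i) = N.hom.app (P.X i) ≫ E.map (γ.f i) ≫ N.inv.app (G.X i) :=
    fun i => Lifts.stalk_map v (hl i)
  let δ : ∀ i, (P.X i).restrict V.ι ⟶ (G.X (i + 1)).restrict V.ι := fun i =>
    l i ≫ (Scheme.Modules.restrictFunctor V.ι).map (G.d i (i + 1)) -
      (Scheme.Modules.restrictFunctor V.ι).map (P.d i (i + 1)) ≫ l (i + 1)
  have hδ : ∀ i, S.map (δ i) = 0 := fun i =>
    stalk_sq V.ι v (P.d i (i + 1)) (G.d i (i + 1)) (γ.f i) (γ.f (i + 1)) (γ.comm i (i + 1)) _ _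
      (hst i) (hst (i + 1))
  have hfV : ∀ i, FlatMod.IsFinLocFree ((P.X i).restrict V.ι) := fun i =>
    FreeLocus.isFinLocFree_restrict V.ι (hf i)
  choose W₀ hvW₀ hW₀ using fun i => exists_map_eq_zero (hfV i) (δ i) v (hδ i)
  let W : (V : Scheme.{u}).Opens := (Finset.Icc lo hi).inf W₀
  have hvW : v ∈ W := mem_finset_inf _ _ _ hvW₀
  have hW : ∀ i, (Scheme.Modules.restrictFunctor W.ι).map (δ i) = 0 := fun i => by
    by_cases hi' : i ∈ Finset.Icc lo hi
    · exact map_eq_zero_of_le (Finset.inf_le hi') _ (hW₀ i)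
    · have hz : IsZero (P.X i) := hv i (by simp only [Finset.mem_Icc] at hi'; omega)
      exact ((Scheme.Modules.restrictFunctor W.ι).map_isZero
        ((Scheme.Modules.restrictFunctor V.ι).map_isZero hz)).eq_of_src _ _
  let R := Scheme.Modules.restrictFunctor W.ι
  let φ₁ : (resC W.ι).obj ((resC V.ι).obj P) ⟶ (resC W.ι).obj ((resC V.ι).obj G) :=
    { f := fun i => R.map (l i)
      comm' := fun i j hij => by
        obtain rfl : i + 1 = j := hij
        have := hW i
        rw [R.map_sub, sub_eq_zero, R.map_comp, R.map_comp] at this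
        exact this }
  let w : (W : Scheme.{u}) := ⟨v, hvW⟩
  let c := Groth.Agent.PerfTri.Nullhom.resCompIso W.ι V.ι (W.ι ≫ V.ι) rfl
  refine ⟨W, W.ι ≫ V.ι, inferInstance, w, rfl, c.inv.app P ≫ φ₁ ≫ c.hom.app G, fun i hq => ?_⟩
  let a := fun K : CochainComplex X.Modules ℤ => stResCx W.ι w ((resC V.ι).obj K) ≪≫
    (BaseChange.extCx (W.ι.stalkMap w).hom).mapIso (stResCx V.ι v K)
  let γ' := (BaseChange.extCx (W.ι.stalkMap w).hom).map ((BaseChange.extCx (V.ι.stalkMap v).hom).map γ)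
  have he : (StalkCx.stCx w).map φ₁ = (a P).hom ≫ γ' ≫ (a G).inv := by
    ext n : 1
    refine (stalk_restrict V.ι v W.ι w rfl (γ.f n) (l n) (hst n)).trans ?_
    rfl
  have hq' : QuasiIsoAt γ' i :=
    quasiIsoAt_ext _ (ConcreteCategory.bijective_of_isIso (W.ι.stalkMap w)) _ i
      (quasiIsoAt_ext _ (ConcreteCategory.bijective_of_isIso (V.ι.stalkMap v)) γ i hq)
  rw [Functor.map_comp, Functor.map_comp, he]
  have h1 := quasiIsoAt_of_isIso ((StalkCx.stCx w).map (c.inv.app P) ≫ (a P).hom) i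
  have h2 := quasiIsoAt_of_isIso ((a G).inv ≫ (StalkCx.stCx w).map (c.hom.app G)) i
  simp only [Category.assoc]
  rw [← Category.assoc]
  exact quasiIsoAt_comp (hφ := h1) (hφ' := quasiIsoAt_comp (hφ := hq') (hφ' := h2) _ _ i) _ _ i

end Groth.Agent.PCohD.StalkExt
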