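import Groth.Agent.PCohD.PushSmooth
import Groth.Agent.PCohD.StalkExt

/-!
# Local finite tor dimension of a direct image into a smooth scheme
-/

set_option autoImplicit false

universe u

open CategoryTheory CategoryTheory.Limits DerivedCategory AlgebraicGeometry
open Groth.Agent.PerfTri (Perfect.restrQ)
open Groth.Agent.PerfTri.Nullhom (resC)

attribute [local instance] HasDerivedCategory.standard

noncomputable section

namespace Groth.Agent.PCohD.PushSmoothLoc

open Groth.Agent.DRing.TorAmp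

/-- Tor amplitude and extension along a bijective map. -/
theorem torAmp_ext_iff {A B : Type u} [CommRing A] [CommRing B] (φ : A →+* B) (hφ : Function.Bijective φ)
    (K : DRing.Cx A) (a b : ℤ) :
    DRing.HasTorAmplitudeIn B a b (DRing.toD ((Groth.Agent.KFlat.BaseChange.extCx φ).obj K)) ↔
      DRing.HasTorAmplitudeIn A a b (DRing.toD K) := by
  have := StalkExt.isEquivalence_extend φ hφ
  let M := ModuleCat.extendScalars.{u, u, u} φ
  let Rs := ModuleCat.restrictScalars.{u} φ
  constructor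
  · rintro ⟨E, hv, hf, ⟨e⟩⟩
    let eu : K ≅ (DRing.restrictCx φ).obj ((Groth.Agent.KFlat.BaseChange.extCx φ).obj K) :=
      HomologicalComplex.Hom.isoOfComponents
        (fun n => (asIso (ModuleCat.extendRestrictScalarsAdj.{u, u, u} φ).unit).app (K.X n))
        fun i j _ => ((ModuleCat.extendRestrictScalarsAdj.{u, u, u} φ).unit.naturality (K.d i j)).symm
    refine ⟨(DRing.restrictCx φ).obj E, fun i hi => Rs.map_isZero (hv i hi), fun i => ?_,
      ⟨(Rs.mapDerivedCategoryFactors.app E).symm ≪≫ (DRing.restrictD φ).mapIso e ≪≫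
        Rs.mapDerivedCategoryFactors.app _ ≪≫ Q.mapIso eu.symm⟩⟩
    let := φ.toAlgebra
    have : Module.Flat A B := RingHom.Flat.of_bijective hφ
    have : Module.Flat B (E.X i) := hf i
    let : Module A (E.X i) := Module.compHom (E.X i) φ
    have : IsScalarTower A B (E.X i) := IsScalarTower.of_algebraMap_smul fun _ _ => rfl
    exact Module.Flat.trans A B (E.X i)
  · rintro ⟨E, hv, hf, ⟨e⟩⟩
    exact ⟨(Groth.Agent.KFlat.BaseChange.extCx φ).obj E, fun i hi => M.map_isZero (hv i hi),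
      fun i => Groth.Agent.DRing.Perfect.flat_extendScalars φ (hf i),
      ⟨(M.mapDerivedCategoryFactors.app E).symm ≪≫ M.mapDerivedCategory.mapIso e ≪≫
        M.mapDerivedCategoryFactors.app _⟩⟩

variable {X X' Y : Scheme.{u}} (i : X ⟶ X') [IsClosedImmersion i] (f' : X' ⟶ Y)

/-- Stalks of a restriction. -/
theorem stalk_restrict_iff {V : Scheme.{u}} (j : V ⟶ X) [IsOpenImmersion j] (v : V)
    (F : CochainComplex X.Modules ℤ) (a b : ℤ) :
    DRing.HasTorAmplitudeIn (V.presheaf.stalk v) a b (PerfAmp.stD v ((resC j).obj F)) ↔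
      DRing.HasTorAmplitudeIn (X.presheaf.stalk (j v)) a b (PerfAmp.stD (j v) F) :=
  Iff.trans ⟨torAmp_of_iso (Q.mapIso (StalkExt.stResCx j v F)),
      torAmp_of_iso (Q.mapIso (StalkExt.stResCx j v F)).symm⟩
    (torAmp_ext_iff _ (ConcreteCategory.bijective_of_isIso (j.stalkMap v)) _ a b)

/-- Locally finite relative tor amplitude, from local finite tor dimension of the direct image. -/
theorem locFinite_of_push [Flat f'] (F : CochainComplex X.Modules ℤ)
    (h : DCoh.LocHasFiniteTorDim (DCoh.toD X'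
      (((Scheme.Modules.pushforward i).mapHomologicalComplex (ComplexShape.up ℤ)).obj F))) :
    DerSch.LocFiniteTorAmplitude (i ≫ f') F := fun x => by
  obtain ⟨V, a, b, hxV, hV⟩ := h (i x)
  refine ⟨i ⁻¹ᵁ V, a, b, hxV, fun z hz => PushTor.torAmpAt_of_push i i.isClosedEmbedding.isInducing f' F z ?_⟩
  exact (stalk_restrict_iff V.ι ⟨i z, hz⟩ _ a b).mp (PerfAmp.stalk_torAmp (hV _ ⟨Iso.refl _⟩) _)

/-- Local finite tor dimension of the direct image. -/
theorem locHasFiniteTorDim_push [Smooth f'] (F : CochainComplex X.Modules ℤ)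
    (h : DerSch.LocFiniteTorAmplitude (i ≫ f') F) :
    DCoh.LocHasFiniteTorDim (DCoh.toD X'
      (((Scheme.Modules.pushforward i).mapHomologicalComplex (ComplexShape.up ℤ)).obj F)) := fun y => by
  let G := ((Scheme.Modules.pushforward i).mapHomologicalComplex (ComplexShape.up ℤ)).obj F
  have key : ∃ (V : X'.Opens) (a b : ℤ), y ∈ V ∧
      ∀ v ∈ V, DRing.HasTorAmplitudeIn (X'.presheaf.stalk v) a b (PerfAmp.stD v G) := by
    by_cases hy : y ∈ Set.range i
    · obtain ⟨z, rfl⟩ := hy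
      obtain ⟨V₀, a, b, hzV₀, hV₀⟩ := h z
      obtain ⟨O, hO, hOe⟩ := i.isEmbedding.isInducing.isOpen_iff.1 V₀.2
      obtain ⟨U, hU, V, hV, hzV, e, hstd⟩ := Smooth.exists_isStandardSmooth (f := f') (i z)
      obtain ⟨n, g, hgC, hg⟩ := hstd.exists_etale_mvPolynomial
      have hzO : i z ∈ O := (congrArg (z ∈ ·) hOe).mpr hzV₀
      refine ⟨V ⊓ ⟨O, hO⟩, a - n, b, ⟨hzV, hzO⟩, fun v hv => ?_⟩
      by_cases hv' : v ∈ Set.range i
      · obtain ⟨z', rfl⟩ := hv'
        have hz' : z' ∈ V₀ := (congrArg (z' ∈ ·) hOe).mp hv.2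
        exact SmoothTor.torAmp_stalk_chart f' hU hV e g hgC hg (i z') hv.1 _
          (torAmp_of_iso (Q.mapIso (TorComp.stalkCxCompIso i f' z' F ≪≫ TorComp.restrictCompIso _ _ _ ≪≫
            (DRing.restrictCx _).mapIso (PushTor.pushStalkCxIso i i.isClosedEmbedding.isInducing z' F).symm))
            (hV₀ z' hz'))
      · exact PushSmooth.torAmp_push_off i F v hv' _ _
    · exact ⟨⟨(Set.range i)ᶜ, i.isClosedEmbedding.isClosed_range.isOpen_compl⟩, 0, 0, hy,
        fun v hv => PushSmooth.torAmp_push_off i F v hv _ _⟩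
  obtain ⟨V, a, b, hyV, hV⟩ := key
  refine ⟨V, a, b, hyV, fun F' ⟨eF⟩ => ?_⟩
  have hst : ∀ v, DRing.HasTorAmplitudeIn ((V : Scheme.{u}).presheaf.stalk v) a b
      (PerfAmp.stD v ((DCoh.restrictCx V).obj F')) := fun v =>
    (stalk_restrict_iff V.ι v F' a b).mpr (torAmp_of_iso (PerfAmp.stDIso _ eF).symm (hV _ v.2))
  have := PushSmooth.isLE_of_stalks _ b fun v => ⟨a, hst v⟩
  exact (PerfAmp.flatAmp_iff_stalk _ b _ _).mpr hst

end Groth.Agent.PCohD.PushSmoothLoc
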