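import Groth.Agent.PCohD.RelCalc
import Mathlib.AlgebraicGeometry.Morphisms.FinitePresentation
import Mathlib.AlgebraicGeometry.Morphisms.Flat

/-!
# Relative pseudo-coherence against absolute pseudo-coherence in a flat ambient scheme
-/

set_option autoImplicit false

universe u

open CategoryTheory Limits AlgebraicGeometry
attribute [local instance] HasDerivedCategory.standard

noncomputable section

namespace Groth.Agent.PCohD

variable {X Q S : Scheme.{u}} {m : ℤ}

/-- Direct image along the identity. -/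
def pushDId (K : DCoh.D X) : (pushD (𝟙 X)).obj K ≅ K :=
  let e := DerivedCategory.Q.objObjPreimageIso K
  (pushD (𝟙 X)).mapIso e.symm ≪≫ (Scheme.Modules.pushforward (𝟙 X)).mapDerivedCategoryFactors.app _ ≪≫
    DerivedCategory.Q.mapIso (HomologicalComplex.Hom.isoOfComponents
      (fun q => (Scheme.Modules.pushforwardId X).app ((DerivedCategory.Q.objPreimage K).X q))
      (fun p q _ => ((Scheme.Modules.pushforwardId X).hom.naturality
        ((DerivedCategory.Q.objPreimage K).d p q)).symm)) ≪≫ e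

theorem pushD_iff_tc (i : X ⟶ Q) [IsClosedImmersion i] (K : DCoh.D X) {W : Q.Opens}
    (hW : IsAffineOpen W) :
    DCoh.IsPseudoCoherentD m ((DCoh.restrictD W.ι).obj ((pushD i).obj K)) ↔
      TC m K (i ⁻¹ᵁ W) (i.app W).hom := by
  have hcIm : cIm (i ⁻¹ᵁ W) (i.app W).hom = (i ∣_ W) ≫ W.toSpecΓ := by
    rw [cIm, CommRingCat.ofHom_hom, Scheme.Opens.toSpecΓ_naturality]
  have : IsClosedImmersion (cIm (i ⁻¹ᵁ W) (i.app W).hom) :=
    isClosedImmersion_cIm (hW.preimage i) (i.app_surjective W hW)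
  have : IsIso W.toSpecΓ := by rw [← hW.isoSpec_hom]; infer_instance
  rw [tc_iff, pc_iff_of_iso (pushDRestrict i W K)]
  exact (test_open _ _ (i ∣_ W) (W.toSpecΓ) hcIm.symm K).symm

theorem appLE_comp_closed (i : X ⟶ Q) (g : Q ⟶ S) {W : Q.Opens} {V : S.Opens} (e : W ≤ g ⁻¹ᵁ V) :
    (i.app W).hom.comp (g.appLE V W e).hom =
      ((i ≫ g).appLE V (i ⁻¹ᵁ W) (fun _ hx => e hx)).hom := by
  rw [← CommRingCat.hom_comp, Scheme.Hom.app_eq_appLE, Scheme.Hom.appLE_comp_appLE]

theorem rel_comp_iff (i : X ⟶ Q) [IsClosedImmersion i] (g : Q ⟶ S) [Flat g]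
    [LocallyOfFinitePresentation g] (K : DCoh.D X) :
    DerSch.IsPseudoCoherentRel (i ≫ g) m K ↔ DCoh.IsPseudoCoherentD m ((pushD i).obj K) := by
  constructor
  · intro h
    refine pc_of_local fun q => ?_
    obtain ⟨V, hV, hqV, -⟩ := exists_isAffineOpen_mem_and_subset (x := g q) (U := ⊤) trivial
    obtain ⟨W, hW, hqW, hWV⟩ := exists_isAffineOpen_mem_and_subset (x := q) (U := g ⁻¹ᵁ V) hqV
    refine ⟨W, W.ι, inferInstance, ⟨⟨q, hqW⟩, rfl⟩, (pushD_iff_tc i K hW).2 ?_⟩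
    let _ := (g.appLE V W hWV).hom.toAlgebra
    have : Module.Flat Γ(S, V) Γ(Q, W) := g.flat_appLE hV hW hWV
    have : Algebra.FinitePresentation Γ(S, V) Γ(Q, W) := g.finitePresentation_appLE hV hW hWV
    have hs := i.app_surjective W hW
    have hP := P_of_rel h (hW.preimage i) hV (show i ⁻¹ᵁ W ≤ (i ≫ g) ⁻¹ᵁ V from fun _ hx => hWV hx)
    obtain ⟨k, ψ, hψ, hψc⟩ := exists_poly (R := Γ(S, V)) (i.app W).hom hs
    intro _
    exact (tc_iff_poly (hW.preimage i) (i.app W).hom hs ψ hψ hψc).2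
      (hP.tc (hW.preimage i) _ ψ ⟨hψ, hψc.trans (by
        rw [RingHom.algebraMap_toAlgebra]; exact appLE_comp_closed i g hWV)⟩)
  · intro h
    refine ⟨inferInstance, Set.univ, ?_, fun V _ => ?_⟩
    · exact eq_top_iff.2 fun y _ => by
        obtain ⟨W, hW, hy, -⟩ := exists_isAffineOpen_mem_and_subset (x := y) (U := ⊤) trivial
        simp only [TopologicalSpace.Opens.mem_iSup, exists_prop]
        exact ⟨⟨W, hW⟩, trivial, hy⟩
    · refine ⟨{U | ∃ W : Q.affineOpens, (W : Q.Opens) ≤ g ⁻¹ᵁ (V : S.Opens) ∧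
        (U : X.Opens) = i ⁻¹ᵁ (W : Q.Opens)}, le_antisymm ?_ ?_, ?_⟩
      · refine iSup₂_le ?_
        rintro U ⟨W, hW, e⟩ x hx
        rw [e] at hx
        exact hW hx
      · intro x hx
        obtain ⟨W, hW, hx', hle⟩ := exists_isAffineOpen_mem_and_subset (x := i x) (U := g ⁻¹ᵁ (V : S.Opens)) hx
        simp only [TopologicalSpace.Opens.mem_iSup, exists_prop]
        exact ⟨⟨i ⁻¹ᵁ W, hW.preimage i⟩, ⟨⟨W, hW⟩, hle, rfl⟩, hx'⟩
      · rintro ⟨U, hU⟩ ⟨⟨W, hW⟩, hle, rfl : U = i ⁻¹ᵁ W⟩ h'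
        let _ := (g.appLE V W hle).hom.toAlgebra
        have : Module.Flat Γ(S, (V : S.Opens)) Γ(Q, W) := g.flat_appLE V.2 hW hle
        have : Algebra.FinitePresentation Γ(S, (V : S.Opens)) Γ(Q, W) :=
          g.finitePresentation_appLE V.2 hW hle
        exact (P_iff_chartPC hU h').1 (P_of_tc hU h' (i.app W).hom (i.app_surjective W hW)
          (by rw [RingHom.algebraMap_toAlgebra]; exact appLE_comp_closed i g hle)
          ((pushD_iff_tc i K hW).1 (pc_restrict W.ι h)))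

theorem rel_iff_pc (g : Q ⟶ S) [Flat g] [LocallyOfFinitePresentation g] (K : DCoh.D Q) :
    DerSch.IsPseudoCoherentRel g m K ↔ DCoh.IsPseudoCoherentD m K := by
  have h := rel_comp_iff (m := m) (𝟙 Q) g K
  rw [Category.id_comp] at h
  exact h.trans (pc_iff_of_iso (pushDId K))

end Groth.Agent.PCohD
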