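import Groth.Agent.PCohD.RelCalc

/-!
# Relative pseudo-coherence and restriction to opens of the source
-/

set_option autoImplicit false

universe u

open CategoryTheory Limits AlgebraicGeometry
attribute [local instance] HasDerivedCategory.standard

noncomputable section

namespace Groth.Agent.PCohD

variable {X S : Scheme.{u}} {f : X ⟶ S} {m : ℤ} {K : DCoh.D X}

theorem appLE_ι_comp (U : X.Opens) {W : (U : Scheme.{u}).Opens} {V : S.Opens}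
    (h : W ≤ (U.ι ≫ f) ⁻¹ᵁ V) (h' : U.ι ''ᵁ W ≤ f ⁻¹ᵁ V) :
    ((U.ι ≫ f).appLE V W h).hom = (f.appLE V (U.ι ''ᵁ W) h').hom := by
  rw [Scheme.Hom.comp_appLE, Scheme.Opens.ι_appLE, Scheme.Hom.app_eq_appLE]
  exact congrArg CommRingCat.Hom.hom (Scheme.Hom.appLE_map f _ _)

theorem toSpecΓ_restrict (U : X.Opens) (W : (U : Scheme.{u}).Opens) :
    W.toSpecΓ = (U.ι.isoImage W).hom ≫ (U.ι ''ᵁ W).toSpecΓ := by
  have h : U.ι.resLE (U.ι ''ᵁ W) W (U.ι.preimage_image_eq W).ge = (U.ι.isoImage W).hom := by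
    rw [← cancel_mono (U.ι ''ᵁ W).ι, Scheme.Hom.resLE_comp_ι, Scheme.Hom.isoImage_hom_ι]
  have := Scheme.Opens.toSpecΓ_SpecMap_appLE U.ι (U := U.ι ''ᵁ W) (V := W) (U.ι.preimage_image_eq W).ge
  rw [h, Scheme.Opens.ι_appLE] at this
  refine Eq.trans ?_ this
  rw [show (homOfLE (x := U.ι ''ᵁ W) (y := U.ι ''ᵁ W) _).op = 𝟙 _ from Subsingleton.elim _ _,
    CategoryTheory.Functor.map_id]
  exact (Category.comp_id _).symm.trans (congrArg (W.toSpecΓ ≫ ·) (Spec.map_id _).symm)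

theorem test_restrictD {U : X.Opens} {W : (U : Scheme.{u}).Opens} {A : Scheme.{u}} (i : (W : Scheme.{u}) ⟶ A)
    [IsClosedImmersion i] :
    Test m W.ι i ((DCoh.restrictD U.ι).obj K) ↔ Test m (W.ι ≫ U.ι) i K :=
  pc_iff_of_iso ((pushD i).mapIso (PerfTri.Perfect.restrComp W.ι U.ι _ rfl K))

theorem tc_restrict (U : X.Opens) {W : (U : Scheme.{u}).Opens} (hW : IsAffineOpen W) {A : Type u}
    [CommRing A] (φ : A →+* Γ(X, U.ι ''ᵁ W)) (hφ : Function.Surjective φ) :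
    TC m ((DCoh.restrictD U.ι).obj K) W (φ : A →+* Γ((U : Scheme.{u}), W)) ↔
      TC m K (U.ι ''ᵁ W) φ := by
  have := isClosedImmersion_cIm (hW.image_of_isOpenImmersion U.ι) hφ
  have : IsClosedImmersion (cIm W (φ : A →+* Γ((U : Scheme.{u}), W))) := isClosedImmersion_cIm hW hφ
  have hc : cIm W (φ : A →+* Γ((U : Scheme.{u}), W)) = (U.ι.isoImage W).hom ≫ cIm (U.ι ''ᵁ W) φ := by
    rw [cIm, cIm, toSpecΓ_restrict U W]
    exact Category.assoc _ _ _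
  rw [tc_iff, tc_iff, test_restrictD, test_congr (o' := (U.ι.isoImage W).hom ≫ (U.ι ''ᵁ W).ι)
    (Scheme.Hom.isoImage_hom_ι _ _).symm hc K]
  exact test_iso _ _ _ K

theorem rel_restrict (h : DerSch.IsPseudoCoherentRel f m K) (U : X.Opens) :
    DerSch.IsPseudoCoherentRel (U.ι ≫ f) m ((DCoh.restrictD U.ι).obj K) := by
  have := h.1
  rw [rel_iff]
  intro W V hWV
  have h' : U.ι ''ᵁ (W : (U : Scheme.{u}).Opens) ≤ f ⁻¹ᵁ (V : S.Opens) := by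
    rintro _ ⟨w, hw, rfl⟩; exact hWV hw
  obtain ⟨_, n, φ, hc, ht⟩ := P_of_rel h (W.2.image_of_isOpenImmersion U.ι) V.2 h'
  exact ⟨hWV, n, φ, ⟨hc.1, hc.2.trans (appLE_ι_comp U hWV h').symm⟩, (tc_restrict U W.2 φ hc.1).2 ht⟩

theorem rel_of_cover [LocallyOfFiniteType f] {ι : Type*} (U : ι → X.Opens) (hU : ⨆ i, U i = ⊤)
    (h : ∀ i, DerSch.IsPseudoCoherentRel ((U i).ι ≫ f) m ((DCoh.restrictD (U i).ι).obj K)) :
    DerSch.IsPseudoCoherentRel f m K := by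
  rw [rel_iff]
  rintro ⟨A, hA⟩ ⟨V, hV⟩ hAV
  refine P_of_cover hA hV hAV fun x hx => ?_
  obtain ⟨i, hi⟩ : ∃ i, x ∈ U i := by
    have : x ∈ (⊤ : X.Opens) := trivial
    rw [← hU] at this
    exact TopologicalSpace.Opens.mem_iSup.1 this
  obtain ⟨g, hg, hxg⟩ := hA.exists_basicOpen_le (V := U i) ⟨x, hi⟩ hx
  refine ⟨g, hxg, ?_⟩
  have himg : (U i).ι ''ᵁ ((U i).ι ⁻¹ᵁ X.basicOpen g) = X.basicOpen g := by
    rw [Scheme.Hom.image_preimage_eq_opensRange_inf, Scheme.Opens.opensRange_ι, inf_eq_right.2 hg]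
  let W := (U i).ι ⁻¹ᵁ X.basicOpen g
  have hW : IsAffineOpen W := ((U i).ι.isAffineOpen_iff_of_isOpenImmersion (U := W)).1 (by
    rw [himg]; exact hA.basicOpen g) 
  have hWV : W ≤ ((U i).ι ≫ f) ⁻¹ᵁ V := fun w hw => hAV (X.basicOpen_le g hw)
  have h' : (U i).ι ''ᵁ W ≤ f ⁻¹ᵁ V := by
    rintro _ ⟨w, hw, rfl⟩; exact hWV hw
  obtain ⟨_, n, φ, hc, ht⟩ := P_of_rel (h i) hW hV hWV
  rw [← himg]
  exact ⟨h', n, φ, ⟨hc.1, hc.2.trans (appLE_ι_comp (U i) hWV h')⟩, (tc_restrict (U i) hW φ hc.1).1 ht⟩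

end Groth.Agent.PCohD
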