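import Groth.Agent.PCohD.StalkExt

/-!
# Isomorphisms on a stalk of bounded pseudo-coherent objects spread to neighbourhoods
-/

set_option autoImplicit false

universe u

open CategoryTheory Limits AlgebraicGeometry Pretriangulated
open Groth.Agent.PerfTri (Perfect.restrQ Perfect.restrComp)
open Groth.Agent.PerfTri.Nullhom (resC)
open Groth.Agent.KFlat
open Groth.Agent.KFlat.TildePC (Appr appr_of_isIso)
attribute [local instance] HasDerivedCategory.standard

noncomputable section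

namespace Groth.Agent.PCohD.StalkNhd

variable {X : Scheme.{u}}

open StalkExt in
/-- A bounded pseudo-coherent object with zero stalk is zero nearby. -/
theorem exists_isZero (K : DCoh.D X) (c d : ℤ) (hpc : ∀ m, DCoh.IsPseudoCoherentD m K)
    (hv : ∀ i, i < c ∨ d < i → IsZero (DCoh.HD K i)) (x : X)
    (hx : ∀ i, IsZero ((DerSch.stalkFunctor X x).obj (DCoh.HD K i))) :
    ∃ (W : Scheme.{u}) (j : W ⟶ X) (_ : IsOpenImmersion j),
      x ∈ Set.range j ∧ IsZero ((DCoh.restrictD j).obj K) := by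
  obtain ⟨V, hxV, hV⟩ := FreeLocus.exists_nhd (d - c + 1).toNat K d hpc (fun i hi => hv i (Or.inr hi))
    (fun i hi => hv i (Or.inl (by omega))) x fun i => by
      have : Subsingleton ((DCoh.HD K i).presheaf.stalk x) := ModuleCat.subsingleton_of_isZero (hx i)
      exact ⟨Module.Free.of_subsingleton _ _, inferInstance⟩
  let v : (V : Scheme.{u}) := ⟨x, hxV⟩
  have hzero : ∀ i, (DerSch.stalkFunctor (V : Scheme.{u}) v).map (𝟙 ((DCoh.HD K i).restrict V.ι)) = 0 :=
    fun i => by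
      have hz : IsZero ((DerSch.stalkFunctor (V : Scheme.{u}) v).obj ((DCoh.HD K i).restrict V.ι)) :=
        ((ModuleCat.extendScalars.{u, u, u} (V.ι.stalkMap v).hom).map_isZero (hx i)).of_iso
          ((stRes V.ι v).app (DCoh.HD K i))
      exact hz.eq_of_src _ _
  choose W₀ hvW₀ hW₀ using fun i => exists_map_eq_zero (hV i) _ v (hzero i)
  let W : (V : Scheme.{u}).Opens := (Finset.Icc c d).inf W₀
  have hvW : v ∈ W := mem_finset_inf _ _ _ hvW₀
  let L := (DCoh.restrictD W.ι).obj ((DCoh.restrictD V.ι).obj K)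
  have hL : ∀ i, IsZero (DCoh.HD L i) := fun i => by
    by_cases hi : i ∈ Finset.Icc c d
    · have h1 := map_eq_zero_of_le (Finset.inf_le hi) _ (hW₀ i)
      rw [CategoryTheory.Functor.map_id] at h1
      exact ((IsZero.iff_id_eq_zero _).mpr h1).of_iso (FTFP.hRestr W.ι _ i ≪≫
        (Scheme.Modules.restrictFunctor W.ι).mapIso (FTFP.hRestr V.ι K i))
    · exact FTFP.isZero_restr W.ι (FTFP.isZero_restr V.ι
        (hv i (by simp only [Finset.mem_Icc] at hi; omega)))
  have hzL : IsZero L := by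
    have : L.IsLE 0 := (DerivedCategory.isLE_iff L 0).mpr fun i _ => hL i
    have : L.IsGE 1 := (DerivedCategory.isGE_iff L 1).mpr fun i _ => hL i
    exact DerivedCategory.TStructure.t.isZero L 0 1 (by omega)
  exact ⟨W, W.ι ≫ V.ι, inferInstance, ⟨⟨v, hvW⟩, rfl⟩,
    hzL.of_iso (Perfect.restrComp W.ι V.ι _ rfl K).symm⟩

/-- A morphism of bounded pseudo-coherent objects which is an isomorphism on a stalk is one nearby. -/
theorem exists_isIso {K L : DCoh.D X} (f : K ⟶ L) (c d : ℤ)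
    (hK : ∀ m, DCoh.IsPseudoCoherentD m K) (hL : ∀ m, DCoh.IsPseudoCoherentD m L)
    (hvK : ∀ i, i < c ∨ d < i → IsZero (DCoh.HD K i))
    (hvL : ∀ i, i < c ∨ d < i → IsZero (DCoh.HD L i)) (x : X)
    (hf : IsIso ((DerSch.stalkFunctor X x).mapDerivedCategory.map f)) :
    ∃ (W : Scheme.{u}) (j : W ⟶ X) (_ : IsOpenImmersion j),
      x ∈ Set.range j ∧ IsIso ((DCoh.restrictD j).map f) := by
  obtain ⟨C, g, h, hT⟩ := Pretriangulated.distinguished_cocone_triangle f
  have hC : ∀ m, DCoh.IsPseudoCoherentD m C := fun m => pc₃ (Triangle.mk f g h) hT (hK _) (hL _)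
  have hvC : ∀ i, i < c - 1 ∨ d < i → IsZero (DCoh.HD C i) := fun i hi =>
    (DerivedCategory.HomologySequence.exact₃ _ hT i (i + 1) rfl).isZero_of_both_zeros
      ((hvL i (by omega)).eq_of_src _ _) ((hvK (i + 1) (by omega)).eq_of_tgt _ _)
  let S := DerSch.stalkFunctor X x
  have hz : IsZero (S.mapDerivedCategory.obj C) :=
    (Triangle.isZero₃_iff_isIso₁ _ (S.mapDerivedCategory.map_distinguished _ hT)).mpr hf
  have hCx : ∀ i, IsZero (S.obj (DCoh.HD C i)) := fun i =>
    ((DerivedCategory.homologyFunctor _ i).map_isZero hz).of_iso ((MapHomology.iso S i).app C).symm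
  obtain ⟨W, j, hj, hx, hW⟩ := exists_isZero C (c - 1) d hC hvC x hCx
  exact ⟨W, j, hj, hx, (Triangle.isZero₃_iff_isIso₁ _ ((DCoh.restrictD j).map_distinguished _ hT)).mp hW⟩

/-- An approximation of an object with cohomology in degrees `≥ c`, truncated. -/
theorem nonempty_truncGE_iso {P G : CochainComplex X.Modules ℤ} {c : ℤ}
    (hG : G.IsGE c) (α : DerivedCategory.Q.obj P ⟶ DerivedCategory.Q.obj G) (hα : Appr (c - 1) α) :
    Nonempty (DerivedCategory.Q.obj (CochainComplex.truncGE P c) ≅ DerivedCategory.Q.obj G) := by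
  obtain ⟨G₂, b₂, s, hs, hbs⟩ := DerivedCategory.left_fac α
  have hqs : QuasiIso s := (DerivedCategory.isIso_Q_map_iff_quasiIso _ s).mp hs
  have hb₂ : Appr (c - 1) (DerivedCategory.Q.map b₂) := by
    have hb : DerivedCategory.Q.map b₂ = α ≫ DerivedCategory.Q.map s := by rw [hbs]; simp
    rw [hb]; exact hα.comp (appr_of_isIso _ _)
  have h1 : QuasiIso (CochainComplex.truncGEMap b₂ c) :=
    (CochainComplex.quasiIso_truncGEMap_iff b₂ c).mpr fun i hi => by
      rw [quasiIsoAt_iff_isIso_homologyMap]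
      exact ((appr_Q_iff b₂).mp hb₂).1 i (by omega)
  have h2 : QuasiIso (CochainComplex.truncGEMap s c) :=
    (CochainComplex.quasiIso_truncGEMap_iff s c).mpr fun i _ => inferInstance
  exact ⟨asIso (DerivedCategory.Q.map (CochainComplex.truncGEMap b₂ c)) ≪≫
      (asIso (DerivedCategory.Q.map (CochainComplex.truncGEMap s c))).symm ≪≫
      (asIso (DerivedCategory.Q.map (G.πTruncGE c))).symm⟩

theorem isGE_resC {U : Scheme.{u}} (j : U ⟶ X) [IsOpenImmersion j] {G : CochainComplex X.Modules ℤ}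
    {c : ℤ} (hG : ∀ i, i < c → IsZero (G.homology i)) : ((resC j).obj G).IsGE c :=
  (CochainComplex.isGE_iff _ _).mpr fun i hi =>
    (HomologicalComplex.exactAt_iff_isZero_homology _ _).mpr ((isZero_homology_Q _ i).mp
      ((FTFP.isZero_restr j ((isZero_homology_Q G i).mpr (hG i hi))).of_iso
        ((DerivedCategory.homologyFunctor _ i).mapIso (Perfect.restrQ j G).symm)))

/-- Bounded pseudo-coherent objects isomorphic on a stalk are isomorphic nearby. -/
theorem exists_iso (E F : CochainComplex X.Modules ℤ) (c d : ℤ) (x : X)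
    (hvE : ∀ i, i < c ∨ d < i → IsZero (E.homology i))
    (hvF : ∀ i, i < c ∨ d < i → IsZero (F.homology i))
    (hE : ∀ m, DCoh.IsPseudoCoherentD m (DCoh.toD X E))
    (hF : ∀ m, DCoh.IsPseudoCoherentD m (DCoh.toD X F))
    (e : DerivedCategory.Q.obj ((StalkCx.stCx x).obj E) ≅ DerivedCategory.Q.obj ((StalkCx.stCx x).obj F)) :
    ∃ (W : Scheme.{u}) (j : W ⟶ X) (_ : IsOpenImmersion j), x ∈ Set.range j ∧
      Nonempty ((DCoh.restrictD j).obj (DCoh.toD X E) ≅ (DCoh.restrictD j).obj (DCoh.toD X F)) := by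
  obtain ⟨U, j, hj, ⟨u, rfl⟩, P, α, hP, hα⟩ := (pc_iff _).mp (hE (c - 1)) x
  let E₁ := (resC j).obj E
  let F₁ := (resC j).obj F
  let α₁ : DerivedCategory.Q.obj P ⟶ DerivedCategory.Q.obj E₁ := α ≫ (Perfect.restrQ j E).hom
  have hα₁ : Appr (c - 1) α₁ := hα.comp (appr_of_isIso _ _)
  let φu := (j.stalkMap u).hom
  let M := ModuleCat.extendScalars.{u, u, u} φu
  let e₁ : DerivedCategory.Q.obj ((StalkCx.stCx u).obj E₁) ≅ DerivedCategory.Q.obj ((StalkCx.stCx u).obj F₁) :=
    DerivedCategory.Q.mapIso (StalkExt.stResCx j u E) ≪≫ (M.mapDerivedCategoryFactors.app _).symm ≪≫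
      M.mapDerivedCategory.mapIso e ≪≫ M.mapDerivedCategoryFactors.app _ ≪≫
      DerivedCategory.Q.mapIso (StalkExt.stResCx j u F).symm
  let Fu := DerSch.stalkFunctor U u
  let φ₀ : DerivedCategory.Q.obj ((StalkCx.stCx u).obj P) ⟶ DerivedCategory.Q.obj ((StalkCx.stCx u).obj F₁) :=
    (Fu.mapDerivedCategoryFactors.app P).inv ≫ Fu.mapDerivedCategory.map α₁ ≫
      (Fu.mapDerivedCategoryFactors.app E₁).hom ≫ e₁.hom
  have hφ₀ : Appr (c - 1) φ₀ :=
    (appr_of_isIso _ _).comp ((TildePC.Appr.map Fu hα₁).comp (appr_of_isIso _ _))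
  obtain ⟨⟨lo, hi, hvP⟩, hfP⟩ := hP
  have : ∀ i, Projective (((StalkCx.stCx u).obj P).X i) := fun i => by
    have : (P.X i).IsQuasicoherent := PerfTri.Betti.isQuasicoherent_of_isFinLocFree (hfP i)
    have : Module.Free (U.presheaf.stalk u) ((P.X i).presheaf.stalk u) :=
      (Props.QProj.free_stalk (P.X i) (hfP i) u).1
    exact (IsProjective.iff_projective _).mp
      (inferInstance : Module.Projective (U.presheaf.stalk u) ((P.X i).presheaf.stalk u))
  have : CochainComplex.IsStrictlyLE ((StalkCx.stCx u).obj P) hi :=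
    (CochainComplex.isStrictlyLE_iff _ _).mpr fun i hi' => Fu.map_isZero (hvP i (Or.inr hi'))
  have := CochainComplex.isKProjective_of_projective ((StalkCx.stCx u).obj P) hi
  obtain ⟨γ, hγ⟩ := Groth.Agent.DRing.DBasic.exists_Q_map_eq φ₀
  have hγq : ∀ i, c ≤ i → QuasiIsoAt γ i := fun i hi' => by
    rw [quasiIsoAt_iff_isIso_homologyMap]
    exact ((appr_Q_iff γ).mp (by rw [hγ]; exact hφ₀)).1 i (by omega)
  obtain ⟨W, k, hk, w, hw, φ, hφ⟩ := StalkExt.exists_chainMap ⟨⟨lo, hi, hvP⟩, hfP⟩ u γ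
  let E₂ := (resC k).obj E₁
  let F₂ := (resC k).obj F₁
  let P₂ := (resC k).obj P
  have hE₁ := isGE_resC j (G := E) (c := c) fun i hi => hvE i (Or.inl hi)
  have hF₁ := isGE_resC j (G := F) (c := c) fun i hi => hvF i (Or.inl hi)
  have hvz : ∀ {G : CochainComplex U.Modules ℤ}, G.IsGE c → ∀ i, i < c → IsZero (G.homology i) :=
    fun {G} h i hi => (HomologicalComplex.exactAt_iff_isZero_homology _ _).mp (G.exactAt_of_isGE c i hi)
  have hE₂ : E₂.IsGE c := isGE_resC k (hvz hE₁)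
  have hF₂ : F₂.IsGE c := isGE_resC k (hvz hF₁)
  let α₂ : DerivedCategory.Q.obj P₂ ⟶ DerivedCategory.Q.obj E₂ :=
    (Perfect.restrQ k P).inv ≫ (DCoh.restrictD k).map α₁ ≫ (Perfect.restrQ k E₁).hom
  have hα₂ : Appr (c - 1) α₂ := (appr_of_isIso _ _).comp
    ((TildePC.Appr.map (Scheme.Modules.restrictFunctor k) hα₁).comp (appr_of_isIso _ _))
  obtain ⟨eP⟩ := nonempty_truncGE_iso hE₂ α₂ hα₂
  let φ' := CochainComplex.truncGEMap φ c
  let S := StalkCx.stCx w
  have hq : QuasiIso (S.map φ') := ⟨fun i => by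
    by_cases hi' : c ≤ i
    · have h1 : QuasiIsoAt (S.map (P₂.πTruncGE c)) i := by
        have := P₂.quasiIsoAt_πTruncGE c i hi'
        exact inferInstanceAs (QuasiIsoAt (((DerSch.stalkFunctor W w).mapHomologicalComplex _).map (P₂.πTruncGE c)) i)
      have h2 : QuasiIsoAt (S.map (F₂.πTruncGE c)) i := by
        have := F₂.quasiIsoAt_πTruncGE c i hi'
        exact inferInstanceAs (QuasiIsoAt (((DerSch.stalkFunctor W w).mapHomologicalComplex _).map (F₂.πTruncGE c)) i)
      have h3 := hφ i (hγq i hi')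
      refine (quasiIsoAt_iff_comp_left (S.map (P₂.πTruncGE c)) (S.map φ') i (hφ := h1)).mp ?_
      rw [← Functor.map_comp, CochainComplex.πTruncGE_naturality, Functor.map_comp]
      exact quasiIsoAt_comp (hφ := h3) (hφ' := h2) _ _ i
    · have hz : ∀ G : CochainComplex W.Modules ℤ, (S.obj (G.truncGE c)).ExactAt i := fun G =>
        SchemeTor.exactAt_stalk w ((G.truncGE c).exactAt_of_isGE c i (by omega))
      exact (quasiIsoAt_iff_exactAt (S.map φ') i (hz P₂)).mpr (hz F₂)⟩
  let T := DCoh.restrictD (k ≫ j)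
  have hpcE : ∀ m, DCoh.IsPseudoCoherentD m (DerivedCategory.Q.obj E₂) := fun m =>
    pc_of_iso (Perfect.restrQ k E₁) (pc_restrict k (pc_of_iso (Perfect.restrQ j E) (pc_restrict j (hE m))))
  have hpcF : ∀ m, DCoh.IsPseudoCoherentD m (DerivedCategory.Q.obj F₂) := fun m =>
    pc_of_iso (Perfect.restrQ k F₁) (pc_restrict k (pc_of_iso (Perfect.restrQ j F) (pc_restrict j (hF m))))
  have hv₂ : ∀ (G : CochainComplex X.Modules ℤ), (∀ i, i < c ∨ d < i → IsZero (G.homology i)) →
      ∀ i, i < c ∨ d < i → IsZero (DCoh.HD (DerivedCategory.Q.obj ((resC k).obj ((resC j).obj G))) i) :=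
    fun G hG i hi =>
      (FTFP.isZero_restr k ((FTFP.isZero_restr j ((isZero_homology_Q G i).mpr (hG i hi))).of_iso
        ((DerivedCategory.homologyFunctor _ i).mapIso (Perfect.restrQ j G).symm))).of_iso
        ((DerivedCategory.homologyFunctor _ i).mapIso (Perfect.restrQ k _).symm)
  let β : DerivedCategory.Q.obj E₂ ⟶ DerivedCategory.Q.obj F₂ :=
    eP.inv ≫ DerivedCategory.Q.map φ' ≫ inv (DerivedCategory.Q.map (F₂.πTruncGE c))
  have hβ : IsIso ((DerSch.stalkFunctor W w).mapDerivedCategory.map β) := by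
    have h0 : IsIso ((DerSch.stalkFunctor W w).mapDerivedCategory.map (DerivedCategory.Q.map φ')) :=
      (NatIso.isIso_map_iff (DerSch.stalkFunctor W w).mapDerivedCategoryFactors φ').mpr
        (inferInstanceAs (IsIso (DerivedCategory.Q.map (S.map φ'))))
    rw [Functor.map_comp, Functor.map_comp]
    infer_instance
  obtain ⟨W', l, hl, ⟨w', hw'⟩, hiso⟩ := exists_isIso β c d hpcE hpcF (hv₂ E hvE) (hv₂ F hvF) w hβ
  have := hiso
  exact ⟨W', l ≫ k ≫ j, inferInstance, ⟨w', by simp [hw', hw]⟩,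
    ⟨(Perfect.restrComp l (k ≫ j) _ rfl _).symm ≪≫
      (DCoh.restrictD l).mapIso ((Perfect.restrComp k j _ rfl _).symm ≪≫
        (DCoh.restrictD k).mapIso (Perfect.restrQ j E) ≪≫ Perfect.restrQ k E₁) ≪≫
      asIso ((DCoh.restrictD l).map β) ≪≫
      (DCoh.restrictD l).mapIso ((Perfect.restrQ k F₁).symm ≪≫
        (DCoh.restrictD k).mapIso (Perfect.restrQ j F).symm ≪≫ Perfect.restrComp k j _ rfl _) ≪≫
      Perfect.restrComp l (k ≫ j) _ rfl _⟩⟩

end Groth.Agent.PCohD.StalkNhd
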