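import Groth.Agent.PCohD.RelFlatModule
import Groth.Agent.PCohD.RelAbs
import Groth.Agent.PCohD.RelRestrict
import Groth.Agent.PCohD.PushSmooth
import Groth.Agent.PCohD.PushSmoothLoc
import Groth.Agent.PCohD.StalkNhd
import Groth.Agent.FlatOpen.Scheme
import Groth.Agent.LimTop.ModModel
import Groth.Agent.DRing.PerfectAmp

/-!
# Relative perfect amplitude near a point
-/

set_option autoImplicit false
set_option backward.isDefEq.respectTransparency.types false

universe u

open CategoryTheory CategoryTheory.Limits AlgebraicGeometry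
open Groth.Agent.PerfTri (Perfect.restrQ Perfect.restrComp)
open Groth.Agent.PerfTri.Nullhom (resC)
open Groth.Agent.KFlat.TildePC (Appr appr_of_isIso)
attribute [local instance] HasDerivedCategory.standard

noncomputable section

namespace Groth.Agent.PCohD.PerfAmpNhd

section Ring

open Groth.Agent.DRing Groth.Agent.DRing.TorAmp

variable {A : Type u} [CommRing A]

/-- The bottom term of a complex of tor amplitude `[a, b]` with flat terms above `a` is flat. -/
theorem flat_bottom_of_torAmp (S : DRing.Cx A) {a b hi : ℤ} (hv : DRing.VanishesOutside S a hi)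
    (hfl : ∀ i, a < i → Module.Flat A (S.X i))
    (h : DRing.HasTorAmplitudeIn A a b (DRing.toD S)) : Module.Flat A (S.X a) := by
  obtain ⟨T, hT, s1, s2, s3⟩ := Devissage.exists_stupid_triangle S a
  have hσ : IsIso (KFlat.sigmaGEι S a) := by
    have : ∀ i, IsIso ((KFlat.sigmaGEι S a).f i) := fun i => by
      rw [ConcreteCategory.isIso_iff_bijective]
      refine ⟨Subtype.val_injective, fun x => ?_⟩
      by_cases hi' : a ≤ i
      · exact ⟨⟨x, PC.mem_truncSub hi' x⟩, rfl⟩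
      · have := ModuleCat.subsingleton_of_isZero (hv i (Or.inl (by omega)))
        exact ⟨0, Subsingleton.elim _ _⟩
    exact HomologicalComplex.Hom.isIso_of_components _
  have h2 : DRing.HasTorAmplitudeIn A a (max b hi) T.obj₂ := by
    rw [s2]
    exact torAmp_of_iso (DerivedCategory.Q.mapIso (asIso (KFlat.sigmaGEι S a))).symm
      (torAmp_mono h le_rfl (le_max_left _ _))
  have h1 : DRing.HasTorAmplitudeIn A (a + 1) (max b hi + 1) T.obj₁ := by
    rw [s1]
    refine ⟨KFlat.sigmaGE S (a + 1), fun i hi' => ?_, fun i => ?_, ⟨Iso.refl _⟩⟩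
    · rcases hi' with hi' | hi'
      · exact KFlat.sigmaGE_X_isZero S hi'
      · exact PC.vanishesOutside_sigmaGE (b := hi) (fun i hi => hv i (Or.inr hi)) (a + 1) i
          (Or.inr (by omega))
    · by_cases hi' : a + 1 ≤ i
      · exact KFlat.sigmaGE_X_flat S (a + 1) i (hfl i (by omega))
      · have := ModuleCat.subsingleton_of_isZero
          (KFlat.sigmaGE_X_isZero S (show i < a + 1 by omega))
        infer_instance
  have h3 := (torAmp_of_triangle hT a (max b hi)).1 h1 h2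
  rw [s3] at h3
  exact Perfect.flat_of_torAmp (Perfect.torAmp_of_sgl h3 (show (0 : ℤ) = a - a by omega) rfl)

/-- A bounded complex of flat modules without cohomology above `b`. -/
theorem torAmp_shrink (S : DRing.Cx A) {a b hi : ℤ} (hv : DRing.VanishesOutside S a hi)
    (hfl : DRing.TermwiseFlat S) (hex : ∀ i, b < i → S.ExactAt i) :
    DRing.HasTorAmplitudeIn A a b (DRing.toD S) := by
  have hS := isKFlat_of_flat hv hfl
  obtain ⟨P', hb, hproj, ⟨e⟩⟩ := Trunc.exists_projRep (DRing.toD S) b fun i hi => by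
    rw [DBasic.subsingleton_HD_toD_iff, ← HomologicalComplex.exactAt_iff_isZero_homology]
    exact hex i hi
  refine (hasTorAmp_iff hS (Iso.refl _) a b).2 fun M i hi => ?_
  rcases hi with hi | hi
  · exact torVan_of_flat hv M i (Or.inl hi)
  · exact (exactAt_tensor_congr (isKFlat_of_projective hb hproj) hS e M i).1
      (((DRing.tensorCx P' M).exactAt_iff i).2
        (ShortComplex.exact_of_isZero_X₂ _ ((MonoidalCategory.tensorRight M).map_isZero (hb i hi))))

/-- A bijective map: restricting an extension. -/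
def restrExtIso {B : Type u} [CommRing B] (φ : A →+* B) (hφ : Function.Bijective φ) (K : DRing.Cx A) :
    (DRing.restrictCx φ).obj ((Groth.Agent.KFlat.BaseChange.extCx φ).obj K) ≅ K :=
  have := StalkExt.isEquivalence_extend φ hφ
  (HomologicalComplex.Hom.isoOfComponents
    (fun n => (asIso (ModuleCat.extendRestrictScalarsAdj.{u, u, u} φ).unit).app (K.X n))
    fun i j _ => ((ModuleCat.extendRestrictScalarsAdj.{u, u, u} φ).unit.naturality (K.d i j)).symm).symm

end Ring

open Groth.Agent.KFlat (StalkCx.stCx)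

variable {X Y : Scheme.{u}}

/-- Stalks over the base and restriction to an open. -/
def stalkCxOverRestr {V : Scheme.{u}} (j : V ⟶ X) [IsOpenImmersion j] (f : X ⟶ Y) (v : V)
    (F : CochainComplex X.Modules ℤ) :
    (DerSch.stalkCxOver (j ≫ f) v).obj ((resC j).obj F) ≅ (DerSch.stalkCxOver f (j v)).obj F :=
  TorComp.stalkCxCompIso j f v _ ≪≫ TorComp.restrictCompIso _ _ _ ≪≫
    (DRing.restrictCx (f.stalkMap (j v)).hom).mapIso
      ((DRing.restrictCx (j.stalkMap v).hom).mapIso (StalkExt.stResCx j v F) ≪≫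
        restrExtIso (A := X.presheaf.stalk (j v)) _ (ConcreteCategory.bijective_of_isIso (j.stalkMap v)) _) ≪≫
    (TorComp.stalkCxOverRefl f (j v) F).symm

theorem torAt_restr_iff {V : Scheme.{u}} (j : V ⟶ X) [IsOpenImmersion j] (f : X ⟶ Y) (v : V)
    (F : CochainComplex X.Modules ℤ) (a b : ℤ) :
    DerSch.HasTorAmplitudeAt (j ≫ f) a b ((resC j).obj F) v ↔ DerSch.HasTorAmplitudeAt f a b F (j v) :=
  ⟨Groth.Agent.DRing.TorAmp.torAmp_of_iso (DerivedCategory.Q.mapIso (stalkCxOverRestr j f v F)),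
    Groth.Agent.DRing.TorAmp.torAmp_of_iso (DerivedCategory.Q.mapIso (stalkCxOverRestr j f v F)).symm⟩

/-- Flatness over the base and restriction to an open. -/
theorem flatAt_restr_iff {V : Scheme.{u}} (j : V ⟶ X) [IsOpenImmersion j] (f : X ⟶ Y) (v : V)
    (M : X.Modules) :
    FlatMod.IsFlatOverAt (j ≫ f) (M.restrict j) v ↔ FlatMod.IsFlatOverAt f M (j v) := by
  rw [← torAmp_single_iff, ← torAmp_single_iff, ← torAt_restr_iff j f v]
  let e := (HomologicalComplex.singleMapHomologicalComplex (Scheme.Modules.restrictFunctor j)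
    (ComplexShape.up ℤ) 0).app M
  exact ⟨Groth.Agent.DRing.TorAmp.torAmp_of_iso
      (DerivedCategory.Q.mapIso ((DerSch.stalkCxOver (j ≫ f) v).mapIso e.symm)),
    Groth.Agent.DRing.TorAmp.torAmp_of_iso
      (DerivedCategory.Q.mapIso ((DerSch.stalkCxOver (j ≫ f) v).mapIso e))⟩

/-- Stalks over the base of isomorphic objects. -/
def ovDIso (f : X ⟶ Y) (x : X) {P P' : CochainComplex X.Modules ℤ}
    (e : DerivedCategory.Q.obj P ≅ DerivedCategory.Q.obj P') :
    DRing.toD ((DerSch.stalkCxOver f x).obj P) ≅ DRing.toD ((DerSch.stalkCxOver f x).obj P') :=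
  DerivedCategory.Q.mapIso (TorComp.stalkCxOverRefl f x P) ≪≫
    ((ModuleCat.restrictScalars (f.stalkMap x).hom).mapDerivedCategoryFactors.app _).symm ≪≫
    (DRing.restrictD (f.stalkMap x).hom).mapIso (PerfAmp.stDIso x e) ≪≫
    (ModuleCat.restrictScalars (f.stalkMap x).hom).mapDerivedCategoryFactors.app _ ≪≫
    DerivedCategory.Q.mapIso (TorComp.stalkCxOverRefl f x P').symm

/-- Stalks over the base of a direct image along an embedding. -/
def stalkCxOverPush {Q : Scheme.{u}} (i : X ⟶ Q) (hi : Topology.IsInducing i) (g : Q ⟶ Y) (z : X)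
    (F : CochainComplex X.Modules ℤ) :
    (DerSch.stalkCxOver (i ≫ g) z).obj F ≅
      (DerSch.stalkCxOver g (i z)).obj ((DerSch.pushCx i).obj F) :=
  TorComp.stalkCxCompIso i g z F ≪≫ TorComp.restrictCompIso _ _ _ ≪≫
    (DRing.restrictCx (g.stalkMap (i z)).hom).mapIso (PushTor.pushStalkCxIso i hi z F).symm ≪≫
    (TorComp.stalkCxOverRefl g (i z) _).symm

/-- Cohomology sheaves vanish where the stalkwise amplitude says so. -/
theorem isZero_HD_of_torAmp (f : X ⟶ Y) (F : CochainComplex X.Modules ℤ) {a b : ℤ}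
    (h : DerSch.HasTorAmplitude f a b F) (i : ℤ) (hi : i < a ∨ b < i) :
    IsZero (DCoh.HD (DCoh.toD X F) i) := by
  refine (isZero_homology_Q F i).mpr ((HomologicalComplex.exactAt_iff_isZero_homology _ _).mp ?_)
  refine (Groth.Agent.KFlat.SchemeTor.exactAt_iff_stalk F i).mpr fun x => ?_
  have h1 : ((DerSch.stalkCxOver f x).obj F).ExactAt i := by
    rw [HomologicalComplex.exactAt_iff_isZero_homology, ← Groth.Agent.DRing.DBasic.subsingleton_HD_toD_iff]
    exact Groth.Agent.DRing.TorAmp.torAmp_boundedHD (h x) i hi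
  have h2 := h1.of_iso (TorComp.stalkCxOverRefl f x F)
  exact (ShortComplex.exact_map_iff_of_faithful _ (ModuleCat.restrictScalars (f.stalkMap x).hom)).1 h2

/-- A flat module on a scheme flat over the base is flat over the base. -/
theorem flatOver_of_flat (f : X ⟶ Y) [Flat f] {M : X.Modules} (hM : FlatMod.IsFlat M) :
    FlatMod.IsFlatOver f M := fun x => by
  letI := FlatMod.moduleStalkOver f M x
  letI : Algebra (Y.presheaf.stalk (f.base x)) (X.presheaf.stalk x) := (f.stalkMap x).hom.toAlgebra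
  haveI : IsScalarTower (Y.presheaf.stalk (f.base x)) (X.presheaf.stalk x) (M.presheaf.stalk x) :=
    IsScalarTower.of_algebraMap_smul fun r m => rfl
  haveI : Module.Flat (Y.presheaf.stalk (f.base x)) (X.presheaf.stalk x) := Flat.stalkMap f x
  haveI : Module.Flat (X.presheaf.stalk x) (M.presheaf.stalk x) := hM x
  exact Module.Flat.trans (Y.presheaf.stalk (f.base x)) (X.presheaf.stalk x) (M.presheaf.stalk x)

section Closed

variable {Q : Scheme.{u}} (i : X ⟶ Q) [IsClosedImmersion i] (g : Q ⟶ Y) [Flat g]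
  [LocallyOfFinitePresentation g] (F : CochainComplex X.Modules ℤ)

/-- Perfect amplitude from a model with flat finitely presented terms. -/
theorem perfAmp_of_model (T : CochainComplex Q.Modules ℤ) {a b hi : ℤ}
    (hv : DCoh.VanishesOutside T a hi) (hfl : ∀ n, FlatMod.IsFlatOver g (T.X n))
    (hfp : ∀ n, DCoh.IsPseudoCoherentD (-1) (DCoh.inD Q (T.X n)))
    (hb : ∀ n, b < n → IsZero (DCoh.HD (DCoh.toD X F) n))
    (e : DerivedCategory.Q.obj T ≅ DerivedCategory.Q.obj ((DerSch.pushCx i).obj F)) :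
    DerSch.HasPerfAmplitudeRel (i ≫ g) a b F := by
  refine ⟨fun m => (rel_comp_iff i g _).2 (pc_of_iso
    (e ≪≫ ((Scheme.Modules.pushforward i).mapDerivedCategoryFactors.app F).symm)
    ((rel_iff_pc g _).1 (relAll_of_flat_terms T hi (fun n hn => hv n (Or.inr hn)) hfl
      (fun n => rel_congr_iso ((DerivedCategory.singleFunctorIsoCompQ Q.Modules 0).app _)
        ((rel_iff_pc g _).2 (hfp n))) m))), fun z => ?_⟩
  refine Groth.Agent.DRing.TorAmp.torAmp_of_iso (ovDIso g (i z) e ≪≫ DerivedCategory.Q.mapIso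
    (stalkCxOverPush i i.isClosedEmbedding.isInducing g z F).symm) ?_
  refine torAmp_shrink _ (hi := hi) (fun n hn => (DerSch.stalkOver g (i z)).map_isZero (hv n hn))
    (fun n => hfl n (i z)) fun n hn => ?_
  have hT : T.ExactAt n := by
    rw [HomologicalComplex.exactAt_iff_isZero_homology]
    exact (isZero_homology_Q T n).1 ((((Scheme.Modules.pushforward i).map_isZero (hb n hn)).of_iso
      (pushDHomology i (DCoh.toD X F) n)).of_iso ((DerivedCategory.homologyFunctor _ n).mapIso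
        (e ≪≫ ((Scheme.Modules.pushforward i).mapDerivedCategoryFactors.app F).symm)))
  exact ShortComplex.Exact.map hT (DerSch.stalkOver g (i z))

/-- Near a point of tor amplitude `[a, b]`. -/
theorem exists_nhd (a b : ℤ) (x : X) (hpc : DCoh.IsPseudoCoherentD (a - 1) ((pushD i).obj (DCoh.toD X F)))
    (hv : ∀ n, n < a ∨ b < n → IsZero (DCoh.HD (DCoh.toD X F) n))
    (htor : DerSch.HasTorAmplitudeAt (i ≫ g) a b F x) :
    ∃ W : Q.Opens, i x ∈ W ∧
      DerSch.HasPerfAmplitudeRel ((i ⁻¹ᵁ W).ι ≫ i ≫ g) a b ((DCoh.restrictCx (i ⁻¹ᵁ W)).obj F) := by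
  let G := (DerSch.pushCx i).obj F
  let eF : (pushD i).obj (DCoh.toD X F) ≅ DCoh.toD Q G :=
    (Scheme.Modules.pushforward i).mapDerivedCategoryFactors.app F
  obtain ⟨V, hxV, hV⟩ := hpc (i x)
  obtain ⟨P, α, hP, hα⟩ := hV G ⟨eF.symm⟩
  let G₁ := (DCoh.restrictCx V).obj G
  have hG : G₁.IsGE a := StalkNhd.isGE_resC V.ι fun n hn => (isZero_homology_Q G n).1
    ((((Scheme.Modules.pushforward i).map_isZero (hv n (Or.inl hn))).of_iso
      (pushDHomology i (DCoh.toD X F) n)).of_iso ((DerivedCategory.homologyFunctor _ n).mapIso eF.symm))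
  obtain ⟨eT⟩ := StalkNhd.nonempty_truncGE_iso hG α hα
  let T := P.truncGE a
  obtain ⟨⟨lo, hi, hvP⟩, hfP⟩ := hP
  have hlf : ∀ n, a < n → FlatMod.IsFinLocFree (T.X n) := fun n hn =>
    KFlat.LocFree.isFinLocFree_of_iso (P.truncGEXIso a n hn).symm (hfP n)
  have hvT : DCoh.VanishesOutside T a (max hi a) := fun n hn => by
    rcases hn with hn | hn
    · exact T.isZero_of_isStrictlyGE a n hn
    · exact (hvP n (Or.inr (by omega))).of_iso (P.truncGEXIso a n (by omega))
  have hq : ∀ n, (P.X n).IsQuasicoherent := fun n =>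
    PerfTri.Betti.isQuasicoherent_of_isFinLocFree (hfP n)
  let eC : cokernel (P.d (a - 1) a) ≅ T.X a :=
    (cokernelIsCokernel _).coconePointUniqueUpToIso (P.opcyclesIsCokernel (a - 1) a (by simp)) ≪≫
      (P.truncGEXIsoOpcycles a).symm
  have := hq (a - 1)
  have := hq a
  have hC : CohB1.IsFP (cokernel (P.d (a - 1) a)) := LimTop.isFP_cokernel
    ((FTFP.pc_zero_iff _).1 (FreeLocus.pc_inD_of_isFinLocFree (hfP _) 0))
    ((FTFP.pc_neg_one_iff _).1 (FreeLocus.pc_inD_of_isFinLocFree (hfP _) (-1))) _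
  have hpa : DCoh.IsPseudoCoherentD (-1) (DCoh.inD _ (T.X a)) :=
    pc_of_iso ((DerivedCategory.singleFunctor _ 0).mapIso eC) ((FTFP.pc_neg_one_iff _).2 hC)
  have hFPa : CohB1.IsFP (T.X a) := (FTFP.pc_neg_one_iff _).1 hpa
  have hpcT : ∀ n, DCoh.IsPseudoCoherentD (-1) (DCoh.inD _ (T.X n)) := fun n => by
    rcases lt_trichotomy n a with hn | rfl | hn
    · exact pc_of_isZero ((DerivedCategory.singleFunctor _ 0).map_isZero (hvT n (Or.inl hn)))
    · exact hpa
    · exact FreeLocus.pc_inD_of_isFinLocFree (hlf n hn) _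
  have hflT : ∀ n, a < n → FlatMod.IsFlatOver (V.ι ≫ g) (T.X n) := fun n hn =>
    flatOver_of_flat _ (PerfTor.isFlat_of_isFinLocFree (hlf n hn))
  let v : (V : Scheme.{u}) := ⟨i x, hxV⟩
  have hflv : FlatMod.IsFlatOverAt (V.ι ≫ g) (T.X a) v := by
    refine flat_bottom_of_torAmp ((DerSch.stalkCxOver (V.ι ≫ g) v).obj T) (b := b) (hi := max hi a)
      (fun n hn => (DerSch.stalkOver _ v).map_isZero (hvT n hn)) (fun n hn => hflT n hn v) ?_
    exact Groth.Agent.DRing.TorAmp.torAmp_of_iso (DerivedCategory.Q.mapIso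
      (stalkCxOverPush i i.isClosedEmbedding.isInducing g x F) ≪≫
      DerivedCategory.Q.mapIso (stalkCxOverRestr V.ι g v G).symm ≪≫ (ovDIso _ v eT).symm) htor
  have : (T.X a).IsQuasicoherent :=
    @Groth.Agent.QCoh.isQuasicoherent_of_iso _ _ _ eC (inferInstanceAs (cokernel (P.d (a - 1) a)).IsQuasicoherent)
  let W₁ : (V : Scheme.{u}).Opens :=
    ⟨_, FlatOpen.Scheme.isOpen_isFlatOverAt (V.ι ≫ g) (T.X a) hFPa⟩
  let W : Q.Opens := V.ι ''ᵁ W₁
  have hWV : W ≤ V := by rintro _ ⟨w, -, rfl⟩; exact w.2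
  refine ⟨W, ⟨v, hflv, rfl⟩, ?_⟩
  let k := Q.homOfLE hWV
  have hk : k ≫ V.ι = W.ι := Scheme.homOfLE_ι _ _
  have hflW : ∀ (w : W) n, FlatMod.IsFlatOverAt (W.ι ≫ g) (((resC k).obj T).X n) w := fun w n => by
    have hw : W.ι ≫ g = k ≫ V.ι ≫ g := by rw [← Category.assoc, hk]
    rw [hw]
    refine (flatAt_restr_iff k (V.ι ≫ g) w (T.X n)).2 ?_
    rcases lt_trichotomy n a with hn | rfl | hn
    · have hT0 := hvT n (Or.inl hn)
      letI := FlatMod.moduleStalkOver (V.ι ≫ g) (T.X n) (k w)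
      have : Subsingleton ((T.X n).presheaf.stalk (k w)) :=
        ModuleCat.subsingleton_of_isZero ((DerSch.stalkFunctor _ (k w)).map_isZero hT0)
      exact (inferInstance : Module.Flat (Y.presheaf.stalk ((V.ι ≫ g).base (k w))) ((T.X n).presheaf.stalk (k w)))
    · obtain ⟨w', hw', hww'⟩ := w.2
      have : k w = w' := V.ι.isOpenEmbedding.injective
        ((congrArg (fun φ => φ w) hk).trans hww'.symm)
      rw [this]
      exact hw'
    · exact hflT n hn _
  have hperf := perfAmp_of_model (i ∣_ W) (W.ι ≫ g) ((DCoh.restrictCx (i ⁻¹ᵁ W)).obj F)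
    ((resC k).obj T) (a := a) (b := b) (hi := max hi a)
    (fun n hn => (Scheme.Modules.restrictFunctor k).map_isZero (hvT n hn))
    (fun n w => hflW w n)
    (fun n => pc_of_iso (PerfTri.Regular.restrInD k (T.X n)) (pc_restrict k (hpcT n)))
    (fun n hn => (FTFP.isZero_restr _ (hv n (Or.inr hn))).of_iso
      ((DerivedCategory.homologyFunctor _ n).mapIso (Perfect.restrQ (i ⁻¹ᵁ W).ι F).symm))
    ((Perfect.restrQ k T).symm ≪≫ (DCoh.restrictD k).mapIso (eT ≪≫ (Perfect.restrQ V.ι G).symm) ≪≫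
      Perfect.restrComp k V.ι W.ι hk _ ≪≫ (DCoh.restrictD W.ι).mapIso eF.symm ≪≫
      pushDRestrict i W _ ≪≫ (pushD (i ∣_ W)).mapIso (Perfect.restrQ (i ⁻¹ᵁ W).ι F) ≪≫
      (Scheme.Modules.pushforward (i ∣_ W)).mapDerivedCategoryFactors.app _)
  rwa [← Category.assoc, morphismRestrict_ι, Category.assoc] at hperf

end Closed

/-! ### Transfer along opens -/

variable {f : X ⟶ Y} {m : ℤ} {K : DCoh.D X}

theorem P_restrict_iff [LocallyOfFiniteType f] (U : X.Opens) {W : (U : Scheme.{u}).Opens}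
    (hW : IsAffineOpen W) {V : Y.Opens} :
    P (U.ι ≫ f) m ((DCoh.restrictD U.ι).obj K) W V ↔ P f m K (U.ι ''ᵁ W) V := by
  constructor
  · rintro ⟨h, n, φ, hc, ht⟩
    have h' : U.ι ''ᵁ W ≤ f ⁻¹ᵁ V := by rintro _ ⟨w, hw, rfl⟩; exact h hw
    exact ⟨h', n, φ, ⟨hc.1, hc.2.trans (appLE_ι_comp U h h')⟩, (tc_restrict U hW φ hc.1).1 ht⟩
  · rintro ⟨h', n, φ, hc, ht⟩
    have h : W ≤ (U.ι ≫ f) ⁻¹ᵁ V := fun w hw => h' ⟨w, hw, rfl⟩
    exact ⟨h, n, φ, ⟨hc.1, hc.2.trans (appLE_ι_comp U h h').symm⟩, (tc_restrict U hW φ hc.1).2 ht⟩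

theorem rel_restrict_iff [LocallyOfFiniteType f] (U : X.Opens) :
    DerSch.IsPseudoCoherentRel (U.ι ≫ f) m ((DCoh.restrictD U.ι).obj K) ↔
      ∀ (A : X.affineOpens) (V : Y.affineOpens), (A : X.Opens) ≤ U → (A : X.Opens) ≤ f ⁻¹ᵁ (V : Y.Opens) →
        P f m K A V := by
  rw [rel_iff]
  constructor
  · intro H A V hAU hAV
    have himg : U.ι ''ᵁ (U.ι ⁻¹ᵁ (A : X.Opens)) = A := by
      rw [Scheme.Hom.image_preimage_eq_opensRange_inf, Scheme.Opens.opensRange_ι, inf_eq_right.2 hAU]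
    have hW : IsAffineOpen (U.ι ⁻¹ᵁ (A : X.Opens)) :=
      (U.ι.isAffineOpen_iff_of_isOpenImmersion).1 (by rw [himg]; exact A.2)
    have := (P_restrict_iff (f := f) (m := m) (K := K) U hW (V := V)).1
      (H ⟨_, hW⟩ V fun w hw => hAV hw)
    rwa [himg] at this
  · intro H W V hWV
    exact (P_restrict_iff U W.2).2 (H ⟨_, W.2.image_of_isOpenImmersion U.ι⟩ V
      (by rintro _ ⟨w, -, rfl⟩; exact w.2) (by rintro _ ⟨w, hw, rfl⟩; exact hWV hw))

/-- A nested open. -/
theorem perfAmp_nested [LocallyOfFiniteType f] (F : CochainComplex X.Modules ℤ) (a b : ℤ) (U₁ : X.Opens)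
    (U₂ : (U₁ : Scheme.{u}).Opens)
    (h : DerSch.HasPerfAmplitudeRel (U₂.ι ≫ U₁.ι ≫ f) a b
      ((DCoh.restrictCx U₂).obj ((DCoh.restrictCx U₁).obj F))) :
    DerSch.HasPerfAmplitudeRel ((U₁.ι ''ᵁ U₂).ι ≫ f) a b ((DCoh.restrictCx (U₁.ι ''ᵁ U₂)).obj F) := by
  let U := U₁.ι ''ᵁ U₂
  refine ⟨fun m => rel_congr_iso (Perfect.restrQ U.ι F) ((rel_restrict_iff U).2 fun A V hAU hAV => ?_),
    fun z => ?_⟩
  · have hAU₁ : (A : X.Opens) ≤ U₁ := fun y hy => by
      obtain ⟨w, -, rfl⟩ := hAU hy; exact w.2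
    have himg : U₁.ι ''ᵁ (U₁.ι ⁻¹ᵁ (A : X.Opens)) = A := by
      rw [Scheme.Hom.image_preimage_eq_opensRange_inf, Scheme.Opens.opensRange_ι, inf_eq_right.2 hAU₁]
    have hW : IsAffineOpen (U₁.ι ⁻¹ᵁ (A : X.Opens)) :=
      (U₁.ι.isAffineOpen_iff_of_isOpenImmersion).1 (by rw [himg]; exact A.2)
    have hle : U₁.ι ⁻¹ᵁ (A : X.Opens) ≤ U₂ := fun w hw => by
      obtain ⟨w', hw', hww⟩ := hAU hw
      exact (U₁.ι.isOpenEmbedding.injective hww) ▸ hw'
    have h1 := rel_congr_iso ((Perfect.restrQ U₂.ι _).symm ≪≫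
      (DCoh.restrictD U₂.ι).mapIso (Perfect.restrQ U₁.ι F).symm) (h.1 m)
    have h2 := (P_restrict_iff (f := f) U₁ hW (V := V)).1
      ((rel_restrict_iff (f := U₁.ι ≫ f) U₂).1 h1 ⟨_, hW⟩ V hle fun w hw => hAV hw)
    rwa [himg] at h2
  · obtain ⟨y, hy⟩ := z
    obtain ⟨w, hw, rfl⟩ := hy
    have h1 := (torAt_restr_iff U₁.ι f (U₂.ι ⟨w, hw⟩) F a b).1
      ((torAt_restr_iff U₂.ι (U₁.ι ≫ f) ⟨w, hw⟩ _ a b).1 (h.2 ⟨w, hw⟩))
    exact (torAt_restr_iff U.ι f _ F a b).2 h1

end Groth.Agent.PCohD.PerfAmpNhd
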