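import Groth.Agent.PCohD.PushSmoothLoc
import Groth.Agent.PCohD.Push
import Groth.Agent.PCohD.TorComp
import Groth.Agent.FlatMor.PC.PerfectPush
import Groth.Agent.Dual3RHom.Closed

/-!
# Direct images of perfect objects along perfect closed immersions
-/

set_option autoImplicit false
set_option maxHeartbeats 1000000
set_option backward.isDefEq.respectTransparency false

universe u

open CategoryTheory CategoryTheory.Limits DerivedCategory AlgebraicGeometry

attribute [local instance] HasDerivedCategory.standard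

noncomputable section

namespace Groth.Agent.PCohD.PushPerfect

open Groth.Agent.DRing.TorAmp

variable {Z X : Scheme.{u}} (i : Z ⟶ X) [IsClosedImmersion i]

theorem locFinite_id (F : CochainComplex Z.Modules ℤ) (h : DCoh.IsPerfect (DCoh.toD Z F)) :
    DerSch.LocFiniteTorAmplitude (𝟙 Z) F := fun z => by
  obtain ⟨V, a, b, hzV, hV⟩ := ((PerfTor.isPerfect_iff _).mp h).2 z
  refine ⟨V, a, b, hzV, fun z' hz' => ?_⟩
  have h1 := (PushSmoothLoc.stalk_restrict_iff V.ι ⟨z', hz'⟩ F a b).mp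
    (PerfAmp.stalk_torAmp (hV F ⟨Iso.refl _⟩) _)
  let c : DerSch.stalkOver (𝟙 Z) z' ≅ DerSch.stalkFunctor Z z' :=
    Functor.isoWhiskerLeft (DerSch.stalkFunctor Z z')
      (ModuleCat.restrictScalarsId' _ (by rw [Scheme.Hom.stalkMap_id]; rfl)) ≪≫ Functor.rightUnitor _
  let e : DRing.toD ((DerSch.stalkCxOver (𝟙 Z) z').obj F) ≅ PerfAmp.stD z' F :=
    DerivedCategory.Q.mapIso (HomologicalComplex.Hom.isoOfComponents (fun i => c.app (F.X i))
      fun i j _ => (c.hom.naturality (F.d i j)).symm)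
  exact torAmp_of_iso e.symm h1

theorem isPerfect_pushD (hi : MoreMor.IsPerfectMor i) (E : DCoh.D Z) (hE : DCoh.IsPerfect E) :
    DCoh.IsPerfect ((pushD i).obj E) := by
  let F := DerivedCategory.Q.objPreimage E
  let eF : DCoh.toD Z F ≅ E := DerivedCategory.Q.objObjPreimageIso E
  let eP : DCoh.toD X (((Scheme.Modules.pushforward i).mapHomologicalComplex (ComplexShape.up ℤ)).obj F) ≅
      (pushD i).obj E :=
    ((Scheme.Modules.pushforward i).mapDerivedCategoryFactors.app F).symm ≪≫ (pushD i).mapIso eF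
  have hO : DCoh.IsPerfect (DCoh.inD X ((Scheme.Modules.pushforward i).obj (Coh.structureModule Z))) :=
    FlatMor.PC.PerfectPush.isPerfect_push_structureModule i hi
  have hpc : HasPCUnit i := fun m => pc_of_perfect hO m
  refine PerfTri.Perfect.isPerfect_of_iso eP ((PerfTor.isPerfect_iff _).mpr
    ⟨fun m => pc_of_iso eP.symm (pc_pushD i hpc (pc_of_perfect hE m)), ?_⟩)
  let eU : DCoh.inD X ((Scheme.Modules.pushforward i).obj (Coh.structureModule Z)) ≅
      DCoh.toD X (((Scheme.Modules.pushforward i).mapHomologicalComplex (ComplexShape.up ℤ)).obj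
        (DerSch.unitCx Z)) :=
    (DerivedCategory.singleFunctorIsoCompQ X.Modules 0).app _ ≪≫ DerivedCategory.Q.mapIso
      ((HomologicalComplex.singleMapHomologicalComplex (Scheme.Modules.pushforward i)
        (ComplexShape.up ℤ) 0).app (Coh.structureModule Z)).symm
  have hu : DerSch.LocFiniteTorAmplitude (i ≫ 𝟙 X) (DerSch.unitCx Z) :=
    PushSmoothLoc.locFinite_of_push i (𝟙 X) _
      ((PerfTor.isPerfect_iff _).mp (PerfTri.Perfect.isPerfect_of_iso eU hO)).2
  have hF : DerSch.LocFiniteTorAmplitude (𝟙 Z) F :=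
    locFinite_id F (PerfTri.Perfect.isPerfect_of_iso eF.symm hE)
  refine PushSmoothLoc.locHasFiniteTorDim_push i (𝟙 X) F fun z => ?_
  obtain ⟨V, a, b, hzV, hV⟩ := hF z
  obtain ⟨W, c, d, hzW, hW⟩ := hu z
  refine ⟨V ⊓ W, a + c, b + d, ⟨hzV, hzW⟩, fun z' hz' => ?_⟩
  have h1 := torAmp_of_iso (Q.mapIso (TorComp.stalkCxCompIso (𝟙 Z) (i ≫ 𝟙 X) z' F).symm)
    (TorComp.torAmp_comp _ _ _ (hV z' hz'.1) (TorComp.torAmp_unit (i ≫ 𝟙 X) z' (hW z' hz'.2)))
  have key : ∀ g h : Z ⟶ X, g = h → DerSch.HasTorAmplitudeAt g (a + c) (b + d) F z' →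
      DerSch.HasTorAmplitudeAt h (a + c) (b + d) F z' := by
    rintro g h rfl hg
    exact hg
  exact key _ _ (Category.id_comp _) h1

theorem isPerfect_Rpush [DCoh.HasRpush i] (hi : MoreMor.IsPerfectMor i) (E : DCoh.D Z)
    (hE : DCoh.IsPerfect E) : DCoh.IsPerfect ((DCoh.Rpush i).obj E) := by
  obtain ⟨e⟩ := Groth.Agent.Dual3RHom.Closed.nonempty_pushD_iso i
  exact PerfTri.Perfect.isPerfect_of_iso (e.app E) (isPerfect_pushD i hi E hE)

end Groth.Agent.PCohD.PushPerfect
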