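import Groth.Agent.PCohD.TorComp
import Groth.Agent.PCohD.PerfAmp
import Groth.Agent.ClUnit.Basic

/-!
# Relative tor amplitude and pushforward along closed immersions
-/

set_option autoImplicit false

universe u

open CategoryTheory CategoryTheory.Limits DerivedCategory MonoidalCategory AlgebraicGeometry
open Groth.Agent.PullStalk.Sky

attribute [local instance] HasDerivedCategory.standard

noncomputable section

namespace Groth.Agent.PCohD.PushTor

open Groth.Agent.DRing.TorAmp

variable {X X' Y : Scheme.{u}} (i : X ⟶ X')

/-- The stalk of a direct image, mapped to the stalk. -/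
def pushStalkLin (M : X.Modules) (z : X) :
    (DerSch.stalkFunctor X' (i z)).obj ((Scheme.Modules.pushforward i).obj M) ⟶
      (ModuleCat.restrictScalars (i.stalkMap z).hom).obj ((DerSch.stalkFunctor X z).obj M) :=
  ModuleCat.ofHom (Y := (ModuleCat.restrictScalars (i.stalkMap z).hom).obj ((DerSch.stalkFunctor X z).obj M))
    { toFun := TopCat.Presheaf.stalkPushforward AddCommGrpCat i.base M.presheaf z
      map_add' := map_add _
      map_smul' := fun r t => by
        obtain ⟨U, hx, s, rfl⟩ := exists_germM_eq ((Scheme.Modules.pushforward i).obj M) (i z) t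
        obtain ⟨V, hxV, a, rfl⟩ := X'.presheaf.exists_germ_eq (x := i z) r
        have hW : i z ∈ U ⊓ V := ⟨hx, hxV⟩
        rw [← X'.presheaf.germ_res_apply (homOfLE (inf_le_right : U ⊓ V ≤ V)) (i z) hW a,
          show germM ((Scheme.Modules.pushforward i).obj M) U (i z) hx s =
              germM ((Scheme.Modules.pushforward i).obj M) (U ⊓ V) (i z) hW
                (((Scheme.Modules.pushforward i).obj M).presheaf.map (homOfLE (inf_le_left : U ⊓ V ≤ U)).op s)
            from (((Scheme.Modules.pushforward i).obj M).presheaf.germ_res_apply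
              (homOfLE (inf_le_left : U ⊓ V ≤ U)) (i z) hW s).symm]
        set a' := X'.presheaf.map (homOfLE (inf_le_right : U ⊓ V ≤ V)).op a
        set s' := ((Scheme.Modules.pushforward i).obj M).presheaf.map (homOfLE (inf_le_left : U ⊓ V ≤ U)).op s
        refine (congrArg (TopCat.Presheaf.stalkPushforward AddCommGrpCat i.base M.presheaf z)
          (germM_smul ((Scheme.Modules.pushforward i).obj M) (U ⊓ V) (i z) hW a' s').symm).trans ?_
        erw [TopCat.Presheaf.stalkPushforward_germ_apply, TopCat.Presheaf.stalkPushforward_germ_apply]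
        refine (germM_smul M (i ⁻¹ᵁ (U ⊓ V)) z hW (i.app (U ⊓ V) a') s').trans ?_
        change _ = i.stalkMap z (X'.presheaf.germ (U ⊓ V) (i z) hW a') • germM M (i ⁻¹ᵁ (U ⊓ V)) z hW s'
        rw [Scheme.Hom.germ_stalkMap_apply] }

theorem bijective_pushStalkLin (hi : Topology.IsInducing i) (M : X.Modules) (z : X) :
    Function.Bijective (pushStalkLin i M z).hom :=
  ClUnit.stalkPushforward_bijective i M hi z

/-- The stalk of a direct image along an embedding. -/
def pushStalkIso (hi : Topology.IsInducing i) (z : X) :
    Scheme.Modules.pushforward i ⋙ DerSch.stalkFunctor X' (i z) ≅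
      DerSch.stalkFunctor X z ⋙ ModuleCat.restrictScalars (i.stalkMap z).hom :=
  NatIso.ofComponents (fun M => (LinearEquiv.ofBijective (pushStalkLin i M z).hom
      (bijective_pushStalkLin i hi M z)).toModuleIso) fun {M N} φ => by
    ext t
    obtain ⟨U, hx, s, rfl⟩ := exists_germM_eq ((Scheme.Modules.pushforward i).obj M) (i z) t
    change TopCat.Presheaf.stalkPushforward AddCommGrpCat i.base N.presheaf z
        ((DerSch.stalkFunctor X' (i z)).map ((Scheme.Modules.pushforward i).map φ) (germM _ U (i z) hx s)) =
      (DerSch.stalkFunctor X z).map φ (TopCat.Presheaf.stalkPushforward AddCommGrpCat i.base M.presheaf z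
        (germM _ U (i z) hx s))
    erw [DerSch.stalkFunctor_map_germ, TopCat.Presheaf.stalkPushforward_germ_apply,
      TopCat.Presheaf.stalkPushforward_germ_apply, DerSch.stalkFunctor_map_germ]
    rfl

/-- The stalk complex of a direct image along an embedding. -/
def pushStalkCxIso (hi : Topology.IsInducing i) (z : X) (F : CochainComplex X.Modules ℤ) :
    (Groth.Agent.KFlat.StalkCx.stCx (i z)).obj
        (((Scheme.Modules.pushforward i).mapHomologicalComplex (ComplexShape.up ℤ)).obj F) ≅
      (DRing.restrictCx (i.stalkMap z).hom).obj ((Groth.Agent.KFlat.StalkCx.stCx z).obj F) :=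
  HomologicalComplex.Hom.isoOfComponents (fun n => (pushStalkIso i hi z).app (F.X n))
    fun a b _ => ((pushStalkIso i hi z).hom.naturality (F.d a b)).symm

/-- A flat algebra in degree zero. -/
theorem torAmp_flat {A B : Type u} [CommRing A] [CommRing B] (θ : A →+* B) (h : θ.Flat) :
    DRing.HasTorAmplitudeIn A 0 0
      (DRing.toD ((DRing.restrictCx θ).obj (Groth.Agent.DRing.SingleTensor.S0 (ModuleCat.of B B)))) := by
  refine ⟨_, fun n hn => (ModuleCat.restrictScalars θ).map_isZero
    (HomologicalComplex.isZero_single_obj_X (ComplexShape.up ℤ) 0 (ModuleCat.of B B) n (by omega)),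
    fun n => ?_, ⟨Iso.refl _⟩⟩
  by_cases hn : n = 0
  · subst hn
    have : Module.Flat A ((ModuleCat.restrictScalars θ).obj (ModuleCat.of B B)) := h
    exact Module.Flat.of_linearEquiv ((ModuleCat.restrictScalars θ).mapIso
      (HomologicalComplex.singleObjXSelf (ComplexShape.up ℤ) 0 (ModuleCat.of B B))).toLinearEquiv
  · have := ModuleCat.subsingleton_of_isZero ((ModuleCat.restrictScalars θ).map_isZero
      (HomologicalComplex.isZero_single_obj_X (ComplexShape.up ℤ) 0 (ModuleCat.of B B) n hn))
    exact inferInstanceAs (Module.Flat A ((ModuleCat.restrictScalars θ).obj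
      ((Groth.Agent.DRing.SingleTensor.S0 (ModuleCat.of B B)).X n)))

/-- From the stalk of the direct image to relative tor amplitude. -/
theorem torAmpAt_of_push (hi : Topology.IsInducing i) (f' : X' ⟶ Y) [Flat f']
    (F : CochainComplex X.Modules ℤ) {a b : ℤ} (z : X)
    (h : DRing.HasTorAmplitudeIn (X'.presheaf.stalk (i z)) a b (PerfAmp.stD (i z)
      (((Scheme.Modules.pushforward i).mapHomologicalComplex (ComplexShape.up ℤ)).obj F))) :
    DerSch.HasTorAmplitudeAt (i ≫ f') a b F z := by
  have h1 := TorComp.torAmp_comp (f'.stalkMap (i z)).hom (i.stalkMap z).hom _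
    (torAmp_of_iso (DerivedCategory.Q.mapIso (pushStalkCxIso i hi z F)) h)
    (torAmp_flat _ (Flat.stalkMap f' (i z)))
  rw [add_zero, add_zero] at h1
  exact torAmp_of_iso (DerivedCategory.Q.mapIso (TorComp.stalkCxCompIso i f' z F).symm) h1

/-- Flat amplitude of the direct image gives relative tor amplitude. -/
theorem hasTorAmplitude_of_flatAmp [IsClosedImmersion i] (f' : X' ⟶ Y) [Flat f']
    (F : CochainComplex X.Modules ℤ) {a b : ℤ}
    (h : DCoh.HasFlatAmplitudeIn a b (DCoh.toD X'
      (((Scheme.Modules.pushforward i).mapHomologicalComplex (ComplexShape.up ℤ)).obj F))) :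
    DerSch.HasTorAmplitude (i ≫ f') a b F := fun z =>
  torAmpAt_of_push i i.isClosedEmbedding.isInducing f' F z (PerfAmp.stalk_torAmp h (i z))

end Groth.Agent.PCohD.PushTor
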