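import Groth.Agent.PCohD.RelDescentA
import Groth.Agent.PCohD.NPCBaseChange
import Groth.Agent.DRing.RelPCTorBC

/-!
# Descent of relative pseudo-coherence along flat covers of the base
-/

set_option autoImplicit false

universe u

open CategoryTheory CategoryTheory.Limits DerivedCategory
open scoped TensorProduct
attribute [local instance] HasDerivedCategory.standard

noncomputable section

namespace Groth.Agent.PCohD.RelDescent

open Groth.Agent.DRing Groth.Agent.DRing.PC Groth.Agent.DRing.RelPC Groth.Agent.DRing.DBasic TensorAmp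

/-- A presentation base changes along a pushout square to a presentation, with a cocartesian square. -/
theorem exists_lift_presentation {A B A' B' : Type u} [CommRing A] [CommRing B] [CommRing A'] [CommRing B']
    [Algebra A B] [Algebra A A'] [Algebra B B'] [Algebra A' B'] [Algebra A B'] [IsScalarTower A B B']
    [IsScalarTower A A' B'] [Algebra.IsPushout A B A' B'] {n : ℕ} (α : MvPolynomial (Fin n) A →ₐ[A] B)
    (hα : Function.Surjective α) :
    ∃ (α' : MvPolynomial (Fin n) A' →ₐ[A'] B') (_ : Function.Surjective α')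
      (hsq : ∀ p, α'.toRingHom (MvPolynomial.map (algebraMap A A') p) = algebraMap B B' (α.toRingHom p)),
      ∀ M, Function.Bijective
        (sqHom α.toRingHom (MvPolynomial.map (algebraMap A A')) (algebraMap B B') α'.toRingHom hsq M).hom := by
  let α' : MvPolynomial (Fin n) A' →ₐ[A'] B' :=
    MvPolynomial.aeval fun i => algebraMap B B' (α (MvPolynomial.X i))
  let : Algebra (MvPolynomial (Fin n) A) B := α.toRingHom.toAlgebra
  let : Algebra (MvPolynomial (Fin n) A) B' := ((algebraMap B B').comp α.toRingHom).toAlgebra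
  let : Algebra (MvPolynomial (Fin n) A') B' := α'.toRingHom.toAlgebra
  let : Algebra (MvPolynomial (Fin n) A) (MvPolynomial (Fin n) A') := MvPolynomial.algebraMvPolynomial
  haveI : IsScalarTower (MvPolynomial (Fin n) A) B B' := IsScalarTower.of_algebraMap_eq fun _ => rfl
  haveI : IsScalarTower A (MvPolynomial (Fin n) A) B :=
    IsScalarTower.of_algebraMap_eq fun r => (α.commutes r).symm
  have hsq : ∀ p, α' (MvPolynomial.map (algebraMap A A') p) = algebraMap B B' (α p) := fun p => by
    induction p using MvPolynomial.induction_on with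
    | C r =>
      rw [MvPolynomial.map_C, MvPolynomial.algHom_C, ← MvPolynomial.algebraMap_eq, α.commutes,
        ← IsScalarTower.algebraMap_apply, ← IsScalarTower.algebraMap_apply]
    | add p q hp hq => simp only [map_add, hp, hq]
    | mul_X p i hp => simp only [map_mul, hp, MvPolynomial.map_X, α', MvPolynomial.aeval_X]
  haveI : IsScalarTower (MvPolynomial (Fin n) A) (MvPolynomial (Fin n) A') B' :=
    IsScalarTower.of_algebraMap_eq fun p => (hsq p).symm
  haveI : IsScalarTower A' (MvPolynomial (Fin n) A') B' :=
    IsScalarTower.of_algebraMap_eq fun r => (α'.commutes r).symm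
  haveI : IsScalarTower A (MvPolynomial (Fin n) A) B' := IsScalarTower.of_algebraMap_eq fun r => by
    change algebraMap A B' r = algebraMap B B' (α (algebraMap A (MvPolynomial (Fin n) A) r))
    rw [α.commutes, ← IsScalarTower.algebraMap_apply]
  haveI : IsScalarTower A (MvPolynomial (Fin n) A') B' := IsScalarTower.of_algebraMap_eq fun r => by
    rw [IsScalarTower.algebraMap_apply A A' B', IsScalarTower.algebraMap_apply A A' (MvPolynomial (Fin n) A'),
      ← IsScalarTower.algebraMap_apply A' (MvPolynomial (Fin n) A') B']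
  haveI hpo : Algebra.IsPushout (MvPolynomial (Fin n) A) B (MvPolynomial (Fin n) A') B' :=
    (Algebra.IsPushout.comp_iff (R := A) (S := MvPolynomial (Fin n) A) (R' := A')
      (S' := MvPolynomial (Fin n) A') (T := B) (T' := B')).1 ‹_›
  refine ⟨α', ?_, hsq, fun M => ?_⟩
  · intro y
    haveI := hpo.symm
    induction y using (Algebra.IsPushout.out (R := MvPolynomial (Fin n) A) (S := B)
        (R' := MvPolynomial (Fin n) A') (S' := B')).inductionOn with
    | zero => exact ⟨0, map_zero _⟩
    | tmul p' => exact ⟨p', rfl⟩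
    | smul a y hy =>
      obtain ⟨p, rfl⟩ := hα a
      obtain ⟨q, rfl⟩ := hy
      refine ⟨MvPolynomial.map (algebraMap A A') p * q, ?_⟩
      rw [map_mul, hsq, Algebra.smul_def]
    | add y z hy hz =>
      obtain ⟨p, rfl⟩ := hy; obtain ⟨q, rfl⟩ := hz
      exact ⟨p + q, map_add _ _ _⟩
  · haveI : Algebra.IsPushout (MvPolynomial (Fin n) A) (MvPolynomial (Fin n) A') B B' := hpo.symm
    exact bijective_sqHom α.toRingHom (MvPolynomial.map (algebraMap A A')) (algebraMap B B') α'.toRingHom hsq
      inferInstance inferInstance inferInstance inferInstance rfl (Algebra.algebra_ext _ _ fun _ => rfl)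
      (Algebra.algebra_ext _ _ fun _ => rfl) rfl M

/-- A flat family of algebras covering the base detects zero, after adjoining variables. -/
theorem detects_map {ι : Type} {A : Type u} [CommRing A] {A' : ι → Type u} [∀ i, CommRing (A' i)]
    [∀ i, Algebra A (A' i)] [∀ i, Module.Flat A (A' i)]
    (hp : ∀ p : PrimeSpectrum A, ∃ i, p ∈ Set.range (PrimeSpectrum.comap (algebraMap A (A' i)))) (n : ℕ) :
    PCDescent.Detects fun i => MvPolynomial.map (σ := Fin n) (algebraMap A (A' i)) := by
  intro M hM
  let _ : Module A M := Module.compHom M (algebraMap A (MvPolynomial (Fin n) A))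
  haveI : IsScalarTower A (MvPolynomial (Fin n) A) M := IsScalarTower.of_algebraMap_smul fun _ _ => rfl
  exact detects_of_primes (fun i => algebraMap A (A' i))
    (fun i => RingHom.flat_algebraMap_iff.2 inferInstance) hp (ModuleCat.of A M) fun i => by
      let := MvPolynomial.algebraMvPolynomial (σ := Fin n) (R := A) (S := A' i)
      have key : ∀ j : Algebra (MvPolynomial (Fin n) A) (MvPolynomial (Fin n) (A' i)),
          j = MvPolynomial.algebraMvPolynomial →
          (letI := j; Subsingleton (MvPolynomial (Fin n) (A' i) ⊗[MvPolynomial (Fin n) A] M)) →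
          Subsingleton (MvPolynomial (Fin n) (A' i) ⊗[MvPolynomial (Fin n) A] M) := by
        rintro j rfl h
        exact h
      have := key _ (Algebra.algebra_ext _ _ fun _ => rfl) (hM i)
      have e := Algebra.IsPushout.cancelBaseChange A (A' i) (MvPolynomial (Fin n) A)
        (MvPolynomial (Fin n) (A' i)) M
      have key' : ∀ j : Algebra A (A' i), j = ‹∀ i, Algebra A (A' i)› i →
          (letI := j; Subsingleton (A' i ⊗[A] M)) := by
        rintro j rfl
        exact e.symm.toEquiv.subsingleton
      exact key' (algebraMap A (A' i)).toAlgebra (Algebra.algebra_ext _ _ fun _ => rfl)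

/-- Descent of relative pseudo-coherence along finitely many flat algebras covering the base. -/
theorem isRel_of_base_family {ι : Type} [Finite ι] {A B : Type u} [CommRing A] [CommRing B] [Algebra A B]
    [Algebra.FiniteType A B] {A' B' : ι → Type u}
    [∀ i, CommRing (A' i)] [∀ i, CommRing (B' i)] [∀ i, Algebra A (A' i)] [∀ i, Algebra (A' i) (B' i)]
    [∀ i, Algebra B (B' i)] [∀ i, Algebra A (B' i)] [∀ i, IsScalarTower A (A' i) (B' i)]
    [∀ i, IsScalarTower A B (B' i)] [∀ i, Algebra.IsPushout A B (A' i) (B' i)]
    [∀ i, Module.Flat A (A' i)]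
    (hp : ∀ p : PrimeSpectrum A, ∃ i, p ∈ Set.range (PrimeSpectrum.comap (algebraMap A (A' i))))
    (φB : ∀ i, B →+* B' i) (hφB : ∀ i, φB i = algebraMap B (B' i)) [∀ i, DRing.HasLBaseChange (φB i)]
    (K : Dual.D B) (m : ℤ)
    (h : ∀ i, DerCA.IsRelPseudoCoherent (A' i) (B' i) m ((DRing.LBaseChange (φB i)).obj K)) :
    DerCA.IsRelPseudoCoherent A B m K := by
  obtain rfl : φB = fun i => algebraMap B (B' i) := funext hφB
  have := Fintype.ofFinite ι
  obtain ⟨n, α, hα⟩ := RelPC.exists_presentation A B
  obtain ⟨X, hX, -, ⟨e⟩⟩ := exists_kproj_iso K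
  have hψ : ∀ i, (MvPolynomial.map (σ := Fin n) (algebraMap A (A' i))).Flat := fun i => by
    let := MvPolynomial.algebraMvPolynomial (σ := Fin n) (R := A) (S := A' i)
    exact RingHom.flat_algebraMap_iff.2 (FlatMor.PC.flat_mvPolynomial n)
  refine ⟨n, α, hα, pc_of_iso (restrictDIso α.toRingHom e) ?_⟩
  refine PCDescent.pc_of_detects (B' := fun i => MvPolynomial (Fin n) (A' i)) hψ (detects_map hp n) _ m
    fun i => ?_
  obtain ⟨α', hα', hsq, hb⟩ := exists_lift_presentation (A' := A' i) (B' := B' i) α hα
  have := LTensor.hasLBaseChange (algebraMap B (B' i))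
  refine pc_of_iso ?_ ((isRel_iff α' hα' _ m).1 (h i))
  exact (DRing.restrictD α'.toRingHom).mapIso
      (Perfect.baseChangeIsoOfRep (algebraMap B (B' i)) (KFlat.isKFlat_of_isKProjective X) e).symm ≪≫
    (restrictDIso α'.toRingHom (Iso.refl _)).symm ≪≫
    (DerivedCategory.Q.mapIso ((NatIso.mapHomologicalComplex (sqIso α.toRingHom _ _ _ hsq hb)
      (ComplexShape.up ℤ)).app X)).symm

end Groth.Agent.PCohD.RelDescent
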