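import Groth.Agent.PCohD.RelCrit
import Mathlib.Algebra.Homology.DerivedCategory.TStructure
import Mathlib.Algebra.Homology.DerivedCategory.FullyFaithful

/-!
# Calculus of relative pseudo-coherence
-/

set_option autoImplicit false

universe u

open CategoryTheory Limits AlgebraicGeometry Pretriangulated
open Groth.Agent.KFlat.TildePC (Appr appr_of_isIso)
attribute [local instance] HasDerivedCategory.standard

noncomputable section

namespace Groth.Agent.PCohD

variable {X S : Scheme.{u}}

/-- A complex bounded above whose terms are pseudo-coherent in the shifted degrees. -/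
theorem pc_of_terms' (E : CochainComplex X.Modules ℤ) (b m : ℤ) (hv : ∀ i, b < i → IsZero (E.X i))
    (h : ∀ q, DCoh.IsPseudoCoherentD (m - q) (DCoh.inD X (E.X q))) :
    DCoh.IsPseudoCoherentD m (DCoh.toD X E) := by
  have key : ∀ (k : ℕ) (n : ℤ), b + 1 ≤ n + k →
      DCoh.IsPseudoCoherentD m (DCoh.toD X (KFlat.ge E n)) := by
    intro k
    induction k with
    | zero =>
      intro n hn
      refine pc_of_isZero (DerivedCategory.Q.map_isZero ?_)
      rw [IsZero.iff_id_eq_zero]
      refine HomologicalComplex.hom_ext _ _ fun q => ?_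
      refine (show IsZero ((KFlat.ge E n).X q) from ?_).eq_of_src _ _
      by_cases hq : q < n
      · exact KFlat.isZero_ge_X E hq
      · exact (hv q (by omega)).of_iso
          { hom := KFlat.geι E n q
            inv := KFlat.geπ E n q
            hom_inv_id := KFlat.geι_π E n q
            inv_hom_id := KFlat.geπ_ι E (by omega) }
    | succ k ih =>
      intro n hn
      let S := KFlat.geSeq E n
      have hS : S.ShortExact := HomologicalComplex.shortExact_of_degreewise_shortExact _
        fun q => (KFlat.geSplitting E n q).shortExact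
      refine pc₂ _ (DerivedCategory.triangleOfSES_distinguished hS) (ih (n + 1) (by omega)) ?_
      change DCoh.IsPseudoCoherentD m
        (DerivedCategory.Q.obj ((HomologicalComplex.single X.Modules _ n).obj (E.X n)))
      refine pc_of_iso ((DerivedCategory.singleFunctorIsoCompQ X.Modules n).app (E.X n)) ?_
      refine pc_of_iso (((DerivedCategory.singleFunctors X.Modules).shiftIso (-n) n 0 (by omega)).app
        (E.X n)) ?_
      have h' := pc_shift (h n) (-n)
      rwa [show m - n - -n = m by omega] at h'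
  exact pc_of_appr _ (appr_geToSelf E m) (key (b + 1 - m).toNat m (by omega))

/-- An object bounded above whose cohomology is pseudo-coherent in the shifted degrees. -/
theorem pc_of_homology (m : ℤ) (d : ℕ) : ∀ (b : ℤ) (K : DCoh.D X) [K.IsLE b], b + 1 - d ≤ m →
    (∀ i, DCoh.IsPseudoCoherentD (m - i)
      (DCoh.inD X ((DerivedCategory.homologyFunctor X.Modules i).obj K))) →
    DCoh.IsPseudoCoherentD m K := by
  induction d with
  | zero => exact fun b K _ hm _ => pc_of_vanish fun i hi => K.isZero_of_isLE b i (by omega)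
  | succ d ih =>
    intro b K _ hm h
    obtain ⟨A, Z, hA, hZ, f, g, δ, hT⟩ :=
      DerivedCategory.TStructure.t.exists_triangle K (b - 1) b (by omega)
    have hAle : A.IsLE (b - 1) := ⟨hA⟩
    have hZge : Z.IsGE b := ⟨hZ⟩
    have hAiso : ∀ i, i ≤ b - 1 → IsIso ((DerivedCategory.homologyFunctor X.Modules i).map f) := fun i hi => by
      have z1 : IsZero ((DerivedCategory.homologyFunctor X.Modules (i - 1)).obj Z) :=
        Z.isZero_of_isGE b _ (by omega)
      have z2 : IsZero ((DerivedCategory.homologyFunctor X.Modules i).obj Z) :=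
        Z.isZero_of_isGE b _ (by omega)
      have : Mono ((DerivedCategory.homologyFunctor X.Modules i).map f) :=
        (DerivedCategory.HomologySequence.mono_homologyMap_mor₁_iff _ hT (i - 1) i (by omega)).mpr
          (z1.eq_of_src _ _)
      have : Epi ((DerivedCategory.homologyFunctor X.Modules i).map f) :=
        (DerivedCategory.HomologySequence.epi_homologyMap_mor₁_iff _ hT i).mpr (z2.eq_of_tgt _ _)
      exact isIso_of_mono_of_epi _
    have hZiso : ∀ i, b ≤ i → IsIso ((DerivedCategory.homologyFunctor X.Modules i).map g) := fun i hi => by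
      have z1 : IsZero ((DerivedCategory.homologyFunctor X.Modules (i + 1)).obj A) :=
        A.isZero_of_isLE (b - 1) _ (by omega)
      have z2 : IsZero ((DerivedCategory.homologyFunctor X.Modules i).obj A) :=
        A.isZero_of_isLE (b - 1) _ (by omega)
      have : Epi ((DerivedCategory.homologyFunctor X.Modules i).map g) :=
        (DerivedCategory.HomologySequence.epi_homologyMap_mor₂_iff _ hT i (i + 1) rfl).mpr
          (z1.eq_of_tgt _ _)
      have : Mono ((DerivedCategory.homologyFunctor X.Modules i).map g) :=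
        (DerivedCategory.HomologySequence.mono_homologyMap_mor₂_iff _ hT i).mpr (z2.eq_of_src _ _)
      exact isIso_of_mono_of_epi _
    have hZle : Z.IsLE b := (DerivedCategory.isLE_iff Z b).mpr fun i hi => by
      have := hZiso i hi.le
      exact (K.isZero_of_isLE b i hi).of_iso
        (asIso ((DerivedCategory.homologyFunctor X.Modules i).map g)).symm
    refine pc₂ _ hT (ih (b - 1) A (by omega) fun i => ?_) ?_
    · by_cases hi : i ≤ b - 1
      · have := hAiso i hi
        exact pc_of_iso ((DerivedCategory.singleFunctor X.Modules 0).mapIso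
          (asIso ((DerivedCategory.homologyFunctor X.Modules i).map f)).symm) (h i)
      · exact pc_of_isZero (Functor.map_isZero _ (A.isZero_of_isLE (b - 1) i (by omega)))
    · obtain ⟨M, ⟨e⟩⟩ := DerivedCategory.exists_iso_singleFunctor_obj_of_isGE_of_isLE Z b
      have := hZiso b le_rfl
      let eM : (DerivedCategory.homologyFunctor X.Modules b).obj K ≅ M :=
        asIso ((DerivedCategory.homologyFunctor X.Modules b).map g) ≪≫
          (DerivedCategory.homologyFunctor X.Modules b).mapIso e ≪≫
          (DerivedCategory.singleFunctorCompHomologyFunctorIso X.Modules b).app M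
      refine pc_of_iso e.symm ?_
      refine pc_of_iso (((DerivedCategory.singleFunctors X.Modules).shiftIso (-b) b 0 (by omega)).app M) ?_
      have h' := pc_shift (pc_of_iso ((DerivedCategory.singleFunctor X.Modules 0).mapIso eM) (h b)) (-b)
      rwa [show m - b - -b = m by omega] at h'

variable {U P : Scheme.{u}} {m : ℤ}

theorem test_triangle₃ (o : U ⟶ X) [IsOpenImmersion o] (i : U ⟶ P) [IsClosedImmersion i]
    (T : Triangle (DCoh.D X)) (hT : T ∈ distinguishedTriangles)
    (h₁ : Test (m + 1) o i T.obj₁) (h₂ : Test m o i T.obj₂) : Test m o i T.obj₃ :=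
  pc₃ _ ((pushD i).map_distinguished _ ((DCoh.restrictD o).map_distinguished T hT)) h₁ h₂

theorem test_triangle₂ (o : U ⟶ X) [IsOpenImmersion o] (i : U ⟶ P) [IsClosedImmersion i]
    (T : Triangle (DCoh.D X)) (hT : T ∈ distinguishedTriangles)
    (h₁ : Test m o i T.obj₁) (h₃ : Test m o i T.obj₃) : Test m o i T.obj₂ :=
  pc₂ _ ((pushD i).map_distinguished _ ((DCoh.restrictD o).map_distinguished T hT)) h₁ h₃

theorem test_triangle₁ (o : U ⟶ X) [IsOpenImmersion o] (i : U ⟶ P) [IsClosedImmersion i]
    (T : Triangle (DCoh.D X)) (hT : T ∈ distinguishedTriangles)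
    (h₂ : Test (m + 1) o i T.obj₂) (h₃ : Test m o i T.obj₃) : Test (m + 1) o i T.obj₁ :=
  pc₁ _ ((pushD i).map_distinguished _ ((DCoh.restrictD o).map_distinguished T hT)) h₂ h₃

theorem test_biprod (o : U ⟶ X) [IsOpenImmersion o] (i : U ⟶ P) [IsClosedImmersion i]
    {E K : DCoh.D X} : Test m o i (E ⊞ K) ↔ Test m o i E ∧ Test m o i K := by
  have := preservesBinaryBiproducts_of_preservesBiproducts (DCoh.restrictD o)
  have := preservesBinaryBiproducts_of_preservesBiproducts (pushD i)
  exact (pc_iff_of_iso ((pushD i).mapIso ((DCoh.restrictD o).mapBiprod E K) ≪≫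
    (pushD i).mapBiprod _ _)).trans pc_biprod_iff

/-- The tested object of a module in degree zero. -/
def testInD (o : U ⟶ X) [IsOpenImmersion o] (i : U ⟶ P) [IsClosedImmersion i] (M : X.Modules) :
    (pushD i).obj ((DCoh.restrictD o).obj (DCoh.inD X M)) ≅
      DCoh.inD P ((Scheme.Modules.pushforward i).obj (M.restrict o)) :=
  (pushD i).mapIso (PerfTri.Regular.restrInD o M) ≪≫
    ((Scheme.Modules.pushforward i).mapDerivedCategorySingleFunctor 0).app _

/-- The cohomology of the tested object. -/
def testHomology (o : U ⟶ X) [IsOpenImmersion o] (i : U ⟶ P) [IsClosedImmersion i] (K : DCoh.D X)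
    (q : ℤ) : (DerivedCategory.homologyFunctor P.Modules q).obj ((pushD i).obj ((DCoh.restrictD o).obj K)) ≅
      (Scheme.Modules.pushforward i).obj
        (((DerivedCategory.homologyFunctor X.Modules q).obj K).restrict o) :=
  pushDHomology i _ q ≪≫ (Scheme.Modules.pushforward i).mapIso
    ((Groth.Agent.KFlat.MapHomology.iso (Scheme.Modules.restrictFunctor o) q).app K)

theorem test_of_terms (o : U ⟶ X) [IsOpenImmersion o] (i : U ⟶ P) [IsClosedImmersion i]
    (F : CochainComplex X.Modules ℤ) (b : ℤ) (hb : ∀ q, b < q → IsZero (F.X q))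
    (h : ∀ q, Test (m - q) o i (DCoh.inD X (F.X q))) : Test m o i (DCoh.toD X F) := by
  refine pc_of_iso ((pushD i).mapIso (PerfTri.Perfect.restrQ o F) ≪≫
    (Scheme.Modules.pushforward i).mapDerivedCategoryFactors.app _).symm ?_
  exact pc_of_terms' _ b m
    (fun q hq => (Scheme.Modules.pushforward i).map_isZero ((Scheme.Modules.restrictFunctor o).map_isZero (hb q hq)))
    fun q => pc_of_iso (testInD o i (F.X q)) (h q)

theorem test_of_homology (o : U ⟶ X) [IsOpenImmersion o] (i : U ⟶ P) [IsClosedImmersion i]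
    (K : DCoh.D X) (b : ℤ) [K.IsLE b]
    (h : ∀ q, Test (m - q) o i (DCoh.inD X ((DerivedCategory.homologyFunctor X.Modules q).obj K))) :
    Test m o i K := by
  have : ((pushD i).obj ((DCoh.restrictD o).obj K)).IsLE b :=
    (DerivedCategory.isLE_iff _ b).mpr fun q hq =>
      ((Scheme.Modules.pushforward i).map_isZero ((Scheme.Modules.restrictFunctor o).map_isZero
        (K.isZero_of_isLE b q hq))).of_iso (testHomology o i K q)
  exact pc_of_homology m (b + 1 - m).toNat b _ (by omega) fun q =>
    pc_of_iso (testInD o i _ ≪≫ (DerivedCategory.singleFunctor _ 0).mapIso (testHomology o i K q).symm)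
      (h q)

variable {f : X ⟶ S}

/-- The test on every chart. -/
theorem rel_iff_tc [LocallyOfFiniteType f] (K : DCoh.D X) :
    DerSch.IsPseudoCoherentRel f m K ↔
      ∀ (U : X.affineOpens) (V : S.affineOpens) (h : (U : X.Opens) ≤ f ⁻¹ᵁ (V : S.Opens)) (n : ℕ)
        (φ : MvPolynomial (Fin n) Γ(S, (V : S.Opens)) →+* Γ(X, (U : X.Opens))),
        DerSch.IsChart f (U : X.Opens) (V : S.Opens) h φ → TC m K U φ := by
  rw [rel_iff]
  refine ⟨fun h U V hUV n φ hφ => (h U V hUV).tc U.2 hUV φ hφ, fun h U V hUV => ?_⟩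
  obtain ⟨n, φ, hφ⟩ := exists_chart U.2 V.2 hUV
  exact ⟨hUV, n, φ, hφ, h U V hUV n φ hφ⟩

theorem rel_biprod {E K : DCoh.D X} (h : DerSch.IsPseudoCoherentRel f m (E ⊞ K)) :
    DerSch.IsPseudoCoherentRel f m E ∧ DerSch.IsPseudoCoherentRel f m K := by
  have := h.1
  rw [rel_iff_tc] at h
  exact ⟨(rel_iff_tc E).2 fun U V hUV n φ hφ => @fun _ => ((test_biprod _ _).1 (h U V hUV n φ hφ)).1,
    (rel_iff_tc K).2 fun U V hUV n φ hφ => @fun _ => ((test_biprod _ _).1 (h U V hUV n φ hφ)).2⟩

theorem rel₃ (T : Triangle (DCoh.D X)) (hT : T ∈ distinguishedTriangles)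
    (h₁ : DerSch.IsPseudoCoherentRel f (m + 1) T.obj₁) (h₂ : DerSch.IsPseudoCoherentRel f m T.obj₂) :
    DerSch.IsPseudoCoherentRel f m T.obj₃ := by
  have := h₁.1
  rw [rel_iff_tc] at h₁ h₂ ⊢
  exact fun U V hUV n φ hφ => @fun _ =>
    test_triangle₃ _ _ T hT (h₁ U V hUV n φ hφ) (h₂ U V hUV n φ hφ)

theorem rel₂ (T : Triangle (DCoh.D X)) (hT : T ∈ distinguishedTriangles)
    (h₁ : DerSch.IsPseudoCoherentRel f m T.obj₁) (h₃ : DerSch.IsPseudoCoherentRel f m T.obj₃) :
    DerSch.IsPseudoCoherentRel f m T.obj₂ := by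
  have := h₁.1
  rw [rel_iff_tc] at h₁ h₃ ⊢
  exact fun U V hUV n φ hφ => @fun _ =>
    test_triangle₂ _ _ T hT (h₁ U V hUV n φ hφ) (h₃ U V hUV n φ hφ)

theorem rel₁ (T : Triangle (DCoh.D X)) (hT : T ∈ distinguishedTriangles)
    (h₂ : DerSch.IsPseudoCoherentRel f (m + 1) T.obj₂) (h₃ : DerSch.IsPseudoCoherentRel f m T.obj₃) :
    DerSch.IsPseudoCoherentRel f (m + 1) T.obj₁ := by
  have := h₃.1
  rw [rel_iff_tc] at h₂ h₃ ⊢
  exact fun U V hUV n φ hφ => @fun _ =>
    test_triangle₁ _ _ T hT (h₂ U V hUV n φ hφ) (h₃ U V hUV n φ hφ)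

theorem rel_of_terms (F : CochainComplex X.Modules ℤ) (b : ℤ) (hb : ∀ q, b < q → IsZero (F.X q))
    (h : ∀ q, DerSch.IsPseudoCoherentRel f (m - q) (DCoh.inD X (F.X q))) :
    DerSch.IsPseudoCoherentRel f m (DCoh.toD X F) := by
  have := (h 0).1
  rw [rel_iff_tc]
  exact fun U V hUV n φ hφ => @fun _ =>
    test_of_terms _ _ F b hb fun q => (rel_iff_tc _).1 (h q) U V hUV n φ hφ

theorem rel_of_homology (K : DCoh.D X) (b : ℤ) [K.IsLE b]
    (h : ∀ q, DerSch.IsPseudoCoherentRel f (m - q) (DCoh.inD X (DCoh.HD K q))) :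
    DerSch.IsPseudoCoherentRel f m K := by
  have := (h 0).1
  rw [rel_iff_tc]
  exact fun U V hUV n φ hφ => @fun _ =>
    test_of_homology _ _ K b fun q => (rel_iff_tc _).1 (h q) U V hUV n φ hφ

end Groth.Agent.PCohD
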