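import Groth.Agent.PCohD.RelQcoh
import Groth.Agent.PCohD.RelCalc
import Groth.Agent.PCohD.RelLpull
import Groth.Agent.PCohD.PushFT
import Groth.Agent.DRing.RelPC
import Groth.Agent.RelFP.Scheme
import Groth.Agent.QCoh.FiniteType

/-!
# Relative pseudo-coherence of a module in degree zero
-/

set_option autoImplicit false
set_option backward.isDefEq.respectTransparency.types false

universe u

open CategoryTheory Limits AlgebraicGeometry
attribute [local instance] HasDerivedCategory.standard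

noncomputable section

namespace Groth.Agent.PCohD

open FTFP

variable {X S : Scheme.{u}} {f : X ⟶ S} (M : X.Modules)

theorem test_inD_iff {m : ℤ} {U P : Scheme.{u}} (o : U ⟶ X) [IsOpenImmersion o] (i : U ⟶ P)
    [IsClosedImmersion i] :
    Test m o i (DCoh.inD X M) ↔
      DCoh.IsPseudoCoherentD m (DCoh.inD P ((Scheme.Modules.pushforward i).obj (M.restrict o))) :=
  ⟨fun h => pc_of_iso (testInD o i M) h, fun h => pc_of_iso (testInD o i M).symm h⟩

theorem rel_inD_of_pos [LocallyOfFiniteType f] {m : ℤ} (hm : 0 < m) :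
    DerSch.IsPseudoCoherentRel f m (DCoh.inD X M) := by
  refine (rel_iff_tc _).2 fun U V h n φ hφ => @fun _ => ?_
  exact (test_inD_iff M _ _).2 (pc_of_vanish fun i hi => isZero_inD _ (by omega))

theorem isFT_restrict_of_isFT {U : Scheme.{u}} (j : U ⟶ X) [IsOpenImmersion j] (hM : CohB1.IsFT M) :
    CohB1.IsFT (M.restrict j) :=
  (pc_zero_iff _).1 (pc_of_iso (PerfTri.Regular.restrInD j M) (pc_restrict j ((pc_zero_iff M).2 hM)))

theorem rel_inD_zero_iff [LocallyOfFiniteType f] :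
    DerSch.IsPseudoCoherentRel f 0 (DCoh.inD X M) ↔ CohB1.IsFT M := by
  constructor
  · intro h
    refine (pc_zero_iff M).1 (pc_of_local fun x => ?_)
    obtain ⟨V, hV, hxV, -⟩ := exists_isAffineOpen_mem_and_subset (x := f x) (U := ⊤) trivial
    obtain ⟨U, hU, hxU, hUV⟩ := exists_isAffineOpen_mem_and_subset (x := x) (U := f ⁻¹ᵁ V) hxV
    obtain ⟨n, φ, hφ⟩ := exists_chart hU hV hUV
    have := isClosedImmersion_cIm hU hφ.1
    have hT := (tc_iff φ).1 ((rel_iff_tc _).1 h ⟨U, hU⟩ ⟨V, hV⟩ hUV n φ hφ)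
    refine ⟨U, U.ι, inferInstance, ⟨⟨x, hxU⟩, rfl⟩, pc_of_iso (PerfTri.Regular.restrInD U.ι M).symm ?_⟩
    exact (pc_zero_iff _).2 ((isFT_push_iff (cIm U φ) _).1 ((pc_zero_iff _).1 ((test_inD_iff M _ _).1 hT)))
  · intro h
    refine (rel_iff_tc _).2 fun U V hUV n φ hφ => @fun _ => (test_inD_iff M _ _).2 ?_
    exact (pc_zero_iff _).2 ((isFT_push_iff _ _).2 (isFT_restrict_of_isFT M _ h))

theorem nonempty_module_sections [M.IsQuasicoherent] {U : X.Opens} (hU : IsAffineOpen U)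
    [PreservesFiniteLimits (tilde.functor Γ(X, U))] :
    Nonempty ((DCoh.tildeD Γ(X, U)).obj (Dual.inD Γ(X, U) Γ(M, U)) ≅
      (pushD hU.isoSpec.hom).obj ((DCoh.restrictD U.ι).obj (DCoh.inD X M))) := by
  have : (QCoh.toSpec hU M).IsQuasicoherent := Scheme.Modules.isQuasicoherent_restrictFunctor _ M
  have := Scheme.Modules.isIso_fromTildeΓ_of_isQuasicoherent (QCoh.toSpec hU M)
  let e₁ : (Scheme.Modules.pushforward hU.isoSpec.hom).obj (M.restrict U.ι) ≅
      (tilde.functor Γ(X, U)).obj (ModuleCat.of Γ(X, U) Γ(M, U)) :=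
    (pushRestrictInv hU.isoSpec).app _ ≪≫
      ((Scheme.Modules.restrictFunctorComp hU.isoSpec.inv U.ι).symm ≪≫
        Scheme.Modules.restrictFunctorCongr (show hU.isoSpec.inv ≫ U.ι = hU.fromSpec from rfl)).app M ≪≫
      (asIso (QCoh.toSpec hU M).fromTildeΓ).symm ≪≫
      (tilde.functor Γ(X, U)).mapIso (QCoh.toSpecTopLinearEquiv hU M).toModuleIso
  exact ⟨((tilde.functor Γ(X, U)).mapDerivedCategorySingleFunctor 0).app _ ≪≫
    (DerivedCategory.singleFunctor _ 0).mapIso e₁.symm ≪≫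
    (testInD U.ι hU.isoSpec.hom M).symm⟩

theorem rel_inD_negOne_iff [LocallyOfFiniteType f] :
    DerSch.IsPseudoCoherentRel f (-1) (DCoh.inD X M) ↔ (Coh.IsQCoh M ∧ Flatn.IsRelFP f M) := by
  have key : ∀ (_ : M.IsQuasicoherent) (U : X.affineOpens) (V : S.affineOpens)
      (h : (U : X.Opens) ≤ f ⁻¹ᵁ (V : S.Opens)),
      P f (-1) (DCoh.inD X M) U V ↔ Flatn.RelFPOn f M U V h := by
    intro _ U V h
    have := KFlat.TildeExact.preservesFiniteLimits_tilde Γ(X, (U : X.Opens))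
    obtain ⟨e⟩ := nonempty_module_sections M U.2
    rw [P_iff_isRel U.2 V.2 h _ e, Flatn.relFPOn_iff]
    let _ := (f.appLE (V : S.Opens) (U : X.Opens) h).hom.toAlgebra
    have : Algebra.FiniteType Γ(S, (V : S.Opens)) Γ(X, (U : X.Opens)) := f.finiteType_appLE V.2 U.2 h
    constructor
    · intro hr
      obtain ⟨n, α, hα⟩ := Algebra.FiniteType.iff_quotient_mvPolynomial''.1 this
      exact ⟨n, α, hα, ((DRing.RelPC.relPCModule_iff α hα _).2).1 hr⟩
    · rintro ⟨n, α, hα, hr⟩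
      exact ((DRing.RelPC.relPCModule_iff α hα _).2).2 hr
  constructor
  · intro h
    have hq : M.IsQuasicoherent :=
      @Groth.Agent.QCoh.isQuasicoherent_of_iso _ _ _ (hInD M) (rel_isQCoh h 0 (by omega))
    exact ⟨hq, (RelFP.isRelFP_iff_forall f M).2 fun U V hUV => (key hq U V hUV).1 (rel_iff.1 h U V hUV)⟩
  · rintro ⟨hq, h⟩
    have : M.IsQuasicoherent := hq
    exact rel_iff.2 fun U V hUV => (key hq U V hUV).2 ((RelFP.isRelFP_iff_forall f M).1 h U V hUV)

end Groth.Agent.PCohD
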