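import Groth.Agent.PCohD.NPC
import Groth.Agent.PCohD.RelQcoh
import Groth.Agent.PCohD.RelModule
import Groth.Agent.PCohD.Coherent

/-!
# Relative pseudo-coherence over a locally Noetherian base is coherence
-/

set_option autoImplicit false
set_option backward.isDefEq.respectTransparency.types false

universe u

open CategoryTheory Limits AlgebraicGeometry
open Groth.Agent.PCohD.FTFP (hRestr pc_zero_iff)
attribute [local instance] HasDerivedCategory.standard

noncomputable section

namespace Groth.Agent.PCohD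

variable {X S : Scheme.{u}} {f : X ⟶ S}

/-- A coherent module is pseudo-coherent relative to a morphism of finite type, over a Noetherian base. -/
theorem rel_inD_of_isCoh [IsLocallyNoetherian S] [LocallyOfFiniteType f] (M : X.Modules) (hM : Coh.IsCoh M)
    (m : ℤ) : DerSch.IsPseudoCoherentRel f m (DCoh.inD X M) := by
  have : M.IsQuasicoherent := hM.1
  have h0 : DerSch.IsPseudoCoherentRel f 0 (DCoh.inD X M) := (rel_inD_zero_iff M).2 hM.2
  refine rel_iff.2 fun U V hUV => ?_
  have := KFlat.TildeExact.preservesFiniteLimits_tilde Γ(X, (U : X.Opens))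
  obtain ⟨e⟩ := nonempty_module_sections M U.2
  have : IsNoetherianRing Γ(S, (V : S.Opens)) := IsLocallyNoetherian.component_noetherian V
  let _ := (f.appLE (V : S.Opens) (U : X.Opens) hUV).hom.toAlgebra
  have : Algebra.FiniteType Γ(S, (V : S.Opens)) Γ(X, (U : X.Opens)) := f.finiteType_appLE V.2 U.2 hUV
  obtain ⟨n, α, hα⟩ := DRing.RelPC.exists_presentation Γ(S, (V : S.Opens)) Γ(X, (U : X.Opens))
  have hfin := (DRing.RelPC.relPCModule_iff α hα Γ(M, (U : X.Opens))).1.1
    ((P_iff_isRel U.2 V.2 hUV _ e).1 (P_of_rel h0 U.2 V.2 hUV))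
  exact (P_iff_isRel U.2 V.2 hUV _ e).2
    ((DRing.RelPC.relPCModuleAll_iff_of_noetherian Γ(M, (U : X.Opens))).2 hfin m)

/-- Bounded above coherent cohomology is relatively pseudo-coherent over a Noetherian base. -/
theorem relAll_of_isCohD [IsLocallyNoetherian S] [LocallyOfFiniteType f] (K : DCoh.D X) (b : ℤ) [K.IsLE b]
    (hK : DCoh.IsCohD K) : DerSch.IsPseudoCoherentRelAll f K := fun _ =>
  rel_of_homology K b fun q => rel_inD_of_isCoh _ (hK q) _

/-- Relatively pseudo-coherent objects over a Noetherian base have coherent cohomology. -/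
theorem isCohD_of_relAll [IsLocallyNoetherian S] [LocallyOfFiniteType f] {K : DCoh.D X}
    (h : DerSch.IsPseudoCoherentRelAll f K) : DCoh.IsCohD K := fun q => by
  have hq : DCoh.IsQCohD K := fun i => rel_isQCoh (h (i - 1)) i (by omega)
  refine ⟨hq q, (pc_zero_iff _).1 (pc_of_local fun x => ?_)⟩
  obtain ⟨V, hV, hxV, -⟩ := exists_isAffineOpen_mem_and_subset (x := f x) (U := ⊤) trivial
  obtain ⟨U, hU, hxU, hUV⟩ := exists_isAffineOpen_mem_and_subset (x := x) (U := f ⁻¹ᵁ V) hxV
  refine ⟨U, U.ι, inferInstance, ⟨⟨x, hxU⟩, rfl⟩,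
    pc_of_iso (PerfTri.Regular.restrInD U.ι (DCoh.HD K q)).symm ((pc_zero_iff _).2 ?_)⟩
  obtain ⟨n, φ, hφ⟩ := exists_chart hU hV hUV
  have := isClosedImmersion_cIm hU hφ.1
  have : IsNoetherianRing Γ(S, V) := IsLocallyNoetherian.component_noetherian ⟨V, hV⟩
  have ht := (tc_iff φ).1 ((rel_iff_tc K).1 (h (q - 1)) ⟨U, hU⟩ ⟨V, hV⟩ hUV n φ hφ)
  let i := cIm U φ
  let L := (DCoh.restrictD U.ι).obj K
  have hL : ∀ j, ((DerivedCategory.homologyFunctor _ j).obj L).IsQuasicoherent := fun j =>
    @Groth.Agent.QCoh.isQuasicoherent_of_iso _ _ _ (hRestr U.ι K j).symm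
      (have : (DCoh.HD K j).IsQuasicoherent := hq j
       inferInstanceAs ((DCoh.HD K j).restrict U.ι).IsQuasicoherent)
  have hP : DCoh.IsQCohD ((pushD i).obj L) := fun j =>
    @Groth.Agent.QCoh.isQuasicoherent_of_iso _ _ _ (pushDHomology i L j).symm
      (@QCoh.isQuasicoherent_pushforward _ _ i _ _ _ (hL j))
  have hc : Coh.IsCoh (DCoh.HD ((pushD i).obj L) q) := ((Coherent.pc_iff_coherent _ hP (q - 1)).1 ht).1 q (by omega)
  have h2 : CohB1.IsFT ((Scheme.Modules.pushforward i).obj ((DerivedCategory.homologyFunctor _ q).obj L)) :=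
    (pc_zero_iff _).1 (pc_of_iso ((DerivedCategory.singleFunctor _ 0).mapIso (pushDHomology i L q))
      ((pc_zero_iff _).2 hc.2))
  exact (pc_zero_iff _).1 (pc_of_iso ((DerivedCategory.singleFunctor _ 0).mapIso (hRestr U.ι K q))
    ((pc_zero_iff _).2 ((isFT_push_iff i _).1 h2)))

end Groth.Agent.PCohD
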