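import Groth.Agent.PCohD.NPC
import Groth.Agent.DRing.RelPCFinite

/-!
# Relative pseudo-coherence along a pseudo-coherent base morphism
-/

set_option autoImplicit false

universe u

open CategoryTheory Limits AlgebraicGeometry

attribute [local instance] HasDerivedCategory.standard

noncomputable section

namespace Groth.Agent.PCohD

/-- A map of rings detecting pseudo-coherence gives a pseudo-coherent direct image of the unit. -/
theorem hasPCUnit_of_good {A B : Type u} [CommRing A] [CommRing B] (ρ : A →+* B)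
    (hρ : Function.Surjective ρ) (h : DRing.RelPC.Good ρ) :
    HasPCUnit (Spec.map (CommRingCat.ofHom ρ)) := fun m => by
  have : IsClosedImmersion (Spec.map (CommRingCat.ofHom ρ)) := IsClosedImmersion.spec_of_surjective _ hρ
  have := KFlat.TildeExact.preservesFiniteLimits_tilde (CommRingCat.of A)
  have := KFlat.TildeExact.preservesFiniteLimits_tilde (CommRingCat.of B)
  have hB : DRing.IsPseudoCoherentModule' B B := DRing.PC.pcModule'_of_finiteFree
  have h1 := (pc_restrictD_iff ρ m (Dual.inD B B)).1 ((h _ m).1 ((DRing.PC.pc'_iff _).1 hB m))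
  have : PreservesColimitsOfSize.{0, 0} (tilde.functor (CommRingCat.of B)) :=
    (tilde.adjunction (R := CommRingCat.of B)).leftAdjoint_preservesColimits
  have := PreservesColimitsOfSize0.preservesFiniteColimits (tilde.functor (CommRingCat.of B))
  haveI : (tilde.functor (CommRingCat.of B)).Additive := Functor.additive_of_preserves_binary_products _
  refine pc_of_iso ?_ h1
  exact (pushD (Spec.map (CommRingCat.ofHom ρ))).mapIso
      (((tilde.functor (CommRingCat.of B)).mapDerivedCategorySingleFunctor 0).app _ ≪≫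
        (DerivedCategory.singleFunctor _ 0).mapIso (tildeSelf (R := CommRingCat.of B))) ≪≫
    ((Scheme.Modules.pushforward (Spec.map (CommRingCat.ofHom ρ))).mapDerivedCategorySingleFunctor 0).app _

variable {X Y S : Scheme.{u}} {f : X ⟶ Y} {g : Y ⟶ S} {m : ℤ} {K : DCoh.D X}

/-- A chart of the composite through which the test factors. -/
theorem P_comp_iff [LocallyOfFiniteType f] [LocallyOfFiniteType g]
    (hg : ∀ n : ℤ, DerSch.IsNPseudoCoherent g n) {U : X.Opens} (hU : IsAffineOpen U) {V : Y.Opens}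
    (hV : IsAffineOpen V) {W : S.Opens} (hW : IsAffineOpen W) (hUV : U ≤ f ⁻¹ᵁ V) (hVW : V ≤ g ⁻¹ᵁ W) :
    P f m K U V ↔ P (f ≫ g) m K U W := by
  have hUW : U ≤ (f ≫ g) ⁻¹ᵁ W := fun x hx => hVW (hUV hx)
  have hcomp : (f.appLE V U hUV).hom.comp (g.appLE W V hVW).hom = ((f ≫ g).appLE W U hUW).hom := by
    rw [← CommRingCat.hom_comp, Scheme.Hom.appLE_comp_appLE]
  let _ := (g.appLE W V hVW).hom.toAlgebra
  have hA : DerCA.IsRelPseudoCoherentModuleAll Γ(S, W) Γ(Y, V) Γ(Y, V) := fun n =>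
    (npc_iff g).1 (hg n) ⟨V, hV⟩ ⟨W, hW⟩ hVW
  have : Algebra.FiniteType Γ(S, W) Γ(Y, V) := g.finiteType_appLE hW hV hVW
  obtain ⟨n, α, hα⟩ := DRing.RelPC.exists_presentation Γ(S, W) Γ(Y, V)
  obtain ⟨k, φ, hφ⟩ := exists_chart (f := f) hU hV hUV
  let := (α : MvPolynomial (Fin n) Γ(S, W) →+* Γ(Y, V)).toAlgebra
  have hA' : DRing.IsPseudoCoherentModule' (MvPolynomial (Fin n) Γ(S, W)) Γ(Y, V) := by
    refine (DRing.PC.pc'_iff _).2 fun j => ?_
    have h1 := (DRing.RelPC.pcModule_restrict_iff (α : MvPolynomial (Fin n) Γ(S, W) →+* Γ(Y, V))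
      (ModuleCat.of Γ(Y, V) Γ(Y, V)) j).1 ((DRing.RelPC.isRel_iff α hα _ _).1 (hA j))
    exact DRing.PC.pcModule_congr (show ((ModuleCat.restrictScalars
        (α : MvPolynomial (Fin n) Γ(S, W) →+* Γ(Y, V))).obj (ModuleCat.of Γ(Y, V) Γ(Y, V)) :
          ModuleCat.{u} _) ≃ₗ[MvPolynomial (Fin n) Γ(S, W)] Γ(Y, V) from
      { toFun := fun x => x
        invFun := fun x => x
        left_inv := fun _ => rfl
        right_inv := fun _ => rfl
        map_add' := fun _ _ => rfl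
        map_smul' := fun r x => (Algebra.smul_def r (show Γ(Y, V) from x)).symm }) h1
  let e := (MvPolynomial.renameEquiv Γ(S, W) (finSumFinEquiv (m := k) (n := n)).symm).trans
    (MvPolynomial.sumAlgEquiv Γ(S, W) (Fin k) (Fin n))
  let E : MvPolynomial (Fin (k + n)) Γ(S, W) →+* MvPolynomial (Fin k) Γ(Y, V) :=
    (MvPolynomial.map (algebraMap (MvPolynomial (Fin n) Γ(S, W)) Γ(Y, V))).comp
      (e : MvPolynomial (Fin (k + n)) Γ(S, W) →+* MvPolynomial (Fin k) (MvPolynomial (Fin n) Γ(S, W)))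
  have hE : DRing.RelPC.Good E := DRing.RelPC.good_comp (DRing.RelPC.good_of_bijective _ e.bijective)
    (DRing.RelPC.good_map hA' k)
  have hEs : Function.Surjective E := (MvPolynomial.map_surjective _ hα).comp e.surjective
  have hEC : E.comp MvPolynomial.C = MvPolynomial.C.comp (g.appLE W V hVW).hom := RingHom.ext fun r => by
    simp [E, e, RingHom.algebraMap_toAlgebra]
  have hcl := isClosedImmersion_cIm hU (θ := φ) hφ.1
  have : IsClosedImmersion (Spec.map (CommRingCat.ofHom E)) := IsClosedImmersion.spec_of_surjective _ hEs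
  have hcl' := isClosedImmersion_cIm hU (θ := φ.comp E) (hφ.1.comp hEs)
  have hchart : DerSch.IsChart (f ≫ g) U W hUW (φ.comp E) :=
    ⟨hφ.1.comp hEs, by rw [RingHom.comp_assoc, hEC, ← RingHom.comp_assoc, hφ.2, hcomp]⟩
  have key : TC m K U (φ.comp E) ↔ TC m K U φ := by
    rw [tc_iff, tc_iff, test_congr (o' := U.ι) (i' := cIm U φ ≫ Spec.map (CommRingCat.ofHom E))
      rfl (cIm_comp U E φ) K]
    exact test_closed _ _ _ (hasPCUnit_of_good E hEs hE) K
  exact ⟨fun hP => ⟨hUW, k + n, φ.comp E, hchart, key.2 (hP.tc hU hUV φ hφ)⟩,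
    fun hP => ⟨hUV, k, φ, hφ, key.1 (hP.tc hU hUW (φ.comp E) hchart)⟩⟩

/-- Over a pseudo-coherent morphism, pseudo-coherence relative to `f` and to `f ≫ g` agree. -/
theorem rel_iff_comp [LocallyOfFiniteType f] [LocallyOfFiniteType g]
    (hg : ∀ n : ℤ, DerSch.IsNPseudoCoherent g n) :
    DerSch.IsPseudoCoherentRel f m K ↔ DerSch.IsPseudoCoherentRel (f ≫ g) m K := by
  rw [rel_iff, rel_iff]
  constructor
  · rintro h ⟨U, hU⟩ ⟨W, hW⟩ hUW
    refine P_of_cover hU hW hUW fun x hx => ?_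
    obtain ⟨V, hV, hxV, hVW⟩ := exists_isAffineOpen_mem_and_subset (x := f x) (U := g ⁻¹ᵁ W) (hUW hx)
    obtain ⟨r, hr, hxr⟩ := hU.exists_basicOpen_le (V := f ⁻¹ᵁ V) ⟨x, hxV⟩ hx
    exact ⟨r, hxr, (P_comp_iff hg (hU.basicOpen r) hV hW hr hVW).1
      (h ⟨_, hU.basicOpen r⟩ ⟨V, hV⟩ hr)⟩
  · rintro h ⟨U, hU⟩ ⟨V, hV⟩ hUV
    refine P_of_cover hU hV hUV fun x hx => ?_
    obtain ⟨W, hW, hxW, -⟩ := exists_isAffineOpen_mem_and_subset (x := g (f x)) (U := ⊤) trivial
    obtain ⟨s, hs, hxs⟩ := hV.exists_basicOpen_le (V := g ⁻¹ᵁ W) ⟨f x, hxW⟩ (hUV hx)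
    obtain ⟨r, hr, hxr⟩ := hU.exists_basicOpen_le (V := f ⁻¹ᵁ Y.basicOpen s) ⟨x, hxs⟩ hx
    exact ⟨r, hxr, (P_basicOpen_base (hU.basicOpen r) hV s hr).1
      ((P_comp_iff hg (hU.basicOpen r) (hV.basicOpen s) hW hr hs).2
        (h ⟨_, hU.basicOpen r⟩ ⟨W, hW⟩ fun _ hy => hs (hr hy)))⟩

end Groth.Agent.PCohD
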