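import Groth.Agent.PCohD.NPC
import Groth.Agent.PCohD.FTFP
import Groth.Agent.PCohD.PerfAmp
import Groth.Agent.DRing.RelPCFinite

/-!
# Relative pseudo-coherence of a composite, degree by degree
-/

set_option autoImplicit false
set_option backward.isDefEq.respectTransparency.types false

universe u

open CategoryTheory Limits AlgebraicGeometry Pretriangulated
open scoped TensorProduct
attribute [local instance] HasDerivedCategory.standard

noncomputable section

namespace Groth.Agent.PCohD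

/-- `i_* O_Z` is `s`-pseudo-coherent. -/
def PCUnitAt {Z X : Scheme.{u}} (i : Z ⟶ X) (s : ℤ) : Prop :=
  DCoh.IsPseudoCoherentD s (DCoh.inD X ((Scheme.Modules.pushforward i).obj (Coh.structureModule Z)))

variable {Z X : Scheme.{u}} {i : Z ⟶ X} [IsClosedImmersion i] {s : ℤ}

theorem PCUnitAt.restr (h : PCUnitAt i s) (W : X.Opens) : PCUnitAt (i ∣_ W) s :=
  pc_of_iso ((PerfTri.Regular.restrInD W.ι _) ≪≫ (DerivedCategory.singleFunctor _ 0).mapIso
    ((KFlat.PushRestrict.pushRestrictIso i W).app (Coh.structureModule Z) ≪≫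
      (Scheme.Modules.pushforward (i ∣_ W)).mapIso (Scheme.Modules.restrictUnitIso (i ⁻¹ᵁ W).ι)))
    (pc_restrict W.ι h)

theorem pc_push_free_at (h : PCUnitAt i s) :
    ∀ n : ℕ, DCoh.IsPseudoCoherentD s
      (DCoh.inD X ((Scheme.Modules.pushforward i).obj (FlatMod.freeMod Z n)))
  | 0 => pc_of_isZero (Functor.map_isZero _ (Functor.map_isZero _
      ((IsZero.iff_id_eq_zero _).mpr (Sigma.hom_ext _ _ fun i => Fin.elim0 i))))
  | n + 1 => by
    have h1 : DCoh.IsPseudoCoherentD s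
        (DCoh.inD X ((Scheme.Modules.pushforward i).obj (FlatMod.freeMod Z 1))) :=
      pc_of_iso ((DerivedCategory.singleFunctor X.Modules 0).mapIso
        ((Scheme.Modules.pushforward i).mapIso
          ({ hom := Sigma.ι (fun _ : Fin 1 => Coh.structureModule Z) 0
             inv := Sigma.desc fun _ => 𝟙 _
             hom_inv_id := by simp
             inv_hom_id := Sigma.hom_ext _ _ fun k => by fin_cases k; simp } :
            Coh.structureModule Z ≅ FlatMod.freeMod Z 1))) h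
    have := preservesBinaryBiproducts_of_preservesBiproducts (Scheme.Modules.pushforward i)
    exact pc_of_iso ((DerivedCategory.singleFunctor X.Modules 0).mapIso
      (((Scheme.Modules.pushforward i).mapBiprod _ _).symm ≪≫
        (Scheme.Modules.pushforward i).mapIso (PerfTri.Cone.freeAddIso Z n 1)))
      (pc_inD_biprod (pc_push_free_at h n) h1)

theorem pc_push_finLocFree_at (h : PCUnitAt i s) {P : Z.Modules} (hP : FlatMod.IsFinLocFree P) :
    DCoh.IsPseudoCoherentD s (DCoh.inD X ((Scheme.Modules.pushforward i).obj P)) := by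
  refine pc_of_iso (((Scheme.Modules.pushforward i).mapDerivedCategorySingleFunctor 0).app P)
    (pc_pushD_of_forall i s _ fun z => ?_)
  obtain ⟨V, n, hz, ⟨e⟩⟩ := hP z
  obtain ⟨W, rfl⟩ := exists_preimage i V
  refine ⟨W, hz, pc_of_iso ((pushD (i ∣_ W)).mapIso
    (PerfTri.Regular.restrInD (i ⁻¹ᵁ W).ι P ≪≫ (DerivedCategory.singleFunctor _ 0).mapIso e)).symm ?_⟩
  exact pc_of_iso (((Scheme.Modules.pushforward (i ∣_ W)).mapDerivedCategorySingleFunctor 0).app _).symm
    (pc_push_free_at (h.restr W) n)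

/-- The direct image of an `r`-pseudo-coherent object with cohomology in degrees at most `b`. -/
theorem pc_pushD_at (h : PCUnitAt i s) {K : DCoh.D Z} {r b : ℤ}
    (hb : ∀ q, b < q → IsZero ((DerivedCategory.homologyFunctor Z.Modules q).obj K))
    (hK : DCoh.IsPseudoCoherentD r K) :
    DCoh.IsPseudoCoherentD (max r (s + b)) ((pushD i).obj K) := by
  by_cases hbr : b < r
  · exact pc_of_vanish fun q hq => ((Scheme.Modules.pushforward i).map_isZero
      (hb q (by omega))).of_iso (pushDHomology i K q)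
  refine pc_pushD_of_forall i _ K fun z => ?_
  obtain ⟨V, hz, hV⟩ := hK z
  obtain ⟨W, rfl⟩ := exists_preimage i V
  obtain ⟨E, α, hE, h1, h2⟩ := hV (DerivedCategory.Q.objPreimage K)
    ⟨DerivedCategory.Q.objObjPreimageIso K⟩
  let α' : DerivedCategory.Q.obj E ⟶ (DCoh.restrictD (i ⁻¹ᵁ W).ι).obj K :=
    α ≫ (PerfTri.Perfect.restrQ (i ⁻¹ᵁ W).ι _).inv ≫
      (DCoh.restrictD (i ⁻¹ᵁ W).ι).map (DerivedCategory.Q.objObjPreimageIso K).hom
  have hα' : Groth.Agent.KFlat.TildePC.Appr r α' :=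
    KFlat.TildePC.Appr.comp ⟨h1, h2⟩ (KFlat.TildePC.appr_of_isIso r _)
  have hH : ∀ q, b < q → IsZero (E.homology q) := fun q hq => by
    have := hα'.1 q (by omega)
    exact (isZero_homology_Q E q).mp ((FTFP.isZero_restr _ (hb q hq)).of_iso
      (asIso ((DerivedCategory.homologyFunctor _ q).map α')))
  obtain ⟨⟨lo, hi, hv⟩, hf⟩ := hE
  obtain ⟨E', hv', hf', ⟨e'⟩⟩ := PerfAmp.exists_trim (m := min lo b) (n := b) (min_le_right _ _)
    ⟨⟨lo, hi, hv⟩, hf⟩ (fun q hq => hv q (Or.inl (by omega))) hH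
  refine ⟨W, hz, ?_⟩
  refine pc_of_appr ((pushD (i ∣_ W)).map (e'.hom ≫ α'))
    (appr_mono (KFlat.TildePC.Appr.map (Scheme.Modules.pushforward (i ∣_ W))
      (KFlat.TildePC.Appr.comp (KFlat.TildePC.appr_of_isIso r _) hα')) (le_max_left _ _)) ?_
  refine pc_of_iso ((Scheme.Modules.pushforward (i ∣_ W)).mapDerivedCategoryFactors.app E').symm
    (pc_of_terms' _ b _ (fun q hq => (Scheme.Modules.pushforward (i ∣_ W)).map_isZero (hv' q (Or.inr hq)))
      fun q => ?_)
  by_cases hq : q ≤ b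
  · exact pc_mono (pc_push_finLocFree_at (h.restr W) (hf' q)) (by omega)
  · exact pc_of_isZero ((DerivedCategory.singleFunctor _ 0).map_isZero
      ((Scheme.Modules.pushforward (i ∣_ W)).map_isZero (hv' q (Or.inr (by omega)))))

/-- Pseudo-coherence of an object with cohomology in degrees at most `b` is reflected. -/
theorem pc_of_pushD_at {b : ℤ} (d : ℕ) : ∀ {Z X : Scheme.{u}} (i : Z ⟶ X) [IsClosedImmersion i] {s : ℤ}
    (_ : PCUnitAt i s) {K : DCoh.D Z}
    (_ : ∀ q, b < q → IsZero ((DerivedCategory.homologyFunctor Z.Modules q).obj K)) (m : ℤ),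
    b - d ≤ m → s + b ≤ m + 1 → DCoh.IsPseudoCoherentD m ((pushD i).obj K) →
      DCoh.IsPseudoCoherentD m K := by
  induction d with
  | zero => exact fun i _ _ _ _ hb m hm _ hp => pc_of_pushD_top i (fun q hq => hb q (by omega)) hp
  | succ d ih =>
    intro Z X i _ s h K hb m hm hsm hp
    by_cases hmb : b ≤ m
    · exact pc_of_pushD_top i (fun q hq => hb q (by omega)) hp
    have h1 := ih i h hb (m + 1) (by omega) (by omega) (pc_mono hp (by omega))
    refine pc_of_local fun z => ?_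
    obtain ⟨V, hz, hV⟩ := h1 z
    obtain ⟨W, rfl⟩ := exists_preimage i V
    obtain ⟨E, α₀, hE, h01, h02⟩ := hV (DerivedCategory.Q.objPreimage K)
      ⟨DerivedCategory.Q.objObjPreimageIso K⟩
    refine ⟨i ⁻¹ᵁ W, (i ⁻¹ᵁ W).ι, inferInstance, ⟨⟨z, hz⟩, rfl⟩, ?_⟩
    let L := (DCoh.restrictD (i ⁻¹ᵁ W).ι).obj K
    let α : DerivedCategory.Q.obj E ⟶ L := α₀ ≫ (PerfTri.Perfect.restrQ (i ⁻¹ᵁ W).ι _).inv ≫
      (DCoh.restrictD (i ⁻¹ᵁ W).ι).map (DerivedCategory.Q.objObjPreimageIso K).hom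
    have hα : Groth.Agent.KFlat.TildePC.Appr (m + 1) α :=
      KFlat.TildePC.Appr.comp ⟨h01, h02⟩ (KFlat.TildePC.appr_of_isIso (m + 1) _)
    have hH : ∀ q, b < q → IsZero ((DerivedCategory.homologyFunctor _ q).obj (DerivedCategory.Q.obj E)) :=
      fun q hq => by
        have := hα.1 q (by omega)
        exact (FTFP.isZero_restr _ (hb q hq)).of_iso (asIso ((DerivedCategory.homologyFunctor _ q).map α))
    obtain ⟨C, g, δ, hT⟩ := distinguished_cocone_triangle α
    have hEpc : ∀ n, DCoh.IsPseudoCoherentD n (DerivedCategory.Q.obj E) := fun n =>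
      pc_of_isAp ⟨E, 𝟙 _, hE, KFlat.TildePC.appr_of_isIso n _⟩
    refine pc₂ _ hT (hEpc m) (pc_of_pushD_top (i ∣_ W)
      (fun q hq => isZero_cone_homology _ hT hα q (by omega)) ?_)
    exact pc₃ _ ((pushD (i ∣_ W)).map_distinguished _ hT)
      (pc_mono (pc_pushD_at (h.restr W) hH (hEpc (m + 1))) (by omega))
      (pc_of_iso (pushDRestrict i W K) (pc_restrict W.ι hp))

section Ring

variable {P A : Type u} [CommRing P] [CommRing A] [Algebra P A]

/-- Flat extension keeps the pseudo-coherence of a module in each degree. -/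
theorem pcModule_tensor_flat {P Q : Type u} [CommRing P] [CommRing Q] [iQ : Algebra P Q] [Module.Flat P Q]
    {M : Type u} [AddCommGroup M] [Module P M] {s : ℤ} (hM : DRing.IsPseudoCoherentModule P s M) :
    DRing.IsPseudoCoherentModule Q s (TensorProduct P Q M) := by
  have key : ∀ (φ : P →+* Q) (i : Algebra P Q), φ.Flat → i = φ.toAlgebra →
      letI := i; DRing.IsPseudoCoherentModule Q s (TensorProduct P Q M) := by
    intro φ i hφ hi
    subst hi
    exact DRing.Perfect.pcModule_baseChange φ hφ hM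
  exact key (algebraMap P Q) iQ (RingHom.flat_algebraMap_iff.2 inferInstance)
    (Algebra.algebra_ext _ _ fun _ => rfl)

attribute [local instance] MvPolynomial.algebraMvPolynomial in
/-- Adjoining variables keeps the pseudo-coherence of a finite algebra. -/
theorem pcModule_map {s : ℤ} (hA : DRing.IsPseudoCoherentModule P s A) (k : ℕ) :
    DRing.IsPseudoCoherentModule (MvPolynomial (Fin k) P) s (MvPolynomial (Fin k) A) := by
  have h := pcModule_tensor_flat (Q := MvPolynomial (Fin k) P) hA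
  have hb : IsBaseChange (MvPolynomial (Fin k) P)
      (IsScalarTower.toAlgHom P A (MvPolynomial (Fin k) A)).toLinearMap := Algebra.IsPushout.out
  exact DRing.PC.pcModule_congr hb.equiv h

/-- A surjection by which the target is an `s`-pseudo-coherent module. -/
theorem pcUnitAt_SpecMap {P B : Type u} [CommRing P] [CommRing B] (ρ : P →+* B) (hρ : Function.Surjective ρ)
    {s : ℤ} (h : DRing.IsPseudoCoherent P s ((DRing.restrictD ρ).obj (Dual.inD B B))) :
    PCUnitAt (Spec.map (CommRingCat.ofHom ρ)) s := by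
  have : IsClosedImmersion (Spec.map (CommRingCat.ofHom ρ)) := IsClosedImmersion.spec_of_surjective _ hρ
  have := KFlat.TildeExact.preservesFiniteLimits_tilde (CommRingCat.of P)
  have := KFlat.TildeExact.preservesFiniteLimits_tilde (CommRingCat.of B)
  have h1 := (pc_restrictD_iff ρ s (Dual.inD B B)).1 h
  have : PreservesColimitsOfSize.{0, 0} (tilde.functor (CommRingCat.of B)) :=
    (tilde.adjunction (R := CommRingCat.of B)).leftAdjoint_preservesColimits
  have := PreservesColimitsOfSize0.preservesFiniteColimits (tilde.functor (CommRingCat.of B))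
  haveI : (tilde.functor (CommRingCat.of B)).Additive := Functor.additive_of_preserves_binary_products _
  refine pc_of_iso ?_ h1
  exact (pushD (Spec.map (CommRingCat.ofHom ρ))).mapIso
      (((tilde.functor (CommRingCat.of B)).mapDerivedCategorySingleFunctor 0).app _ ≪≫
        (DerivedCategory.singleFunctor _ 0).mapIso (tildeSelf (R := CommRingCat.of B))) ≪≫
    ((Scheme.Modules.pushforward (Spec.map (CommRingCat.ofHom ρ))).mapDerivedCategorySingleFunctor 0).app _

end Ring

variable {X Y S : Scheme.{u}} {f : X ⟶ Y} {g : Y ⟶ S}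

/-- A chart of affine space over `Y` into affine space over `S` with an `s`-pseudo-coherent unit. -/
theorem exists_unit_chart [LocallyOfFiniteType g] {s : ℤ} (hg : DerSch.IsNPseudoCoherent g s) {V : Y.Opens}
    (hV : IsAffineOpen V) {W : S.Opens} (hW : IsAffineOpen W) (hVW : V ≤ g ⁻¹ᵁ W) (k : ℕ) :
    ∃ (N : ℕ) (E : MvPolynomial (Fin N) Γ(S, W) →+* MvPolynomial (Fin k) Γ(Y, V)),
      Function.Surjective E ∧ E.comp MvPolynomial.C = MvPolynomial.C.comp (g.appLE W V hVW).hom ∧
        PCUnitAt (Spec.map (CommRingCat.ofHom E)) s := by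
  let _ := (g.appLE W V hVW).hom.toAlgebra
  have hA : DerCA.IsRelPseudoCoherentModule Γ(S, W) Γ(Y, V) s Γ(Y, V) :=
    (npc_iff g).1 hg ⟨V, hV⟩ ⟨W, hW⟩ hVW
  have : Algebra.FiniteType Γ(S, W) Γ(Y, V) := g.finiteType_appLE hW hV hVW
  obtain ⟨n, α, hα⟩ := DRing.RelPC.exists_presentation Γ(S, W) Γ(Y, V)
  let := (α : MvPolynomial (Fin n) Γ(S, W) →+* Γ(Y, V)).toAlgebra
  have hA' : DRing.IsPseudoCoherentModule (MvPolynomial (Fin n) Γ(S, W)) s Γ(Y, V) := by
    have h1 := (DRing.RelPC.pcModule_restrict_iff (α : MvPolynomial (Fin n) Γ(S, W) →+* Γ(Y, V))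
      (ModuleCat.of Γ(Y, V) Γ(Y, V)) s).1 ((DRing.RelPC.isRel_iff α hα _ _).1 hA)
    exact DRing.PC.pcModule_congr (show ((ModuleCat.restrictScalars
        (α : MvPolynomial (Fin n) Γ(S, W) →+* Γ(Y, V))).obj (ModuleCat.of Γ(Y, V) Γ(Y, V)) :
          ModuleCat.{u} _) ≃ₗ[MvPolynomial (Fin n) Γ(S, W)] Γ(Y, V) from
      { toFun := fun x => x
        invFun := fun x => x
        left_inv := fun _ => rfl
        right_inv := fun _ => rfl
        map_add' := fun _ _ => rfl
        map_smul' := fun r x => (Algebra.smul_def r (show Γ(Y, V) from x)).symm }) h1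
  let e := (MvPolynomial.renameEquiv Γ(S, W) (finSumFinEquiv (m := k) (n := n)).symm).trans
    (MvPolynomial.sumAlgEquiv Γ(S, W) (Fin k) (Fin n))
  let ρ : MvPolynomial (Fin k) (MvPolynomial (Fin n) Γ(S, W)) →+* MvPolynomial (Fin k) Γ(Y, V) :=
    MvPolynomial.map (algebraMap (MvPolynomial (Fin n) Γ(S, W)) Γ(Y, V))
  let E : MvPolynomial (Fin (k + n)) Γ(S, W) →+* MvPolynomial (Fin k) Γ(Y, V) :=
    ρ.comp (e : MvPolynomial (Fin (k + n)) Γ(S, W) →+* MvPolynomial (Fin k) (MvPolynomial (Fin n) Γ(S, W)))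
  have hEs : Function.Surjective E := (MvPolynomial.map_surjective _ hα).comp e.surjective
  have hEpc : DRing.IsPseudoCoherent (MvPolynomial (Fin (k + n)) Γ(S, W)) s
      ((DRing.restrictD E).obj (Dual.inD (MvPolynomial (Fin k) Γ(Y, V)) (MvPolynomial (Fin k) Γ(Y, V)))) := by
    let := MvPolynomial.algebraMvPolynomial (σ := Fin k) (R := MvPolynomial (Fin n) Γ(S, W)) (S := Γ(Y, V))
    have h1 : DRing.IsPseudoCoherent _ s ((DRing.restrictD ρ).obj
        (Dual.inD (MvPolynomial (Fin k) Γ(Y, V)) (MvPolynomial (Fin k) Γ(Y, V)))) := by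
      refine (DRing.RelPC.pcModule_restrict_iff ρ (ModuleCat.of _ (MvPolynomial (Fin k) Γ(Y, V))) s).2 ?_
      exact DRing.PC.pcModule_congr (show MvPolynomial (Fin k) Γ(Y, V) ≃ₗ[MvPolynomial (Fin k) (MvPolynomial (Fin n) Γ(S, W))]
          ((ModuleCat.restrictScalars ρ).obj (ModuleCat.of _ (MvPolynomial (Fin k) Γ(Y, V))) : ModuleCat.{u} _) from
        { toFun := fun x => x
          invFun := fun x => x
          left_inv := fun _ => rfl
          right_inv := fun _ => rfl
          map_add' := fun _ _ => rfl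
          map_smul' := fun r x => Algebra.smul_def r (show MvPolynomial (Fin k) Γ(Y, V) from x) })
        (pcModule_map hA' k)
    obtain ⟨eC⟩ := DRing.RelPC.nonempty_restrictComp
      (e : MvPolynomial (Fin (k + n)) Γ(S, W) →+* MvPolynomial (Fin k) (MvPolynomial (Fin n) Γ(S, W))) ρ
      (Dual.inD (MvPolynomial (Fin k) Γ(Y, V)) (MvPolynomial (Fin k) Γ(Y, V)))
    exact DRing.PC.pc_of_iso eC.symm ((DRing.RelPC.good_of_bijective _ e.bijective _ s).1 h1)
  have hEC : E.comp MvPolynomial.C = MvPolynomial.C.comp (g.appLE W V hVW).hom := RingHom.ext fun r => by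
    simp [E, ρ, e, RingHom.algebraMap_toAlgebra]
  exact ⟨k + n, E, hEs, hEC, pcUnitAt_SpecMap E hEs hEpc⟩

/-- Pseudo-coherence of a composite, degree by degree. -/
theorem npc_comp [LocallyOfFiniteType f] [LocallyOfFiniteType g] {r s : ℤ}
    (hf : DerSch.IsNPseudoCoherent f r) (hg : DerSch.IsNPseudoCoherent g s) :
    DerSch.IsNPseudoCoherent (f ≫ g) (max r s) := by
  refine rel_iff.2 fun ⟨U, hU⟩ ⟨W, hW⟩ hUW => P_of_cover hU hW hUW fun x hx => ?_
  obtain ⟨V, hV, hxV, hVW⟩ := exists_isAffineOpen_mem_and_subset (x := f x) (U := g ⁻¹ᵁ W) (hUW hx)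
  obtain ⟨t, ht, hxt⟩ := hU.exists_basicOpen_le (V := f ⁻¹ᵁ V) ⟨x, hxV⟩ hx
  refine ⟨t, hxt, ?_⟩
  let U' := X.basicOpen t
  have hU' : IsAffineOpen U' := hU.basicOpen t
  have hU'W : U' ≤ (f ≫ g) ⁻¹ᵁ W := fun y hy => hVW (ht hy)
  have hcomp : (f.appLE V U' ht).hom.comp (g.appLE W V hVW).hom = ((f ≫ g).appLE W U' hU'W).hom := by
    rw [← CommRingCat.hom_comp, Scheme.Hom.appLE_comp_appLE]
  obtain ⟨k, φ, hφ⟩ := exists_chart (f := f) hU' hV ht
  obtain ⟨N, E, hEs, hEC, hunit⟩ := exists_unit_chart hg hV hW hVW k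
  have hcl := isClosedImmersion_cIm hU' (θ := φ) hφ.1
  have : IsClosedImmersion (Spec.map (CommRingCat.ofHom E)) := IsClosedImmersion.spec_of_surjective _ hEs
  have hcl' := isClosedImmersion_cIm hU' (θ := φ.comp E) (hφ.1.comp hEs)
  refine ⟨hU'W, N, φ.comp E,
    ⟨hφ.1.comp hEs, by rw [RingHom.comp_assoc, hEC, ← RingHom.comp_assoc, hφ.2, hcomp]⟩, ?_⟩
  rw [tc_iff, test_congr (o' := U'.ι) (i' := cIm U' φ ≫ Spec.map (CommRingCat.ofHom E))
    rfl (cIm_comp U' E φ) _]
  have hL := (tc_iff φ).1 ((rel_iff_tc _).1 hf ⟨U', hU'⟩ ⟨V, hV⟩ ht k φ hφ)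
  have h0 : ∀ q, (0 : ℤ) < q → IsZero ((DerivedCategory.homologyFunctor _ q).obj
      ((pushD (cIm U' φ)).obj ((DCoh.restrictD U'.ι).obj (DCoh.toD X (DerSch.unitCx X))))) := fun q hq =>
    ((Scheme.Modules.pushforward (cIm U' φ)).map_isZero (FTFP.isZero_restr U'.ι
      ((FTFP.isZero_inD (Coh.structureModule X) (i := q) (by omega)).of_iso
        ((DerivedCategory.homologyFunctor X.Modules q).mapIso
          ((DerivedCategory.singleFunctorIsoCompQ X.Modules 0).app (Coh.structureModule X)).symm)))).of_iso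
      (pushDHomology _ _ q)
  have := pc_pushD_at hunit h0 hL
  rw [add_zero] at this
  exact pc_of_iso (pushDComp (cIm U' φ) (Spec.map (CommRingCat.ofHom E)) _) this

/-- Pseudo-coherence relative to `f` from pseudo-coherence relative to `f ≫ g`, degree by degree. -/
theorem rel_of_comp [LocallyOfFiniteType f] [LocallyOfFiniteType g] {a b : ℤ} {K : DCoh.D X} [K.IsLE b]
    (hK : DerSch.IsPseudoCoherentRel (f ≫ g) a K) (hg : DerSch.IsNPseudoCoherent g (a + 1 - b)) :
    DerSch.IsPseudoCoherentRel f a K := by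
  refine rel_iff.2 fun ⟨U, hU⟩ ⟨V, hV⟩ hUV => P_of_cover hU hV hUV fun x hx => ?_
  obtain ⟨W, hW, hxW, -⟩ := exists_isAffineOpen_mem_and_subset (x := g (f x)) (U := ⊤) trivial
  obtain ⟨t', ht', hxt'⟩ := hV.exists_basicOpen_le (V := g ⁻¹ᵁ W) ⟨f x, hxW⟩ (hUV hx)
  obtain ⟨t, ht, hxt⟩ := hU.exists_basicOpen_le (V := f ⁻¹ᵁ Y.basicOpen t') ⟨x, hxt'⟩ hx
  refine ⟨t, hxt, (P_basicOpen_base (hU.basicOpen t) hV t' ht).1 ?_⟩
  let U' := X.basicOpen t
  have hU' : IsAffineOpen U' := hU.basicOpen t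
  have hU'W : U' ≤ (f ≫ g) ⁻¹ᵁ W := fun y hy => ht' (ht hy)
  obtain ⟨k, φ, hφ⟩ := exists_chart (f := f) hU' (hV.basicOpen t') ht
  obtain ⟨N, E, hEs, hEC, hunit⟩ := exists_unit_chart hg (hV.basicOpen t') hW ht' k
  have hcl := isClosedImmersion_cIm hU' (θ := φ) hφ.1
  have : IsClosedImmersion (Spec.map (CommRingCat.ofHom E)) := IsClosedImmersion.spec_of_surjective _ hEs
  have hcl' := isClosedImmersion_cIm hU' (θ := φ.comp E) (hφ.1.comp hEs)
  have hchart : DerSch.IsChart (f ≫ g) U' W hU'W (φ.comp E) := ⟨hφ.1.comp hEs, by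
    rw [RingHom.comp_assoc, hEC, ← RingHom.comp_assoc, hφ.2, ← CommRingCat.hom_comp, Scheme.Hom.appLE_comp_appLE]⟩
  have ht2 := (tc_iff (φ.comp E)).1 ((P_of_rel hK hU' hW hU'W).tc hU' hU'W (φ.comp E) hchart)
  rw [test_congr (o' := U'.ι) (i' := cIm U' φ ≫ Spec.map (CommRingCat.ofHom E)) rfl (cIm_comp U' E φ) _] at ht2
  refine ⟨ht, k, φ, hφ, (tc_iff φ).2 ?_⟩
  refine pc_of_pushD_at (b := b) (b - a).toNat (Spec.map (CommRingCat.ofHom E)) hunit (fun q hq => ?_) a
    (by omega) (by omega) (pc_of_iso (pushDComp (cIm U' φ) (Spec.map (CommRingCat.ofHom E)) _).symm ht2)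
  exact ((Scheme.Modules.pushforward (cIm U' φ)).map_isZero (FTFP.isZero_restr U'.ι
    (DerivedCategory.isZero_of_isLE K b q hq))).of_iso (pushDHomology _ _ q)

end Groth.Agent.PCohD
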