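import Groth.Agent.PCohD.RelDescentA
import Mathlib.RingTheory.Unramified.LocalStructure
import Mathlib.RingTheory.Etale.QuasiFinite
import Mathlib.RingTheory.Flat.EquationalCriterion
import Mathlib.RingTheory.AdjoinRoot

/-!
# Descent of relative pseudo-coherence along quasi-finite faithfully flat algebras
-/

set_option autoImplicit false

universe u

open CategoryTheory CategoryTheory.Limits DerivedCategory Pretriangulated
open scoped TensorProduct
attribute [local instance] HasDerivedCategory.standard

noncomputable section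

namespace Groth.Agent.PCohD.RelDescent

open Groth.Agent.DRing Groth.Agent.DRing.PC Groth.Agent.DRing.RelPC Groth.Agent.DRing.DBasic TensorAmp

variable {R A B C : Type u} [CommRing R] [CommRing A] [CommRing B] [CommRing C] [Algebra R A]
  [Algebra R B] [Algebra R C]

theorem pc_of_retract {m : ℤ} {K W : Dual.D A} (g : K ⟶ W) (h : W ⟶ K) (hgh : g ≫ h = 𝟙 K)
    (hW : DRing.IsPseudoCoherent A m W) : DRing.IsPseudoCoherent A m K := by
  obtain ⟨K', q, r, hT⟩ := distinguished_cocone_triangle g
  have hr : r = 0 := by
    have h0 : r ≫ g⟦(1 : ℤ)⟧' = 0 := comp_distTriang_mor_zero₃₁ _ hT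
    have := congrArg (· ≫ h⟦(1 : ℤ)⟧') h0
    simp only [Category.assoc, ← Functor.map_comp, hgh, zero_comp, CategoryTheory.Functor.map_id,
      Category.comp_id] at this
    exact this
  obtain ⟨e, -, -⟩ := exists_iso_binaryBiproduct_of_distTriang _ hT hr
  exact (pc_of_biprod (pc_of_iso e hW)).1

theorem isRel_of_iso {m : ℤ} {K L : Dual.D A} (e : K ≅ L)
    (h : DerCA.IsRelPseudoCoherent R A m K) : DerCA.IsRelPseudoCoherent R A m L := by
  obtain ⟨n, α, hα, h⟩ := h
  exact ⟨n, α, hα, pc_of_iso ((DRing.restrictD _).mapIso e) h⟩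

/-- Relative pseudo-coherence of derived base changes propagates along pseudo-coherent maps. -/
theorem isRel_bc [Algebra A B] [Algebra A C] [Algebra B C] [IsScalarTower A B C] [IsScalarTower R B C]
    [Algebra.FiniteType R B] [DRing.HasLBaseChange (algebraMap A B)] [DRing.HasLBaseChange (algebraMap A C)]
    [DRing.HasLBaseChange (algebraMap B C)] (hC : MoreMor.IsPseudoCoherentHom B C) (M : Dual.D A) {m : ℤ}
    (h : DerCA.IsRelPseudoCoherent R B m ((DRing.LBaseChange (algebraMap A B)).obj M)) :
    DerCA.IsRelPseudoCoherent R C m ((DRing.LBaseChange (algebraMap A C)).obj M) := by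
  have := FlatMor.PC.finiteType_of_pcHom hC
  obtain ⟨e⟩ := Nilp.nonempty_comp (φ := algebraMap A C) (algebraMap A B) (algebraMap B C)
    (IsScalarTower.algebraMap_eq A B C).symm M
  exact isRel_of_iso e (isRel_baseChange (FlatMor.PC.rel_of_pcHom hC) _ h)

/-- Descent along a finite projective algebra with a retraction. -/
theorem isRel_of_split [Algebra B C] [IsScalarTower R B C] [Algebra.FiniteType R B] [Module.Finite B C]
    [DRing.HasLBaseChange (algebraMap B C)] (r : C →ₗ[B] B) (hr : r 1 = 1) (K : Dual.D B) {m : ℤ}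
    (h : DerCA.IsRelPseudoCoherent R C m ((DRing.LBaseChange (algebraMap B C)).obj K)) :
    DerCA.IsRelPseudoCoherent R B m K := by
  have h' := (relPC_restrict_finite (R := R) (A := B) (B := C) _ m).1 h
  obtain ⟨n, α, hα⟩ := exists_presentation R B
  rw [isRel_iff α hα] at h' ⊢
  obtain ⟨X, hX, -, ⟨e⟩⟩ := exists_kproj_iso K
  let φ := algebraMap B C
  let η : 𝟭 (ModuleCat.{u} B) ⟶ ModuleCat.extendScalars.{u, u, u} φ ⋙ ModuleCat.restrictScalars.{u} φ :=
    (ModuleCat.extendRestrictScalarsAdj.{u} φ).unit
  have hC : φ.toAlgebra = (inferInstance : Algebra B C) := Algebra.algebra_ext _ _ fun _ => rfl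
  have hlin : ∀ (b : B) (c : C), r (φ b * c) = b * r c := fun b c => by
    rw [← Algebra.smul_def, map_smul, smul_eq_mul]
  have ret : ∀ N : ModuleCat.{u} B, ∃ ρ : (ModuleCat.restrictScalars.{u} φ).obj
      ((ModuleCat.extendScalars.{u, u, u} φ).obj N) ⟶ N,
      (letI := φ.toAlgebra; ∀ (c : C) (x : N), ρ.hom (show (C ⊗[B] N) from c ⊗ₜ[B] x) = r c • x) := by
    intro N
    let _ := φ.toAlgebra
    let rr : C →ₗ[B] B :=
      { toFun := r
        map_add' := map_add r
        map_smul' := fun b c => hlin b c }
    let l : C ⊗[B] N →ₗ[B] N := (TensorProduct.lid B N).toLinearMap ∘ₗ rr.rTensor N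
    refine ⟨ModuleCat.ofHom (X := (ModuleCat.restrictScalars.{u} φ).obj ((ModuleCat.extendScalars.{u, u, u} φ).obj N))
      { toFun := fun z => l (show C ⊗[B] N from z)
        map_add' := fun z w => map_add l (show C ⊗[B] N from z) w
        map_smul' := fun b z => by
          change l (φ b • (show C ⊗[B] N from z)) = b • l (show C ⊗[B] N from z)
          rw [← map_smul, ← IsScalarTower.algebraMap_smul C b (show C ⊗[B] N from z)]
          rfl }, fun c x => ?_⟩
    change l (c ⊗ₜ[B] x) = r c • x
    simp [l, rr]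
  choose ρ hρ using ret
  let ν : ModuleCat.extendScalars.{u, u, u} φ ⋙ ModuleCat.restrictScalars.{u} φ ⟶ 𝟭 (ModuleCat.{u} B) :=
    { app := ρ
      naturality := fun N N' f => by
        let _ := φ.toAlgebra
        refine ModuleCat.hom_ext (LinearMap.ext fun z => ?_)
        induction z using TensorProduct.induction_on with
        | zero => exact (map_zero _).trans (map_zero _).symm
        | tmul c x =>
          refine (hρ N' c (f.hom x)).trans ?_
          rw [← map_smul]
          exact congrArg f.hom (hρ N c x).symm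
        | add a b ha hb => exact (map_add _ a b).trans ((congrArg₂ (· + ·) ha hb).trans (map_add _ a b).symm) }
  have hνη : η ≫ ν = 𝟙 _ := by
    ext N x
    let _ := φ.toAlgebra
    change (ρ N).hom (show C ⊗[B] N from (1 : C) ⊗ₜ[B] x) = x
    rw [hρ, hr, one_smul]
  let E := (LTensor.extCx φ).obj X
  let g : X ⟶ (DRing.restrictCx φ).obj E :=
    { f := fun i => η.app (X.X i)
      comm' := fun i j _ => (η.naturality (X.d i j)).symm }
  let g' : (DRing.restrictCx φ).obj E ⟶ X :=
    { f := fun i => ν.app (X.X i)
      comm' := fun i j _ => (ν.naturality (X.d i j)).symm }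
  have hgg : g ≫ g' = 𝟙 X := HomologicalComplex.hom_ext _ _ fun i => congr_app hνη (X.X i)
  let eR : DRing.toD ((DRing.restrictCx φ).obj E) ≅ (DRing.restrictD φ).obj ((DRing.LBaseChange φ).obj K) :=
    restrictDIso φ (Perfect.baseChangeIsoOfRep φ (KFlat.isKFlat_of_isKProjective X) e)
  let a : K ⟶ (DRing.restrictD φ).obj ((DRing.LBaseChange φ).obj K) :=
    e.inv ≫ DerivedCategory.Q.map g ≫ eR.hom
  let b : (DRing.restrictD φ).obj ((DRing.LBaseChange φ).obj K) ⟶ K :=
    eR.inv ≫ DerivedCategory.Q.map g' ≫ e.hom
  have hab : a ≫ b = 𝟙 K := by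
    simp only [a, b, Category.assoc, Iso.hom_inv_id_assoc]
    rw [← DerivedCategory.Q.map_comp_assoc, hgg, CategoryTheory.Functor.map_id, Category.id_comp,
      Iso.inv_hom_id]
  let F := DRing.restrictD (α : MvPolynomial (Fin n) R →+* B)
  exact pc_of_retract (F.map a) (F.map b)
    (by rw [← F.map_comp, hab, CategoryTheory.Functor.map_id]) h'

/-- A retraction of a faithfully flat finite projective algebra. -/
theorem exists_retraction (B C : Type u) [CommRing B] [CommRing C] [Algebra B C] [Module.Projective B C]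
    [Module.FaithfullyFlat B C] : ∃ r : C →ₗ[B] B, r 1 = 1 := by
  let ev : (C →ₗ[B] B) →ₗ[B] B := LinearMap.applyₗ (1 : C)
  suffices LinearMap.range ev = ⊤ from LinearMap.range_eq_top.1 this 1
  by_contra hne
  obtain ⟨m, hm, hle⟩ := Ideal.exists_le_maximal _ hne
  have h1 : (1 : C) ∉ m • (⊤ : Submodule B C) := fun h =>
    Module.FaithfullyFlat.submodule_ne_top (M := C) hm (by
      refine eq_top_iff.2 fun c _ => ?_
      rw [Ideal.smul_top_eq_map] at h ⊢
      exact (Ideal.eq_top_iff_one _).2 h ▸ Submodule.mem_top)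
  obtain ⟨s, hs⟩ := Module.Projective.out (R := B) (P := C)
  refine h1 ?_
  rw [← hs (1 : C), Finsupp.linearCombination_apply]
  refine Submodule.sum_mem _ fun c hc => Submodule.smul_mem_smul (hle ?_) Submodule.mem_top
  exact ⟨(Finsupp.lapply c).comp s, rfl⟩

/-- Descent along a standard étale cover. -/
theorem isRel_of_standardEtale {n : ℕ} (α : MvPolynomial (Fin n) R →ₐ[R] A) (hα : Function.Surjective α)
    {ι : Type} [Fintype ι] (B : ι → Type u) [∀ i, CommRing (B i)] [∀ i, Algebra A (B i)]
    [∀ i, Algebra.IsStandardEtale A (B i)] [∀ i, Algebra R (B i)] [∀ i, IsScalarTower R A (B i)]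
    (hcov : ∀ p : PrimeSpectrum A, ∃ i, p ∈ Set.range (PrimeSpectrum.comap (algebraMap A (B i))))
    (M : Dual.D A) (m : ℤ)
    (h : ∀ (i : ι) [DRing.HasLBaseChange (algebraMap A (B i))],
      DerCA.IsRelPseudoCoherent R (B i) m ((DRing.LBaseChange (algebraMap A (B i))).obj M)) :
    DerCA.IsRelPseudoCoherent R A m M := by
  classical
  have : Algebra.FiniteType R A := Algebra.FiniteType.of_surjective α hα
  let φ : MvPolynomial (Fin n) R →+* A := α
  let _ := φ.toAlgebra
  have : IsScalarTower R (MvPolynomial (Fin n) R) A :=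
    IsScalarTower.of_algebraMap_eq fun r => (α.commutes r).symm
  let pr : ∀ i, StandardEtalePresentation A (B i) := fun i =>
    Algebra.IsStandardEtale.nonempty_standardEtalePresentation.some
  have hlift : ∀ p : Polynomial A, p ∈ Polynomial.lifts φ := fun p =>
    (Polynomial.lifts_iff_coeff_lifts p).2 fun k => hα _
  choose f hf _ hfm using fun i =>
    Polynomial.lifts_and_natDegree_eq_and_monic (hlift (pr i).P.f) (pr i).P.monic_f
  choose g hg using fun i => Polynomial.map_surjective φ hα (pr i).P.g
  let P' : ι → Type u := fun i => Localization.Away (AdjoinRoot.mk (f i) (g i))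
  have hflat : ∀ i, Module.Flat (MvPolynomial (Fin n) R) (P' i) := fun i => by
    have := (hfm i).free_adjoinRoot
    have : Module.Flat (AdjoinRoot (f i)) (P' i) := IsLocalization.flat _ (Submonoid.powers (AdjoinRoot.mk (f i) (g i)))
    exact Module.Flat.trans _ (AdjoinRoot (f i)) _
  have hfp : ∀ i, Algebra.FinitePresentation (MvPolynomial (Fin n) R) (P' i) := fun i => by
    have : Algebra.FinitePresentation (MvPolynomial (Fin n) R) (AdjoinRoot (f i)) :=
      Algebra.FinitePresentation.quotient ⟨{f i}, by simp⟩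
    have : Algebra.FinitePresentation (AdjoinRoot (f i)) (P' i) :=
      IsLocalization.Away.finitePresentation (AdjoinRoot.mk (f i) (g i))
    exact Algebra.FinitePresentation.trans _ (AdjoinRoot (f i)) _
  refine isRel_of_lifts α hα P' (fun p => ?_) M m fun i _ => ?_
  · obtain ⟨i, Q, hQ⟩ := hcov p
    let _ : Algebra (MvPolynomial (Fin n) R) (B i) := ((algebraMap A (B i)).comp φ).toAlgebra
    have : IsScalarTower (MvPolynomial (Fin n) R) A (B i) := IsScalarTower.of_algebraMap_eq fun _ => rfl
    have hf0 : Polynomial.aeval (pr i).x (f i) = 0 := by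
      rw [← Polynomial.aeval_map_algebraMap A (pr i).x (f i)]
      exact (congrArg _ (hf i)).trans (pr i).hasMap.1
    have hg0 : IsUnit (Polynomial.aeval (pr i).x (g i)) := by
      rw [← Polynomial.aeval_map_algebraMap A (pr i).x (g i)]
      exact (congrArg (Polynomial.aeval (pr i).x) (hg i)) ▸ (pr i).hasMap.2
    let k₀ := AdjoinRoot.liftAlgHom (f i) (Algebra.ofId (MvPolynomial (Fin n) R) (B i)) (pr i).x (by
      simpa [Polynomial.aeval_def] using hf0)
    let k : P' i →+* B i := IsLocalization.Away.lift (AdjoinRoot.mk (f i) (g i)) (g := k₀.toRingHom) (by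
      simpa [k₀, Polynomial.aeval_def] using hg0)
    refine ⟨i, PrimeSpectrum.comap k Q, ?_⟩
    rw [← hQ, ← PrimeSpectrum.comap_comp_apply, ← PrimeSpectrum.comap_comp_apply]
    refine congrArg (fun r => PrimeSpectrum.comap r Q) ?_
    rw [IsScalarTower.algebraMap_eq (MvPolynomial (Fin n) R) (AdjoinRoot (f i)) (P' i), ← RingHom.comp_assoc,
      IsLocalization.Away.lift_comp]
    exact k₀.comp_algebraMap
  · let A' := A ⊗[MvPolynomial (Fin n) R] P' i
    have : IsScalarTower (MvPolynomial (Fin n) R) A A' := TensorProduct.isScalarTower_left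
    let root : P' i := algebraMap (AdjoinRoot (f i)) (P' i) (AdjoinRoot.root (f i))
    let x : A' := Algebra.TensorProduct.includeRight (R := MvPolynomial (Fin n) R) (A := A) root
    have ha : ∀ q : Polynomial (MvPolynomial (Fin n) R), Polynomial.aeval x (q.map φ) =
        Algebra.TensorProduct.includeRight (R := MvPolynomial (Fin n) R) (A := A)
          (algebraMap (AdjoinRoot (f i)) (P' i) (AdjoinRoot.mk (f i) q)) := fun q => by
      rw [show q.map φ = q.map (algebraMap (MvPolynomial (Fin n) R) A) from rfl,
        Polynomial.aeval_map_algebraMap, Polynomial.aeval_algHom_apply, Polynomial.aeval_algebraMap_apply,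
        AdjoinRoot.aeval_eq]
    have hx : (pr i).P.HasMap x := by
      refine ⟨?_, ?_⟩
      · rw [← hf i, ha, AdjoinRoot.mk_self, map_zero, map_zero]
      · rw [← hg i, ha]
        exact (IsLocalization.Away.algebraMap_isUnit (S := P' i) (AdjoinRoot.mk (f i) (g i))).map _
    let hh : B i →ₐ[A] A' := ((pr i).P.lift x hx).comp (pr i).equivRing.toAlgHom
    let _ := hh.toRingHom.toAlgebra
    have : IsScalarTower A (B i) A' := IsScalarTower.of_algebraMap_eq fun a => (hh.commutes a).symm
    have : IsScalarTower R (B i) A' := IsScalarTower.of_algebraMap_eq fun r => by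
      rw [IsScalarTower.algebraMap_apply R A (B i), ← IsScalarTower.algebraMap_apply A (B i) A',
        ← IsScalarTower.algebraMap_apply]
    have := hflat i
    have := hfp i
    have : Module.Flat A A' := inferInstance
    have : Algebra.FinitePresentation A A' := inferInstance
    have : Algebra.Etale A (B i) := inferInstance
    have : Algebra.FiniteType R (B i) := Algebra.FiniteType.trans (S := A) inferInstance inferInstance
    have := LTensor.hasLBaseChange (algebraMap A (B i))
    have := LTensor.hasLBaseChange (algebraMap (B i) A')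
    exact isRel_bc (FlatMor.PC.pcHom_of_comp (R := A) (A := B i) (B := A') FlatMor.PC.pcHom_of_flat_fp
      FlatMor.PC.pcHom_of_flat_fp) M (h i)

end Groth.Agent.PCohD.RelDescent
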