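import Groth.Agent.PCohD.RelDescentB

/-!
# Descent of relative pseudo-coherence along quasi-finite flat covers
-/

set_option autoImplicit false
set_option backward.isDefEq.respectTransparency.types false

universe u

open CategoryTheory CategoryTheory.Limits DerivedCategory
open scoped TensorProduct
attribute [local instance] HasDerivedCategory.standard

noncomputable section

namespace Groth.Agent.PCohD.RelDescent

open Groth.Agent.DRing Groth.Agent.DRing.PC Groth.Agent.DRing.RelPC Groth.Agent.DRing.DBasic TensorAmp

/-- Near every prime there is a standard étale algebra over which a quasi-finite flat cover splits. -/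
theorem exists_split {A A' : Type u} [CommRing A] [CommRing A'] [Algebra A A'] [Module.Flat A A']
    [Algebra.FinitePresentation A A'] [Algebra.QuasiFinite A A']
    (p : PrimeSpectrum A) (hs : p ∈ Set.range (PrimeSpectrum.comap (algebraMap A A'))) :
    ∃ (B C : Type u) (_ : CommRing B) (_ : CommRing C) (_ : Algebra A B) (_ : Algebra B C)
      (_ : Algebra A C) (_ : Algebra A' C) (_ : IsScalarTower A B C) (_ : IsScalarTower A A' C),
      Algebra.IsStandardEtale A B ∧ p ∈ Set.range (PrimeSpectrum.comap (algebraMap A B)) ∧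
        Module.Finite B C ∧ Module.Flat A C ∧ Algebra.FinitePresentation A C ∧
        Module.Flat B C ∧ Algebra.FinitePresentation B C ∧ ∃ r : C →ₗ[B] B, r 1 = 1 := by
  classical
  obtain ⟨q, hq⟩ := hs
  have : q.asIdeal.LiesOver p.asIdeal := ⟨congrArg PrimeSpectrum.asIdeal hq.symm⟩
  obtain ⟨E, _, _, _, P, _, _, e, he, P', _, _, -, heP, -, hfin, -⟩ :=
    Algebra.exists_etale_isIdempotentElem_forall_liesOver_eq p.asIdeal q.asIdeal
  let C₀ := E ⊗[A] A'
  let Ce := Localization.Away e
  have : Module.Flat C₀ Ce := IsLocalization.flat _ (Submonoid.powers e)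
  have : Algebra.FinitePresentation C₀ Ce := IsLocalization.Away.finitePresentation e
  have : Module.Flat E C₀ := inferInstance
  have : Algebra.FinitePresentation E C₀ := inferInstance
  have : Module.Flat E Ce := Module.Flat.trans E C₀ Ce
  have : Algebra.FinitePresentation E Ce := Algebra.FinitePresentation.trans E C₀ Ce
  have hP : (⟨P, ‹_›⟩ : PrimeSpectrum E) ∈ Set.range (PrimeSpectrum.comap (algebraMap E Ce)) := by
    have hmem : (⟨P', ‹_›⟩ : PrimeSpectrum C₀) ∈ Set.range (PrimeSpectrum.comap (algebraMap C₀ Ce)) := by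
      rw [PrimeSpectrum.localization_away_comap_range Ce e]; exact heP
    obtain ⟨Q, hQ⟩ := hmem
    refine ⟨Q, ?_⟩
    rw [IsScalarTower.algebraMap_eq E C₀ Ce, PrimeSpectrum.comap_comp_apply, hQ]
    exact PrimeSpectrum.ext (Ideal.LiesOver.over (p := P) (P := P')).symm
  obtain ⟨_, ⟨b, rfl⟩, hPb, hb⟩ := PrimeSpectrum.isTopologicalBasis_basic_opens.exists_subset_of_mem_open hP
    (PrimeSpectrum.isOpenMap_comap_of_hasGoingDown_of_finitePresentation (R := E) (S := Ce)).isOpen_range
  let Eb := Localization.Away b
  obtain ⟨Pb, hPb'⟩ : (⟨P, ‹_›⟩ : PrimeSpectrum E) ∈ Set.range (PrimeSpectrum.comap (algebraMap E Eb)) := by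
    rw [PrimeSpectrum.localization_away_comap_range Eb b]; exact hPb
  have : Algebra.Etale E Eb := Algebra.Etale.of_isLocalizationAway b
  have : Algebra.Etale A Eb := Algebra.Etale.comp A E Eb
  obtain ⟨f, hfP, hstd⟩ := Algebra.IsEtaleAt.exists_isStandardEtale (R := A) Pb.asIdeal
  let B := Localization.Away f
  let Cb := Eb ⊗[E] Ce
  let C := B ⊗[Eb] Cb
  -- `Spec Cb → Spec Eb` is surjective
  have hsb : Function.Surjective (PrimeSpectrum.comap (algebraMap Eb Cb)) := by
    intro P₀
    have hP₀ : PrimeSpectrum.comap (algebraMap E Eb) P₀ ∈ (PrimeSpectrum.basicOpen b : Set (PrimeSpectrum E)) := by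
      rw [← PrimeSpectrum.localization_away_comap_range Eb b]; exact ⟨P₀, rfl⟩
    obtain ⟨Q₀, hQ₀⟩ := hb hP₀
    let L := FractionRing (Ce ⧸ Q₀.asIdeal)
    let t : Ce →+* L := (algebraMap (Ce ⧸ Q₀.asIdeal) L).comp (Ideal.Quotient.mk _)
    have hker : ∀ x : Ce, t x = 0 ↔ x ∈ Q₀.asIdeal := fun x => by
      change algebraMap (Ce ⧸ Q₀.asIdeal) L (Ideal.Quotient.mk _ x) = 0 ↔ _
      rw [map_eq_zero_iff _ (IsFractionRing.injective (Ce ⧸ Q₀.asIdeal) L), Ideal.Quotient.eq_zero_iff_mem]
    have hbu : IsUnit (t (algebraMap E Ce b)) := by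
      refine IsUnit.mk0 _ fun h0 => hP₀ ?_
      rw [← hQ₀]
      exact (hker _).1 h0
    let _ : Algebra E L := (t.comp (algebraMap E Ce)).toAlgebra
    let l₁ : Eb →ₐ[E] L :=
      { IsLocalization.Away.lift b (g := algebraMap E L) hbu with
        commutes' := fun r => IsLocalization.Away.lift_eq _ _ r }
    let l₂ : Ce →ₐ[E] L := { t with commutes' := fun _ => rfl }
    let l : Cb →+* L := (Algebra.TensorProduct.productMap l₁ l₂).toRingHom
    refine ⟨PrimeSpectrum.comap l ⊥, ?_⟩
    refine PrimeSpectrum.localization_comap_injective Eb (Submonoid.powers b) ?_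
    rw [← hQ₀, ← PrimeSpectrum.comap_comp_apply, ← PrimeSpectrum.comap_comp_apply]
    refine PrimeSpectrum.ext (Ideal.ext fun r => ?_)
    change l (algebraMap Eb Cb (algebraMap E Eb r)) = 0 ↔ algebraMap E Ce r ∈ Q₀.asIdeal
    change Algebra.TensorProduct.productMap l₁ l₂ (algebraMap E Eb r ⊗ₜ[E] (1 : Ce)) = 0 ↔ _
    rw [Algebra.TensorProduct.productMap_apply_tmul, map_one, mul_one, AlgHom.commutes]
    exact hker _
  have : Module.FaithfullyFlat Eb Cb := Module.FaithfullyFlat.of_comap_surjective hsb
  have : Module.Finite Eb Cb := inferInstance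
  have : Module.FaithfullyFlat B C := inferInstance
  have : Module.Finite B C := inferInstance
  have : Algebra.FinitePresentation B C := inferInstance
  have : Module.FinitePresentation B C := Module.FinitePresentation.of_finite_of_finitePresentation B C
  have : Module.Flat B C := Module.Flat.baseChange Eb B Cb
  have : Module.Projective B C := Module.Flat.projective_of_finitePresentation (R := B) (M := C)
  let c₁ : A' →+* B ⊗[Eb] Cb := (Algebra.TensorProduct.includeRight (R := Eb) (A := B)).toRingHom.comp
    ((Algebra.TensorProduct.includeRight (R := E) (A := Eb)).toRingHom.comp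
      ((algebraMap C₀ Ce).comp (Algebra.TensorProduct.includeRight (R := A) (A := E)).toRingHom))
  let _ : Algebra A' C := RingHom.toAlgebra (R := A') (S := B ⊗[Eb] Cb) c₁
  have : Algebra.Etale A B := inferInstance
  have hABC : IsScalarTower A B C := TensorProduct.isScalarTower_left
  have hAA'C : IsScalarTower A A' C := IsScalarTower.of_algebraMap_eq (R := A) (S := A') (A := C) fun a => by
    rw [IsScalarTower.algebraMap_apply A B C]
    change algebraMap B C (algebraMap A B a) = c₁ (algebraMap A A' a)
    rw [IsScalarTower.algebraMap_apply A Eb B, IsScalarTower.algebraMap_apply A E Eb]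
    simp only [c₁, RingHom.comp_apply, AlgHom.toRingHom_eq_coe, RingHom.coe_coe, AlgHom.commutes]
    rw [IsScalarTower.algebraMap_apply A E C₀, ← IsScalarTower.algebraMap_apply E C₀ Ce, AlgHom.commutes,
      IsScalarTower.algebraMap_apply E Eb Cb, AlgHom.commutes, ← IsScalarTower.algebraMap_apply Eb B C]
  refine ⟨B, C, inferInstance, inferInstance, inferInstance, inferInstance, inferInstance, inferInstance,
    hABC, hAA'C, hstd, ?_, inferInstance, Module.Flat.trans A B C,
    Algebra.FinitePresentation.trans A B C, inferInstance, inferInstance, exists_retraction B C⟩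
  obtain ⟨Pf, hPf⟩ : Pb ∈ Set.range (PrimeSpectrum.comap (algebraMap Eb B)) := by
    rw [PrimeSpectrum.localization_away_comap_range B f]; exact hfP
  refine ⟨Pf, ?_⟩
  rw [IsScalarTower.algebraMap_eq A Eb B, PrimeSpectrum.comap_comp_apply, hPf,
    IsScalarTower.algebraMap_eq A E Eb, PrimeSpectrum.comap_comp_apply, hPb']
  exact PrimeSpectrum.ext (Ideal.LiesOver.over (p := p.asIdeal) (P := P)).symm

/-- After a standard étale neighbourhood of `p` the object is relatively pseudo-coherent. -/
def LocRel (R : Type u) {A : Type u} [CommRing R] [CommRing A] [Algebra R A] (m : ℤ) (M : Dual.D A)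
    (p : PrimeSpectrum A) : Prop :=
  ∃ (B : Type u) (_ : CommRing B) (_ : Algebra A B) (_ : Algebra R B) (_ : IsScalarTower R A B)
    (_ : Algebra.IsStandardEtale A B) (_ : DRing.HasLBaseChange (algebraMap A B)),
    p ∈ Set.range (PrimeSpectrum.comap (algebraMap A B)) ∧
      DerCA.IsRelPseudoCoherent R B m ((DRing.LBaseChange (algebraMap A B)).obj M)

/-- A quasi-finite flat neighbourhood may be replaced by a standard étale one. -/
theorem locRel_of_quasiFinite {R A A' : Type u} [CommRing R] [CommRing A] [CommRing A'] [Algebra R A]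
    [Algebra A A'] [Algebra R A'] [IsScalarTower R A A'] [Algebra.FiniteType R A] [Module.Flat A A']
    [Algebra.FinitePresentation A A'] [Algebra.QuasiFinite A A'] [DRing.HasLBaseChange (algebraMap A A')]
    (p : PrimeSpectrum A) (hs : p ∈ Set.range (PrimeSpectrum.comap (algebraMap A A'))) (M : Dual.D A) (m : ℤ)
    (h : DerCA.IsRelPseudoCoherent R A' m ((DRing.LBaseChange (algebraMap A A')).obj M)) :
    LocRel R m M p := by
  obtain ⟨B', C', _, _, _, _, _, _, _, _, hstd, hp, _, _, _, _, _, r, hr'⟩ := exists_split (A := A) (A' := A') p hs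
  let _ : Algebra R B' := ((algebraMap A B').comp (algebraMap R A)).toAlgebra
  let _ : Algebra R C' := ((algebraMap A C').comp (algebraMap R A)).toAlgebra
  have : IsScalarTower R A B' := IsScalarTower.of_algebraMap_eq fun _ => rfl
  have : IsScalarTower R A C' := IsScalarTower.of_algebraMap_eq fun _ => rfl
  have : IsScalarTower R B' C' := IsScalarTower.of_algebraMap_eq fun r => by
    rw [IsScalarTower.algebraMap_apply R A B', ← IsScalarTower.algebraMap_apply A B' C',
      ← IsScalarTower.algebraMap_apply]
  have : IsScalarTower R A' C' := IsScalarTower.of_algebraMap_eq fun r => by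
    rw [IsScalarTower.algebraMap_apply R A A', ← IsScalarTower.algebraMap_apply A A' C',
      ← IsScalarTower.algebraMap_apply]
  have : Algebra.FiniteType R A' := Algebra.FiniteType.trans (S := A) inferInstance inferInstance
  have : Algebra.IsStandardEtale A B' := hstd
  have : Algebra.Etale A B' := inferInstance
  have : Algebra.FiniteType R B' := Algebra.FiniteType.trans (S := A) inferInstance inferInstance
  have := LTensor.hasLBaseChange (algebraMap A B')
  have := LTensor.hasLBaseChange (algebraMap A C')
  have := LTensor.hasLBaseChange (algebraMap B' C')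
  have := LTensor.hasLBaseChange (algebraMap A' C')
  have hC : DerCA.IsRelPseudoCoherent R C' m ((DRing.LBaseChange (algebraMap A C')).obj M) :=
    isRel_bc (B := A') (C := C') (FlatMor.PC.pcHom_of_comp (R := A) (A := A') (B := C')
      FlatMor.PC.pcHom_of_flat_fp FlatMor.PC.pcHom_of_flat_fp) M h
  obtain ⟨e⟩ := Nilp.nonempty_comp (φ := algebraMap A C') (algebraMap A B') (algebraMap B' C')
    (IsScalarTower.algebraMap_eq A B' C').symm M
  exact ⟨B', inferInstance, inferInstance, inferInstance, inferInstance, hstd, inferInstance, hp,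
    isRel_of_split r hr' _ (isRel_of_iso e.symm hC)⟩

/-- Relative pseudo-coherence is étale local on the source. -/
theorem isRel_of_locRel {R A : Type u} [CommRing R] [CommRing A] [Algebra R A] [Algebra.FiniteType R A]
    (M : Dual.D A) (m : ℤ) (h : ∀ p : PrimeSpectrum A, LocRel R m M p) :
    DerCA.IsRelPseudoCoherent R A m M := by
  classical
  choose B iC iA iR t1 t2 iL hp hrel using h
  have hopen : ∀ p, IsOpen (Set.range (PrimeSpectrum.comap (algebraMap A (B p)))) := fun p =>
    have := t2 p
    have : Algebra.Etale A (B p) := inferInstance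
    (PrimeSpectrum.isOpenMap_comap_of_hasGoingDown_of_finitePresentation (R := A) (S := B p)).isOpen_range
  obtain ⟨t, ht⟩ := isCompact_univ.elim_finite_subcover (fun p => Set.range (PrimeSpectrum.comap (algebraMap A (B p))))
    hopen (fun p _ => Set.mem_iUnion.2 ⟨p, hp p⟩)
  obtain ⟨n, α, hα⟩ := exists_presentation R A
  let P : Fin t.card → PrimeSpectrum A := fun i => (t.equivFin.symm i).1
  have : ∀ i, IsScalarTower R A (B (P i)) := fun i => t1 _
  have : ∀ i, Algebra.IsStandardEtale A (B (P i)) := fun i => t2 _
  refine isRel_of_standardEtale α hα (fun i => B (P i)) (fun p => ?_) M m fun i _ => hrel (P i)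
  obtain ⟨a, ha, hpa⟩ := Set.mem_iUnion₂.1 (ht (Set.mem_univ p))
  refine ⟨t.equivFin ⟨a, ha⟩, ?_⟩
  have key : ∀ b : t, b = ⟨a, ha⟩ → p ∈ Set.range (PrimeSpectrum.comap (algebraMap A (B b.1))) := by
    rintro b rfl; exact hpa
  exact key _ (t.equivFin.symm_apply_apply _)

end Groth.Agent.PCohD.RelDescent
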