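import Groth.Agent.PCohD.NPCBaseChange
import Groth.Agent.PCohD.RelDescentC

/-!
# Descent of relative pseudo-coherence of complexes along flat covers of the base
-/

set_option autoImplicit false

universe u

open CategoryTheory CategoryTheory.Limits AlgebraicGeometry
open scoped TensorProduct
attribute [local instance] HasDerivedCategory.standard

noncomputable section

namespace Groth.Agent.PCohD

open Groth.Agent.DRing Groth.Agent.DRing.PC Groth.Agent.DRing.DBasic TensorAmp

attribute [local instance] MvPolynomial.algebraMvPolynomial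

set_option backward.isDefEq.respectTransparency.types false in
set_option maxHeartbeats 1000000 in
/-- Descent along finitely many flat algebras covering the spectrum of the base. -/
theorem isRel_of_family {ι : Type} [Finite ι] {A B : Type u} [CommRing A] [CommRing B] [Algebra A B]
    [Algebra.FiniteType A B] {A' B' : ι → Type u}
    [∀ i, CommRing (A' i)] [∀ i, CommRing (B' i)] [∀ i, Algebra A (A' i)] [∀ i, Algebra (A' i) (B' i)]
    [∀ i, Algebra B (B' i)] [∀ i, Algebra A (B' i)] [∀ i, IsScalarTower A (A' i) (B' i)]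
    [∀ i, IsScalarTower A B (B' i)] [∀ i, Algebra.IsPushout A (A' i) B (B' i)]
    [∀ i, Module.Flat A (A' i)]
    (hp : ∀ p : PrimeSpectrum A, ∃ i, p ∈ Set.range (PrimeSpectrum.comap (algebraMap A (A' i))))
    {m : ℤ} (M : Dual.D B)
    (h : ∀ (i) [DRing.HasLBaseChange (algebraMap B (B' i))], DerCA.IsRelPseudoCoherent (A' i) (B' i) m
      ((DRing.LBaseChange (algebraMap B (B' i))).obj M)) :
    DerCA.IsRelPseudoCoherent A B m M := by
  have : Fintype ι := Fintype.ofFinite ι
  obtain ⟨n, φa, hφ⟩ := RelPC.exists_presentation A B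
  let φ : MvPolynomial (Fin n) A →+* B := φa
  refine ⟨n, φa, hφ, ?_⟩
  let iPB := φ.toAlgebra
  obtain ⟨X, hX, -, ⟨e⟩⟩ := exists_kproj_iso M
  refine PC.pc_of_iso (restrictDIso φ e) ?_
  let ψ : ∀ i, MvPolynomial (Fin n) A →+* MvPolynomial (Fin n) (A' i) := fun i => algebraMap _ _
  have hψ : ∀ i, (ψ i).Flat := fun i => RingHom.flat_algebraMap_iff.2 (FlatMor.PC.flat_mvPolynomial n)
  refine PCDescent.pc_of_detects (B' := fun i => MvPolynomial (Fin n) (A' i)) hψ ?_ _ m fun i => ?_
  · intro N hN
    let _ : Module A N := Module.compHom N (algebraMap A (MvPolynomial (Fin n) A))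
    have : IsScalarTower A (MvPolynomial (Fin n) A) N := IsScalarTower.of_algebraMap_smul fun _ _ => rfl
    exact RelDescent.detects_of_primes (fun i => algebraMap A (A' i))
      (fun i => RingHom.flat_algebraMap_iff.2 inferInstance) hp (ModuleCat.of A N) fun i => by
        have key : ∀ j : Algebra (MvPolynomial (Fin n) A) (MvPolynomial (Fin n) (A' i)),
            j = MvPolynomial.algebraMvPolynomial →
            (letI := j; Subsingleton (MvPolynomial (Fin n) (A' i) ⊗[MvPolynomial (Fin n) A] N)) →
            Subsingleton (MvPolynomial (Fin n) (A' i) ⊗[MvPolynomial (Fin n) A] N) := by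
          rintro j rfl h
          exact h
        have := key _ (Algebra.algebra_ext _ _ fun _ => rfl) (hN i)
        have e := Algebra.IsPushout.cancelBaseChange A (A' i) (MvPolynomial (Fin n) A)
          (MvPolynomial (Fin n) (A' i)) N
        have key' : ∀ j : Algebra A (A' i), j = ‹∀ i, Algebra A (A' i)› i →
            (letI := j; Subsingleton (A' i ⊗[A] N)) := by
          rintro j rfl
          exact e.symm.toEquiv.subsingleton
        exact key' (algebraMap A (A' i)).toAlgebra (Algebra.algebra_ext _ _ fun _ => rfl)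
  let φ'a : MvPolynomial (Fin n) (A' i) →ₐ[A' i] B' i :=
    MvPolynomial.aeval fun j => algebraMap B (B' i) (φ (MvPolynomial.X j))
  let φ' : MvPolynomial (Fin n) (A' i) →+* B' i := φ'a
  let := φ'.toAlgebra
  let : Algebra (MvPolynomial (Fin n) A) (B' i) := ((algebraMap B (B' i)).comp φ).toAlgebra
  have t1 : IsScalarTower A (MvPolynomial (Fin n) A) B :=
    IsScalarTower.of_algebraMap_eq fun x => (φa.commutes x).symm
  have t2 : IsScalarTower (A' i) (MvPolynomial (Fin n) (A' i)) (B' i) :=
    IsScalarTower.of_algebraMap_eq fun x => (φ'a.commutes x).symm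
  have t3 : IsScalarTower (MvPolynomial (Fin n) A) B (B' i) := IsScalarTower.of_algebraMap_eq fun _ => rfl
  have t4 : IsScalarTower A (MvPolynomial (Fin n) A) (B' i) := IsScalarTower.of_algebraMap_eq fun x => by
    rw [IsScalarTower.algebraMap_apply A B (B' i), IsScalarTower.algebraMap_apply A (MvPolynomial (Fin n) A) B]
    rfl
  have hsq : φ'.comp (ψ i) = (algebraMap B (B' i)).comp φ := by
    refine MvPolynomial.ringHom_ext (fun r => ?_) fun j => ?_
    · simp only [φ', φ'a, φ, ψ, RingHom.comp_apply, MvPolynomial.algebraMap_def, RingHom.coe_coe,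
        MvPolynomial.map_C, MvPolynomial.aeval_C]
      rw [MvPolynomial.algHom_C, ← IsScalarTower.algebraMap_apply, ← IsScalarTower.algebraMap_apply]
    · simp [φ', φ'a, φ, ψ]
  have t5 : IsScalarTower (MvPolynomial (Fin n) A) (MvPolynomial (Fin n) (A' i)) (B' i) :=
    IsScalarTower.of_algebraMap_eq fun x => (RingHom.congr_fun hsq x).symm
  have t6 : IsScalarTower A (MvPolynomial (Fin n) (A' i)) (B' i) := IsScalarTower.of_algebraMap_eq fun x => by
    rw [IsScalarTower.algebraMap_apply A (A' i) (B' i),
      IsScalarTower.algebraMap_apply A (A' i) (MvPolynomial (Fin n) (A' i)),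
      ← IsScalarTower.algebraMap_apply (A' i) (MvPolynomial (Fin n) (A' i)) (B' i)]
  have hbig : Algebra.IsPushout A B (A' i) (B' i) := Algebra.IsPushout.symm inferInstance
  have hsmall : Algebra.IsPushout (MvPolynomial (Fin n) A) (MvPolynomial (Fin n) (A' i)) B (B' i) :=
    ((Algebra.IsPushout.comp_iff A (MvPolynomial (Fin n) A) (A' i) (MvPolynomial (Fin n) (A' i))).1 hbig).symm
  have hb := hsmall.out
  have hφ's : Function.Surjective φ'a := by
    intro y
    induction y using hb.inductionOn with
    | zero => exact ⟨0, map_zero _⟩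
    | tmul b =>
      obtain ⟨p, rfl⟩ := hφ b
      exact ⟨ψ i p, (RingHom.congr_fun hsq p)⟩
    | smul s y hy =>
      obtain ⟨q, rfl⟩ := hy
      exact ⟨s * q, by rw [map_mul, Algebra.smul_def]; rfl⟩
    | add x y hx hy =>
      obtain ⟨a, rfl⟩ := hx
      obtain ⟨b, rfl⟩ := hy
      exact ⟨a + b, map_add _ _ _⟩
  have := LTensor.hasLBaseChange (algebraMap B (B' i))
  have h1 := (RelPC.isRel_iff φ'a hφ's _ m).1 (h i)
  refine PC.pc_of_iso ?_ h1
  exact (DRing.restrictD φ').mapIso
      (Perfect.baseChangeIsoOfRep (algebraMap B (B' i)) (KFlat.isKFlat_of_isKProjective X) e).symm ≪≫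
    (restrictDIso φ' (Iso.refl _)).symm ≪≫
    (DerivedCategory.Q.mapIso ((NatIso.mapHomologicalComplex (RelPC.sqIso φ _ _ _
      (fun x => RingHom.congr_fun hsq x) fun N =>
        RelPC.bijective_sqHom φ (ψ i) (algebraMap B (B' i)) φ' (fun x => RingHom.congr_fun hsq x)
          inferInstance inferInstance inferInstance inferInstance rfl (Algebra.algebra_ext _ _ fun _ => rfl)
          (Algebra.algebra_ext _ _ fun _ => rfl) (Algebra.algebra_ext _ _ fun _ => rfl) N)
        (ComplexShape.up ℤ)).app X)).symm

end Groth.Agent.PCohD
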