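import Groth.Agent.PCohD.TorBC
import Groth.Agent.KFlat.PullTensor
import Groth.Agent.KFlat.Lpull

/-!
# Base change of flat amplitude relative to a flat morphism
-/

set_option autoImplicit false

universe u

open CategoryTheory CategoryTheory.Limits DerivedCategory MonoidalCategory AlgebraicGeometry
open scoped TensorProduct

attribute [local instance] HasDerivedCategory.standard

noncomputable section

namespace Groth.Agent.PCohD.RelFlatAmpBC

open Groth.Agent.DRing Groth.Agent.DRing.KFlat Groth.Agent.DRing.TorAmp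
open Groth.Agent.PCohD.TorBC

section Ring

variable {R A C : Type u} [CommRing R] [CommRing A] [CommRing C] [Algebra R A] [Algebra R C]
  {A' : Type u} [CommRing A']

/-- Extension along `A → A'` keeps quasi-isomorphisms of complexes which are K-flat over the base. -/
theorem quasiIso_ext_indep [Module.Flat R A] (ψ : A →+* A') (ν : C ⊗[R] A →+* A') (hν : ν.Flat)
    (hνψ : ν.comp (Algebra.TensorProduct.includeRight (R := R) (A := C)).toRingHom = ψ)
    {R₀ S : DRing.Cx A} (π : R₀ ⟶ S) (hπ : QuasiIso π)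
    (hk₁ : DRing.IsKFlat R ((Groth.Agent.KFlat.BaseChange.resCx (algebraMap R A)).obj R₀))
    (hk₂ : DRing.IsKFlat R ((Groth.Agent.KFlat.BaseChange.resCx (algebraMap R A)).obj S)) :
    QuasiIso ((Groth.Agent.KFlat.BaseChange.extCx ψ).map π) := by
  let θ := algebraMap R A
  let η := algebraMap R C
  let φ' := (Algebra.TensorProduct.includeRight (R := R) (A := C) (B := A)).toRingHom
  let ρ : C →+* C ⊗[R] A := Algebra.TensorProduct.includeLeftRingHom
  have hθ : θ.Flat := RingHom.flat_algebraMap_iff.mpr inferInstance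
  let π₁ := (Groth.Agent.KFlat.BaseChange.resCx θ).map π
  have hπ₁ : QuasiIso π₁ := (quasiIso_restrict θ π).mpr hπ
  have h2 := SingleTensor.quasiIso_extendScalars η π₁ hk₁ hk₂
  have hsq : ∀ r, ρ (η r) = φ' (θ r) := fun r =>
    (Algebra.TensorProduct.algebraMap_apply r).symm.trans
      ((Algebra.TensorProduct.includeRight (R := R) (A := C) (B := A)).commutes r).symm
  let : Algebra A (C ⊗[R] A) := Algebra.TensorProduct.rightAlgebra
  let e := Groth.Agent.DRing.RelPC.sqIso θ η φ' ρ hsq (fun M =>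
    Groth.Agent.DRing.RelPC.bijective_sqHom θ η φ' ρ hsq inferInstance inferInstance inferInstance inferInstance
      (Algebra.algebra_ext _ _ fun _ => rfl) (Algebra.algebra_ext _ _ fun _ => rfl)
      (Algebra.algebra_ext _ _ fun _ => rfl) (Algebra.algebra_ext _ _ fun _ => rfl) M)
  have h3 : QuasiIso ((Groth.Agent.KFlat.BaseChange.resCx ρ).map ((Groth.Agent.KFlat.BaseChange.extCx φ').map π)) := by
    let eC := NatIso.mapHomologicalComplex e (ComplexShape.up ℤ)
    refine (quasiIso_iff_of_arrow_mk_iso _ _ (Arrow.isoMk (eC.app R₀) (eC.app S) ?_)).mp h2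
    exact (eC.hom.naturality π).symm
  have h4 : QuasiIso ((Groth.Agent.KFlat.BaseChange.extCx φ').map π) := (quasiIso_restrict ρ _).mp h3
  have : PreservesFiniteLimits (ModuleCat.extendScalars.{u, u, u} ν) :=
    ModuleCat.preservesFiniteLimits_extendScalars_of_flat hν
  have : (ModuleCat.extendScalars.{u, u, u} ν).PreservesHomology := Functor.preservesHomologyOfExact _
  have h5 : QuasiIso ((Groth.Agent.KFlat.BaseChange.extCx ν).map ((Groth.Agent.KFlat.BaseChange.extCx φ').map π)) :=
    inferInstance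
  subst hνψ
  let eE := NatIso.mapHomologicalComplex (ModuleCat.extendScalarsComp φ' ν).symm (ComplexShape.up ℤ)
  refine (quasiIso_iff_of_arrow_mk_iso _ _ (Arrow.isoMk (eE.app R₀) (eE.app S) ?_)).mp h5
  exact (eE.hom.naturality π).symm

end Ring

section Scheme

open Groth.Agent.KFlat (StalkCx.stCx StalkCx.stTensIso)
open Groth.Agent.KFlat.Pull

variable {X Y X' Y' : Scheme.{u}}

/-- Quasi-isomorphisms of complexes of modules are detected on stalks. -/
theorem quasiIso_of_stalk {K L : CochainComplex X.Modules ℤ} (s : K ⟶ L)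
    (h : ∀ x, QuasiIso ((Groth.Agent.KFlat.StalkCx.stCx x).map s)) : QuasiIso s :=
  (quasiIso_iff s).2 fun i => (quasiIsoAt_iff_isIso_homologyMap s i).2 <|
    Groth.Agent.KFlat.PullTensor.isIso_of_stalk_bijective _ fun x => by
      have := h x
      let φ := (HomologicalComplex.shortComplexFunctor X.Modules (ComplexShape.up ℤ) i).map s
      have h1 : IsIso (((DerSch.stalkFunctor X x).mapShortComplex ⋙ ShortComplex.homologyFunctor _).map φ) := by
        have h2 := (quasiIsoAt_iff_isIso_homologyMap ((Groth.Agent.KFlat.StalkCx.stCx x).map s) i).1 inferInstance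
        exact h2
      have : IsIso ((DerSch.stalkFunctor X x).map (HomologicalComplex.homologyMap s i)) :=
        (NatIso.isIso_map_iff (ShortComplex.homologyFunctorIso (DerSch.stalkFunctor X x)) φ).1 h1
      exact ConcreteCategory.bijective_of_isIso _

/-- Inverse image under a flat base change of a resolution of a bounded complex of modules flat over the base. -/
theorem quasiIso_pull {p : X' ⟶ X} {q : X' ⟶ Y'} {f : X ⟶ Y} {g : Y' ⟶ Y}
    (sq : IsPullback p q f g) [Flat f] {P E₀ : CochainComplex X.Modules ℤ} (s : P ⟶ E₀) [QuasiIso s]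
    (hP : DCoh.IsKFlat P) {a b : ℤ} (hv : DCoh.VanishesOutside E₀ a b)
    (hfl : ∀ i, FlatMod.IsFlatOver f (E₀.X i)) : QuasiIso ((pullCx p).map s) := quasiIso_of_stalk _ fun x' => by
  have he : g (q x') = f (p x') := by rw [← Scheme.Hom.comp_apply, ← Scheme.Hom.comp_apply, sq.w]
  let σ := Y.presheaf.stalkSpecializes (specializes_of_eq he)
  let φ : Y.presheaf.stalk (f (p x')) ⟶ Y'.presheaf.stalk (q x') := σ ≫ g.stalkMap (q x')
  have hσ : Function.Bijective σ.hom :=
    ConcreteCategory.bijective_of_isIso (Y.presheaf.stalkCongr (Inseparable.of_eq he.symm)).hom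
  let : Algebra (Y.presheaf.stalk (f (p x'))) (X.presheaf.stalk (p x')) := (f.stalkMap (p x')).hom.toAlgebra
  let : Algebra (Y.presheaf.stalk (f (p x'))) (Y'.presheaf.stalk (q x')) := φ.hom.toAlgebra
  let : Algebra (X.presheaf.stalk (p x')) (X'.presheaf.stalk x') := (p.stalkMap x').hom.toAlgebra
  let : Algebra (Y'.presheaf.stalk (q x')) (X'.presheaf.stalk x') := (q.stalkMap x').hom.toAlgebra
  let : Algebra (Y.presheaf.stalk (f (p x'))) (X'.presheaf.stalk x') :=
    (f.stalkMap (p x') ≫ p.stalkMap x').hom.toAlgebra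
  have : IsScalarTower (Y.presheaf.stalk (f (p x'))) (X.presheaf.stalk (p x')) (X'.presheaf.stalk x') :=
    IsScalarTower.of_algebraMap_eq' rfl
  have : IsScalarTower (Y.presheaf.stalk (f (p x'))) (Y'.presheaf.stalk (q x')) (X'.presheaf.stalk x') := by
    refine IsScalarTower.of_algebraMap_eq' (congrArg CommRingCat.Hom.hom
      (?_ : f.stalkMap (p x') ≫ p.stalkMap x' = φ ≫ q.stalkMap x'))
    rw [← Scheme.Hom.stalkMap_comp, Scheme.Hom.stalkMap_congr_hom _ _ sq.w x', Category.assoc,
      Scheme.Hom.stalkMap_comp]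
    rfl
  let R := Y'.presheaf.stalk (q x') ⊗[Y.presheaf.stalk (f (p x'))] X.presheaf.stalk (p x')
  let μ : R →ₐ[Y.presheaf.stalk (f (p x'))] X'.presheaf.stalk x' :=
    Algebra.TensorProduct.productMap (IsScalarTower.toAlgHom _ _ _) (IsScalarTower.toAlgHom _ _ _)
  have hμ : μ.toRingHom.Flat := FDesc.BaseChangeStalk.flat_stalk_of_isPullback sq x' (CommRingCat.ofHom μ.toRingHom)
    (by ext a; exact Algebra.TensorProduct.productMap_left_apply _ _ a)
    (by ext a; exact Algebra.TensorProduct.productMap_right_apply _ _ a) rfl rfl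
  let inr : X.presheaf.stalk (p x') →+* R :=
    (Algebra.TensorProduct.includeRight (R := Y.presheaf.stalk (f (p x')))
      (A := Y'.presheaf.stalk (q x'))).toRingHom
  have hr : μ.toRingHom.comp inr = (p.stalkMap x').hom :=
    RingHom.ext fun b => Algebra.TensorProduct.productMap_right_apply _ _ b
  have hl : μ.toRingHom.comp (Algebra.TensorProduct.includeLeftRingHom : Y'.presheaf.stalk (q x') →+* R) =
      (q.stalkMap x').hom :=
    RingHom.ext fun b => Algebra.TensorProduct.productMap_left_apply _ _ b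
  let st := Groth.Agent.KFlat.StalkCx.stCx (p x')
  have hflat : Module.Flat (Y.presheaf.stalk (f (p x'))) (X.presheaf.stalk (p x')) := Flat.stalkMap f (p x')
  have hk₁ := Thick.isKFlat_restrict_flat (f.stalkMap (p x')).hom (Flat.stalkMap f (p x'))
    ((Groth.Agent.KFlat.StalkCx.isKFlat_iff_stalk P).1 hP (p x'))
  have hk₂ : DRing.IsKFlat (Y.presheaf.stalk (f (p x')))
      ((Groth.Agent.KFlat.BaseChange.resCx (f.stalkMap (p x')).hom).obj (st.obj E₀)) :=
    TorAmp.isKFlat_of_flat (a := a) (b := b) (fun i hi => (ModuleCat.restrictScalars (f.stalkMap (p x')).hom).map_isZero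
      ((DerSch.stalkFunctor X (p x')).map_isZero (hv i hi))) fun i => hfl i (p x')
  have hs : QuasiIso (st.map s) :=
    inferInstanceAs (QuasiIso (((DerSch.stalkFunctor X (p x')).mapHomologicalComplex _).map s))
  have h1 := quasiIso_ext_indep (p.stalkMap x').hom μ.toRingHom hμ hr (st.map s) hs hk₁ hk₂
  refine (quasiIso_iff_of_arrow_mk_iso _ _ (Arrow.isoMk (stPullIso p x' P).symm (stPullIso p x' E₀).symm ?_)).mp h1
  rw [Iso.symm_hom, Iso.symm_hom, Iso.eq_comp_inv, Category.assoc, Iso.inv_comp_eq]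
  exact HomologicalComplex.hom_ext _ _ fun n => (stalkPullIso p x').hom.naturality (s.f n)

/-- Flat amplitude relative to a flat morphism is stable under base change. -/
theorem hasRelFlatAmplitudeIn_Lpull {p : X' ⟶ X} {q : X' ⟶ Y'} {f : X ⟶ Y} {g : Y' ⟶ Y}
    (sq : IsPullback p q f g) [Flat f] [DCoh.HasLpull p] {E : DCoh.D X} {a b : ℤ}
    (hE : DCoh.HasRelFlatAmplitudeIn f a b E) :
    DCoh.HasRelFlatAmplitudeIn q a b ((DCoh.Lpull p).obj E) := by
  obtain ⟨E₀, hv, hfl, ⟨e⟩⟩ := hE
  have := quasiIso_resYπ E₀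
  have := quasiIso_pull sq ((resYπ X).app E₀) (isKFlat_resY E₀) hv hfl
  have := isIso_toPull p (isKFlat_resY E₀)
  refine ⟨(pullCx p).obj E₀, fun i hi => (Scheme.Modules.pullback p).map_isZero (hv i hi), fun i x' =>
    FDesc.BaseChangeStalk.flatOverAt_baseChange sq x' (E₀.X i) (hfl i (p x')), ⟨?_⟩⟩
  exact (asIso (Q.map ((pullCx p).map ((resYπ X).app E₀)))).symm ≪≫ (asIso ((toPull p).app ((resY X).obj E₀))).symm ≪≫
    (DCoh.Lpull p).mapIso (asIso (Q.map ((resYπ X).app E₀)) ≪≫ e)

end Scheme

end Groth.Agent.PCohD.RelFlatAmpBC
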