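import Groth.Agent.PCohD.RelModule
import Groth.Agent.FlatMor.PC.FlatModule
import Groth.Agent.FlatSect.Basic
import Groth.Agent.DRing.PCTrunc
import Groth.Agent.DRing.TorBalance

/-!
# Flat relatively finitely presented modules: relative pseudo-coherence and tor amplitude
-/

set_option autoImplicit false
set_option backward.isDefEq.respectTransparency.types false

universe u

open CategoryTheory Limits AlgebraicGeometry
attribute [local instance] HasDerivedCategory.standard

noncomputable section

namespace Groth.Agent.PCohD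

variable {X S : Scheme.{u}} {f : X ⟶ S}

/-- The ring-level statement: flat and presented through a polynomial ring. -/
theorem isRelPCModule_of_flat {R B : Type u} [CommRing R] [CommRing B] [Algebra R B] {n : ℕ}
    (α : MvPolynomial (Fin n) R →ₐ[R] B) (hα : Function.Surjective α) (M : Type u) [AddCommGroup M]
    [Module B M] [Module R M] [IsScalarTower R B M] [Module.Flat R M]
    (hfp : @Module.FinitePresentation (MvPolynomial (Fin n) R) M _ _ (Module.compHom M α.toRingHom))
    (m : ℤ) : DerCA.IsRelPseudoCoherentModule R B m M := by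
  letI : Module (MvPolynomial (Fin n) R) M := Module.compHom M α.toRingHom
  haveI hT : IsScalarTower R (MvPolynomial (Fin n) R) M := IsScalarTower.of_algebraMap_smul fun r x => by
    show α (algebraMap R (MvPolynomial (Fin n) R) r) • x = r • x
    rw [α.commutes, algebraMap_smul]
  haveI := hfp
  exact ((DRing.RelPC.isRel_iff α hα _ m).trans
    (DRing.RelPC.pcModule_restrict_iff _ (ModuleCat.of B M) m)).2 (@FlatMor.PC.pcModule_of_flat_fp R _ n M _ (Module.compHom M α.toRingHom) _ hT _ hfp m)

/-- The same, for a ring map. -/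
theorem isRelPCModule_of_flat' {R B : Type u} [CommRing R] [CommRing B] (c : R →+* B)
    (M : Type u) [AddCommGroup M] [Module B M]
    (hflat : letI := Module.compHom M c; Module.Flat R M)
    (hfp : letI := c.toAlgebra; ∃ (n : ℕ) (α : MvPolynomial (Fin n) R →ₐ[R] B), Function.Surjective α ∧
      @Module.FinitePresentation (MvPolynomial (Fin n) R) M _ _ (Module.compHom M α.toRingHom))
    (m : ℤ) : letI := c.toAlgebra; DerCA.IsRelPseudoCoherentModule R B m M := by
  letI := c.toAlgebra
  letI : Module R M := Module.compHom M c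
  haveI : IsScalarTower R B M := IsScalarTower.of_algebraMap_smul fun _ _ => rfl
  haveI := hflat
  obtain ⟨n, α, hα, hfpM⟩ := hfp
  exact isRelPCModule_of_flat α hα M hfpM m

/-- A module flat over the base and finitely presented relative to `f` is pseudo-coherent relative to `f`. -/
theorem rel_inD_of_flat [LocallyOfFiniteType f] (M : X.Modules) (hfl : FlatMod.IsFlatOver f M)
    (hfp : DerSch.IsPseudoCoherentRel f (-1) (DCoh.inD X M)) (m : ℤ) :
    DerSch.IsPseudoCoherentRel f m (DCoh.inD X M) := by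
  obtain ⟨hq, h⟩ := (rel_inD_negOne_iff M).1 hfp
  haveI : M.IsQuasicoherent := hq
  refine rel_iff.2 fun U V hUV => ?_
  have := KFlat.TildeExact.preservesFiniteLimits_tilde Γ(X, (U : X.Opens))
  obtain ⟨e⟩ := nonempty_module_sections M U.2
  refine (P_iff_isRel U.2 V.2 hUV _ e).2 ?_
  have h' := (Flatn.relFPOn_iff _ _ _ _ _).1 ((RelFP.isRelFP_iff_forall f M).1 h U V hUV)
  exact isRelPCModule_of_flat' (f.appLE (V : S.Opens) (U : X.Opens) hUV).hom Γ(M, (U : X.Opens))
    (FlatSect.flat_sections_of_isFlatOverAt f V.2 U.2 hUV (F := M) fun x _ => hfl x) h' m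

/-- The complex of stalks of a module in degree zero. -/
theorem torAmp_single_iff (f : X ⟶ S) (M : X.Modules) (x : X) :
    DerSch.HasTorAmplitudeAt f 0 0 ((HomologicalComplex.single _ (ComplexShape.up ℤ) 0).obj M) x ↔
      FlatMod.IsFlatOverAt f M x := by
  let N := (DerSch.stalkOver f x).obj M
  let e : DRing.toD ((DerSch.stalkCxOver f x).obj ((HomologicalComplex.single _ (ComplexShape.up ℤ) 0).obj M)) ≅
      Dual.inD _ N :=
    DerivedCategory.Q.mapIso ((HomologicalComplex.singleMapHomologicalComplex (DerSch.stalkOver f x)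
      (ComplexShape.up ℤ) 0).app M) ≪≫
      ((DerivedCategory.singleFunctorIsoCompQ (ModuleCat.{u} _) 0).app N).symm
  exact Iff.trans ⟨DRing.TorAmp.torAmp_of_iso e, DRing.TorAmp.torAmp_of_iso e.symm⟩
    ((DRing.TorBalance.hasTorDimLE_iff 0 N).symm.trans (DRing.TorBalance.hasTorDimLE_zero_iff N))

/-- A bounded complex of flat modules has the evident tor amplitude. -/
theorem torAmp_of_flat_terms (f : X ⟶ S) (E : CochainComplex X.Modules ℤ) (a b : ℤ)
    (hab : DCoh.VanishesOutside E a b) (hfl : ∀ i : ℤ, FlatMod.IsFlatOver f (E.X i)) :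
    DerSch.HasTorAmplitude f a b E := fun x =>
  ⟨(DerSch.stalkCxOver f x).obj E,
    fun i hi => (DerSch.stalkOver f x).map_isZero (hab i hi), fun i => hfl i x, ⟨Iso.refl _⟩⟩

/-- Relative pseudo-coherence is invariant under isomorphism. -/
theorem rel_congr_iso {K K' : DCoh.D X} (e : K ≅ K') {m : ℤ} (h : DerSch.IsPseudoCoherentRel f m K) :
    DerSch.IsPseudoCoherentRel f m K' := by
  obtain ⟨hf, 𝒱, h𝒱, H⟩ := h
  refine ⟨hf, 𝒱, h𝒱, fun V hV => ?_⟩
  obtain ⟨𝒰, h𝒰, H'⟩ := H V hV
  refine ⟨𝒰, h𝒰, fun U hU h => ?_⟩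
  obtain ⟨n, φ, hc, hpc⟩ := H' U hU h
  exact ⟨n, φ, hc, fun G ⟨eG⟩ => hpc G ⟨eG ≪≫ e.symm⟩⟩

/-- A bounded above complex of such modules is pseudo-coherent relative to `f`. -/
theorem relAll_of_flat_terms [LocallyOfFiniteType f] (E : CochainComplex X.Modules ℤ) (b : ℤ)
    (hb : ∀ i : ℤ, b < i → IsZero (E.X i)) (hfl : ∀ i : ℤ, FlatMod.IsFlatOver f (E.X i))
    (hfp : ∀ i : ℤ, DerSch.IsPseudoCoherentRel f (-1)
      (DCoh.toD X ((HomologicalComplex.single _ (ComplexShape.up ℤ) 0).obj (E.X i)))) :
    DerSch.IsPseudoCoherentRelAll f (DCoh.toD X E) := fun m => by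
  refine rel_of_terms E b hb fun q => rel_inD_of_flat _ (hfl q) ?_ _
  exact rel_congr_iso (((DerivedCategory.singleFunctorIsoCompQ X.Modules 0).app (E.X q)).symm) (hfp q)

end Groth.Agent.PCohD
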