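import Groth.Agent.PCohD.Chart
import Mathlib.RingTheory.MvPolynomial.Localization
import Mathlib.RingTheory.Smooth.Basic

/-!
# Relative pseudo-coherence: independence of charts, locality
-/

set_option autoImplicit false

universe u

open CategoryTheory Limits AlgebraicGeometry
attribute [local instance] HasDerivedCategory.standard

noncomputable section

namespace Groth.Agent.PCohD

variable {X S : Scheme.{u}}

/-- The test along the morphism of an open into a spectrum. -/
def TC (m : ℤ) (K : DCoh.D X) (U : X.Opens) {A : Type u} [CommRing A] (θ : A →+* Γ(X, U)) : Prop :=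
  ∀ [IsClosedImmersion (cIm U θ)], Test m U.ι (cIm U θ) K

theorem tc_iff {m : ℤ} {K : DCoh.D X} {U : X.Opens} {A : Type u} [CommRing A] (θ : A →+* Γ(X, U))
    [IsClosedImmersion (cIm U θ)] : TC m K U θ ↔ Test m U.ι (cIm U θ) K :=
  ⟨fun h => h, fun h => @fun _ => h⟩

theorem chartPC_iff {m : ℤ} {K : DCoh.D X} {U : X.Opens} (hU : IsAffineOpen U) {V : S.Opens} {n : ℕ}
    {φ : MvPolynomial (Fin n) Γ(S, V) →+* Γ(X, U)} (hφ : Function.Surjective φ) :
    DerSch.ChartPC m K U V φ ↔ TC m K U φ := by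
  have := isClosedImmersion_cIm hU hφ
  have : IsClosedImmersion (DerSch.chartImm U φ) := this
  rw [chartPC_iff_test, tc_iff]
  rfl

variable {m : ℤ} {K : DCoh.D X} {U : X.Opens}

section Algebra

variable {R A B : Type u} [CommRing R] [CommRing A] [CommRing B] [Algebra R A] [Algebra R B]

theorem tc_comp (hU : IsAffineOpen U) [Algebra.Smooth R A] [Module.Flat R B]
    [Algebra.FinitePresentation R B] (σ : A →ₐ[R] B) (hσ : Function.Surjective σ)
    (θ : B →+* Γ(X, U)) (hθ : Function.Surjective θ) :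
    TC m K U (θ.comp σ.toRingHom) ↔ TC m K U θ := by
  have := isClosedImmersion_cIm hU hθ
  have : IsClosedImmersion (Spec.map (CommRingCat.ofHom σ.toRingHom)) :=
    IsClosedImmersion.spec_of_surjective _ hσ
  have := isClosedImmersion_cIm hU (θ := θ.comp σ.toRingHom) (hθ.comp hσ)
  rw [tc_iff, tc_iff, test_congr (o' := U.ι) (i' := cIm U θ ≫ Spec.map (CommRingCat.ofHom σ.toRingHom))
    rfl (cIm_comp U σ.toRingHom θ) K]
  exact test_closed _ _ _ (hasPCUnit_SpecMap σ hσ) K

/-- Any two presentations of the sections over the base give the same test. -/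
theorem tc_indep (hU : IsAffineOpen U) {ι κ : Type} [Finite ι] [Finite κ] (c : R →+* Γ(X, U))
    (φ : MvPolynomial ι R →+* Γ(X, U)) (ψ : MvPolynomial κ R →+* Γ(X, U))
    (hφ : Function.Surjective φ) (hψ : Function.Surjective ψ)
    (hφc : φ.comp MvPolynomial.C = c) (hψc : ψ.comp MvPolynomial.C = c) :
    TC m K U φ ↔ TC m K U ψ := by
  classical
  choose g hg using fun k => hφ (ψ (MvPolynomial.X k))
  choose g' hg' using fun i => hψ (φ (MvPolynomial.X i))
  let σ : MvPolynomial (ι ⊕ κ) R →ₐ[R] MvPolynomial ι R :=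
    MvPolynomial.aeval (Sum.elim MvPolynomial.X g)
  let σ' : MvPolynomial (ι ⊕ κ) R →ₐ[R] MvPolynomial κ R :=
    MvPolynomial.aeval (Sum.elim g' MvPolynomial.X)
  have hσ : Function.Surjective σ := fun p =>
    ⟨MvPolynomial.rename Sum.inl p, by simp [σ, MvPolynomial.aeval_rename, MvPolynomial.bind₁_rename, MvPolynomial.bind₁_X_left]⟩
  have hσ' : Function.Surjective σ' := fun p =>
    ⟨MvPolynomial.rename Sum.inr p, by simp [σ', MvPolynomial.aeval_rename, MvPolynomial.bind₁_rename, MvPolynomial.bind₁_X_left]⟩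
  have e : φ.comp σ.toRingHom = ψ.comp σ'.toRingHom := by
    refine MvPolynomial.ringHom_ext (fun r => ?_) (fun i => ?_)
    · have h1 : φ (MvPolynomial.C r) = c r := congr($hφc r)
      have h2 : ψ (MvPolynomial.C r) = c r := congr($hψc r)
      simp [σ, σ', h1, h2]
    · rcases i with i | k
      · simp [σ, σ', hg']
      · simp [σ, σ', hg]
  have : Algebra.FinitePresentation R (MvPolynomial ι R) := inferInstance
  have : Algebra.FinitePresentation R (MvPolynomial κ R) := inferInstance
  have : Algebra.Smooth R (MvPolynomial (ι ⊕ κ) R) := ⟨inferInstance, inferInstance⟩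
  rw [← tc_comp hU σ hσ φ hφ, ← tc_comp hU σ' hσ' ψ hψ, e]

/-- A flat finitely presented presentation gives the same test as a polynomial one. -/
theorem tc_iff_poly (hU : IsAffineOpen U) [Module.Flat R A] [Algebra.FinitePresentation R A]
    (θ : A →+* Γ(X, U)) (hθ : Function.Surjective θ) {n : ℕ} (ψ : MvPolynomial (Fin n) R →+* Γ(X, U))
    (hψ : Function.Surjective ψ) (hc : ψ.comp MvPolynomial.C = θ.comp (algebraMap R A)) :
    TC m K U θ ↔ TC m K U ψ := by
  obtain ⟨k, f, hf⟩ := Algebra.FiniteType.iff_quotient_mvPolynomial''.1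
    (inferInstance : Algebra.FiniteType R A)
  have : Algebra.Smooth R (MvPolynomial (Fin k) R) := ⟨inferInstance, inferInstance⟩
  rw [← tc_comp hU f hf θ hθ]
  refine tc_indep hU (θ.comp (algebraMap R A)) _ _ (hθ.comp hf) hψ ?_ hc
  ext r; simp

/-- A polynomial presentation along a flat finitely presented one. -/
theorem exists_poly [Algebra.FiniteType R A] (θ : A →+* Γ(X, U)) (hθ : Function.Surjective θ) :
    ∃ (n : ℕ) (ψ : MvPolynomial (Fin n) R →+* Γ(X, U)),
      Function.Surjective ψ ∧ ψ.comp MvPolynomial.C = θ.comp (algebraMap R A) := by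
  obtain ⟨k, f, hf⟩ := Algebra.FiniteType.iff_quotient_mvPolynomial''.1 ‹Algebra.FiniteType R A›
  exact ⟨k, θ.comp f.toRingHom, hθ.comp hf, by ext r; simp⟩

end Algebra

section Basic

variable {A : Type u} [CommRing A]

/-- The induced presentation of the sections over a basic open. -/
def θAway (θ : A →+* Γ(X, U)) (a : A) : Localization.Away a →+* Γ(X, X.basicOpen (θ a)) :=
  IsLocalization.Away.lift (S := Localization.Away a) a
    (g := (X.presheaf.map (homOfLE (X.basicOpen_le (θ a))).op).hom.comp θ)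
    (RingedSpace.isUnit_res_basicOpen _ (θ a))

theorem θAway_comp (θ : A →+* Γ(X, U)) (a : A) :
    (θAway θ a).comp (algebraMap A (Localization.Away a)) =
      (X.presheaf.map (homOfLE (X.basicOpen_le (θ a))).op).hom.comp θ :=
  IsLocalization.lift_comp _

theorem θAway_surjective (hU : IsAffineOpen U) (θ : A →+* Γ(X, U)) (hθ : Function.Surjective θ)
    (a : A) : Function.Surjective (θAway θ a) := by
  intro y
  let _ := (X.presheaf.map (homOfLE (X.basicOpen_le (θ a))).op).hom.toAlgebra
  have := hU.isLocalization_basicOpen (θ a)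
  obtain ⟨⟨b, ⟨_, k, rfl⟩⟩, hy⟩ := IsLocalization.surj (Submonoid.powers (θ a)) y
  obtain ⟨b', rfl⟩ := hθ b
  refine ⟨IsLocalization.mk' (Localization.Away a) b' (⟨a ^ k, k, rfl⟩ : Submonoid.powers a), ?_⟩
  rw [θAway, IsLocalization.Away.lift, IsLocalization.lift_mk'_spec]
  simpa [RingHom.algebraMap_toAlgebra, mul_comm] using hy.symm

theorem preimage_cIm_basicOpen (θ : A →+* Γ(X, U)) (a : A) :
    cIm U θ ⁻¹ᵁ PrimeSpectrum.basicOpen a = U.ι ⁻¹ᵁ X.basicOpen (θ a) := by
  rw [cIm, Scheme.Hom.comp_preimage]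
  exact (congrArg (U.toSpecΓ ⁻¹ᵁ ·) (TopologicalSpace.Opens.ext rfl)).trans
    (Scheme.Opens.toSpecΓ_preimage_basicOpen U (θ a))

theorem opensRange_away (a : A) :
    (Spec.map (CommRingCat.ofHom (algebraMap A (Localization.Away a)))).opensRange =
      PrimeSpectrum.basicOpen a :=
  TopologicalSpace.Opens.ext (PrimeSpectrum.localization_away_comap_range _ a)

theorem tc_away_iff (hU : IsAffineOpen U) (θ : A →+* Γ(X, U)) (hθ : Function.Surjective θ) (a : A) :
    (∀ [IsClosedImmersion (cIm U θ)],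
      Test m ((cIm U θ ⁻¹ᵁ PrimeSpectrum.basicOpen a).ι ≫ U.ι) (cIm U θ ∣_ PrimeSpectrum.basicOpen a) K) ↔
      TC m K (X.basicOpen (θ a)) (θAway θ a) := by
  have := isClosedImmersion_cIm hU hθ
  have := isClosedImmersion_cIm (hU.basicOpen (θ a)) (θAway_surjective hU θ hθ a)
  have hle := X.basicOpen_le (θ a)
  let j := Spec.map (CommRingCat.ofHom (algebraMap A (Localization.Away a)))
  have h : cIm _ (θAway θ a) ≫ j = X.homOfLE hle ≫ cIm U θ := by
    rw [← cIm_comp, θAway_comp, cIm_res]
  have hr : cIm U θ ⁻¹ᵁ j.opensRange = (X.homOfLE hle).opensRange := by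
    rw [opensRange_away, preimage_cIm_basicOpen, Scheme.opensRange_homOfLE]
  have key := test_square_iff (m := m) U.ι (cIm U θ) (X.homOfLE hle) j (cIm _ (θAway θ a)) h hr K
  have hW : ∀ W : (Spec (CommRingCat.of A)).Opens, W = j.opensRange →
      (Test m ((cIm U θ ⁻¹ᵁ W).ι ≫ U.ι) (cIm U θ ∣_ W) K ↔
        Test m (X.homOfLE hle ≫ U.ι) (cIm _ (θAway θ a)) K) := by
    rintro W rfl; exact key
  rw [tc_iff, test_congr (o := (X.basicOpen (θ a)).ι) (o' := X.homOfLE hle ≫ U.ι)
    (i' := cIm _ (θAway θ a)) (Scheme.homOfLE_ι _ _).symm rfl K]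
  exact ⟨fun h' => (hW _ (opensRange_away a).symm).1 h',
    fun h' => @fun _ => (hW _ (opensRange_away a).symm).2 h'⟩

theorem tc_basic (hU : IsAffineOpen U) (θ : A →+* Γ(X, U)) (hθ : Function.Surjective θ) (a : A)
    (h : TC m K U θ) : TC m K (X.basicOpen (θ a)) (θAway θ a) :=
  (tc_away_iff hU θ hθ a).1 (@fun _ => test_restrict _ _ _ _ h)

theorem tc_of_cover (hU : IsAffineOpen U) (θ : A →+* Γ(X, U)) (hθ : Function.Surjective θ)
    (h : ∀ x ∈ U, ∃ a : A, x ∈ X.basicOpen (θ a) ∧ TC m K (X.basicOpen (θ a)) (θAway θ a)) :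
    TC m K U θ := by
  have := isClosedImmersion_cIm hU hθ
  intro _
  refine test_of_cover _ _ K fun u => ?_
  obtain ⟨a, hu, ha⟩ := h u.1 u.2
  refine ⟨PrimeSpectrum.basicOpen a, ?_, (tc_away_iff hU θ hθ a).2 ha⟩
  have : u ∈ cIm U θ ⁻¹ᵁ PrimeSpectrum.basicOpen a := by
    rw [preimage_cIm_basicOpen]; exact hu
  exact this

/-- Replacing the base ring by a localisation containing the image. -/
theorem tc_localized_base (hU : IsAffineOpen U) {B : Type u} [CommRing B] [Algebra A B] (s : A)
    [IsLocalization.Away s B] (θ : B →+* Γ(X, U)) (hθ : Function.Surjective θ)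
    (hθ' : Function.Surjective (θ.comp (algebraMap A B))) :
    TC m K U (θ.comp (algebraMap A B)) ↔ TC m K U θ := by
  have := isClosedImmersion_cIm hU hθ
  have := isClosedImmersion_cIm hU hθ'
  have : IsOpenImmersion (Spec.map (CommRingCat.ofHom (algebraMap A B))) :=
    IsOpenImmersion.of_isLocalization s
  rw [tc_iff, tc_iff]
  exact test_open _ _ _ _ (cIm_comp U _ θ).symm K

end Basic

end Groth.Agent.PCohD
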