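import Groth.Agent.PCohD.NPC
import Groth.Agent.PCohD.NPCSquare
import Groth.Agent.PCohD.RelQcoh
import Groth.Agent.DRing.RelPCTorBC
import Groth.Agent.S3527

/-!
# Relative pseudo-coherence and flat base change
-/

set_option autoImplicit false
set_option backward.isDefEq.respectTransparency.types false

universe u

open CategoryTheory Limits AlgebraicGeometry
attribute [local instance] HasDerivedCategory.standard

noncomputable section

namespace Groth.Agent.PCohD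

variable {X Y Y' : Scheme.{u}}

/-- The inverse image on a flat base change of a relatively pseudo-coherent complex. -/
theorem rel_flatBC (f : X ⟶ Y) [LocallyOfFiniteType f] (h : Y' ⟶ Y) [Flat h]
    [DCoh.HasLpull (pullback.fst f h)] {m : ℤ} (E : DCoh.D X) (hq : DCoh.IsQCohD E)
    (hE : DerSch.IsPseudoCoherentRel f m E) :
    DerSch.IsPseudoCoherentRel (pullback.snd f h) m ((DCoh.Lpull (pullback.fst f h)).obj E) := by
  refine ⟨inferInstance, {V' | ∃ V : Y.affineOpens, (V' : Y'.Opens) ≤ h ⁻¹ᵁ (V : Y.Opens)}, ?_, ?_⟩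
  · refine eq_top_iff.2 fun y _ => ?_
    obtain ⟨V, hV, hyV, -⟩ := exists_isAffineOpen_mem_and_subset (x := h y) (U := ⊤) trivial
    obtain ⟨V', hV', hy, hle⟩ := exists_isAffineOpen_mem_and_subset (x := y) (U := h ⁻¹ᵁ V) hyV
    simp only [TopologicalSpace.Opens.mem_iSup, exists_prop]
    exact ⟨⟨V', hV'⟩, ⟨⟨V, hV⟩, hle⟩, hy⟩
  rintro ⟨V', hV'⟩ ⟨⟨V, hV⟩, e'⟩
  refine ⟨{W | ∃ U : X.affineOpens, (U : X.Opens) ≤ f ⁻¹ᵁ V ∧
    (W : (pullback f h).Opens) = pullback.fst f h ⁻¹ᵁ (U : X.Opens) ⊓ pullback.snd f h ⁻¹ᵁ V'},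
    le_antisymm ?_ ?_, ?_⟩
  · refine iSup₂_le ?_
    rintro W ⟨U, -, e⟩ x hx
    rw [e] at hx
    exact hx.2
  · intro x hx
    have hx' : f (pullback.fst f h x) ∈ V := by
      have := e' hx
      rwa [← Scheme.Hom.comp_apply, pullback.condition, Scheme.Hom.comp_apply]
    obtain ⟨U, hU, hxU, hle⟩ := exists_isAffineOpen_mem_and_subset (x := pullback.fst f h x) (U := f ⁻¹ᵁ V) hx'
    obtain ⟨W, hW, e₁, e₂, hWeq, -⟩ := exists_pushout f h hV hU hV' hle e'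
    simp only [TopologicalSpace.Opens.mem_iSup, exists_prop]
    exact ⟨⟨W, hW⟩, ⟨⟨U, hU⟩, hle, hWeq⟩, hWeq ▸ ⟨hxU, hx⟩⟩
  rintro ⟨W, hW⟩ ⟨⟨U, hU⟩, e, hWeq'⟩ h'
  obtain ⟨W₀, -, e₁, e₂, hWeq, hpo⟩ := exists_pushout f h hV hU hV' e e'
  obtain rfl : W₀ = W := hWeq.trans hWeq'.symm
  refine (P_iff_chartPC hW h').1 ?_
  have := KFlat.TildeExact.preservesFiniteLimits_tilde Γ(X, U)
  have := KFlat.TildeExact.preservesFiniteLimits_tilde Γ(pullback f h, W₀)
  obtain ⟨M, ⟨eM⟩⟩ := KFlat.TildeD.exists_iso_of_isQCohD (R := Γ(X, U)) _ (isQCohD_pushD_isoSpec hq hU)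
  let _ := (f.appLE V U e).hom.toAlgebra
  let _ := (h.appLE V V' e').hom.toAlgebra
  let _ := ((pullback.fst f h).appLE U W₀ e₁).hom.toAlgebra
  let _ := ((pullback.snd f h).appLE V' W₀ e₂).hom.toAlgebra
  let _ : Algebra Γ(Y, V) Γ(pullback f h, W₀) :=
    ((algebraMap Γ(Y', V') Γ(pullback f h, W₀)).comp (algebraMap Γ(Y, V) Γ(Y', V'))).toAlgebra
  have : IsScalarTower Γ(Y, V) Γ(Y', V') Γ(pullback f h, W₀) := .of_algebraMap_eq fun _ => rfl
  have : IsScalarTower Γ(Y, V) Γ(X, U) Γ(pullback f h, W₀) :=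
    .of_algebraMap_eq' (congrArg CommRingCat.Hom.hom hpo.w).symm
  have : Algebra.IsPushout Γ(Y, V) Γ(X, U) Γ(Y', V') Γ(pullback f h, W₀) :=
    CommRingCat.isPushout_iff_isPushout.mp hpo
  have : Module.Flat Γ(Y, V) Γ(Y', V') := h.flat_appLE hV hV' e'
  have : Algebra.FiniteType Γ(Y, V) Γ(X, U) := f.finiteType_appLE hV hU e
  have := DRing.LTensor.hasLBaseChange ((pullback.fst f h).appLE U W₀ e₁).hom
  obtain ⟨eL⟩ := nonempty_sections_lpull (pullback.fst f h) E hU hW e₁ M eM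
  exact (P_iff_isRel hW hV' h' _ eL).2
    (DRing.RelPCTorBC.isRel_baseChange (R := Γ(Y, V)) (A := Γ(X, U)) (R' := Γ(Y', V'))
      (fun p hp => (S3527.result Γ(Y, V) Γ(Y', V') Γ(X, U) p hp).2)
      ((pullback.fst f h).appLE U W₀ e₁).hom rfl M ((P_iff_isRel hU hV e M eM).1 (P_of_rel hE hU hV e)))

end Groth.Agent.PCohD
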