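import Groth.Agent.PCohD.RelPCTensorAt
import Groth.Agent.KFlat.QCohModel

/-!
# Relative pseudo-coherence of external products in a fixed degree
-/

set_option autoImplicit false

universe u

open CategoryTheory CategoryTheory.Limits DerivedCategory MonoidalCategory AlgebraicGeometry

attribute [local instance] HasDerivedCategory.standard

noncomputable section

namespace Groth.Agent.PCohD.RelPCIndep

open Groth.Agent.DRing Groth.Agent.DRing.KFlat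
open Groth.Agent.KFlat.Pull
open Groth.Agent.Dual3RHom (TildeLT.tC)
open RelPCTensor (rel_of_iso restrictPullIso exists_chartModel_at)

variable {X Y X' Y' S Y₁ : Scheme.{u}}

theorem isLE_of_iso {K L : DCoh.D X} (e : K ≅ L) (d : ℤ) [K.IsLE d] : L.IsLE d :=
  (DerivedCategory.isLE_iff L d).2 fun i hi =>
    (DerivedCategory.isZero_of_isLE K d i hi).of_iso ((DerivedCategory.homologyFunctor _ i).mapIso e.symm)

/-- A derived pullback stays bounded above. -/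
theorem isLE_Lpull (p : X' ⟶ X) [DCoh.HasLpull p] (K : DCoh.D X) (d : ℤ) [K.IsLE d] :
    ((DCoh.Lpull p).obj K).IsLE d := by
  let A₀ := DerivedCategory.Q.objPreimage K
  let eA := DerivedCategory.Q.objObjPreimageIso K
  obtain ⟨P, g, hflat, hz, hg⟩ := Groth.Agent.KFlat.FlatRes.exists_flatRes A₀ d fun i hi =>
    (DerivedCategory.isZero_of_isLE K d i hi).of_iso (((homologyFunctorFactors X.Modules i).app A₀).symm ≪≫
      (homologyFunctor _ i).mapIso eA)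
  have hP : DCoh.IsKFlat P := Groth.Agent.KFlat.isKFlat_of_flat_boundedAbove P d hz hflat
  have := hg
  rw [DerivedCategory.isLE_iff]
  intro i hi
  refine IsZero.of_iso ?_ ((homologyFunctor _ i).mapIso ((DCoh.Lpull p).mapIso
    (asIso (DerivedCategory.Q.map g) ≪≫ eA).symm ≪≫
      @asIso _ _ _ _ ((toPull p).app P) (isIso_toPull p hP)) ≪≫ (homologyFunctorFactors _ i).app _)
  exact ShortComplex.isZero_homology_of_isZero_X₂ _
    ((Scheme.Modules.pullback p).map_isZero (hz i hi))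

/-- Derived tensor products add upper bounds. -/
theorem isLE_LTensor (G : CochainComplex X.Modules ℤ) [DCoh.HasLTensorCx G] {b c : ℤ}
    [(DCoh.toD X G).IsLE b] (A : DCoh.D X) [A.IsLE c] : ((DCoh.LTensorCx G).obj A).IsLE (c + b) := by
  obtain ⟨G', g, -, hz, hg⟩ := Groth.Agent.KFlat.FlatRes.exists_flatRes G b fun i hi =>
    (DerivedCategory.isZero_of_isLE (DCoh.toD X G) b i hi).of_iso
      ((homologyFunctorFactors X.Modules i).app G).symm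
  have := hg
  have := Groth.Agent.KFlat.LTensor.hasLTensorCx G'
  obtain ⟨e⟩ := Groth.Agent.KFlat.TensorTest.nonempty_LTensor_congr G G' (asIso (Q.map g)).symm A
  have := Groth.Agent.KFlat.TensorTest.isLE_LTensor G' b hz A c
  exact isLE_of_iso e.symm (c + b)

/-- Derived pullback of a relatively pseudo-coherent complex, base changed from a common base
over which source and target are flat, in a fixed degree. -/
theorem rel_indepBC_at {p : X' ⟶ X} {q : X' ⟶ Y'} {f : X ⟶ Y} {h : Y' ⟶ Y} (sq : IsPullback p q f h)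
    {q₂ : Y ⟶ S} {pY₁ : Y' ⟶ Y₁} {q₁ : Y₁ ⟶ S} (hY : IsPullback h pY₁ q₂ q₁)
    [Flat q₂] [Flat (f ≫ q₂)] [LocallyOfFiniteType f] [DCoh.HasLpull p]
    (E : CochainComplex X.Modules ℤ) {m d : ℤ} (hEq : DCoh.IsQCohD (DCoh.toD X E))
    (hE : DerSch.IsPseudoCoherentRel f m (DCoh.toD X E)) [(DCoh.toD X E).IsLE d] :
    DerSch.IsPseudoCoherentRel q m ((DCoh.Lpull p).obj (DCoh.toD X E)) := by
  have hq : LocallyOfFiniteType q := MorphismProperty.of_isPullback (P := @LocallyOfFiniteType) sq ‹_›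
  refine ⟨hq, {V' | ∃ (S₀ : S.affineOpens) (V : Y.affineOpens) (V₁ : Y₁.affineOpens),
    (V : Y.Opens) ≤ q₂ ⁻¹ᵁ (S₀ : S.Opens) ∧ (V₁ : Y₁.Opens) ≤ q₁ ⁻¹ᵁ (S₀ : S.Opens) ∧
      (V' : Y'.Opens) = h ⁻¹ᵁ (V : Y.Opens) ⊓ pY₁ ⁻¹ᵁ (V₁ : Y₁.Opens)}, ?_, ?_⟩
  · refine eq_top_iff.2 fun y _ => ?_
    obtain ⟨S₀, hS₀, hyS, -⟩ := exists_isAffineOpen_mem_and_subset (x := q₂ (h y)) (U := ⊤) trivial
    obtain ⟨V, hV, hyV, hV0⟩ := exists_isAffineOpen_mem_and_subset (x := h y) (U := q₂ ⁻¹ᵁ S₀) hyS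
    have hy₁ : q₁ (pY₁ y) ∈ S₀ := by
      rwa [← Scheme.Hom.comp_apply, ← hY.w, Scheme.Hom.comp_apply]
    obtain ⟨V₁, hV₁, hyV₁, hV10⟩ := exists_isAffineOpen_mem_and_subset (x := pY₁ y) (U := q₁ ⁻¹ᵁ S₀) hy₁
    obtain ⟨hV', -⟩ := affine_square hY hS₀ hV hV₁ hV0 hV10
    simp only [TopologicalSpace.Opens.mem_iSup, exists_prop]
    exact ⟨⟨_, hV'⟩, ⟨⟨S₀, hS₀⟩, ⟨V, hV⟩, ⟨V₁, hV₁⟩, hV0, hV10, rfl⟩, hyV, hyV₁⟩
  rintro ⟨V', hV'⟩ ⟨⟨S₀, hS₀⟩, ⟨V, hV⟩, ⟨V₁, hV₁⟩, hV0, hV10, hV'eq⟩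
  dsimp only at hV0 hV10 hV'eq ⊢
  subst hV'eq
  obtain ⟨-, hpoY⟩ := affine_square hY hS₀ hV hV₁ hV0 hV10
  refine ⟨{W | ∃ U : X.affineOpens, (U : X.Opens) ≤ f ⁻¹ᵁ V ∧
    (W : X'.Opens) = p ⁻¹ᵁ (U : X.Opens) ⊓ q ⁻¹ᵁ (h ⁻¹ᵁ V ⊓ pY₁ ⁻¹ᵁ V₁)}, le_antisymm ?_ ?_, ?_⟩
  · refine iSup₂_le ?_
    rintro W ⟨U, -, e⟩ x hx
    rw [e] at hx
    exact hx.2
  · intro x hx
    have hx' : f (p x) ∈ V := by
      rw [← Scheme.Hom.comp_apply, sq.w, Scheme.Hom.comp_apply]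
      exact hx.1
    obtain ⟨U, hU, hxU, hle⟩ := exists_isAffineOpen_mem_and_subset (x := p x) (U := f ⁻¹ᵁ V) hx'
    obtain ⟨hW, -⟩ := affine_square sq hV hU hV' hle inf_le_left
    simp only [TopologicalSpace.Opens.mem_iSup, exists_prop]
    exact ⟨⟨_, hW⟩, ⟨⟨U, hU⟩, hle, rfl⟩, hxU, hx⟩
  rintro ⟨W, hW⟩ ⟨⟨U, hU⟩, e, hWeq⟩ h'
  dsimp only at e hWeq h' ⊢
  subst hWeq
  obtain ⟨-, hpo⟩ := affine_square sq hV hU hV' e (inf_le_left : h ⁻¹ᵁ V ⊓ pY₁ ⁻¹ᵁ V₁ ≤ h ⁻¹ᵁ V)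
  refine (P_iff_chartPC hW h').1 ?_
  have : ∀ R : CommRingCat.{u}, PreservesFiniteLimits (tilde.functor R) := fun R =>
    Groth.Agent.KFlat.TildeExact.preservesFiniteLimits_tilde R
  let V'' : Y'.Opens := h ⁻¹ᵁ V ⊓ pY₁ ⁻¹ᵁ V₁
  let W' : X'.Opens := p ⁻¹ᵁ U ⊓ q ⁻¹ᵁ V''
  have e' : V'' ≤ h ⁻¹ᵁ V := inf_le_left
  have e₁ : W' ≤ p ⁻¹ᵁ U := inf_le_left
  have e₂ : W' ≤ q ⁻¹ᵁ V'' := inf_le_right
  let := (f.appLE V U e).hom.toAlgebra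
  let := (h.appLE V V'' e').hom.toAlgebra
  let := (p.appLE U W' e₁).hom.toAlgebra
  let := (q.appLE V'' W' e₂).hom.toAlgebra
  let : Algebra Γ(Y, V) Γ(X', W') :=
    ((algebraMap Γ(Y', V'') Γ(X', W')).comp (algebraMap Γ(Y, V) Γ(Y', V''))).toAlgebra
  have : IsScalarTower Γ(Y, V) Γ(Y', V'') Γ(X', W') := .of_algebraMap_eq fun _ => rfl
  have : IsScalarTower Γ(Y, V) Γ(X, U) Γ(X', W') :=
    .of_algebraMap_eq' (congrArg CommRingCat.Hom.hom hpo.w).symm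
  have : Algebra.IsPushout Γ(Y, V) Γ(X, U) Γ(Y', V'') Γ(X', W') :=
    CommRingCat.isPushout_iff_isPushout.mp hpo
  -- the common base
  let := (q₂.appLE S₀ V hV0).hom.toAlgebra
  let := (q₁.appLE S₀ V₁ hV10).hom.toAlgebra
  let := (pY₁.appLE V₁ V'' inf_le_right).hom.toAlgebra
  let : Algebra Γ(S, S₀) Γ(Y', V'') :=
    ((algebraMap Γ(Y₁, V₁) Γ(Y', V'')).comp (algebraMap Γ(S, S₀) Γ(Y₁, V₁))).toAlgebra
  have : IsScalarTower Γ(S, S₀) Γ(Y₁, V₁) Γ(Y', V'') := .of_algebraMap_eq fun _ => rfl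
  have : IsScalarTower Γ(S, S₀) Γ(Y, V) Γ(Y', V'') :=
    .of_algebraMap_eq' (congrArg CommRingCat.Hom.hom hpoY.w).symm
  have : Algebra.IsPushout Γ(S, S₀) Γ(Y, V) Γ(Y₁, V₁) Γ(Y', V'') :=
    CommRingCat.isPushout_iff_isPushout.mp hpoY
  have := Algebra.IsPushout.symm (R := Γ(S, S₀)) (S := Γ(Y, V)) (R' := Γ(Y₁, V₁)) (S' := Γ(Y', V''))
    inferInstance
  have hU0 : U ≤ (f ≫ q₂) ⁻¹ᵁ S₀ := fun x hx => hV0 (e hx)
  let := ((f ≫ q₂).appLE S₀ U hU0).hom.toAlgebra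
  have : IsScalarTower Γ(S, S₀) Γ(Y, V) Γ(X, U) := .of_algebraMap_eq' (by
    simp only [RingHom.algebraMap_toAlgebra]
    rw [← CommRingCat.hom_comp, Scheme.Hom.appLE_comp_appLE])
  have : Module.Flat Γ(S, S₀) Γ(Y, V) := q₂.flat_appLE hS₀ hV hV0
  have : Module.Flat Γ(S, S₀) Γ(X, U) := (f ≫ q₂).flat_appLE hS₀ hU hU0
  have : Algebra.FiniteType Γ(Y, V) Γ(X, U) := f.finiteType_appLE hV hU e
  -- models
  let P₀ := (resY X).obj E
  have hP₀ : DCoh.IsKFlat P₀ := isKFlat_resY E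
  have := quasiIso_resYπ E
  have := isIso_toPull p hP₀
  let e₀ : DCoh.toD X P₀ ≅ DCoh.toD X E := asIso (Q.map ((resYπ X).app E))
  have : (DCoh.toD X P₀).IsLE d := isLE_of_iso e₀.symm d
  obtain ⟨MF, hFb, hFp, hFr, ⟨eF⟩⟩ := exists_chartModel_at (d := d) (K := DCoh.toD X P₀)
    (Groth.Agent.KFlat.QCohModel.isQCohD_of_iso e₀.symm hEq) (rel_of_iso e₀.symm hE) hU hV e
  have hMF : DRing.IsKFlat _ MF := TorAmp.isKFlat_of_projective hFb hFp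
  let φ := p.appLE U W' e₁
  let j := hW.fromSpec
  let jU := hU.fromSpec
  have hj : Spec.map φ ≫ jU = j ≫ p := IsAffineOpen.SpecMap_appLE_fromSpec p hU hW e₁
  obtain ⟨eW⟩ := nonempty_restrictD_fromSpec hW ((DCoh.Lpull p).obj (DCoh.toD X E))
  have := LTensor.hasLBaseChange φ.hom
  refine (P_iff_isRel hW hV' h' _ ?_).2
    (RelPCTorBC.isRel_baseChange (R := Γ(Y, V)) (A := Γ(X, U)) (R' := Γ(Y', V''))
      (fun k hk => subsingleton_tor_indep (S := Γ(S, S₀)) (C := Γ(Y₁, V₁)) k hk) φ.hom rfl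
      (DRing.toD MF) hFr)
  exact (DCoh.tildeD Γ(X', W')).mapIso (Perfect.baseChangeIsoOfRep φ.hom hMF (Iso.refl _)).symm ≪≫
    (tilde.functor Γ(X', W')).mapDerivedCategoryFactors.app _ ≪≫
    (Q.mapIso ((pullCxComp j p).app P₀ ≪≫ eqToIso (by rw [← hj]) ≪≫
          ((pullCxComp (Spec.map φ) jU).app P₀).symm) ≪≫
      Groth.Agent.KFlat.LocalD.pullQIso (Spec.map φ) (isKFlat_pullCx jU hP₀)
        (Groth.Agent.KFlat.TildeKFlat.isKFlat_tilde Γ(X, U) MF hMF)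
        ((restrictPullIso jU P₀).symm ≪≫ eF.symm) ≪≫
      Q.mapIso ((Groth.Agent.KFlat.TildeBC.cxPullIso φ).app MF)).symm ≪≫
    (restrictPullIso j _).symm ≪≫
    (DCoh.restrictD j).mapIso ((asIso ((toPull p).app P₀)).symm ≪≫ (DCoh.Lpull p).mapIso e₀) ≪≫ eW.symm

/-- Derived pullback of a relatively pseudo-coherent complex along a flat base change, in a fixed degree. -/
theorem rel_flatBC_sq_at {p : X' ⟶ X} {q : X' ⟶ Y'} {f : X ⟶ Y} {h : Y' ⟶ Y} (sq : IsPullback p q f h)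
    [Flat h] [LocallyOfFiniteType f] [DCoh.HasLpull p]
    (E : CochainComplex X.Modules ℤ) {m d : ℤ} (hEq : DCoh.IsQCohD (DCoh.toD X E))
    (hE : DerSch.IsPseudoCoherentRel f m (DCoh.toD X E)) [(DCoh.toD X E).IsLE d] :
    DerSch.IsPseudoCoherentRel q m ((DCoh.Lpull p).obj (DCoh.toD X E)) := by
  have hq : LocallyOfFiniteType q := MorphismProperty.of_isPullback (P := @LocallyOfFiniteType) sq ‹_›
  refine ⟨hq, {V' | ∃ V : Y.affineOpens, (V' : Y'.Opens) ≤ h ⁻¹ᵁ (V : Y.Opens)}, ?_, ?_⟩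
  · refine eq_top_iff.2 fun y _ => ?_
    obtain ⟨V, hV, hyV, -⟩ := exists_isAffineOpen_mem_and_subset (x := h y) (U := ⊤) trivial
    obtain ⟨V', hV', hy, hle⟩ := exists_isAffineOpen_mem_and_subset (x := y) (U := h ⁻¹ᵁ V) hyV
    simp only [TopologicalSpace.Opens.mem_iSup, exists_prop]
    exact ⟨⟨V', hV'⟩, ⟨⟨V, hV⟩, hle⟩, hy⟩
  rintro ⟨V', hV'⟩ ⟨⟨V, hV⟩, e'⟩
  dsimp only at e' ⊢
  refine ⟨{W | ∃ U : X.affineOpens, (U : X.Opens) ≤ f ⁻¹ᵁ V ∧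
    (W : X'.Opens) = p ⁻¹ᵁ (U : X.Opens) ⊓ q ⁻¹ᵁ V'}, le_antisymm ?_ ?_, ?_⟩
  · refine iSup₂_le ?_
    rintro W ⟨U, -, e⟩ x hx
    rw [e] at hx
    exact hx.2
  · intro x hx
    have hx' : f (p x) ∈ V := by
      rw [← Scheme.Hom.comp_apply, sq.w, Scheme.Hom.comp_apply]
      exact e' hx
    obtain ⟨U, hU, hxU, hle⟩ := exists_isAffineOpen_mem_and_subset (x := p x) (U := f ⁻¹ᵁ V) hx'
    obtain ⟨hW, -⟩ := affine_square sq hV hU hV' hle e'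
    simp only [TopologicalSpace.Opens.mem_iSup, exists_prop]
    exact ⟨⟨_, hW⟩, ⟨⟨U, hU⟩, hle, rfl⟩, hxU, hx⟩
  rintro ⟨W, hW⟩ ⟨⟨U, hU⟩, e, hWeq⟩ h'
  dsimp only at e hWeq h' ⊢
  subst hWeq
  obtain ⟨-, hpo⟩ := affine_square sq hV hU hV' e e'
  refine (P_iff_chartPC hW h').1 ?_
  have : ∀ R : CommRingCat.{u}, PreservesFiniteLimits (tilde.functor R) := fun R =>
    Groth.Agent.KFlat.TildeExact.preservesFiniteLimits_tilde R
  let V'' : Y'.Opens := V'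
  let W' : X'.Opens := p ⁻¹ᵁ U ⊓ q ⁻¹ᵁ V''
  have e₁ : W' ≤ p ⁻¹ᵁ U := inf_le_left
  have e₂ : W' ≤ q ⁻¹ᵁ V'' := inf_le_right
  let := (f.appLE V U e).hom.toAlgebra
  let := (h.appLE V V'' e').hom.toAlgebra
  let := (p.appLE U W' e₁).hom.toAlgebra
  let := (q.appLE V'' W' e₂).hom.toAlgebra
  let : Algebra Γ(Y, V) Γ(X', W') :=
    ((algebraMap Γ(Y', V'') Γ(X', W')).comp (algebraMap Γ(Y, V) Γ(Y', V''))).toAlgebra
  have : IsScalarTower Γ(Y, V) Γ(Y', V'') Γ(X', W') := .of_algebraMap_eq fun _ => rfl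
  have : IsScalarTower Γ(Y, V) Γ(X, U) Γ(X', W') :=
    .of_algebraMap_eq' (congrArg CommRingCat.Hom.hom hpo.w).symm
  have : Algebra.IsPushout Γ(Y, V) Γ(X, U) Γ(Y', V'') Γ(X', W') :=
    CommRingCat.isPushout_iff_isPushout.mp hpo
  have : Module.Flat Γ(Y, V) Γ(Y', V'') := h.flat_appLE hV hV' e'
  have : Algebra.FiniteType Γ(Y, V) Γ(X, U) := f.finiteType_appLE hV hU e
  -- models
  let P₀ := (resY X).obj E
  have hP₀ : DCoh.IsKFlat P₀ := isKFlat_resY E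
  have := quasiIso_resYπ E
  have := isIso_toPull p hP₀
  let e₀ : DCoh.toD X P₀ ≅ DCoh.toD X E := asIso (Q.map ((resYπ X).app E))
  have : (DCoh.toD X P₀).IsLE d := isLE_of_iso e₀.symm d
  obtain ⟨MF, hFb, hFp, hFr, ⟨eF⟩⟩ := exists_chartModel_at (d := d) (K := DCoh.toD X P₀)
    (Groth.Agent.KFlat.QCohModel.isQCohD_of_iso e₀.symm hEq) (rel_of_iso e₀.symm hE) hU hV e
  have hMF : DRing.IsKFlat _ MF := TorAmp.isKFlat_of_projective hFb hFp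
  let φ := p.appLE U W' e₁
  let j := hW.fromSpec
  let jU := hU.fromSpec
  have hj : Spec.map φ ≫ jU = j ≫ p := IsAffineOpen.SpecMap_appLE_fromSpec p hU hW e₁
  obtain ⟨eW⟩ := nonempty_restrictD_fromSpec hW ((DCoh.Lpull p).obj (DCoh.toD X E))
  have := LTensor.hasLBaseChange φ.hom
  refine (P_iff_isRel hW hV' h' _ ?_).2
    (RelPCTorBC.isRel_baseChange (R := Γ(Y, V)) (A := Γ(X, U)) (R' := Γ(Y', V''))
      (fun k hk => (S3527.result Γ(Y, V) Γ(Y', V'') Γ(X, U) k hk).2) φ.hom rfl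
      (DRing.toD MF) hFr)
  exact (DCoh.tildeD Γ(X', W')).mapIso (Perfect.baseChangeIsoOfRep φ.hom hMF (Iso.refl _)).symm ≪≫
    (tilde.functor Γ(X', W')).mapDerivedCategoryFactors.app _ ≪≫
    (Q.mapIso ((pullCxComp j p).app P₀ ≪≫ eqToIso (by rw [← hj]) ≪≫
          ((pullCxComp (Spec.map φ) jU).app P₀).symm) ≪≫
      Groth.Agent.KFlat.LocalD.pullQIso (Spec.map φ) (isKFlat_pullCx jU hP₀)
        (Groth.Agent.KFlat.TildeKFlat.isKFlat_tilde Γ(X, U) MF hMF)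
        ((restrictPullIso jU P₀).symm ≪≫ eF.symm) ≪≫
      Q.mapIso ((Groth.Agent.KFlat.TildeBC.cxPullIso φ).app MF)).symm ≪≫
    (restrictPullIso j _).symm ≪≫
    (DCoh.restrictD j).mapIso ((asIso ((toPull p).app P₀)).symm ≪≫ (DCoh.Lpull p).mapIso e₀) ≪≫ eW.symm

/-- Cohomology vanishing from `m` on gives relative `m`-pseudo-coherence. -/
theorem rel_of_isLE {f : X ⟶ Y} [LocallyOfFiniteType f] {K : DCoh.D X} {n m : ℤ} [K.IsLE n] (h : n < m) :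
    DerSch.IsPseudoCoherentRel f m K :=
  (rel_iff_tc K).2 fun U V _ k φ _ => @fun _ => pc_of_vanish fun q hq =>
    ((Scheme.Modules.pushforward _).map_isZero
      ((Functor.map_isZero _ (DerivedCategory.isZero_of_isLE K n q (by omega))).of_iso
        (Groth.Agent.KFlat.PCNoeth.hdRestrict (U : X.Opens).ι K q))).of_iso (pushDHomology _ _ q)

/-- Relative pseudo-coherence of an external product in a fixed degree. -/
theorem rel_external_at {X₁ X₂ W : Scheme.{u}} (p₁ : X ⟶ X₁) (p₂ : X ⟶ X₂) (w : W ⟶ X₂) (a : X ⟶ W)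
    (b : W ⟶ Y) (ha : a ≫ w = p₂)
    [LocallyOfFiniteType a] [LocallyOfFiniteType b] [DCoh.HasLpull p₁] [DCoh.HasLpull p₂] [DCoh.HasLpull w]
    (E₁ : CochainComplex X₁.Modules ℤ) (E₂ : CochainComplex X₂.Modules ℤ)
    (K₂ : CochainComplex X.Modules ℤ) [DCoh.HasLTensorCx K₂]
    (e : DCoh.toD X K₂ ≅ (DCoh.Lpull p₂).obj (DCoh.toD X₂ E₂)) {a₁ b₁ a₂ b₂ : ℤ} (hab : a₁ ≤ b₁)
    (hq₁ : DCoh.IsQCohD (DCoh.toD X₁ E₁)) (hq₂ : DCoh.IsQCohD (DCoh.toD X₂ E₂))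
    [(DCoh.toD X₁ E₁).IsLE b₁] [(DCoh.toD X₂ E₂).IsLE b₂]
    (h₁ : DerSch.IsPseudoCoherentRel a a₁ ((DCoh.Lpull p₁).obj (DCoh.toD X₁ E₁)))
    (h₂ : DerSch.IsPseudoCoherentRel b a₂ ((DCoh.Lpull w).obj (DCoh.toD X₂ E₂))) (m : ℤ)
    (hm₁ : a₁ + b₂ ≤ m) (hm₂ : b₁ + a₂ ≤ m) :
    DerSch.IsPseudoCoherentRel (a ≫ b) m
      ((DCoh.LTensorCx K₂).obj ((DCoh.Lpull p₁).obj (DCoh.toD X₁ E₁))) := by
  obtain ⟨t⟩ := TorExt.nonempty_external_iso p₁ p₂ w a ha E₁ E₂ K₂ e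
  refine rel_of_iso (Q.mapIso (((Groth.Agent.KFlat.tensFlipIso X.sheaf).app
      ((pullCx a).obj ((pullCx w).obj ((resY X₂).obj E₂)))).app ((pullCx p₁).obj ((resY X₁).obj E₁))).symm ≪≫
    t.symm) ?_
  have := quasiIso_resYπ E₁
  have := quasiIso_resYπ E₂
  have := isIso_toPull p₁ (isKFlat_resY E₁)
  have := isIso_toPull w (isKFlat_resY E₂)
  let i₁ : (DCoh.Lpull p₁).obj (DCoh.toD X₁ E₁) ≅ DCoh.toD X ((pullCx p₁).obj ((resY X₁).obj E₁)) :=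
    (DCoh.Lpull p₁).mapIso (asIso (Q.map ((resYπ X₁).app E₁))).symm ≪≫ asIso ((toPull p₁).app ((resY X₁).obj E₁))
  let i₂ : (DCoh.Lpull w).obj (DCoh.toD X₂ E₂) ≅ DCoh.toD W ((pullCx w).obj ((resY X₂).obj E₂)) :=
    (DCoh.Lpull w).mapIso (asIso (Q.map ((resYπ X₂).app E₂))).symm ≪≫ asIso ((toPull w).app ((resY X₂).obj E₂))
  have := isLE_Lpull p₁ (DCoh.toD X₁ E₁) b₁
  have := isLE_Lpull w (DCoh.toD X₂ E₂) b₂
  have := isLE_of_iso i₁ b₁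
  have := isLE_of_iso i₂ b₂
  exact RelPCTensor.rel_tensor_pull_at _ (b := b₁) (d := b₂) hab
    (Groth.Agent.KFlat.QCohModel.isQCohD_of_iso i₁ (Groth.Agent.KFlat.QCohModel.isQCohD_Lpull p₁ _ hq₁))
    (rel_of_iso i₁ h₁) _ (isKFlat_pullCx w (isKFlat_resY E₂))
    (Groth.Agent.KFlat.QCohModel.isQCohD_of_iso i₂ (Groth.Agent.KFlat.QCohModel.isQCohD_Lpull w _ hq₂))
    (rel_of_iso i₂ h₂) m hm₁ hm₂

end Groth.Agent.PCohD.RelPCIndep
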