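import Groth.Agent.PCohD.TorBC
import Groth.Agent.KFlat.LpullComp
import Groth.Agent.KFlat.LTensor

/-!
# Tor amplitude of external derived tensor products
-/

set_option autoImplicit false

universe u

open CategoryTheory CategoryTheory.Limits DerivedCategory MonoidalCategory AlgebraicGeometry
open scoped TensorProduct

attribute [local instance] HasDerivedCategory.standard

noncomputable section

namespace Groth.Agent.PCohD.TorExt

open Groth.Agent.DRing Groth.Agent.DRing.KFlat Groth.Agent.DRing.TorAmp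
open Groth.Agent.PCohD.TorBC

section Ring

variable {R A C : Type u} [CommRing R] [CommRing A] [CommRing C] [Algebra R A] [Algebra R C]
  {A' B : Type u} [CommRing A'] [CommRing B]

/-- Extension along `A → A'` of a resolution stays one, when everything is flat over a common base. -/
theorem quasiIso_indep' [Module.Flat R A] (α : A →+* B) (hB : (α.comp (algebraMap R A)).Flat) (ψ : A →+* A')
    (ν : C ⊗[R] A →+* A') (hν : ν.Flat)
    (hνψ : ν.comp (Algebra.TensorProduct.includeRight (R := R) (A := C)).toRingHom = ψ)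
    {P : DRing.Cx B} (hP : DRing.IsKFlat B P) {R₀ : DRing.Cx A} (π : R₀ ⟶ (DRing.restrictCx α).obj P)
    (hR : DRing.IsKFlat A R₀) (hπ : QuasiIso π) :
    QuasiIso ((Groth.Agent.KFlat.BaseChange.extCx ψ).map π) := by
  let θ := algebraMap R A
  let η := algebraMap R C
  let φ' := (Algebra.TensorProduct.includeRight (R := R) (A := C) (B := A)).toRingHom
  let ρ : C →+* C ⊗[R] A := Algebra.TensorProduct.includeLeftRingHom
  have hθ : θ.Flat := RingHom.flat_algebraMap_iff.mpr inferInstance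
  let S := (DRing.restrictCx α).obj P
  let π₁ := (Groth.Agent.KFlat.BaseChange.resCx θ).map π
  have hπ₁ : QuasiIso π₁ := (quasiIso_restrict θ π).mpr hπ
  have hk₁ := Thick.isKFlat_restrict_flat θ hθ hR
  have hk₂ : DRing.IsKFlat R ((Groth.Agent.KFlat.BaseChange.resCx θ).obj S) := by
    exact Groth.Agent.KFlat.Pull.isKFlat_of_iso_ring (TorComp.restrictCompIso θ α P) (Thick.isKFlat_restrict_flat (α.comp θ) hB hP)
  have h2 := SingleTensor.quasiIso_extendScalars η π₁ hk₁ hk₂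
  have hsq : ∀ r, ρ (η r) = φ' (θ r) := fun r =>
    (Algebra.TensorProduct.algebraMap_apply r).symm.trans
      ((Algebra.TensorProduct.includeRight (R := R) (A := C) (B := A)).commutes r).symm
  let : Algebra A (C ⊗[R] A) := Algebra.TensorProduct.rightAlgebra
  let e := Groth.Agent.DRing.RelPC.sqIso θ η φ' ρ hsq (fun M =>
    Groth.Agent.DRing.RelPC.bijective_sqHom θ η φ' ρ hsq inferInstance inferInstance inferInstance inferInstance
      (Algebra.algebra_ext _ _ fun _ => rfl) (Algebra.algebra_ext _ _ fun _ => rfl)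
      (Algebra.algebra_ext _ _ fun _ => rfl) (Algebra.algebra_ext _ _ fun _ => rfl) M)
  have h3 : QuasiIso ((Groth.Agent.KFlat.BaseChange.resCx ρ).map ((Groth.Agent.KFlat.BaseChange.extCx φ').map π)) := by
    let eC := NatIso.mapHomologicalComplex e (ComplexShape.up ℤ)
    refine (quasiIso_iff_of_arrow_mk_iso _ _ (Arrow.isoMk (eC.app R₀) (eC.app S) ?_)).mp h2
    exact (eC.hom.naturality π).symm
  have h4 : QuasiIso ((Groth.Agent.KFlat.BaseChange.extCx φ').map π) := (quasiIso_restrict ρ _).mp h3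
  have : PreservesFiniteLimits (ModuleCat.extendScalars.{u, u, u} ν) :=
    ModuleCat.preservesFiniteLimits_extendScalars_of_flat hν
  have : (ModuleCat.extendScalars.{u, u, u} ν).PreservesHomology := Functor.preservesHomologyOfExact _
  have h5 : QuasiIso ((Groth.Agent.KFlat.BaseChange.extCx ν).map ((Groth.Agent.KFlat.BaseChange.extCx φ').map π)) :=
    inferInstance
  subst hνψ
  let eE := NatIso.mapHomologicalComplex (ModuleCat.extendScalarsComp φ' ν).symm (ComplexShape.up ℤ)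
  refine (quasiIso_iff_of_arrow_mk_iso _ _ (Arrow.isoMk (eE.app R₀) (eE.app S) ?_)).mp h5
  exact (eE.hom.naturality π).symm

end Ring

section Bound

variable {B C : Type u} [CommRing B] [CommRing C] (φ : B →+* C)

/-- Cohomological bounds of `K ⊗ φ^*P` from the amplitude of `K` over the base. -/
theorem exactAt_pull_tensor (K : DRing.Cx C) (P : DRing.Cx B) (hP : IsKFlat P) {a b c d : ℤ}
    (hK : DRing.HasTorAmplitudeIn B a b (DRing.toD ((DRing.restrictCx φ).obj K)))
    (hPb : ∀ i, i < c ∨ d < i → P.ExactAt i) {i : ℤ} (hi : i < a + c ∨ b + d < i) :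
    (K ⊗ (Groth.Agent.KFlat.BaseChange.extCx φ).obj P).ExactAt i := by
  obtain ⟨E, hv, hf, ⟨e⟩⟩ := hK
  obtain ⟨R, π, hR, -, hq, -⟩ := KProjRes.exists_resolution ((DRing.restrictCx φ).obj K)
  obtain ⟨g, hg⟩ := DBasic.exists_Q_map_eq (L := E) (Q.map π ≫ e.inv)
  have : QuasiIso g :=
    (DerivedCategory.isIso_Q_map_iff_quasiIso (C := ModuleCat.{u} B) g).1 (by rw [hg]; infer_instance)
  have := quasiIso_whiskerRight hP π
  have := quasiIso_whiskerRight hP g
  exact (TensorAmp.exactAt_restrictCx_iff φ _ i).1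
    ((exactAt_iff_of_quasiIso (Groth.Agent.KFlat.BaseChange.projCxIso φ K P).hom i).2
      ((exactAt_iff_of_quasiIso (π ▷ P) i).1 ((exactAt_iff_of_quasiIso (g ▷ P) i).2
        (TensorAmp.exactAt_tensor_bounded (isKFlat_of_flat hv hf) hv hPb hi))))

end Bound

section Scheme

open Groth.Agent.KFlat (StalkCx.stCx StalkCx.stTensIso)
open Groth.Agent.KFlat.Pull

variable {X Y S Y₁ X' Y' : Scheme.{u}}

/-- Tor amplitude of K-flat complexes is stable under base change along a map which is base changed from a common base,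
over which source and target are flat. -/
theorem hasTorAmplitude_baseChange_indep {p : X' ⟶ X} {q : X' ⟶ Y'} {f : X ⟶ Y} {g : Y' ⟶ Y}
    (sq : IsPullback p q f g) {q₂ : Y ⟶ S} {pY₁ : Y' ⟶ Y₁} {q₁ : Y₁ ⟶ S} (hY : IsPullback g pY₁ q₂ q₁)
    [Flat q₂] [Flat (f ≫ q₂)] {P : CochainComplex X.Modules ℤ} (hP : DCoh.IsKFlat P) {a b : ℤ}
    (hf : DerSch.HasTorAmplitude f a b P) :
    DerSch.HasTorAmplitude q a b ((pullCx p).obj P) := fun x' => by
  have he : g (q x') = f (p x') := by rw [← Scheme.Hom.comp_apply, ← Scheme.Hom.comp_apply, sq.w]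
  let σ := Y.presheaf.stalkSpecializes (specializes_of_eq he)
  let φ : Y.presheaf.stalk (f (p x')) ⟶ Y'.presheaf.stalk (q x') := σ ≫ g.stalkMap (q x')
  have hσ : Function.Bijective σ.hom :=
    ConcreteCategory.bijective_of_isIso (Y.presheaf.stalkCongr (Inseparable.of_eq he.symm)).hom
  let : Algebra (Y.presheaf.stalk (f (p x'))) (X.presheaf.stalk (p x')) := (f.stalkMap (p x')).hom.toAlgebra
  let : Algebra (Y.presheaf.stalk (f (p x'))) (Y'.presheaf.stalk (q x')) := φ.hom.toAlgebra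
  let : Algebra (X.presheaf.stalk (p x')) (X'.presheaf.stalk x') := (p.stalkMap x').hom.toAlgebra
  let : Algebra (Y'.presheaf.stalk (q x')) (X'.presheaf.stalk x') := (q.stalkMap x').hom.toAlgebra
  let : Algebra (Y.presheaf.stalk (f (p x'))) (X'.presheaf.stalk x') :=
    (f.stalkMap (p x') ≫ p.stalkMap x').hom.toAlgebra
  have : IsScalarTower (Y.presheaf.stalk (f (p x'))) (X.presheaf.stalk (p x')) (X'.presheaf.stalk x') :=
    IsScalarTower.of_algebraMap_eq' rfl
  have : IsScalarTower (Y.presheaf.stalk (f (p x'))) (Y'.presheaf.stalk (q x')) (X'.presheaf.stalk x') := by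
    refine IsScalarTower.of_algebraMap_eq' (congrArg CommRingCat.Hom.hom
      (?_ : f.stalkMap (p x') ≫ p.stalkMap x' = φ ≫ q.stalkMap x'))
    rw [← Scheme.Hom.stalkMap_comp, Scheme.Hom.stalkMap_congr_hom _ _ sq.w x', Category.assoc,
      Scheme.Hom.stalkMap_comp]
    rfl
  let R := Y'.presheaf.stalk (q x') ⊗[Y.presheaf.stalk (f (p x'))] X.presheaf.stalk (p x')
  let μ : R →ₐ[Y.presheaf.stalk (f (p x'))] X'.presheaf.stalk x' :=
    Algebra.TensorProduct.productMap (IsScalarTower.toAlgHom _ _ _) (IsScalarTower.toAlgHom _ _ _)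
  have hμ : μ.toRingHom.Flat := FDesc.BaseChangeStalk.flat_stalk_of_isPullback sq x' (CommRingCat.ofHom μ.toRingHom)
    (by ext a; exact Algebra.TensorProduct.productMap_left_apply _ _ a)
    (by ext a; exact Algebra.TensorProduct.productMap_right_apply _ _ a) rfl rfl
  let inr : X.presheaf.stalk (p x') →+* R :=
    (Algebra.TensorProduct.includeRight (R := Y.presheaf.stalk (f (p x')))
      (A := Y'.presheaf.stalk (q x'))).toRingHom
  have hr : μ.toRingHom.comp inr = (p.stalkMap x').hom :=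
    RingHom.ext fun b => Algebra.TensorProduct.productMap_right_apply _ _ b
  have hl : μ.toRingHom.comp (Algebra.TensorProduct.includeLeftRingHom : Y'.presheaf.stalk (q x') →+* R) =
      (q.stalkMap x').hom :=
    RingHom.ext fun b => Algebra.TensorProduct.productMap_left_apply _ _ b
  -- the common base
  let y := q x'
  have hs : q₁ (pY₁ y) = q₂ (g y) := congr($(hY.w.symm) y)
  let A'' := Y.presheaf.stalk (g y)
  let η : S.presheaf.stalk (q₂ (g y)) ⟶ Y₁.presheaf.stalk (pY₁ y) :=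
    S.presheaf.stalkSpecializes (specializes_of_eq hs) ≫ q₁.stalkMap (pY₁ y)
  let τ := Y.presheaf.stalkSpecializes (specializes_of_eq he.symm)
  let : Algebra (S.presheaf.stalk (q₂ (g y))) A'' := (q₂.stalkMap (g y)).hom.toAlgebra
  let : Algebra (S.presheaf.stalk (q₂ (g y))) (Y₁.presheaf.stalk (pY₁ y)) := η.hom.toAlgebra
  let : Algebra A'' (Y'.presheaf.stalk y) := (g.stalkMap y).hom.toAlgebra
  let : Algebra (Y₁.presheaf.stalk (pY₁ y)) (Y'.presheaf.stalk y) := (pY₁.stalkMap y).hom.toAlgebra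
  let : Algebra (S.presheaf.stalk (q₂ (g y))) (Y'.presheaf.stalk y) :=
    (q₂.stalkMap (g y) ≫ g.stalkMap y).hom.toAlgebra
  have : IsScalarTower (S.presheaf.stalk (q₂ (g y))) A'' (Y'.presheaf.stalk y) :=
    IsScalarTower.of_algebraMap_eq' rfl
  have : IsScalarTower (S.presheaf.stalk (q₂ (g y))) (Y₁.presheaf.stalk (pY₁ y)) (Y'.presheaf.stalk y) := by
    refine IsScalarTower.of_algebraMap_eq' (congrArg CommRingCat.Hom.hom
      (?_ : q₂.stalkMap (g y) ≫ g.stalkMap y = η ≫ pY₁.stalkMap y))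
    rw [← Scheme.Hom.stalkMap_comp, Scheme.Hom.stalkMap_congr_hom _ _ hY.w y, Category.assoc,
      Scheme.Hom.stalkMap_comp]
    rfl
  let ν₀ : Y₁.presheaf.stalk (pY₁ y) ⊗[S.presheaf.stalk (q₂ (g y))] A'' →ₐ[S.presheaf.stalk (q₂ (g y))]
      Y'.presheaf.stalk y :=
    Algebra.TensorProduct.productMap (IsScalarTower.toAlgHom _ _ _) (IsScalarTower.toAlgHom _ _ _)
  have hν₀ : ν₀.toRingHom.Flat := FDesc.BaseChangeStalk.flat_stalk_of_isPullback hY y (CommRingCat.ofHom ν₀.toRingHom)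
    (by ext a; exact Algebra.TensorProduct.productMap_left_apply _ _ a)
    (by ext a; exact Algebra.TensorProduct.productMap_right_apply _ _ a) rfl rfl
  let : Algebra (S.presheaf.stalk (q₂ (g y))) (Y.presheaf.stalk (f (p x'))) :=
    (q₂.stalkMap (g y) ≫ τ).hom.toAlgebra
  have hτσ : τ ≫ σ = 𝟙 _ := by simp [τ, σ]
  have hτ : Function.Bijective τ.hom :=
    ConcreteCategory.bijective_of_isIso (Y.presheaf.stalkCongr (Inseparable.of_eq he)).hom
  let eA : A'' ≃ₐ[S.presheaf.stalk (q₂ (g y))] Y.presheaf.stalk (f (p x')) :=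
    AlgEquiv.ofBijective { τ.hom with commutes' := fun _ => rfl } hτ
  let ν : Y₁.presheaf.stalk (pY₁ y) ⊗[S.presheaf.stalk (q₂ (g y))] Y.presheaf.stalk (f (p x')) →+*
      Y'.presheaf.stalk y :=
    ν₀.toRingHom.comp (Algebra.TensorProduct.congr
      (AlgEquiv.refl (R := S.presheaf.stalk (q₂ (g y))) (A₁ := Y₁.presheaf.stalk (pY₁ y))) eA.symm).toRingEquiv.toRingHom
  have hν : ν.Flat := RingHom.Flat.comp (RingHom.Flat.of_bijective (by exact AlgEquiv.bijective _)) hν₀
  have hflatA : Module.Flat (S.presheaf.stalk (q₂ (g y))) (Y.presheaf.stalk (f (p x'))) :=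
    RingHom.flat_algebraMap_iff.mp
      ((Flat.stalkMap q₂ (g y)).comp (RingHom.Flat.of_bijective hτ))
  have hB : ((f.stalkMap (p x')).hom.comp (algebraMap (S.presheaf.stalk (q₂ (g y))) (Y.presheaf.stalk (f (p x'))))).Flat := by
    have h1 : q₂.stalkMap (g y) ≫ τ ≫ f.stalkMap (p x') =
        S.presheaf.stalkSpecializes (q₂.base.hom.map_specializes (specializes_of_eq he.symm)) ≫
          (f ≫ q₂).stalkMap (p x') := by
      rw [Scheme.Hom.stalkMap_comp, ← Category.assoc, ← Scheme.Hom.stalkSpecializes_stalkMap, Category.assoc]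
    change (q₂.stalkMap (g y) ≫ τ ≫ f.stalkMap (p x')).hom.Flat
    rw [h1]
    have hqe : q₂ (g y) = q₂ (f (p x')) := congrArg _ he
    exact (RingHom.Flat.of_bijective (ConcreteCategory.bijective_of_isIso
      (S.presheaf.stalkCongr (Inseparable.of_eq hqe)).hom)).comp (Flat.stalkMap (f ≫ q₂) (p x'))
  have hνψ : ν.comp (Algebra.TensorProduct.includeRight (R := S.presheaf.stalk (q₂ (g y)))
      (A := Y₁.presheaf.stalk (pY₁ y))).toRingHom = φ.hom := RingHom.ext fun r => by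
    change ν₀ (Algebra.TensorProduct.congr AlgEquiv.refl eA.symm (1 ⊗ₜ r)) = g.stalkMap y (σ r)
    rw [Algebra.TensorProduct.congr_apply, Algebra.TensorProduct.map_tmul]
    refine (Algebra.TensorProduct.productMap_right_apply _ _ (eA.symm r)).trans ?_
    change g.stalkMap y (eA.symm r) = _
    congr 1
    obtain ⟨r', rfl⟩ := eA.surjective r
    rw [AlgEquiv.symm_apply_apply]
    exact (ConcreteCategory.congr_hom hτσ r').symm
  let K := (Groth.Agent.KFlat.StalkCx.stCx (p x')).obj P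
  obtain ⟨R₀, π, hR, -, hπ, -⟩ := KProjRes.exists_resolution
    ((DRing.restrictCx (algebraMap (Y.presheaf.stalk (f (p x'))) (X.presheaf.stalk (p x')))).obj K)
  have hk := KFlat.isKFlat_of_isKProjective R₀
  have hq := quasiIso_indep' (f.stalkMap (p x')).hom hB φ.hom ν hν hνψ
    ((Groth.Agent.KFlat.StalkCx.isKFlat_iff_stalk P).1 hP (p x')) π hk hπ
  have h1 := TorComp.torAmp_ext_flat _ μ.toRingHom hμ _
    (torAmp_pushout_of K π hk hπ hq (torAmp_of_iso (Q.mapIso (TorComp.stalkCxOverRefl f (p x') P)) (hf (p x'))))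
  rw [hl] at h1
  exact torAmp_of_iso (Q.mapIso (TorComp.stalkCxOverRefl q x' _ ≪≫ (DRing.restrictCx (q.stalkMap x').hom).mapIso
    (stPullIso p x' P ≪≫ (TorComp.extCompIso inr μ.toRingHom hr K).symm)).symm) h1

variable {W : Scheme.{u}}

/-- Tensoring with a K-flat complex respects isomorphisms of the derived category. -/
theorem nonempty_tensor_iso {M K L : CochainComplex X.Modules ℤ} (hM : DCoh.IsKFlat M)
    (e : DCoh.toD X K ≅ DCoh.toD X L) :
    Nonempty (DCoh.toD X ((DCoh.tensorCx.obj M).obj K) ≅ DCoh.toD X ((DCoh.tensorCx.obj M).obj L)) := by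
  obtain ⟨R, s, hs, g, hg⟩ := DerivedCategory.right_fac e.hom
  have : IsIso (Q.map g) := by
    have : Q.map g = Q.map s ≫ e.hom := by rw [hg, IsIso.hom_inv_id_assoc]
    rw [this]; infer_instance
  have hsq : QuasiIso s := (DerivedCategory.isIso_Q_map_iff_quasiIso (C := X.Modules) s).1 inferInstance
  have hgq : QuasiIso g := (DerivedCategory.isIso_Q_map_iff_quasiIso (C := X.Modules) g).1 inferInstance
  have := @Groth.Agent.KFlat.LTensor.quasiIso_tensorCx_map_right _ _ _ hM _ s hsq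
  have := @Groth.Agent.KFlat.LTensor.quasiIso_tensorCx_map_right _ _ _ hM _ g hgq
  exact ⟨(asIso (Q.map ((DCoh.tensorCx.obj M).map s))).symm ≪≫ asIso (Q.map ((DCoh.tensorCx.obj M).map g))⟩

/-- The external derived tensor product through K-flat representatives. -/
theorem nonempty_external_iso {X₁ X₂ : Scheme.{u}} (p₁ : X ⟶ X₁) (p₂ : X ⟶ X₂) (w : W ⟶ X₂) (a : X ⟶ W)
    (ha : a ≫ w = p₂) [DCoh.HasLpull p₁] [DCoh.HasLpull p₂] (E₁ : CochainComplex X₁.Modules ℤ)
    (E₂ : CochainComplex X₂.Modules ℤ) (K₂ : CochainComplex X.Modules ℤ) [DCoh.HasLTensorCx K₂]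
    (e : DCoh.toD X K₂ ≅ (DCoh.Lpull p₂).obj (DCoh.toD X₂ E₂)) :
    Nonempty ((DCoh.LTensorCx K₂).obj ((DCoh.Lpull p₁).obj (DCoh.toD X₁ E₁)) ≅
      DCoh.toD X ((DCoh.tensorCx.obj ((pullCx p₁).obj ((resY X₁).obj E₁))).obj
        ((pullCx a).obj ((pullCx w).obj ((resY X₂).obj E₂))))) := by
  subst ha
  let P₁ := (resY X₁).obj E₁
  let P₂ := (resY X₂).obj E₂
  have := quasiIso_resYπ E₁
  have := quasiIso_resYπ E₂
  have hP₁ : DCoh.IsKFlat P₁ := isKFlat_resY E₁
  have hP₂ : DCoh.IsKFlat P₂ := isKFlat_resY E₂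
  have := isIso_toPull p₁ hP₁
  have := isIso_toPull (a ≫ w) hP₂
  have hM := isKFlat_pullCx p₁ hP₁
  have := Groth.Agent.KFlat.LTensor.isIso_toTensor K₂ hM
  obtain ⟨t⟩ := nonempty_tensor_iso hM (L := (pullCx a).obj ((pullCx w).obj P₂))
    (e ≪≫ (DCoh.Lpull (a ≫ w)).mapIso (asIso (Q.map ((resYπ X₂).app E₂))).symm ≪≫
      asIso ((toPull (a ≫ w)).app P₂) ≪≫ Q.mapIso ((pullCxComp a w).app P₂).symm)
  exact ⟨(DCoh.LTensorCx K₂).mapIso
      ((DCoh.Lpull p₁).mapIso (asIso (Q.map ((resYπ X₁).app E₁))).symm ≪≫ asIso ((toPull p₁).app P₁)) ≪≫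
    asIso ((Groth.Agent.KFlat.LTensor.toTensor K₂).app ((pullCx p₁).obj P₁)) ≪≫ t⟩

/-- Tor amplitude of an external product. -/
theorem hasTorAmplitudeD_external {X₁ X₂ : Scheme.{u}} (p₁ : X ⟶ X₁) (p₂ : X ⟶ X₂) (w : W ⟶ X₂) (a : X ⟶ W)
    (b : W ⟶ Y) (ha : a ≫ w = p₂) [DCoh.HasLpull p₁] [DCoh.HasLpull p₂] (E₁ : CochainComplex X₁.Modules ℤ)
    (E₂ : CochainComplex X₂.Modules ℤ) (K₂ : CochainComplex X.Modules ℤ) [DCoh.HasLTensorCx K₂]
    (e : DCoh.toD X K₂ ≅ (DCoh.Lpull p₂).obj (DCoh.toD X₂ E₂)) {a₁ b₁ a₂ b₂ : ℤ}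
    (h₁ : DerSch.HasTorAmplitude a a₁ b₁ ((pullCx p₁).obj ((resY X₁).obj E₁)))
    (h₂ : DerSch.HasTorAmplitude b a₂ b₂ ((pullCx w).obj ((resY X₂).obj E₂))) :
    DerSch.HasTorAmplitudeD (a ≫ b) (a₁ + a₂) (b₁ + b₂)
      ((DCoh.LTensorCx K₂).obj ((DCoh.Lpull p₁).obj (DCoh.toD X₁ E₁))) := by
  rintro F' ⟨eF⟩ x
  obtain ⟨t⟩ := nonempty_external_iso p₁ p₂ w a ha E₁ E₂ K₂ e
  exact torAmp_of_iso (Thick.stalkCxOverIso (a ≫ b) x (eF ≪≫ t)).symm
    (TorComp.hasTorAmplitude_tensor_pull a b _ _ (isKFlat_pullCx w (isKFlat_resY E₂)) h₁ h₂ x)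

/-- Cohomological bounds of an external product. -/
theorem bounded_external {X₁ X₂ : Scheme.{u}} (p₁ : X ⟶ X₁) (p₂ : X ⟶ X₂) (w : W ⟶ X₂) [Flat w] (a : X ⟶ W)
    (ha : a ≫ w = p₂) [DCoh.HasLpull p₁] [DCoh.HasLpull p₂] (E₁ : CochainComplex X₁.Modules ℤ)
    (E₂ : CochainComplex X₂.Modules ℤ) (K₂ : CochainComplex X.Modules ℤ) [DCoh.HasLTensorCx K₂]
    (e : DCoh.toD X K₂ ≅ (DCoh.Lpull p₂).obj (DCoh.toD X₂ E₂)) {a₁ b₁ a₂ b₂ : ℤ}
    [hge : (DCoh.toD X₂ E₂).IsGE a₂] [hle : (DCoh.toD X₂ E₂).IsLE b₂]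
    (h₁ : DerSch.HasTorAmplitude a a₁ b₁ ((pullCx p₁).obj ((resY X₁).obj E₁))) :
    ((DCoh.LTensorCx K₂).obj ((DCoh.Lpull p₁).obj (DCoh.toD X₁ E₁))).IsGE (a₁ + a₂) ∧
      ((DCoh.LTensorCx K₂).obj ((DCoh.Lpull p₁).obj (DCoh.toD X₁ E₁))).IsLE (b₁ + b₂) := by
  obtain ⟨t⟩ := nonempty_external_iso p₁ p₂ w a ha E₁ E₂ K₂ e
  let P₂ := (resY X₂).obj E₂
  have hq := quasiIso_resYπ E₂
  have hP₂ : ∀ i, i < a₂ ∨ b₂ < i → IsZero (P₂.homology i) := fun i hi => by
    refine IsZero.of_iso ?_ (asIso (HomologicalComplex.homologyMap ((resYπ X₂).app E₂) i))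
    refine IsZero.of_iso ?_ ((DerivedCategory.homologyFunctorFactors _ i).app E₂).symm
    rcases hi with hi | hi
    · exact (DerivedCategory.isGE_iff _ _).1 hge i hi
    · exact (DerivedCategory.isLE_iff _ _).1 hle i hi
  let T := (DCoh.tensorCx.obj ((pullCx p₁).obj ((resY X₁).obj E₁))).obj ((pullCx a).obj ((pullCx w).obj P₂))
  have hT : ∀ i, i < a₁ + a₂ ∨ b₁ + b₂ < i → IsZero (T.homology i) := fun i hi =>
    Groth.Agent.KFlat.StalkCx.isZero_of_isZero_stalk fun x => by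
      refine IsZero.of_iso ?_ ((T.sc i).mapHomologyIso (DerSch.stalkFunctor X x)).symm
      refine IsZero.of_iso ?_ ((HomologicalComplex.homologyFunctor _ _ i).mapIso
        (Groth.Agent.KFlat.StalkCx.stTensIso x _ _ ≪≫
          MonoidalCategory.whiskerLeftIso _ (stPullIso a x ((pullCx w).obj P₂))))
      refine ((HomologicalComplex.exactAt_iff_isZero_homology _ _).1 (exactAt_pull_tensor (a.stalkMap x).hom _ _
        ((Groth.Agent.KFlat.StalkCx.isKFlat_iff_stalk _).1 (isKFlat_pullCx w (isKFlat_resY E₂)) (a x))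
        (torAmp_of_iso (Q.mapIso (TorComp.stalkCxOverRefl a x _)) (h₁ x)) (fun j hj => ?_) hi))
      have : PreservesFiniteLimits (ModuleCat.extendScalars.{u, u, u} (w.stalkMap (a x)).hom) :=
        ModuleCat.preservesFiniteLimits_extendScalars_of_flat (Flat.stalkMap w (a x))
      have : (ModuleCat.extendScalars.{u, u, u} (w.stalkMap (a x)).hom).PreservesHomology :=
        Functor.preservesHomologyOfExact _
      refine (HomologicalComplex.exactAt_iff_isZero_homology _ _).2 ?_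
      refine IsZero.of_iso ?_ ((HomologicalComplex.homologyFunctor _ _ j).mapIso (stPullIso w (a x) P₂))
      refine IsZero.of_iso ((ModuleCat.extendScalars.{u, u, u} (w.stalkMap (a x)).hom).map_isZero ?_)
        ((((Groth.Agent.KFlat.StalkCx.stCx (w (a x))).obj P₂).sc j).mapHomologyIso
          (ModuleCat.extendScalars.{u, u, u} (w.stalkMap (a x)).hom))
      exact IsZero.of_iso ((DerSch.stalkFunctor X₂ (w (a x))).map_isZero (hP₂ j hj))
        ((P₂.sc j).mapHomologyIso (DerSch.stalkFunctor X₂ (w (a x))))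
  have hT' : ∀ i, i < a₁ + a₂ ∨ b₁ + b₂ < i → IsZero ((DerivedCategory.homologyFunctor X.Modules i).obj
      ((DCoh.LTensorCx K₂).obj ((DCoh.Lpull p₁).obj (DCoh.toD X₁ E₁)))) := fun i hi =>
    (((isZero_homology_Q T i).mpr (hT i hi))).of_iso ((DerivedCategory.homologyFunctor _ i).mapIso t)
  exact ⟨(DerivedCategory.isGE_iff _ _).2 fun i hi => hT' i (Or.inl hi),
    (DerivedCategory.isLE_iff _ _).2 fun i hi => hT' i (Or.inr hi)⟩

end Scheme

end Groth.Agent.PCohD.TorExt
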