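import Groth.Agent.PCohD.RelPCTensor
import Groth.Agent.PCohD.RelRing
import Groth.Agent.PCohD.RelLpull
import Groth.Agent.PCohD.RelQcoh
import Groth.Agent.PCohD.TorExt
import Groth.Agent.KFlat.PullTensor
import Groth.Agent.KFlat.TildeBC
import Groth.Agent.KFlat.LocalD
import Groth.Agent.Dual3RHom.TildeLT
import Groth.Agent.KFlat.UnitCx

/-!
# Relative pseudo-coherence of pullback tensor products on schemes
-/

set_option autoImplicit false

universe u

open CategoryTheory CategoryTheory.Limits DerivedCategory MonoidalCategory AlgebraicGeometry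

attribute [local instance] HasDerivedCategory.standard

noncomputable section

namespace Groth.Agent.PCohD.RelPCTensor

open Groth.Agent.DRing Groth.Agent.DRing.KFlat
open Groth.Agent.KFlat (tensFlipIso)
open Groth.Agent.KFlat.Pull
open Groth.Agent.Dual3RHom (TildeLT.tC TildeLT.cxIso)

variable {X Y Z : Scheme.{u}} {f : X ⟶ Y} {g : Y ⟶ Z}

/-- Relative pseudo-coherence respects isomorphisms. -/
theorem rel_of_iso {m : ℤ} {K L : DCoh.D X} (e : K ≅ L) (h : DerSch.IsPseudoCoherentRel f m K) :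
    DerSch.IsPseudoCoherentRel f m L := by
  have := h.1
  rw [rel_iff_tc] at h ⊢
  exact fun U V hUV n φ hφ => @fun _ =>
    pc_of_iso ((pushD _).mapIso ((DCoh.restrictD _).mapIso e)) (h U V hUV n φ hφ)

/-- Quasi-coherent cohomology from relative pseudo-coherence. -/
theorem isQCohD_of_relAll {K : DCoh.D X} (h : ∀ m, DerSch.IsPseudoCoherentRel f m K) : DCoh.IsQCohD K :=
  fun i => rel_isQCoh (h (i - 1)) i (by omega)

/-- A bounded above projective complex of sections. -/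
theorem exists_chartModel [LocallyOfFiniteType g] {K : DCoh.D Y} (hK : ∀ m, DerSch.IsPseudoCoherentRel g m K)
    {V : Y.Opens} (hV : IsAffineOpen V) {W : Z.Opens} (hW : IsAffineOpen W) (h : V ≤ g ⁻¹ᵁ W)
    [PreservesFiniteLimits (tilde.functor Γ(Y, V))] :
    ∃ (M : DRing.Cx Γ(Y, V)) (d : ℤ), DRing.VanishesAbove M d ∧ (∀ i, Module.Projective Γ(Y, V) (M.X i)) ∧
      (letI := (g.appLE W V h).hom.toAlgebra
       ∀ m, DerCA.IsRelPseudoCoherent Γ(Z, W) Γ(Y, V) m (DRing.toD M)) ∧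
      Nonempty (DCoh.toD _ (TildeLT.tC.obj M) ≅ (DCoh.restrictD hV.fromSpec).obj K) := by
  let := (g.appLE W V h).hom.toAlgebra
  have : Algebra.FiniteType Γ(Z, W) Γ(Y, V) := g.finiteType_appLE hW hV h
  obtain ⟨M₀, ⟨e⟩⟩ := Groth.Agent.KFlat.TildeD.exists_iso_of_isQCohD (R := Γ(Y, V)) _
    (isQCohD_pushD_isoSpec (isQCohD_of_relAll hK) hV)
  have hrel : ∀ m, DerCA.IsRelPseudoCoherent Γ(Z, W) Γ(Y, V) m M₀ := fun m =>
    (P_iff_isRel hV hW h M₀ e).1 ((rel_iff.1 (hK m)) ⟨V, hV⟩ ⟨W, hW⟩ h)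
  obtain ⟨n, α, hα, hpc⟩ := hrel 0
  obtain ⟨b, hb⟩ := PC.pc_boundedAbove hpc
  obtain ⟨L, -, -, ⟨eL⟩⟩ := DBasic.exists_kproj_iso M₀
  have hvan : ∀ i, b < i → Subsingleton (Dual.HD Γ(Y, V) M₀ i) := fun i hi => by
    have h1 := hb i hi
    rw [DBasic.subsingleton_HD_congr ((DRing.restrictD _).mapIso eL.symm ≪≫ restrictDIso _ L),
      DBasic.subsingleton_HD_toD_iff, ← HomologicalComplex.exactAt_iff_isZero_homology,
      TensorAmp.exactAt_restrictCx_iff, HomologicalComplex.exactAt_iff_isZero_homology,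
      ← DBasic.subsingleton_HD_toD_iff, DBasic.subsingleton_HD_congr eL] at h1
    exact h1
  obtain ⟨M, hMb, hMp, ⟨eM⟩⟩ := Trunc.exists_projRep M₀ b hvan
  obtain ⟨eV⟩ := nonempty_restrictD_fromSpec hV K
  refine ⟨M, b, hMb, hMp, fun m => ?_, ⟨?_⟩⟩
  · obtain ⟨n', α', hα', h'⟩ := hrel m
    exact ⟨n', α', hα', PC.pc_of_iso ((DRing.restrictD _).mapIso eM.symm) h'⟩
  · exact ((tilde.functor Γ(Y, V)).mapDerivedCategoryFactors.app M).symm ≪≫
      (DCoh.tildeD Γ(Y, V)).mapIso eM ≪≫ e ≪≫ eV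

/-- Restriction to an affine chart, as an inverse image of complexes. -/
def restrictPullIso {U : Scheme.{u}} (j : U ⟶ X) [IsOpenImmersion j] (F : CochainComplex X.Modules ℤ) :
    (DCoh.restrictD j).obj (DCoh.toD X F) ≅ DCoh.toD U ((pullCx j).obj F) :=
  PerfTri.Perfect.restrQ j F ≪≫ Q.mapIso
    ((NatIso.mapHomologicalComplex (Scheme.Modules.restrictFunctorIsoPullback j) (ComplexShape.up ℤ)).app F)

/-- The affine case. -/
theorem P_tensor_pull [LocallyOfFiniteType f] [LocallyOfFiniteType g]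
    (E : CochainComplex X.Modules ℤ) (hE : ∀ m, DerSch.IsPseudoCoherentRel f m (DCoh.toD X E))
    (P₀ : CochainComplex Y.Modules ℤ) (hP₀ : DCoh.IsKFlat P₀)
    (hF : ∀ m, DerSch.IsPseudoCoherentRel g m (DCoh.toD Y P₀))
    {U : X.Opens} (hU : IsAffineOpen U) {V : Y.Opens} (hV : IsAffineOpen V) {W : Z.Opens}
    (hW : IsAffineOpen W) (hUV : U ≤ f ⁻¹ᵁ V) (hVW : V ≤ g ⁻¹ᵁ W) (m : ℤ) :
    P (f ≫ g) m (DCoh.toD X ((DCoh.tensorCx.obj ((pullCx f).obj P₀)).obj E)) U W := by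
  have : ∀ R : CommRingCat.{u}, PreservesFiniteLimits (tilde.functor R) := fun R =>
    Groth.Agent.KFlat.TildeExact.preservesFiniteLimits_tilde R
  have hUW : U ≤ (f ≫ g) ⁻¹ᵁ W := fun x hx => hVW (hUV hx)
  have hcomp : (f.appLE V U hUV).hom.comp (g.appLE W V hVW).hom = ((f ≫ g).appLE W U hUW).hom := by
    rw [← CommRingCat.hom_comp, Scheme.Hom.appLE_comp_appLE]
  let := (g.appLE W V hVW).hom.toAlgebra
  let := (f.appLE V U hUV).hom.toAlgebra
  let := ((f ≫ g).appLE W U hUW).hom.toAlgebra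
  have : IsScalarTower Γ(Z, W) Γ(Y, V) Γ(X, U) := IsScalarTower.of_algebraMap_eq' hcomp.symm
  have : Algebra.FiniteType Γ(Z, W) Γ(Y, V) := g.finiteType_appLE hW hV hVW
  have : Algebra.FiniteType Γ(Y, V) Γ(X, U) := f.finiteType_appLE hV hU hUV
  obtain ⟨MF, d, hFb, hFp, hFr, ⟨eF⟩⟩ := exists_chartModel hF hV hW hVW
  obtain ⟨ME, -, -, -, hEr, ⟨eE⟩⟩ := exists_chartModel hE hU hV hUV
  have hMF : DRing.IsKFlat _ MF := TorAmp.isKFlat_of_projective hFb hFp
  let φ := f.appLE V U hUV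
  let j := hU.fromSpec
  let jV := hV.fromSpec
  have hj : Spec.map φ ≫ jV = j ≫ f := IsAffineOpen.SpecMap_appLE_fromSpec f hV hU hUV
  let MG := (Groth.Agent.DRing.LTensor.extCx φ.hom).obj MF
  -- the pullback of `P₀` on the chart
  let eP : DCoh.toD _ ((pullCx j).obj ((pullCx f).obj P₀)) ≅ DCoh.toD _ (TildeLT.tC.obj MG) :=
    Q.mapIso ((pullCxComp j f).app P₀ ≪≫ eqToIso (by rw [← hj]) ≪≫ ((pullCxComp (Spec.map φ) jV).app P₀).symm) ≪≫
      Groth.Agent.KFlat.LocalD.pullQIso (Spec.map φ) (isKFlat_pullCx jV hP₀)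
        (Groth.Agent.KFlat.TildeKFlat.isKFlat_tilde Γ(Y, V) MF hMF)
        ((restrictPullIso jV P₀).symm ≪≫ eF.symm) ≪≫
      Q.mapIso ((Groth.Agent.KFlat.TildeBC.cxPullIso φ).app MF)
  have hPU := isKFlat_pullCx j (isKFlat_pullCx f hP₀)
  have hMG : DCoh.IsKFlat (TildeLT.tC.obj MG) := Groth.Agent.KFlat.TildeKFlat.isKFlat_tilde Γ(X, U) MG
    (TorAmp.isKFlat_of_projective (fun i hi => Perfect.isZero_extCx φ.hom (hFb i hi))
      fun i => Perfect.projective_extendScalars φ.hom (hFp i))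
  obtain ⟨t₁⟩ := TorExt.nonempty_tensor_iso hPU ((restrictPullIso j E).symm ≪≫ eE.symm)
  have hL := Groth.Agent.KFlat.LTensor.hasLTensorCx (TildeLT.tC.obj ME)
  have := Groth.Agent.KFlat.LTensor.isIso_toTensor (TildeLT.tC.obj ME) hPU
  have := Groth.Agent.KFlat.LTensor.isIso_toTensor (TildeLT.tC.obj ME) hMG
  obtain ⟨eU⟩ := nonempty_restrictD_fromSpec hU (DCoh.toD X ((DCoh.tensorCx.obj ((pullCx f).obj P₀)).obj E))
  refine (P_iff_isRel hU hW hUW (DRing.toD (ME ⊗ MG)) ?_).2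
    (relPC_tensor_ext MF ME hFb hFp hFr hEr m)
  exact (tilde.functor Γ(X, U)).mapDerivedCategoryFactors.app (ME ⊗ MG) ≪≫
    Q.mapIso (TildeLT.tC.mapIso (Tensor.braid ME MG) ≪≫ TildeLT.cxIso MG ME) ≪≫
    (asIso ((Groth.Agent.KFlat.LTensor.toTensor (TildeLT.tC.obj ME)).app (TildeLT.tC.obj MG))).symm ≪≫
    (DCoh.LTensorCx (TildeLT.tC.obj ME)).mapIso eP.symm ≪≫
    asIso ((Groth.Agent.KFlat.LTensor.toTensor (TildeLT.tC.obj ME)).app ((pullCx j).obj ((pullCx f).obj P₀))) ≪≫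
    t₁.symm ≪≫ Q.mapIso (Groth.Agent.KFlat.PullTensor.pullTensorCxIso j _ E).symm ≪≫
    (restrictPullIso j _).symm ≪≫ eU.symm

/-- The tensor product with a pullback is pseudo-coherent relative to the composite. -/
theorem rel_tensor_pull [LocallyOfFiniteType f] [LocallyOfFiniteType g]
    (E : CochainComplex X.Modules ℤ) (hE : ∀ m, DerSch.IsPseudoCoherentRel f m (DCoh.toD X E))
    (P₀ : CochainComplex Y.Modules ℤ) (hP₀ : DCoh.IsKFlat P₀)
    (hF : ∀ m, DerSch.IsPseudoCoherentRel g m (DCoh.toD Y P₀)) (m : ℤ) :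
    DerSch.IsPseudoCoherentRel (f ≫ g) m
      (DCoh.toD X ((DCoh.tensorCx.obj ((pullCx f).obj P₀)).obj E)) := by
  rw [rel_iff]
  rintro ⟨U, hU⟩ ⟨W, hW⟩ hUW
  refine P_of_cover hU hW hUW fun x hx => ?_
  obtain ⟨V, hV, hxV, hVW⟩ := exists_isAffineOpen_mem_and_subset (x := f x) (U := g ⁻¹ᵁ W) (hUW hx)
  obtain ⟨r, hr, hxr⟩ := hU.exists_basicOpen_le (V := f ⁻¹ᵁ V) ⟨x, hxV⟩ hx
  exact ⟨r, hxr, P_tensor_pull E hE P₀ hP₀ hF (hU.basicOpen r) hV hW hr hVW m⟩

/-- The derived tensor product with a derived pullback. -/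
theorem rel_ltensor_Lpull [LocallyOfFiniteType f] [LocallyOfFiniteType g]
    (E : CochainComplex X.Modules ℤ) (hE : DerSch.IsPseudoCoherentRelAll f (DCoh.toD X E))
    (F : CochainComplex Y.Modules ℤ) (hF : DerSch.IsPseudoCoherentRelAll g (DCoh.toD Y F))
    [DCoh.HasLpull f] [DCoh.HasLTensorCx E] :
    DerSch.IsPseudoCoherentRelAll (f ≫ g) ((DCoh.LTensorCx E).obj ((DCoh.Lpull f).obj (DCoh.toD Y F))) := by
  let P₀ := (resY Y).obj F
  have hP₀ : DCoh.IsKFlat P₀ := isKFlat_resY F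
  have := quasiIso_resYπ F
  have := isIso_toPull f hP₀
  have := Groth.Agent.KFlat.LTensor.isIso_toTensor E (isKFlat_pullCx f hP₀)
  let e₀ : DCoh.toD Y P₀ ≅ DCoh.toD Y F := asIso (Q.map ((resYπ Y).app F))
  intro m
  refine rel_of_iso ?_ (rel_tensor_pull E hE P₀ hP₀ (fun m => rel_of_iso e₀.symm (hF m)) m)
  exact (asIso ((Groth.Agent.KFlat.LTensor.toTensor E).app ((pullCx f).obj P₀))).symm ≪≫
    (DCoh.LTensorCx E).mapIso ((asIso ((toPull f).app P₀)).symm ≪≫ (DCoh.Lpull f).mapIso e₀)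

/-- The derived pullback. -/
theorem rel_Lpull [LocallyOfFiniteType f] [LocallyOfFiniteType g]
    (hf : DerSch.IsPseudoCoherentRelAll f (DCoh.toD X (DerSch.unitCx X)))
    (G : CochainComplex Y.Modules ℤ) (hG : DerSch.IsPseudoCoherentRelAll g (DCoh.toD Y G))
    [DCoh.HasLpull f] :
    DerSch.IsPseudoCoherentRelAll (f ≫ g) ((DCoh.Lpull f).obj (DCoh.toD Y G)) := by
  let P₀ := (resY Y).obj G
  have hP₀ : DCoh.IsKFlat P₀ := isKFlat_resY G
  have := quasiIso_resYπ G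
  have := isIso_toPull f hP₀
  let e₀ : DCoh.toD Y P₀ ≅ DCoh.toD Y G := asIso (Q.map ((resYπ Y).app G))
  intro m
  refine rel_of_iso ?_ (rel_tensor_pull _ hf P₀ hP₀ (fun m => rel_of_iso e₀.symm (hG m)) m)
  exact Q.mapIso (Groth.Agent.KFlat.UnitCx.unitIsoApp ((pullCx f).obj P₀)) ≪≫
    ((asIso ((toPull f).app P₀)).symm ≪≫ (DCoh.Lpull f).mapIso e₀)

end Groth.Agent.PCohD.RelPCTensor
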