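import Groth.Agent.PCohD.RelPCIndepRing
import Groth.Agent.PCohD.RelPCTensorGeom
import Groth.Agent.PCohD.NPCSquare
import Groth.Agent.DRing.RelPCTorBC
import Groth.Agent.S3527

/-!
# Relative pseudo-coherence under base change from a common flat base
-/

set_option autoImplicit false

universe u

open CategoryTheory CategoryTheory.Limits DerivedCategory MonoidalCategory AlgebraicGeometry

attribute [local instance] HasDerivedCategory.standard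

noncomputable section

namespace Groth.Agent.PCohD.RelPCIndep

open Groth.Agent.DRing Groth.Agent.DRing.KFlat
open Groth.Agent.KFlat.Pull
open Groth.Agent.Dual3RHom (TildeLT.tC)
open RelPCTensor (rel_of_iso restrictPullIso exists_chartModel)

variable {X Y X' Y' S Y₁ : Scheme.{u}}

/-- Sections on an affine square. -/
theorem affine_square {p : X' ⟶ X} {q : X' ⟶ Y'} {f : X ⟶ Y} {h : Y' ⟶ Y} (sq : IsPullback p q f h)
    {V : Y.Opens} (hV : IsAffineOpen V) {U : X.Opens} (hU : IsAffineOpen U) {V' : Y'.Opens}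
    (hV' : IsAffineOpen V') (e : U ≤ f ⁻¹ᵁ V) (e' : V' ≤ h ⁻¹ᵁ V) :
    ∃ (_ : IsAffineOpen (p ⁻¹ᵁ U ⊓ q ⁻¹ᵁ V')),
      IsPushout (f.appLE V U e) (h.appLE V V' e') (p.appLE U (p ⁻¹ᵁ U ⊓ q ⁻¹ᵁ V') inf_le_left)
        (q.appLE V' (p ⁻¹ᵁ U ⊓ q ⁻¹ᵁ V') inf_le_right) := by
  have : IsAffine _ := hV
  have : IsAffine _ := hU
  have : IsAffine _ := hV'
  exact ⟨.of_isIso (Scheme.Hom.isPullback_resLE sq e' e rfl).isoPullback.hom,
    (isIso_pushoutSection_iff sq e' e rfl).mp (isIso_pushoutSection_of_isAffineOpen sq e' e rfl hV hV' hU)⟩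

/-- Derived pullback of a relatively pseudo-coherent complex, base changed from a common base
over which source and target are flat. -/
theorem rel_indepBC {p : X' ⟶ X} {q : X' ⟶ Y'} {f : X ⟶ Y} {h : Y' ⟶ Y} (sq : IsPullback p q f h)
    {q₂ : Y ⟶ S} {pY₁ : Y' ⟶ Y₁} {q₁ : Y₁ ⟶ S} (hY : IsPullback h pY₁ q₂ q₁)
    [Flat q₂] [Flat (f ≫ q₂)] [LocallyOfFiniteType f] [DCoh.HasLpull p]
    (E : CochainComplex X.Modules ℤ) (hE : DerSch.IsPseudoCoherentRelAll f (DCoh.toD X E)) :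
    DerSch.IsPseudoCoherentRelAll q ((DCoh.Lpull p).obj (DCoh.toD X E)) := by
  intro m
  have hq : LocallyOfFiniteType q := MorphismProperty.of_isPullback (P := @LocallyOfFiniteType) sq ‹_›
  refine ⟨hq, {V' | ∃ (S₀ : S.affineOpens) (V : Y.affineOpens) (V₁ : Y₁.affineOpens),
    (V : Y.Opens) ≤ q₂ ⁻¹ᵁ (S₀ : S.Opens) ∧ (V₁ : Y₁.Opens) ≤ q₁ ⁻¹ᵁ (S₀ : S.Opens) ∧
      (V' : Y'.Opens) = h ⁻¹ᵁ (V : Y.Opens) ⊓ pY₁ ⁻¹ᵁ (V₁ : Y₁.Opens)}, ?_, ?_⟩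
  · refine eq_top_iff.2 fun y _ => ?_
    obtain ⟨S₀, hS₀, hyS, -⟩ := exists_isAffineOpen_mem_and_subset (x := q₂ (h y)) (U := ⊤) trivial
    obtain ⟨V, hV, hyV, hV0⟩ := exists_isAffineOpen_mem_and_subset (x := h y) (U := q₂ ⁻¹ᵁ S₀) hyS
    have hy₁ : q₁ (pY₁ y) ∈ S₀ := by
      rwa [← Scheme.Hom.comp_apply, ← hY.w, Scheme.Hom.comp_apply]
    obtain ⟨V₁, hV₁, hyV₁, hV10⟩ := exists_isAffineOpen_mem_and_subset (x := pY₁ y) (U := q₁ ⁻¹ᵁ S₀) hy₁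
    obtain ⟨hV', -⟩ := affine_square hY hS₀ hV hV₁ hV0 hV10
    simp only [TopologicalSpace.Opens.mem_iSup, exists_prop]
    exact ⟨⟨_, hV'⟩, ⟨⟨S₀, hS₀⟩, ⟨V, hV⟩, ⟨V₁, hV₁⟩, hV0, hV10, rfl⟩, hyV, hyV₁⟩
  rintro ⟨V', hV'⟩ ⟨⟨S₀, hS₀⟩, ⟨V, hV⟩, ⟨V₁, hV₁⟩, hV0, hV10, hV'eq⟩
  dsimp only at hV0 hV10 hV'eq ⊢
  subst hV'eq
  obtain ⟨-, hpoY⟩ := affine_square hY hS₀ hV hV₁ hV0 hV10
  refine ⟨{W | ∃ U : X.affineOpens, (U : X.Opens) ≤ f ⁻¹ᵁ V ∧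
    (W : X'.Opens) = p ⁻¹ᵁ (U : X.Opens) ⊓ q ⁻¹ᵁ (h ⁻¹ᵁ V ⊓ pY₁ ⁻¹ᵁ V₁)}, le_antisymm ?_ ?_, ?_⟩
  · refine iSup₂_le ?_
    rintro W ⟨U, -, e⟩ x hx
    rw [e] at hx
    exact hx.2
  · intro x hx
    have hx' : f (p x) ∈ V := by
      rw [← Scheme.Hom.comp_apply, sq.w, Scheme.Hom.comp_apply]
      exact hx.1
    obtain ⟨U, hU, hxU, hle⟩ := exists_isAffineOpen_mem_and_subset (x := p x) (U := f ⁻¹ᵁ V) hx'
    obtain ⟨hW, -⟩ := affine_square sq hV hU hV' hle inf_le_left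
    simp only [TopologicalSpace.Opens.mem_iSup, exists_prop]
    exact ⟨⟨_, hW⟩, ⟨⟨U, hU⟩, hle, rfl⟩, hxU, hx⟩
  rintro ⟨W, hW⟩ ⟨⟨U, hU⟩, e, hWeq⟩ h'
  dsimp only at e hWeq h' ⊢
  subst hWeq
  obtain ⟨-, hpo⟩ := affine_square sq hV hU hV' e (inf_le_left : h ⁻¹ᵁ V ⊓ pY₁ ⁻¹ᵁ V₁ ≤ h ⁻¹ᵁ V)
  refine (P_iff_chartPC hW h').1 ?_
  have : ∀ R : CommRingCat.{u}, PreservesFiniteLimits (tilde.functor R) := fun R =>
    Groth.Agent.KFlat.TildeExact.preservesFiniteLimits_tilde R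
  let V'' : Y'.Opens := h ⁻¹ᵁ V ⊓ pY₁ ⁻¹ᵁ V₁
  let W' : X'.Opens := p ⁻¹ᵁ U ⊓ q ⁻¹ᵁ V''
  have e' : V'' ≤ h ⁻¹ᵁ V := inf_le_left
  have e₁ : W' ≤ p ⁻¹ᵁ U := inf_le_left
  have e₂ : W' ≤ q ⁻¹ᵁ V'' := inf_le_right
  let := (f.appLE V U e).hom.toAlgebra
  let := (h.appLE V V'' e').hom.toAlgebra
  let := (p.appLE U W' e₁).hom.toAlgebra
  let := (q.appLE V'' W' e₂).hom.toAlgebra
  let : Algebra Γ(Y, V) Γ(X', W') :=
    ((algebraMap Γ(Y', V'') Γ(X', W')).comp (algebraMap Γ(Y, V) Γ(Y', V''))).toAlgebra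
  have : IsScalarTower Γ(Y, V) Γ(Y', V'') Γ(X', W') := .of_algebraMap_eq fun _ => rfl
  have : IsScalarTower Γ(Y, V) Γ(X, U) Γ(X', W') :=
    .of_algebraMap_eq' (congrArg CommRingCat.Hom.hom hpo.w).symm
  have : Algebra.IsPushout Γ(Y, V) Γ(X, U) Γ(Y', V'') Γ(X', W') :=
    CommRingCat.isPushout_iff_isPushout.mp hpo
  -- the common base
  let := (q₂.appLE S₀ V hV0).hom.toAlgebra
  let := (q₁.appLE S₀ V₁ hV10).hom.toAlgebra
  let := (pY₁.appLE V₁ V'' inf_le_right).hom.toAlgebra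
  let : Algebra Γ(S, S₀) Γ(Y', V'') :=
    ((algebraMap Γ(Y₁, V₁) Γ(Y', V'')).comp (algebraMap Γ(S, S₀) Γ(Y₁, V₁))).toAlgebra
  have : IsScalarTower Γ(S, S₀) Γ(Y₁, V₁) Γ(Y', V'') := .of_algebraMap_eq fun _ => rfl
  have : IsScalarTower Γ(S, S₀) Γ(Y, V) Γ(Y', V'') :=
    .of_algebraMap_eq' (congrArg CommRingCat.Hom.hom hpoY.w).symm
  have : Algebra.IsPushout Γ(S, S₀) Γ(Y, V) Γ(Y₁, V₁) Γ(Y', V'') :=
    CommRingCat.isPushout_iff_isPushout.mp hpoY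
  have := Algebra.IsPushout.symm (R := Γ(S, S₀)) (S := Γ(Y, V)) (R' := Γ(Y₁, V₁)) (S' := Γ(Y', V''))
    inferInstance
  have hU0 : U ≤ (f ≫ q₂) ⁻¹ᵁ S₀ := fun x hx => hV0 (e hx)
  let := ((f ≫ q₂).appLE S₀ U hU0).hom.toAlgebra
  have : IsScalarTower Γ(S, S₀) Γ(Y, V) Γ(X, U) := .of_algebraMap_eq' (by
    simp only [RingHom.algebraMap_toAlgebra]
    rw [← CommRingCat.hom_comp, Scheme.Hom.appLE_comp_appLE])
  have : Module.Flat Γ(S, S₀) Γ(Y, V) := q₂.flat_appLE hS₀ hV hV0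
  have : Module.Flat Γ(S, S₀) Γ(X, U) := (f ≫ q₂).flat_appLE hS₀ hU hU0
  have : Algebra.FiniteType Γ(Y, V) Γ(X, U) := f.finiteType_appLE hV hU e
  -- models
  let P₀ := (resY X).obj E
  have hP₀ : DCoh.IsKFlat P₀ := isKFlat_resY E
  have := quasiIso_resYπ E
  have := isIso_toPull p hP₀
  let e₀ : DCoh.toD X P₀ ≅ DCoh.toD X E := asIso (Q.map ((resYπ X).app E))
  obtain ⟨MF, d, hFb, hFp, hFr, ⟨eF⟩⟩ := exists_chartModel (fun k => rel_of_iso e₀.symm (hE k)) hU hV e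
  have hMF : DRing.IsKFlat _ MF := TorAmp.isKFlat_of_projective hFb hFp
  let φ := p.appLE U W' e₁
  let j := hW.fromSpec
  let jU := hU.fromSpec
  have hj : Spec.map φ ≫ jU = j ≫ p := IsAffineOpen.SpecMap_appLE_fromSpec p hU hW e₁
  obtain ⟨eW⟩ := nonempty_restrictD_fromSpec hW ((DCoh.Lpull p).obj (DCoh.toD X E))
  have := LTensor.hasLBaseChange φ.hom
  refine (P_iff_isRel hW hV' h' _ ?_).2
    (RelPCTorBC.isRel_baseChange (R := Γ(Y, V)) (A := Γ(X, U)) (R' := Γ(Y', V''))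
      (fun k hk => subsingleton_tor_indep (S := Γ(S, S₀)) (C := Γ(Y₁, V₁)) k hk) φ.hom rfl
      (DRing.toD MF) (hFr m))
  exact (DCoh.tildeD Γ(X', W')).mapIso (Perfect.baseChangeIsoOfRep φ.hom hMF (Iso.refl _)).symm ≪≫
    (tilde.functor Γ(X', W')).mapDerivedCategoryFactors.app _ ≪≫
    (Q.mapIso ((pullCxComp j p).app P₀ ≪≫ eqToIso (by rw [← hj]) ≪≫
          ((pullCxComp (Spec.map φ) jU).app P₀).symm) ≪≫
      Groth.Agent.KFlat.LocalD.pullQIso (Spec.map φ) (isKFlat_pullCx jU hP₀)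
        (Groth.Agent.KFlat.TildeKFlat.isKFlat_tilde Γ(X, U) MF hMF)
        ((restrictPullIso jU P₀).symm ≪≫ eF.symm) ≪≫
      Q.mapIso ((Groth.Agent.KFlat.TildeBC.cxPullIso φ).app MF)).symm ≪≫
    (restrictPullIso j _).symm ≪≫
    (DCoh.restrictD j).mapIso ((asIso ((toPull p).app P₀)).symm ≪≫ (DCoh.Lpull p).mapIso e₀) ≪≫ eW.symm

/-- Derived pullback of a relatively pseudo-coherent complex along a flat base change. -/
theorem rel_flatBC_sq {p : X' ⟶ X} {q : X' ⟶ Y'} {f : X ⟶ Y} {h : Y' ⟶ Y} (sq : IsPullback p q f h)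
    [Flat h] [LocallyOfFiniteType f] [DCoh.HasLpull p]
    (E : CochainComplex X.Modules ℤ) (hE : DerSch.IsPseudoCoherentRelAll f (DCoh.toD X E)) :
    DerSch.IsPseudoCoherentRelAll q ((DCoh.Lpull p).obj (DCoh.toD X E)) := by
  intro m
  have hq : LocallyOfFiniteType q := MorphismProperty.of_isPullback (P := @LocallyOfFiniteType) sq ‹_›
  refine ⟨hq, {V' | ∃ V : Y.affineOpens, (V' : Y'.Opens) ≤ h ⁻¹ᵁ (V : Y.Opens)}, ?_, ?_⟩
  · refine eq_top_iff.2 fun y _ => ?_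
    obtain ⟨V, hV, hyV, -⟩ := exists_isAffineOpen_mem_and_subset (x := h y) (U := ⊤) trivial
    obtain ⟨V', hV', hy, hle⟩ := exists_isAffineOpen_mem_and_subset (x := y) (U := h ⁻¹ᵁ V) hyV
    simp only [TopologicalSpace.Opens.mem_iSup, exists_prop]
    exact ⟨⟨V', hV'⟩, ⟨⟨V, hV⟩, hle⟩, hy⟩
  rintro ⟨V', hV'⟩ ⟨⟨V, hV⟩, e'⟩
  dsimp only at e' ⊢
  refine ⟨{W | ∃ U : X.affineOpens, (U : X.Opens) ≤ f ⁻¹ᵁ V ∧
    (W : X'.Opens) = p ⁻¹ᵁ (U : X.Opens) ⊓ q ⁻¹ᵁ V'}, le_antisymm ?_ ?_, ?_⟩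
  · refine iSup₂_le ?_
    rintro W ⟨U, -, e⟩ x hx
    rw [e] at hx
    exact hx.2
  · intro x hx
    have hx' : f (p x) ∈ V := by
      rw [← Scheme.Hom.comp_apply, sq.w, Scheme.Hom.comp_apply]
      exact e' hx
    obtain ⟨U, hU, hxU, hle⟩ := exists_isAffineOpen_mem_and_subset (x := p x) (U := f ⁻¹ᵁ V) hx'
    obtain ⟨hW, -⟩ := affine_square sq hV hU hV' hle e'
    simp only [TopologicalSpace.Opens.mem_iSup, exists_prop]
    exact ⟨⟨_, hW⟩, ⟨⟨U, hU⟩, hle, rfl⟩, hxU, hx⟩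
  rintro ⟨W, hW⟩ ⟨⟨U, hU⟩, e, hWeq⟩ h'
  dsimp only at e hWeq h' ⊢
  subst hWeq
  obtain ⟨-, hpo⟩ := affine_square sq hV hU hV' e e'
  refine (P_iff_chartPC hW h').1 ?_
  have : ∀ R : CommRingCat.{u}, PreservesFiniteLimits (tilde.functor R) := fun R =>
    Groth.Agent.KFlat.TildeExact.preservesFiniteLimits_tilde R
  let V'' : Y'.Opens := V'
  let W' : X'.Opens := p ⁻¹ᵁ U ⊓ q ⁻¹ᵁ V''
  have e₁ : W' ≤ p ⁻¹ᵁ U := inf_le_left
  have e₂ : W' ≤ q ⁻¹ᵁ V'' := inf_le_right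
  let := (f.appLE V U e).hom.toAlgebra
  let := (h.appLE V V'' e').hom.toAlgebra
  let := (p.appLE U W' e₁).hom.toAlgebra
  let := (q.appLE V'' W' e₂).hom.toAlgebra
  let : Algebra Γ(Y, V) Γ(X', W') :=
    ((algebraMap Γ(Y', V'') Γ(X', W')).comp (algebraMap Γ(Y, V) Γ(Y', V''))).toAlgebra
  have : IsScalarTower Γ(Y, V) Γ(Y', V'') Γ(X', W') := .of_algebraMap_eq fun _ => rfl
  have : IsScalarTower Γ(Y, V) Γ(X, U) Γ(X', W') :=
    .of_algebraMap_eq' (congrArg CommRingCat.Hom.hom hpo.w).symm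
  have : Algebra.IsPushout Γ(Y, V) Γ(X, U) Γ(Y', V'') Γ(X', W') :=
    CommRingCat.isPushout_iff_isPushout.mp hpo
  have : Module.Flat Γ(Y, V) Γ(Y', V'') := h.flat_appLE hV hV' e'
  have : Algebra.FiniteType Γ(Y, V) Γ(X, U) := f.finiteType_appLE hV hU e
  -- models
  let P₀ := (resY X).obj E
  have hP₀ : DCoh.IsKFlat P₀ := isKFlat_resY E
  have := quasiIso_resYπ E
  have := isIso_toPull p hP₀
  let e₀ : DCoh.toD X P₀ ≅ DCoh.toD X E := asIso (Q.map ((resYπ X).app E))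
  obtain ⟨MF, d, hFb, hFp, hFr, ⟨eF⟩⟩ := exists_chartModel (fun k => rel_of_iso e₀.symm (hE k)) hU hV e
  have hMF : DRing.IsKFlat _ MF := TorAmp.isKFlat_of_projective hFb hFp
  let φ := p.appLE U W' e₁
  let j := hW.fromSpec
  let jU := hU.fromSpec
  have hj : Spec.map φ ≫ jU = j ≫ p := IsAffineOpen.SpecMap_appLE_fromSpec p hU hW e₁
  obtain ⟨eW⟩ := nonempty_restrictD_fromSpec hW ((DCoh.Lpull p).obj (DCoh.toD X E))
  have := LTensor.hasLBaseChange φ.hom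
  refine (P_iff_isRel hW hV' h' _ ?_).2
    (RelPCTorBC.isRel_baseChange (R := Γ(Y, V)) (A := Γ(X, U)) (R' := Γ(Y', V''))
      (fun k hk => (S3527.result Γ(Y, V) Γ(Y', V'') Γ(X, U) k hk).2) φ.hom rfl
      (DRing.toD MF) (hFr m))
  exact (DCoh.tildeD Γ(X', W')).mapIso (Perfect.baseChangeIsoOfRep φ.hom hMF (Iso.refl _)).symm ≪≫
    (tilde.functor Γ(X', W')).mapDerivedCategoryFactors.app _ ≪≫
    (Q.mapIso ((pullCxComp j p).app P₀ ≪≫ eqToIso (by rw [← hj]) ≪≫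
          ((pullCxComp (Spec.map φ) jU).app P₀).symm) ≪≫
      Groth.Agent.KFlat.LocalD.pullQIso (Spec.map φ) (isKFlat_pullCx jU hP₀)
        (Groth.Agent.KFlat.TildeKFlat.isKFlat_tilde Γ(X, U) MF hMF)
        ((restrictPullIso jU P₀).symm ≪≫ eF.symm) ≪≫
      Q.mapIso ((Groth.Agent.KFlat.TildeBC.cxPullIso φ).app MF)).symm ≪≫
    (restrictPullIso j _).symm ≪≫
    (DCoh.restrictD j).mapIso ((asIso ((toPull p).app P₀)).symm ≪≫ (DCoh.Lpull p).mapIso e₀) ≪≫ eW.symm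

end Groth.Agent.PCohD.RelPCIndep

namespace Groth.Agent.PCohD.RelPCIndep

open Groth.Agent.KFlat.Pull
open RelPCTensor (rel_of_iso rel_tensor_pull)

variable {X X₁ X₂ W Y : AlgebraicGeometry.Scheme.{u}}

/-- The K-flat pullback represents the derived one. -/
theorem rel_pullCx_resY (p : X ⟶ X₁) [DCoh.HasLpull p] {q : X ⟶ W} (E : CochainComplex X₁.Modules ℤ)
    (h : DerSch.IsPseudoCoherentRelAll q ((DCoh.Lpull p).obj (DCoh.toD X₁ E))) :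
    DerSch.IsPseudoCoherentRelAll q (DCoh.toD X ((pullCx p).obj ((resY X₁).obj E))) := fun m => by
  have := quasiIso_resYπ E
  have := isIso_toPull p (isKFlat_resY E)
  exact rel_of_iso ((DCoh.Lpull p).mapIso (asIso (Q.map ((resYπ X₁).app E))).symm ≪≫
    asIso ((toPull p).app ((resY X₁).obj E))) (h m)

/-- Relative pseudo-coherence of an external product. -/
theorem rel_external (p₁ : X ⟶ X₁) (p₂ : X ⟶ X₂) (w : W ⟶ X₂) (a : X ⟶ W) (b : W ⟶ Y) (ha : a ≫ w = p₂)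
    [LocallyOfFiniteType a] [LocallyOfFiniteType b] [DCoh.HasLpull p₁] [DCoh.HasLpull p₂] [DCoh.HasLpull w]
    (E₁ : CochainComplex X₁.Modules ℤ) (E₂ : CochainComplex X₂.Modules ℤ)
    (K₂ : CochainComplex X.Modules ℤ) [DCoh.HasLTensorCx K₂]
    (e : DCoh.toD X K₂ ≅ (DCoh.Lpull p₂).obj (DCoh.toD X₂ E₂))
    (h₁ : DerSch.IsPseudoCoherentRelAll a ((DCoh.Lpull p₁).obj (DCoh.toD X₁ E₁)))
    (h₂ : DerSch.IsPseudoCoherentRelAll b ((DCoh.Lpull w).obj (DCoh.toD X₂ E₂))) :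
    DerSch.IsPseudoCoherentRelAll (a ≫ b)
      ((DCoh.LTensorCx K₂).obj ((DCoh.Lpull p₁).obj (DCoh.toD X₁ E₁))) := fun m => by
  obtain ⟨t⟩ := TorExt.nonempty_external_iso p₁ p₂ w a ha E₁ E₂ K₂ e
  refine rel_of_iso (Q.mapIso (((Groth.Agent.KFlat.tensFlipIso X.sheaf).app
      ((pullCx a).obj ((pullCx w).obj ((resY X₂).obj E₂)))).app ((pullCx p₁).obj ((resY X₁).obj E₁))).symm ≪≫
    t.symm) ?_
  exact rel_tensor_pull _ (rel_pullCx_resY p₁ E₁ h₁) _ (isKFlat_pullCx w (isKFlat_resY E₂))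
    (rel_pullCx_resY w E₂ h₂) m

end Groth.Agent.PCohD.RelPCIndep
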