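import Groth.Agent.PCohD.RelFlatBC
import Groth.Agent.DRing.TorBalance

/-!
# Tor independence over a common base
-/

set_option autoImplicit false

universe u

open CategoryTheory CategoryTheory.Limits DerivedCategory MonoidalCategory
open scoped TensorProduct

attribute [local instance] HasDerivedCategory.standard

noncomputable section

namespace Groth.Agent.PCohD.RelPCIndep

open Groth.Agent.DRing Groth.Agent.DRing.KFlat Groth.Agent.DRing.TorAmp

variable {S R C R' A : Type u} [CommRing S] [CommRing R] [CommRing C] [CommRing R'] [CommRing A]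
  [Algebra S R] [Algebra S C] [Algebra S R'] [Algebra R R'] [Algebra C R'] [IsScalarTower S R R']
  [IsScalarTower S C R'] [Algebra S A] [Algebra R A] [IsScalarTower S R A]

/-- If `R` and `A` are flat over `S`, then `A` and `R' = C ⊗_S R` are tor independent over `R`. -/
theorem subsingleton_tor_indep [Module.Flat S R] [Module.Flat S A] [hpo : Algebra.IsPushout S C R R']
    (p : ℕ) (hp : 0 < p) : Subsingleton (DRing.Tor R p A R') := by
  obtain ⟨k, rfl⟩ : ∃ k, p = k + 1 := ⟨p - 1, by omega⟩
  let θ := algebraMap S R
  let ψ := algebraMap R R'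
  let M := ModuleCat.of R A
  let P := CategoryTheory.projectiveResolution M
  have hP := TorBalance.isKFlat_cochainComplex P
  refine (TorBalance.subsingleton_tor_iff_left hP (TorBalance.resIso P ≪≫ TorBalance.inDS0 A) R' k).2 ?_
  -- K-flatness over the base
  have hθ : θ.Flat := RingHom.flat_algebraMap_iff.mpr inferInstance
  have hk₁ := Thick.isKFlat_restrict_flat θ hθ hP
  have hk₂ : DRing.IsKFlat S ((Groth.Agent.KFlat.BaseChange.resCx θ).obj (SingleTensor.S0 M)) := by
    refine KFlat.isKFlat_of_boundedAbove_flat _ 0 (fun i hi => (ModuleCat.restrictScalars θ).map_isZero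
      (HomologicalComplex.isZero_single_obj_X _ _ _ _ (by omega))) fun i => ?_
    rcases eq_or_ne i 0 with rfl | hi
    · let e : ((ModuleCat.restrictScalars θ).obj M : ModuleCat.{u} S) ≃ₗ[S] A :=
        { toFun := fun x => x
          invFun := fun x => x
          left_inv := fun _ => rfl
          right_inv := fun _ => rfl
          map_add' := fun _ _ => rfl
          map_smul' := fun s x => (IsScalarTower.algebraMap_smul R s (show A from x)) }
      exact Module.Flat.of_linearEquiv (((ModuleCat.restrictScalars θ).mapIso
        (HomologicalComplex.singleObjXSelf (ComplexShape.up ℤ) 0 M)).toLinearEquiv.trans e)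
    · have := ModuleCat.subsingleton_of_isZero ((ModuleCat.restrictScalars θ).map_isZero
        (HomologicalComplex.isZero_single_obj_X (ComplexShape.up ℤ) 0 M i hi))
      have : Module.Free S ((ModuleCat.restrictScalars θ).obj ((SingleTensor.S0 M).X i)) := Module.Free.of_subsingleton S _
      exact (Module.Flat.of_free : Module.Flat S ((ModuleCat.restrictScalars θ).obj ((SingleTensor.S0 M).X i)))
  -- base change keeps the resolution
  let eν := Algebra.IsPushout.equiv S C R R'
  have := RelFlatBC.quasiIso_ext_indep (R := S) (A := R) (C := C) ψ eν.toRingEquiv.toRingHom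
    (RingHom.Flat.of_bijective eν.bijective) (RingHom.ext fun r => by
      change eν (1 ⊗ₜ r) = algebraMap R R' r
      simp [eν, Algebra.IsPushout.equiv_tmul]) P.π' inferInstance hk₁ hk₂
  -- the tensor product with `R'`
  let e₁ : ((ModuleCat.restrictScalars ψ).obj (ModuleCat.of R' R') : ModuleCat.{u} R) ≃ₗ[R] R' :=
    { toFun := fun x => x
      invFun := fun x => x
      left_inv := fun _ => rfl
      right_inv := fun _ => rfl
      map_add' := fun _ _ => rfl
      map_smul' := fun r x => (Algebra.smul_def r (show R' from x)).symm }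
  let e : DRing.tensorCx P.cochainComplex (ModuleCat.of R R') ≅
      (DRing.restrictCx ψ).obj ((Groth.Agent.KFlat.BaseChange.extCx ψ).obj P.cochainComplex) :=
    (NatIso.mapHomologicalComplex
      ((tensoringRight (ModuleCat.{u} R)).mapIso e₁.toModuleIso.symm) (ComplexShape.up ℤ)).app _ ≪≫
      ((NatIso.mapHomologicalComplex (SingleTensor.restrictExtendIso ψ) (ComplexShape.up ℤ)).app _).symm
  refine (exactAt_iff_of_quasiIso e.hom _).2 ?_
  rw [TensorAmp.exactAt_restrictCx_iff, exactAt_iff_of_quasiIso ((Groth.Agent.KFlat.BaseChange.extCx ψ).map P.π') _,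
    HomologicalComplex.exactAt_iff]
  exact ShortComplex.exact_of_isZero_X₂ _ ((ModuleCat.extendScalars.{u, u, u} ψ).map_isZero
    (HomologicalComplex.isZero_single_obj_X _ _ _ _ (by omega)))

end Groth.Agent.PCohD.RelPCIndep
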