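import Groth.Agent.PCohD.RelPCTensorRing
import Groth.Agent.DRing.RelPCFinite

/-!
# Relative pseudo-coherence of pullback tensor products, affine case
-/

set_option autoImplicit false

universe u

open CategoryTheory CategoryTheory.Limits DerivedCategory MonoidalCategory

attribute [local instance] HasDerivedCategory.standard

noncomputable section

namespace Groth.Agent.PCohD.RelPCTensor

open Groth.Agent.DRing Groth.Agent.DRing.KFlat Groth.Agent.DRing.TorAmp

/-- Restriction on `D`, computed by complexes. -/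
def restrictDIso {A B : Type u} [CommRing A] [CommRing B] (θ : A →+* B) (K : DRing.Cx B) :
    (DRing.restrictD θ).obj (DRing.toD K) ≅ DRing.toD ((DRing.restrictCx θ).obj K) :=
  (ModuleCat.restrictScalars.{u} θ).mapDerivedCategoryFactors.app K

attribute [local instance] MvPolynomial.algebraMvPolynomial in
/-- Relative pseudo-coherence is stable under polynomial extension. -/
theorem pc_restrict_map {P A : Type u} [CommRing P] [CommRing A] [Algebra P A] (k : ℕ) (M : DRing.Cx A)
    {m : ℤ} (h : DRing.IsPseudoCoherent P m (DRing.toD ((DRing.restrictCx (algebraMap P A)).obj M))) :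
    DRing.IsPseudoCoherent (MvPolynomial (Fin k) P) m (DRing.toD
      ((DRing.restrictCx (MvPolynomial.map (algebraMap P A))).obj
        ((Groth.Agent.KFlat.BaseChange.extCx (MvPolynomial.C (R := A) (σ := Fin k))).obj M))) := by
  let α := algebraMap P A
  let ψ : P →+* MvPolynomial (Fin k) P := MvPolynomial.C
  let φ : A →+* MvPolynomial (Fin k) A := MvPolynomial.C
  let ρ : MvPolynomial (Fin k) P →+* MvPolynomial (Fin k) A := MvPolynomial.map α
  have hsq : ∀ r, ρ (ψ r) = φ (α r) := fun r => MvPolynomial.map_C α r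
  let e := Groth.Agent.DRing.RelPC.sqIso α ψ φ ρ hsq (fun N =>
    Groth.Agent.DRing.RelPC.bijective_sqHom α ψ φ ρ hsq inferInstance inferInstance inferInstance inferInstance
      (Algebra.algebra_ext _ _ fun _ => rfl) (Algebra.algebra_ext _ _ fun _ => rfl)
      (Algebra.algebra_ext _ _ fun _ => rfl) (Algebra.algebra_ext _ _ fun _ => rfl) N)
  let e' : (Groth.Agent.KFlat.BaseChange.extCx ψ).obj ((DRing.restrictCx α).obj M) ≅
      (DRing.restrictCx ρ).obj ((Groth.Agent.KFlat.BaseChange.extCx φ).obj M) :=
    HomologicalComplex.Hom.isoOfComponents (fun n => e.app (M.X n))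
      fun i j _ => (e.hom.naturality (M.d i j)).symm
  have hψ : ψ.Flat := RingHom.flat_algebraMap_iff.mpr inferInstance
  exact PC.pc_of_iso (Q.mapIso e') (RelPC.pc_extCx_of_flat ψ hψ h)

variable {R A B : Type u} [CommRing R] [CommRing A] [CommRing B] [Algebra R A] [Algebra A B]
  [Algebra R B] [IsScalarTower R A B] [Algebra.FiniteType R A] [Algebra.FiniteType A B]

/-- The tensor product with the pullback is pseudo-coherent relative to the composite. -/
theorem relPC_tensor_ext (F : DRing.Cx A) (E : DRing.Cx B) {d : ℤ} (hFb : DRing.VanishesAbove F d)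
    (hFp : ∀ i, Module.Projective A (F.X i))
    (hF : ∀ m, DerCA.IsRelPseudoCoherent R A m (DRing.toD F))
    (hE : ∀ m, DerCA.IsRelPseudoCoherent A B m (DRing.toD E)) (m : ℤ) :
    DerCA.IsRelPseudoCoherent R B m
      (DRing.toD (E ⊗ (Groth.Agent.KFlat.BaseChange.extCx (algebraMap A B)).obj F)) := by
  obtain ⟨n, α, hα⟩ := RelPC.exists_presentation R A
  obtain ⟨k, β, hβ⟩ := RelPC.exists_presentation A B
  let := (α : MvPolynomial (Fin n) R →+* A).toAlgebra
  let e := (MvPolynomial.renameEquiv R (finSumFinEquiv (m := k) (n := n)).symm).trans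
    (MvPolynomial.sumAlgEquiv R (Fin k) (Fin n))
  let μ : MvPolynomial (Fin k) (MvPolynomial (Fin n) R) →+* MvPolynomial (Fin k) A :=
    MvPolynomial.map (algebraMap (MvPolynomial (Fin n) R) A)
  let Ψ : MvPolynomial (Fin (k + n)) R →+* MvPolynomial (Fin k) A :=
    μ.comp (e : MvPolynomial (Fin (k + n)) R →+* MvPolynomial (Fin k) (MvPolynomial (Fin n) R))
  let δ : MvPolynomial (Fin (k + n)) R →ₐ[R] B := MvPolynomial.aeval fun i =>
    Sum.elim (fun j => β (MvPolynomial.X j)) (fun j => algebraMap A B (α (MvPolynomial.X j)))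
      (finSumFinEquiv.symm i)
  have hδ : (δ : MvPolynomial (Fin (k + n)) R →+* B) = (β : MvPolynomial (Fin k) A →+* B).comp Ψ := by
    refine MvPolynomial.ringHom_ext (fun r => ?_) fun i => ?_
    · simp [δ, Ψ, μ, e, RingHom.algebraMap_toAlgebra, ← IsScalarTower.algebraMap_apply]
    · obtain ⟨i | i, rfl⟩ := finSumFinEquiv.surjective i <;>
        simp [δ, Ψ, μ, e, RingHom.algebraMap_toAlgebra]
  have hsurj : Function.Surjective δ := by
    change Function.Surjective (δ : MvPolynomial (Fin (k + n)) R →+* B)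
    rw [hδ]
    exact hβ.comp ((MvPolynomial.map_surjective _ hα).comp e.surjective)
  refine ⟨k + n, δ, hsurj, ?_⟩
  -- the two factors over `A[y]`
  let β' : MvPolynomial (Fin k) A →+* B := β
  let N := (DRing.restrictCx β').obj E
  let G := (Groth.Agent.KFlat.BaseChange.extCx (MvPolynomial.C (R := A) (σ := Fin k))).obj F
  have hN : ∀ j, DRing.IsPseudoCoherent (MvPolynomial (Fin k) A) j (DRing.toD N) := fun j =>
    PC.pc_of_iso (restrictDIso β' E) ((RelPC.isRel_iff β hβ _ j).1 (hE j))
  have hGp : ∀ i, Module.Projective (MvPolynomial (Fin k) A) (G.X i) := fun i =>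
    Perfect.projective_extendScalars _ (hFp i)
  have hGb : DRing.VanishesAbove G d := fun i hi => Perfect.isZero_extCx _ (hFb i hi)
  have hG : ∀ j, DRing.IsPseudoCoherent (MvPolynomial (Fin (k + n)) R) j
      (DRing.toD ((DRing.restrictCx Ψ).obj G)) := fun j => by
    refine PC.pc_of_iso (Q.mapIso (TorComp.restrictCompIso _ μ G).symm) ?_
    refine PC.pc_of_iso (restrictDIso _ _) ?_
    refine (RelPC.good_of_bijective _ e.bijective _ j).1 ?_
    exact pc_restrict_map k F (PC.pc_of_iso (restrictDIso _ F) ((RelPC.isRel_iff α hα _ j).1 (hF j)))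
  have h := pc_restrict_tensor Ψ N G hN hGb hGp hG m
  have hφ : β'.comp (MvPolynomial.C (R := A) (σ := Fin k)) = algebraMap A B :=
    RingHom.ext fun a => β.commutes a
  change DRing.IsPseudoCoherent _ m _
  refine (RelPC.pc_restrict_congr hδ _ m).2 ?_
  refine PC.pc_of_iso ?_ h
  exact Q.mapIso ((DRing.restrictCx Ψ).mapIso
      ((Groth.Agent.KFlat.BaseChange.projCxIso β' E G).symm ≪≫ (DRing.restrictCx β').mapIso
        (MonoidalCategory.whiskerLeftIso E (TorComp.extCompIso _ β' hφ F))) ≪≫
      (TorComp.restrictCompIso Ψ β' _).symm) ≪≫ (restrictDIso _ _).symm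

end Groth.Agent.PCohD.RelPCTensor
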