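import Groth.Agent.PCohD.RelPCTensorAtRing

/-!
# Relative pseudo-coherence of pullback tensor products in a fixed degree
-/

set_option autoImplicit false

universe u

open CategoryTheory CategoryTheory.Limits DerivedCategory MonoidalCategory AlgebraicGeometry

attribute [local instance] HasDerivedCategory.standard

noncomputable section

namespace Groth.Agent.PCohD.RelPCTensor

open Groth.Agent.DRing Groth.Agent.DRing.KFlat

section Ring

variable {R A B : Type u} [CommRing R] [CommRing A] [CommRing B] [Algebra R A] [Algebra A B]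
  [Algebra R B] [IsScalarTower R A B] [Algebra.FiniteType R A] [Algebra.FiniteType A B]

/-- The tensor product with the pullback is pseudo-coherent in a fixed degree relative to the composite. -/
theorem relPC_tensor_ext_at (F : DRing.Cx A) (E : DRing.Cx B) {a b c d : ℤ} (hFb : DRing.VanishesAbove F d)
    (hFp : ∀ i, Module.Projective A (F.X i))
    (hF : DerCA.IsRelPseudoCoherent R A c (DRing.toD F))
    (hE : DerCA.IsRelPseudoCoherent A B a (DRing.toD E))
    (hEb : ∀ i, b < i → Subsingleton (Dual.HD B (DRing.toD E) i)) (hab : a ≤ b) (m : ℤ)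
    (hm₁ : a + d ≤ m) (hm₂ : b + c ≤ m) :
    DerCA.IsRelPseudoCoherent R B m
      (DRing.toD (E ⊗ (Groth.Agent.KFlat.BaseChange.extCx (algebraMap A B)).obj F)) := by
  obtain ⟨n, α, hα⟩ := RelPC.exists_presentation R A
  obtain ⟨k, β, hβ⟩ := RelPC.exists_presentation A B
  let := (α : MvPolynomial (Fin n) R →+* A).toAlgebra
  let e := (MvPolynomial.renameEquiv R (finSumFinEquiv (m := k) (n := n)).symm).trans
    (MvPolynomial.sumAlgEquiv R (Fin k) (Fin n))
  let μ : MvPolynomial (Fin k) (MvPolynomial (Fin n) R) →+* MvPolynomial (Fin k) A :=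
    MvPolynomial.map (algebraMap (MvPolynomial (Fin n) R) A)
  let Ψ : MvPolynomial (Fin (k + n)) R →+* MvPolynomial (Fin k) A :=
    μ.comp (e : MvPolynomial (Fin (k + n)) R →+* MvPolynomial (Fin k) (MvPolynomial (Fin n) R))
  let δ : MvPolynomial (Fin (k + n)) R →ₐ[R] B := MvPolynomial.aeval fun i =>
    Sum.elim (fun j => β (MvPolynomial.X j)) (fun j => algebraMap A B (α (MvPolynomial.X j)))
      (finSumFinEquiv.symm i)
  have hδ : (δ : MvPolynomial (Fin (k + n)) R →+* B) = (β : MvPolynomial (Fin k) A →+* B).comp Ψ := by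
    refine MvPolynomial.ringHom_ext (fun r => ?_) fun i => ?_
    · simp [δ, Ψ, μ, e, RingHom.algebraMap_toAlgebra, ← IsScalarTower.algebraMap_apply]
    · obtain ⟨i | i, rfl⟩ := finSumFinEquiv.surjective i <;>
        simp [δ, Ψ, μ, e, RingHom.algebraMap_toAlgebra]
  have hsurj : Function.Surjective δ := by
    change Function.Surjective (δ : MvPolynomial (Fin (k + n)) R →+* B)
    rw [hδ]
    exact hβ.comp ((MvPolynomial.map_surjective _ hα).comp e.surjective)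
  refine ⟨k + n, δ, hsurj, ?_⟩
  -- the two factors over `A[y]`
  let β' : MvPolynomial (Fin k) A →+* B := β
  let N := (DRing.restrictCx β').obj E
  let G := (Groth.Agent.KFlat.BaseChange.extCx (MvPolynomial.C (R := A) (σ := Fin k))).obj F
  have hN : DRing.IsPseudoCoherent (MvPolynomial (Fin k) A) a (DRing.toD N) :=
    PC.pc_of_iso (restrictDIso β' E) ((RelPC.isRel_iff β hβ _ a).1 hE)
  have hNb : ∀ i, b < i → Subsingleton (Dual.HD _ (DRing.toD N) i) := fun i hi => by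
    rw [← DBasic.subsingleton_HD_congr (restrictDIso β' E), PCRestrict.subsingleton_HD_restrict_iff]
    exact hEb i hi
  have hGp : ∀ i, Module.Projective (MvPolynomial (Fin k) A) (G.X i) := fun i =>
    Perfect.projective_extendScalars _ (hFp i)
  have hGb : DRing.VanishesAbove G d := fun i hi => Perfect.isZero_extCx _ (hFb i hi)
  have hG : DRing.IsPseudoCoherent (MvPolynomial (Fin (k + n)) R) c
      (DRing.toD ((DRing.restrictCx Ψ).obj G)) := by
    refine PC.pc_of_iso (Q.mapIso (TorComp.restrictCompIso _ μ G).symm) ?_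
    refine PC.pc_of_iso (restrictDIso _ _) ?_
    refine (RelPC.good_of_bijective _ e.bijective _ c).1 ?_
    exact pc_restrict_map k F (PC.pc_of_iso (restrictDIso _ F) ((RelPC.isRel_iff α hα _ c).1 hF))
  have h := pc_restrict_tensor_at Ψ N G hN hNb hab hGb hGp hG m hm₁ hm₂
  have hφ : β'.comp (MvPolynomial.C (R := A) (σ := Fin k)) = algebraMap A B :=
    RingHom.ext fun a => β.commutes a
  change DRing.IsPseudoCoherent _ m _
  refine (RelPC.pc_restrict_congr hδ _ m).2 ?_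
  refine PC.pc_of_iso ?_ h
  exact Q.mapIso ((DRing.restrictCx Ψ).mapIso
      ((Groth.Agent.KFlat.BaseChange.projCxIso β' E G).symm ≪≫ (DRing.restrictCx β').mapIso
        (MonoidalCategory.whiskerLeftIso E (TorComp.extCompIso _ β' hφ F))) ≪≫
      (TorComp.restrictCompIso Ψ β' _).symm) ≪≫ (restrictDIso _ _).symm

end Ring

section Scheme

open Groth.Agent.KFlat (tensFlipIso)
open Groth.Agent.KFlat.Pull
open Groth.Agent.Dual3RHom (TildeLT.tC TildeLT.cxIso)

variable {X Y Z : Scheme.{u}} {f : X ⟶ Y} {g : Y ⟶ Z}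

/-- A bounded above projective complex of sections. -/
theorem exists_chartModel_at [LocallyOfFiniteType g] {K : DCoh.D Y} {c d : ℤ} (hq : DCoh.IsQCohD K)
    (hK : DerSch.IsPseudoCoherentRel g c K) [K.IsLE d]
    {V : Y.Opens} (hV : IsAffineOpen V) {W : Z.Opens} (hW : IsAffineOpen W) (h : V ≤ g ⁻¹ᵁ W)
    [PreservesFiniteLimits (tilde.functor Γ(Y, V))] :
    ∃ (M : DRing.Cx Γ(Y, V)), DRing.VanishesAbove M d ∧ (∀ i, Module.Projective Γ(Y, V) (M.X i)) ∧
      (letI := (g.appLE W V h).hom.toAlgebra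
       DerCA.IsRelPseudoCoherent Γ(Z, W) Γ(Y, V) c (DRing.toD M)) ∧
      Nonempty (DCoh.toD _ (TildeLT.tC.obj M) ≅ (DCoh.restrictD hV.fromSpec).obj K) := by
  let := (g.appLE W V h).hom.toAlgebra
  have : Algebra.FiniteType Γ(Z, W) Γ(Y, V) := g.finiteType_appLE hW hV h
  obtain ⟨M₀, ⟨e⟩⟩ := Groth.Agent.KFlat.TildeD.exists_iso_of_isQCohD (R := Γ(Y, V)) _
    (isQCohD_pushD_isoSpec hq hV)
  have hrel : DerCA.IsRelPseudoCoherent Γ(Z, W) Γ(Y, V) c M₀ :=
    (P_iff_isRel hV hW h M₀ e).1 ((rel_iff.1 hK) ⟨V, hV⟩ ⟨W, hW⟩ h)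
  obtain ⟨eV⟩ := nonempty_restrictD_fromSpec hV K
  have hvan : ∀ i, d < i → Subsingleton (Dual.HD Γ(Y, V) M₀ i) := fun i hi =>
    (Groth.Agent.KFlat.PCNoeth.isZero_HD_tildeD_iff (R := Γ(Y, V)) M₀ i).1
      ((Functor.map_isZero _ (DerivedCategory.isZero_of_isLE K d i hi)).of_iso
        ((DerivedCategory.homologyFunctor _ i).mapIso (e ≪≫ eV) ≪≫
          Groth.Agent.KFlat.PCNoeth.hdRestrict hV.fromSpec K i))
  obtain ⟨M, hMb, hMp, ⟨eM⟩⟩ := Trunc.exists_projRep M₀ d hvan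
  refine ⟨M, hMb, hMp, ?_, ⟨?_⟩⟩
  · obtain ⟨n', α', hα', h'⟩ := hrel
    exact ⟨n', α', hα', PC.pc_of_iso ((DRing.restrictD _).mapIso eM.symm) h'⟩
  · exact ((tilde.functor Γ(Y, V)).mapDerivedCategoryFactors.app M).symm ≪≫
      (DCoh.tildeD Γ(Y, V)).mapIso eM ≪≫ e ≪≫ eV

/-- The affine case in a fixed degree. -/
theorem P_tensor_pull_at [LocallyOfFiniteType f] [LocallyOfFiniteType g]
    (E : CochainComplex X.Modules ℤ) {a b c d : ℤ} (hab : a ≤ b) (hEq : DCoh.IsQCohD (DCoh.toD X E))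
    (hE : DerSch.IsPseudoCoherentRel f a (DCoh.toD X E)) [(DCoh.toD X E).IsLE b]
    (P₀ : CochainComplex Y.Modules ℤ) (hP₀ : DCoh.IsKFlat P₀)
    (hFq : DCoh.IsQCohD (DCoh.toD Y P₀))
    (hF : DerSch.IsPseudoCoherentRel g c (DCoh.toD Y P₀)) [(DCoh.toD Y P₀).IsLE d]
    {U : X.Opens} (hU : IsAffineOpen U) {V : Y.Opens} (hV : IsAffineOpen V) {W : Z.Opens}
    (hW : IsAffineOpen W) (hUV : U ≤ f ⁻¹ᵁ V) (hVW : V ≤ g ⁻¹ᵁ W) (m : ℤ)
    (hm₁ : a + d ≤ m) (hm₂ : b + c ≤ m) :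
    P (f ≫ g) m (DCoh.toD X ((DCoh.tensorCx.obj ((pullCx f).obj P₀)).obj E)) U W := by
  have : ∀ R : CommRingCat.{u}, PreservesFiniteLimits (tilde.functor R) := fun R =>
    Groth.Agent.KFlat.TildeExact.preservesFiniteLimits_tilde R
  have hUW : U ≤ (f ≫ g) ⁻¹ᵁ W := fun x hx => hVW (hUV hx)
  have hcomp : (f.appLE V U hUV).hom.comp (g.appLE W V hVW).hom = ((f ≫ g).appLE W U hUW).hom := by
    rw [← CommRingCat.hom_comp, Scheme.Hom.appLE_comp_appLE]
  let := (g.appLE W V hVW).hom.toAlgebra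
  let := (f.appLE V U hUV).hom.toAlgebra
  let := ((f ≫ g).appLE W U hUW).hom.toAlgebra
  have : IsScalarTower Γ(Z, W) Γ(Y, V) Γ(X, U) := IsScalarTower.of_algebraMap_eq' hcomp.symm
  have : Algebra.FiniteType Γ(Z, W) Γ(Y, V) := g.finiteType_appLE hW hV hVW
  have : Algebra.FiniteType Γ(Y, V) Γ(X, U) := f.finiteType_appLE hV hU hUV
  obtain ⟨MF, hFb, hFp, hFr, ⟨eF⟩⟩ := exists_chartModel_at (d := d) hFq hF hV hW hVW
  obtain ⟨ME, hEb, -, hEr, ⟨eE⟩⟩ := exists_chartModel_at (d := b) hEq hE hU hV hUV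
  have hMF : DRing.IsKFlat _ MF := TorAmp.isKFlat_of_projective hFb hFp
  let φ := f.appLE V U hUV
  let j := hU.fromSpec
  let jV := hV.fromSpec
  have hj : Spec.map φ ≫ jV = j ≫ f := IsAffineOpen.SpecMap_appLE_fromSpec f hV hU hUV
  let MG := (Groth.Agent.DRing.LTensor.extCx φ.hom).obj MF
  -- the pullback of `P₀` on the chart
  let eP : DCoh.toD _ ((pullCx j).obj ((pullCx f).obj P₀)) ≅ DCoh.toD _ (TildeLT.tC.obj MG) :=
    Q.mapIso ((pullCxComp j f).app P₀ ≪≫ eqToIso (by rw [← hj]) ≪≫ ((pullCxComp (Spec.map φ) jV).app P₀).symm) ≪≫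
      Groth.Agent.KFlat.LocalD.pullQIso (Spec.map φ) (isKFlat_pullCx jV hP₀)
        (Groth.Agent.KFlat.TildeKFlat.isKFlat_tilde Γ(Y, V) MF hMF)
        ((restrictPullIso jV P₀).symm ≪≫ eF.symm) ≪≫
      Q.mapIso ((Groth.Agent.KFlat.TildeBC.cxPullIso φ).app MF)
  have hPU := isKFlat_pullCx j (isKFlat_pullCx f hP₀)
  have hMG : DCoh.IsKFlat (TildeLT.tC.obj MG) := Groth.Agent.KFlat.TildeKFlat.isKFlat_tilde Γ(X, U) MG
    (TorAmp.isKFlat_of_projective (fun i hi => Perfect.isZero_extCx φ.hom (hFb i hi))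
      fun i => Perfect.projective_extendScalars φ.hom (hFp i))
  obtain ⟨t₁⟩ := TorExt.nonempty_tensor_iso hPU ((restrictPullIso j E).symm ≪≫ eE.symm)
  have hL := Groth.Agent.KFlat.LTensor.hasLTensorCx (TildeLT.tC.obj ME)
  have := Groth.Agent.KFlat.LTensor.isIso_toTensor (TildeLT.tC.obj ME) hPU
  have := Groth.Agent.KFlat.LTensor.isIso_toTensor (TildeLT.tC.obj ME) hMG
  obtain ⟨eU⟩ := nonempty_restrictD_fromSpec hU (DCoh.toD X ((DCoh.tensorCx.obj ((pullCx f).obj P₀)).obj E))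
  refine (P_iff_isRel hU hW hUW (DRing.toD (ME ⊗ MG)) ?_).2
    (relPC_tensor_ext_at MF ME hFb hFp hFr hEr (fun i hi => (DBasic.subsingleton_HD_toD_iff ME i).2
      (ShortComplex.isZero_homology_of_isZero_X₂ _ (hEb i hi))) hab m hm₁ hm₂)
  exact (tilde.functor Γ(X, U)).mapDerivedCategoryFactors.app (ME ⊗ MG) ≪≫
    Q.mapIso (TildeLT.tC.mapIso (Tensor.braid ME MG) ≪≫ TildeLT.cxIso MG ME) ≪≫
    (asIso ((Groth.Agent.KFlat.LTensor.toTensor (TildeLT.tC.obj ME)).app (TildeLT.tC.obj MG))).symm ≪≫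
    (DCoh.LTensorCx (TildeLT.tC.obj ME)).mapIso eP.symm ≪≫
    asIso ((Groth.Agent.KFlat.LTensor.toTensor (TildeLT.tC.obj ME)).app ((pullCx j).obj ((pullCx f).obj P₀))) ≪≫
    t₁.symm ≪≫ Q.mapIso (Groth.Agent.KFlat.PullTensor.pullTensorCxIso j _ E).symm ≪≫
    (restrictPullIso j _).symm ≪≫ eU.symm

/-- The tensor product with a pullback is pseudo-coherent in a fixed degree relative to the composite. -/
theorem rel_tensor_pull_at [LocallyOfFiniteType f] [LocallyOfFiniteType g]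
    (E : CochainComplex X.Modules ℤ) {a b c d : ℤ} (hab : a ≤ b) (hEq : DCoh.IsQCohD (DCoh.toD X E))
    (hE : DerSch.IsPseudoCoherentRel f a (DCoh.toD X E)) [(DCoh.toD X E).IsLE b]
    (P₀ : CochainComplex Y.Modules ℤ) (hP₀ : DCoh.IsKFlat P₀)
    (hFq : DCoh.IsQCohD (DCoh.toD Y P₀))
    (hF : DerSch.IsPseudoCoherentRel g c (DCoh.toD Y P₀)) [(DCoh.toD Y P₀).IsLE d] (m : ℤ)
    (hm₁ : a + d ≤ m) (hm₂ : b + c ≤ m) :
    DerSch.IsPseudoCoherentRel (f ≫ g) m
      (DCoh.toD X ((DCoh.tensorCx.obj ((pullCx f).obj P₀)).obj E)) := by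
  rw [rel_iff]
  rintro ⟨U, hU⟩ ⟨W, hW⟩ hUW
  refine P_of_cover hU hW hUW fun x hx => ?_
  obtain ⟨V, hV, hxV, hVW⟩ := exists_isAffineOpen_mem_and_subset (x := f x) (U := g ⁻¹ᵁ W) (hUW hx)
  obtain ⟨r, hr, hxr⟩ := hU.exists_basicOpen_le (V := f ⁻¹ᵁ V) ⟨x, hxV⟩ hx
  exact ⟨r, hxr, P_tensor_pull_at E hab hEq hE P₀ hP₀ hFq hF (hU.basicOpen r) hV hW hr hVW m hm₁ hm₂⟩

end Scheme

end Groth.Agent.PCohD.RelPCTensor
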