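import Groth.Agent.PCohD.RelPCIndepBC
import Groth.Agent.KFlat.PCNoeth
import Groth.Agent.KFlat.TensorTestPC

/-!
# Relative pseudo-coherence of tensor products in a fixed degree
-/

set_option autoImplicit false

universe u

open CategoryTheory CategoryTheory.Limits CategoryTheory.Pretriangulated DerivedCategory MonoidalCategory AlgebraicGeometry

attribute [local instance] HasDerivedCategory.standard

noncomputable section

namespace Groth.Agent.PCohD.RelPCTensor

open Groth.Agent.DRing Groth.Agent.DRing.KFlat Groth.Agent.DRing.TorAmp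

variable {A B : Type u} [CommRing A] [CommRing B]

/-- A representative in degrees `≤ b`, finite free in degrees `≥ a`. -/
theorem exists_rep_at {K : Dual.D B} {a b : ℤ} (h : DRing.IsPseudoCoherent B a K)
    (hb : ∀ i, b < i → Subsingleton (Dual.HD B K i)) (hab : a ≤ b) :
    ∃ P : DRing.Cx B, DRing.VanishesAbove P b ∧ (∀ i, Module.Projective B (P.X i)) ∧
      (∀ i, a ≤ i → Module.Finite B (P.X i) ∧ Module.Free B (P.X i)) ∧
      Nonempty (DRing.toD P ≅ K) := by
  obtain ⟨E, b', α, hE, hf, hα⟩ := PC.exists_approx h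
  obtain ⟨E', hE', hf', ⟨e'⟩⟩ := PC.exists_finiteFree_rep (PC.pc_of_bounded hE hf) (b := b) fun i hi => by
    have := hα.1 i (by omega)
    rw [DBasic.subsingleton_HD_iff_isZero]
    exact ((DBasic.subsingleton_HD_iff_isZero K i).1 (hb i hi)).of_iso (asIso ((DBasic.HF i).map α))
  obtain ⟨C, g, k, hT⟩ := distinguished_cocone_triangle (e'.hom ≫ α)
  have hC := (PC.isApprox_iff_vanishGE _ hT a).1 ((PC.isApprox_of_isIso e'.hom a).comp hα)
  let T' := (Triangle.mk (e'.hom ≫ α) g k).invRotate
  have hT' : T' ∈ distinguishedTriangles := inv_rot_of_distTriang _ hT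
  have hv : ∀ i, a < i → Subsingleton (Dual.HD B T'.obj₁ i) := fun i hi =>
    (DBasic.subsingleton_HD_shift C (-1) i (i - 1) (by omega)).2 (hC (i - 1) (by omega))
  obtain ⟨F, hFm, hFp, ⟨e⟩⟩ := Trunc.exists_projRep T'.obj₁ a hv
  have := DBasic.isKProjective_of_projective F a hFm hFp
  obtain ⟨f, hfQ⟩ := DBasic.exists_Q_map_eq (L := E') (e.hom ≫ T'.mor₁)
  have hT'' := DerivedCategory.mappingCone_triangle_distinguished f
  let iso := isoTriangleOfIso₁₂ _ T' hT'' hT' e (Iso.refl _) (by
    change Q.map f ≫ 𝟙 _ = e.hom ≫ T'.mor₁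
    rw [Category.comp_id, hfQ]; rfl)
  refine ⟨CochainComplex.mappingCone f, ?_, ?_, ?_, ⟨Triangle.π₃.mapIso iso⟩⟩
  · intro i hi
    rw [CochainComplex.mappingCone.isZero_X_iff]
    exact ⟨hFm (i + 1) (by omega), hE' i hi⟩
  · intro i
    refine Trunc.projective_of_iso (HomologicalComplex.homotopyCofiber.XIsoBiprod f i (i + 1) rfl).symm
      (Trunc.projective_biprod (hFp (i + 1)) ?_)
    have := (hf' i).2
    infer_instance
  · intro i hi
    exact PC.finiteFree_of_iso (HomologicalComplex.homotopyCofiber.XIsoBiprod f i (i + 1) rfl).symm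
      (PC.finiteFree_biprod (PC.finiteFree_of_isZero (hFm (i + 1) (by omega))) (hf' i))

variable (Ψ : A →+* B)

/-- Pseudo-coherence in a fixed degree of the tensor product. -/
theorem pc_restrict_tensor_at (N G : DRing.Cx B) {a b c : ℤ} (hN : DRing.IsPseudoCoherent B a (DRing.toD N))
    (hNb : ∀ i, b < i → Subsingleton (Dual.HD B (DRing.toD N) i)) (hab : a ≤ b)
    {d : ℤ} (hGb : DRing.VanishesAbove G d) (hGp : ∀ i, Module.Projective B (G.X i))
    (hG : DRing.IsPseudoCoherent A c (DRing.toD ((DRing.restrictCx Ψ).obj G))) (m : ℤ)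
    (hm₁ : a + d ≤ m) (hm₂ : b + c ≤ m) :
    DRing.IsPseudoCoherent A m (DRing.toD ((DRing.restrictCx Ψ).obj (N ⊗ G))) := by
  have hGK : IsKFlat G := isKFlat_of_projective hGb hGp
  obtain ⟨E, hEb, hEp, hEf, ⟨e⟩⟩ := exists_rep_at hN hNb hab
  have : E.IsKProjective := DBasic.isKProjective_of_projective E b hEb hEp
  obtain ⟨f, hf⟩ := DBasic.exists_Q_map_eq (L := N) e.hom
  have : QuasiIso f :=
    (DerivedCategory.isIso_Q_map_iff_quasiIso (C := ModuleCat.{u} B) f).1 (by rw [hf]; infer_instance)
  have := quasiIso_whiskerRight hGK f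
  refine PC.pc_of_iso (Q.mapIso ((DRing.restrictCx Ψ).mapIso (Tensor.braid G E)) ≪≫
    TorComp.restrictQIso Ψ (f ▷ G)) ?_
  let R : DRing.Cx B → Prop := fun X =>
    ∀ j, DRing.IsPseudoCoherent A j (DRing.toD ((DRing.restrictCx Ψ).obj (G ⊗ X))) ∨ j < m
  have hiso : ∀ {X Y : DRing.Cx B}, (X ≅ Y) → R X → R Y := fun {X Y} i h j =>
    (h j).imp_left (PC.pc_of_iso (Q.mapIso ((DRing.restrictCx Ψ).mapIso
      (MonoidalCategory.whiskerLeftIso G i))))
  have hses : ∀ S : ShortComplex (DRing.Cx B), S.ShortExact → R S.X₁ → R S.X₃ → R S.X₂ := by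
    intro S hS h₁ h₃ j
    rcases lt_or_ge j m with hj | hj
    · exact Or.inr hj
    have hpure : ∀ p q, Function.Injective (G.X p ◁ S.f.f q).hom := fun p q => by
      have := hGp p
      exact Module.Flat.lTensor_preserves_injective_linearMap (M := G.X p) _
        (hS.map_of_exact (HomologicalComplex.eval (ModuleCat.{u} B) (.up ℤ) q)).moduleCat_injective_f
    have hS' := Tensor.shortExact_map (L := G) S hS hpure
    have hS'' := hS'.map_of_exact ((ModuleCat.restrictScalars.{u} Ψ).mapHomologicalComplex (ComplexShape.up ℤ))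
    exact Or.inl (PC.pc_middle (DerivedCategory.triangleOfSES_distinguished hS'')
      ((h₁ j).resolve_right (not_lt.2 hj)) ((h₃ j).resolve_right (not_lt.2 hj)))
  have hR : R E := by
    refine mem_of_terms R hiso hses a (fun X hX j => ?_) E b hEb fun i hia hib => ?_
    · rcases lt_or_ge j m with hj | hj
      · exact Or.inr hj
      refine Or.inl (PC.pc_of_vanishGE fun k hk => ?_)
      rw [DBasic.subsingleton_HD_toD_iff]
      refine ShortComplex.isZero_homology_of_isZero_X₂ _
        ((ModuleCat.restrictScalars Ψ).map_isZero (TensorAmp.isZero_tensor_X G X k fun p q hpq => ?_))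
      by_cases hp : d < p
      · exact Or.inl (hGb p hp)
      · exact Or.inr (hX q (by omega))
    · -- one finite free term
      let sg := HomologicalComplex.single (ModuleCat.{u} B) (ComplexShape.up ℤ) i
      have hzero : ∀ i, R ((HomologicalComplex.single (ModuleCat.{u} B) (ComplexShape.up ℤ) i).obj
          (ModuleCat.of B (Fin 0 → B))) := fun i j => by
        refine Or.inl (PC.pc_of_vanishGE fun k _ => ?_)
        rw [DBasic.subsingleton_HD_toD_iff]
        refine ShortComplex.isZero_homology_of_isZero_X₂ _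
          ((ModuleCat.restrictScalars Ψ).map_isZero (TensorAmp.isZero_tensor_X G _ k fun p q _ => Or.inr ?_))
        by_cases hq : q = i
        · subst hq
          exact (ModuleCat.isZero_of_subsingleton (ModuleCat.of B (Fin 0 → B))).of_iso
            (HomologicalComplex.singleObjXSelf (ComplexShape.up ℤ) q _)
        · exact HomologicalComplex.isZero_single_obj_X (ComplexShape.up ℤ) i _ q hq
      have hunit : R (sg.obj (ModuleCat.of B B)) := fun j => if hj : j < m then Or.inr hj else Or.inl (by
        let s : sg.obj (ModuleCat.of B B) ≅ (SingleTensor.S0 (ModuleCat.of B B))⟦-i⟧ :=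
          (((CochainComplex.singleFunctors (ModuleCat.{u} B)).shiftIso (-i) i 0 (by omega)).app _).symm
        let t : G ⊗ (SingleTensor.S0 (ModuleCat.of B B))⟦-i⟧ ≅ G⟦-i⟧ :=
          (Tensor.shiftIso (L := G) _ (-i)) ≪≫
            (shiftFunctor (DRing.Cx B) (-i)).mapIso (Tensor.braid _ _ ≪≫ TorComp.unitLeftIso G)
        refine PC.pc_of_iso (Q.mapIso (((DRing.restrictCx Ψ).mapIso
          (MonoidalCategory.whiskerLeftIso G s ≪≫ t)).symm)) ?_
        refine PC.pc_of_iso ((((DerivedCategory.Q (C := ModuleCat.{u} A)).commShiftIso (-i)).app _).symm ≪≫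
          Q.mapIso ((((ModuleCat.restrictScalars.{u} Ψ).mapHomologicalComplex (ComplexShape.up ℤ)).commShiftIso (-i)).app G).symm) ?_
        exact PC.pc_shift (PC.pc_mono hG (show c ≤ j + -i by omega)) (-i) j rfl)
      have hpow : ∀ r : ℕ, R (sg.obj (ModuleCat.of B (Fin r → B))) :=
        single_pow R hses i (hzero i) hunit
      have := (hEf i hia).1
      have := (hEf i hia).2
      let bs := Module.Free.chooseBasis B (E.X i)
      exact hiso (sg.mapIso (bs.reindex (Fintype.equivFin _)).equivFun.symm.toModuleIso) (hpow _)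
  exact (hR m).resolve_right (lt_irrefl m)

end Groth.Agent.PCohD.RelPCTensor
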