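import Groth.Agent.PCohD.TorComp
import Groth.Agent.DRing.PCBaseChange
import Groth.Agent.DRing.PCRestrict
import Groth.Agent.DRing.TensorAmp
import Groth.Agent.DRing.KFlat
import Groth.Agent.DRing.RelPCLoc

/-!
# Relative pseudo-coherence of a tensor product over the middle ring
-/

set_option autoImplicit false

universe u

open CategoryTheory CategoryTheory.Limits CategoryTheory.Pretriangulated DerivedCategory MonoidalCategory

attribute [local instance] HasDerivedCategory.standard

noncomputable section

namespace Groth.Agent.PCohD.RelPCTensor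

open Groth.Agent.DRing Groth.Agent.DRing.KFlat Groth.Agent.DRing.TorAmp

variable {B : Type u} [CommRing B]

/-- Dévissage of a bounded above complex by its terms. -/
theorem mem_of_terms (R : DRing.Cx B → Prop) (hiso : ∀ {X Y : DRing.Cx B}, (X ≅ Y) → R X → R Y)
    (hses : ∀ S : ShortComplex (DRing.Cx B), S.ShortExact → R S.X₁ → R S.X₃ → R S.X₂) (n : ℤ)
    (hbase : ∀ X : DRing.Cx B, (∀ i, n ≤ i → IsZero (X.X i)) → R X) (X : DRing.Cx B) (b : ℤ)
    (hb : ∀ i, b < i → IsZero (X.X i))
    (hterm : ∀ i, n ≤ i → i ≤ b →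
      R ((HomologicalComplex.single (ModuleCat.{u} B) (ComplexShape.up ℤ) i).obj (X.X i))) : R X := by
  obtain ⟨k, hk⟩ : ∃ k : ℕ, b + 1 ≤ n + k := ⟨(b + 1 - n).toNat, by omega⟩
  induction k generalizing b X with
  | zero => exact hbase X fun i hi => hb i (by omega)
  | succ k ih =>
    by_cases hbn : b < n
    · exact hbase X fun i hi => hb i (by omega)
    let φ : (HomologicalComplex.single (ModuleCat.{u} B) (ComplexShape.up ℤ) b).obj (X.X b) ⟶ X :=
      HomologicalComplex.mkHomFromSingle (𝟙 (X.X b)) (fun j hj =>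
        (hb j (by change b + 1 = j at hj; omega)).eq_of_tgt _ _)
    have hmono : ∀ i, Mono (φ.f i) := fun i => by
      by_cases hi : i = b
      · subst hi
        rw [show φ.f i = (HomologicalComplex.singleObjXSelf (ComplexShape.up ℤ) i (X.X i)).hom ≫ 𝟙 _
          from HomologicalComplex.mkHomFromSingle_f _ _]
        infer_instance
      · exact ⟨fun _ _ _ => (HomologicalComplex.isZero_single_obj_X (ComplexShape.up ℤ) b _ i hi).eq_of_tgt _ _⟩
    have : Mono φ := HomologicalComplex.mono_of_mono_f φ hmono
    let S : ShortComplex (DRing.Cx B) := ShortComplex.mk φ (cokernel.π φ) (cokernel.condition φ)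
    have hS : S.ShortExact :=
      { exact := ShortComplex.exact_of_g_is_cokernel _ (cokernelIsCokernel φ) }
    let e : ∀ i, (cokernel φ).X i ≅ cokernel (φ.f i) := fun i =>
      PreservesCokernel.iso (HomologicalComplex.eval (ModuleCat.{u} B) (ComplexShape.up ℤ) i) φ
    have he : ∀ i, i ≠ b → Nonempty ((cokernel φ).X i ≅ X.X i) := fun i hi =>
      ⟨e i ≪≫ cokernelIsoOfEq
        ((HomologicalComplex.isZero_single_obj_X (ComplexShape.up ℤ) b (X.X b) i hi).eq_of_src _ 0) ≪≫
          cokernelZeroIsoTarget⟩
    have hzero : IsZero ((cokernel φ).X b) := by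
      have : IsIso (φ.f b) := by
        rw [show φ.f b = (HomologicalComplex.singleObjXSelf (ComplexShape.up ℤ) b (X.X b)).hom ≫ 𝟙 _
          from HomologicalComplex.mkHomFromSingle_f _ _]
        infer_instance
      exact (isZero_cokernel_of_epi (φ.f b)).of_iso (e b)
    refine hses S hS (hterm b (by omega) le_rfl) ?_
    refine ih (cokernel φ) (b - 1) (fun i hi => ?_) (fun i hi hi' => ?_) (by omega)
    · by_cases h : i = b
      · subst h; exact hzero
      · exact (hb i (by omega)).of_iso (he i h).some
    · exact hiso ((HomologicalComplex.single _ _ i).mapIso (he i (by omega)).some).symm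
        (hterm i hi (by omega))


/-- The finite free modules from the unit. -/
theorem single_pow (R : DRing.Cx B → Prop)
    (hses : ∀ S : ShortComplex (DRing.Cx B), S.ShortExact → R S.X₁ → R S.X₃ → R S.X₂) (i : ℤ)
    (h0 : R ((HomologicalComplex.single (ModuleCat.{u} B) (ComplexShape.up ℤ) i).obj (ModuleCat.of B (Fin 0 → B))))
    (h1 : R ((HomologicalComplex.single (ModuleCat.{u} B) (ComplexShape.up ℤ) i).obj (ModuleCat.of B B))) :
    ∀ r : ℕ, R ((HomologicalComplex.single (ModuleCat.{u} B) (ComplexShape.up ℤ) i).obj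
      (ModuleCat.of B (Fin r → B))) := by
  intro r
  induction r with
  | zero => exact h0
  | succ r ih =>
    let p : (Fin (r + 1) → B) →ₗ[B] B := LinearMap.proj 0
    let ι : (Fin r → B) →ₗ[B] (Fin (r + 1) → B) :=
      { toFun := fun y => Fin.cons 0 y
        map_add' := fun x y => funext fun k => by refine Fin.cases ?_ (fun l => ?_) k <;> simp
        map_smul' := fun c y => funext fun k => by refine Fin.cases ?_ (fun l => ?_) k <;> simp }
    have hz : p ∘ₗ ι = 0 := LinearMap.ext fun y => Fin.cons_zero (α := fun _ => B) 0 y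
    let S₀ := ShortComplex.mk (ModuleCat.ofHom ι) (ModuleCat.ofHom p)
      (by rw [← ModuleCat.ofHom_comp, hz]; rfl)
    have hS₀ : S₀.ShortExact := by
      refine ModuleCat.shortComplex_shortExact _ ?_ ?_ ?_
      · intro y
        refine ⟨fun hy => ⟨Fin.tail y, funext fun k => ?_⟩, ?_⟩
        · refine Fin.cases ?_ (fun l => ?_) k
          · exact hy.symm
          · simp [S₀, ι, Fin.tail]
        · rintro ⟨z, rfl⟩
          exact Fin.cons_zero (α := fun _ => B) 0 z
      · intro y z h
        funext k
        have := congrFun h k.succ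
        simpa [S₀, ι] using this
      · exact fun c => ⟨fun _ => c, rfl⟩
    exact hses _ (hS₀.map_of_exact (HomologicalComplex.single (ModuleCat.{u} B) (ComplexShape.up ℤ) i)) ih h1

variable {A : Type u} [CommRing A] (Ψ : A →+* B)

/-- Pseudo-coherence over `Q` of the tensor with a complex which is pseudo-coherent over `B`. -/
theorem pc_restrict_tensor (N G : DRing.Cx B) (hN : ∀ m, DRing.IsPseudoCoherent B m (DRing.toD N))
    {d : ℤ} (hGb : DRing.VanishesAbove G d) (hGp : ∀ i, Module.Projective B (G.X i))
    (hG : ∀ m, DRing.IsPseudoCoherent A m (DRing.toD ((DRing.restrictCx Ψ).obj G))) (m : ℤ) :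
    DRing.IsPseudoCoherent A m (DRing.toD ((DRing.restrictCx Ψ).obj (N ⊗ G))) := by
  have hGK : IsKFlat G := isKFlat_of_projective hGb hGp
  obtain ⟨b, hb⟩ := PC.pc_boundedAbove (hN 0)
  obtain ⟨E, hEb, hEf, ⟨e⟩⟩ := PC.exists_finiteFree_rep hN hb
  have hEp : ∀ i, Module.Projective B (E.X i) := fun i => have := (hEf i).2; inferInstance
  have : E.IsKProjective := DBasic.isKProjective_of_projective E b hEb hEp
  obtain ⟨f, hf⟩ := DBasic.exists_Q_map_eq (L := N) e.hom
  have : QuasiIso f :=
    (DerivedCategory.isIso_Q_map_iff_quasiIso (C := ModuleCat.{u} B) f).1 (by rw [hf]; infer_instance)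
  have := quasiIso_whiskerRight hGK f
  refine PC.pc_of_iso (Q.mapIso ((DRing.restrictCx Ψ).mapIso (Tensor.braid G E)) ≪≫
    TorComp.restrictQIso Ψ (f ▷ G)) ?_
  let R : DRing.Cx B → Prop := fun X =>
    ∀ j, DRing.IsPseudoCoherent A j (DRing.toD ((DRing.restrictCx Ψ).obj (G ⊗ X))) ∨ j < m
  have hiso : ∀ {X Y : DRing.Cx B}, (X ≅ Y) → R X → R Y := fun {X Y} i h j =>
    (h j).imp_left (PC.pc_of_iso (Q.mapIso ((DRing.restrictCx Ψ).mapIso
      (MonoidalCategory.whiskerLeftIso G i))))
  have hses : ∀ S : ShortComplex (DRing.Cx B), S.ShortExact → R S.X₁ → R S.X₃ → R S.X₂ := by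
    intro S hS h₁ h₃ j
    rcases lt_or_ge j m with hj | hj
    · exact Or.inr hj
    have hpure : ∀ p q, Function.Injective (G.X p ◁ S.f.f q).hom := fun p q => by
      have := hGp p
      exact Module.Flat.lTensor_preserves_injective_linearMap (M := G.X p) _
        (hS.map_of_exact (HomologicalComplex.eval (ModuleCat.{u} B) (.up ℤ) q)).moduleCat_injective_f
    have hS' := Tensor.shortExact_map (L := G) S hS hpure
    have hS'' := hS'.map_of_exact ((ModuleCat.restrictScalars.{u} Ψ).mapHomologicalComplex (ComplexShape.up ℤ))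
    exact Or.inl (PC.pc_middle (DerivedCategory.triangleOfSES_distinguished hS'')
      ((h₁ j).resolve_right (not_lt.2 hj)) ((h₃ j).resolve_right (not_lt.2 hj)))
  have hR : R E := by
    refine mem_of_terms R hiso hses (m - d) (fun X hX j => ?_) E b hEb fun i _ _ => ?_
    · rcases lt_or_ge j m with hj | hj
      · exact Or.inr hj
      refine Or.inl (PC.pc_of_vanishGE fun k hk => ?_)
      rw [DBasic.subsingleton_HD_toD_iff]
      refine ShortComplex.isZero_homology_of_isZero_X₂ _
        ((ModuleCat.restrictScalars Ψ).map_isZero (TensorAmp.isZero_tensor_X G X k fun p q hpq => ?_))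
      by_cases hp : d < p
      · exact Or.inl (hGb p hp)
      · exact Or.inr (hX q (by omega))
    · -- one finite free term
      let sg := HomologicalComplex.single (ModuleCat.{u} B) (ComplexShape.up ℤ) i
      have hzero : ∀ i, R ((HomologicalComplex.single (ModuleCat.{u} B) (ComplexShape.up ℤ) i).obj
          (ModuleCat.of B (Fin 0 → B))) := fun i j => by
        refine Or.inl (PC.pc_of_vanishGE fun k _ => ?_)
        rw [DBasic.subsingleton_HD_toD_iff]
        refine ShortComplex.isZero_homology_of_isZero_X₂ _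
          ((ModuleCat.restrictScalars Ψ).map_isZero (TensorAmp.isZero_tensor_X G _ k fun p q _ => Or.inr ?_))
        by_cases hq : q = i
        · subst hq
          exact (ModuleCat.isZero_of_subsingleton (ModuleCat.of B (Fin 0 → B))).of_iso
            (HomologicalComplex.singleObjXSelf (ComplexShape.up ℤ) q _)
        · exact HomologicalComplex.isZero_single_obj_X (ComplexShape.up ℤ) i _ q hq
      have hunit : R (sg.obj (ModuleCat.of B B)) := fun j => Or.inl (by
        let s : sg.obj (ModuleCat.of B B) ≅ (SingleTensor.S0 (ModuleCat.of B B))⟦-i⟧ :=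
          (((CochainComplex.singleFunctors (ModuleCat.{u} B)).shiftIso (-i) i 0 (by omega)).app _).symm
        let t : G ⊗ (SingleTensor.S0 (ModuleCat.of B B))⟦-i⟧ ≅ G⟦-i⟧ :=
          (Tensor.shiftIso (L := G) _ (-i)) ≪≫
            (shiftFunctor (DRing.Cx B) (-i)).mapIso (Tensor.braid _ _ ≪≫ TorComp.unitLeftIso G)
        refine PC.pc_of_iso (Q.mapIso (((DRing.restrictCx Ψ).mapIso
          (MonoidalCategory.whiskerLeftIso G s ≪≫ t)).symm)) ?_
        refine PC.pc_of_iso ((((DerivedCategory.Q (C := ModuleCat.{u} A)).commShiftIso (-i)).app _).symm ≪≫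
          Q.mapIso ((((ModuleCat.restrictScalars.{u} Ψ).mapHomologicalComplex (ComplexShape.up ℤ)).commShiftIso (-i)).app G).symm) ?_
        exact PC.pc_shift (hG (j + -i)) (-i) j rfl)
      have hpow : ∀ r : ℕ, R (sg.obj (ModuleCat.of B (Fin r → B))) :=
        single_pow R hses i (hzero i) hunit
      have := (hEf i).1
      have := (hEf i).2
      let bs := Module.Free.chooseBasis B (E.X i)
      exact hiso (sg.mapIso (bs.reindex (Fintype.equivFin _)).equivFun.symm.toModuleIso) (hpow _)
  exact (hR m).resolve_right (lt_irrefl m)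

end Groth.Agent.PCohD.RelPCTensor
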