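import Groth.Agent.KFlat.FlatProperPC
import Groth.Agent.KFlat.RPush
import Groth.Agent.KFlat.RPushBase
import Groth.Agent.ProjProper.Basic
import Groth.Agent.CohOps.PnSmooth
import Groth.Agent.PCohD.RelAbs
import Groth.Agent.PCohD.RelRestrict
import Mathlib.AlgebraicGeometry.ZariskisMainTheorem

/-!
# Direct images along closed subschemes of projective space, relative to a base
-/

set_option autoImplicit false

universe u

open CategoryTheory CategoryTheory.Limits AlgebraicGeometry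
open Groth.Agent.KFlat (RPush.rpushIso RPush.injQIso RPush.injRes)
attribute [local instance] HasDerivedCategory.standard

noncomputable section

namespace Groth.Agent.PCohD.RpushProj

/-- Along a closed immersion the derived direct image is the termwise one. -/
theorem nonempty_pushD_iso {X Q : Scheme.{u}} (j : X ⟶ Q) [IsClosedImmersion j] [DCoh.HasRpush j] (K : DCoh.D X) :
    Nonempty ((pushD j).obj K ≅ (DCoh.Rpush j).obj K) := by
  let F := DerivedCategory.Q.objPreimage K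
  let e : DerivedCategory.Q.obj F ≅ K := DerivedCategory.Q.objObjPreimageIso K
  exact ⟨(pushD j).mapIso (e.symm ≪≫ ((RPush.injQIso (X := X)).app F).symm) ≪≫
    (Scheme.Modules.pushforward j).mapDerivedCategoryFactors.app _ ≪≫
    ((RPush.rpushIso j).app F).symm ≪≫ (DCoh.Rpush j).mapIso e⟩

variable {X Y S : Scheme.{u}}

/-- A chart as a closed immersion into a smooth scheme over the base. -/
theorem exists_emb (q : Y ⟶ S) [LocallyOfFiniteType q] {A : Y.Opens} (hA : IsAffineOpen A) {V : S.Opens}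
    (hV : IsAffineOpen V) (hAV : A ≤ q ⁻¹ᵁ V) {n : ℕ} (φ : MvPolynomial (Fin n) Γ(S, V) →+* Γ(Y, A))
    (hφ : DerSch.IsChart q A V hAV φ) :
    ∃ g : Spec (CommRingCat.of (MvPolynomial (Fin n) Γ(S, V))) ⟶ S,
      Smooth g ∧ A.ι ≫ q = cIm A φ ≫ g := by
  have : Algebra.Smooth Γ(S, V) (MvPolynomial (Fin n) Γ(S, V)) := ⟨inferInstance, inferInstance⟩
  have hC : (MvPolynomial.C : Γ(S, V) →+* MvPolynomial (Fin n) Γ(S, V)).Smooth :=
    (RingHom.smooth_algebraMap (R := Γ(S, V)) (S := MvPolynomial (Fin n) Γ(S, V))).2 inferInstance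
  have : Smooth (Spec.map (CommRingCat.ofHom
      (MvPolynomial.C : Γ(S, V) →+* MvPolynomial (Fin n) Γ(S, V)))) :=
    (HasRingHomProperty.Spec_iff (P := @Smooth)).mpr hC
  refine ⟨Spec.map (CommRingCat.ofHom (MvPolynomial.C : Γ(S, V) →+* MvPolynomial (Fin n) Γ(S, V))) ≫
    hV.fromSpec, inferInstance, ?_⟩
  rw [← Category.assoc, ← cIm_comp, hφ.2, cIm, CommRingCat.ofHom_hom, Category.assoc,
    IsAffineOpen.SpecMap_appLE_fromSpec q hV hA hAV, ← Category.assoc, ← hA.isoSpec_hom,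
    hA.isoSpec_hom_fromSpec]

variable (r : ℕ) (i : X ⟶ CohB1.ProjSpaceOver r Y) [IsClosedImmersion i]

/-- Over a piece of the base embedded in `Q`, `X` embeds in projective space over `Q`. -/
theorem exists_lift (A : Y.Opens) {Q : Scheme.{u}} (j : (A : Scheme.{u}) ⟶ Q) [IsClosedImmersion j] :
    ∃ κ : (((i ≫ CohB1.ProjSpaceOver.toBase r Y) ⁻¹ᵁ A) : Scheme.{u}) ⟶ CohB1.ProjSpaceOver r Q,
      IsClosedImmersion κ ∧
        κ ≫ CohB1.ProjSpaceOver.toBase r Q = (i ≫ CohB1.ProjSpaceOver.toBase r Y) ∣_ A ≫ j := by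
  let f := i ≫ CohB1.ProjSpaceOver.toBase r Y
  have : IsProper (CohB1.ProjSpaceOver.toBase r Y) := ProjProper.Basic.isProper_toBase r Y
  have : IsProper f := inferInstanceAs (IsProper (i ≫ _))
  let π := CohB1.ProjSpaceOver.toBase r Q
  have : IsProper π := ProjProper.Basic.isProper_toBase r Q
  let U := f ⁻¹ᵁ A
  let κ : (U : Scheme.{u}) ⟶ CohB1.ProjSpaceOver r Q :=
    pullback.lift (U.ι ≫ i ≫ pullback.fst _ _) (f ∣_ A ≫ j) (specULiftZIsTerminal.hom_ext _ _)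
  have hκ : κ ≫ π = f ∣_ A ≫ j := pullback.lift_snd _ _ _
  refine ⟨κ, (IsClosedImmersion.iff_isProper_and_mono _).mpr ⟨?_, ⟨fun a b hab => ?_⟩⟩, hκ⟩
  · have : IsProper (f ∣_ A) := IsZariskiLocalAtTarget.restrict ‹_› _
    have : IsProper (κ ≫ π) := hκ ▸ inferInstance
    exact IsProper.of_comp κ π
  · have h1 : a ≫ U.ι ≫ i ≫ pullback.fst _ _ = b ≫ U.ι ≫ i ≫ pullback.fst _ _ := by
      have hfst : κ ≫ pullback.fst _ _ = U.ι ≫ i ≫ pullback.fst _ _ := pullback.lift_fst _ _ _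
      rw [← hfst, ← Category.assoc, ← Category.assoc]
      exact congrArg (· ≫ pullback.fst _ _) hab
    have h2 : a ≫ (f ∣_ A) = b ≫ (f ∣_ A) := by
      have := congrArg (· ≫ π) hab
      simp only [Category.assoc, hκ] at this
      exact (cancel_mono j).1 (by simpa only [Category.assoc] using this)
    have h3 : a ≫ U.ι ≫ f = b ≫ U.ι ≫ f := by
      rw [← morphismRestrict_ι]
      exact (congrArg (· ≫ A.ι) h2) |> fun h => by simpa only [Category.assoc] using h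
    have h4 : (a ≫ U.ι) ≫ i = (b ≫ U.ι) ≫ i := by
      rw [Category.assoc, Category.assoc]
      apply pullback.hom_ext
      · exact ((Category.assoc _ _ _).trans ((congrArg (a ≫ ·) (Category.assoc _ _ _)).trans (h1.trans (congrArg (b ≫ ·) (Category.assoc _ _ _)).symm))).trans (Category.assoc _ _ _).symm
      · exact ((Category.assoc _ _ _).trans ((congrArg (a ≫ ·) (Category.assoc _ _ _)).trans (h3.trans (congrArg (b ≫ ·) (Category.assoc _ _ _)).symm))).trans (Category.assoc _ _ _).symm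
    exact (cancel_mono U.ι).1 ((cancel_mono i).1 h4)

/-- The direct image, restricted and pushed into `Q`. -/
theorem nonempty_push_iso [DCoh.HasRpush (i ≫ CohB1.ProjSpaceOver.toBase r Y)] (A : Y.Opens) {Q : Scheme.{u}}
    (j : (A : Scheme.{u}) ⟶ Q) [IsClosedImmersion j]
    (κ : (((i ≫ CohB1.ProjSpaceOver.toBase r Y) ⁻¹ᵁ A) : Scheme.{u}) ⟶ CohB1.ProjSpaceOver r Q)
    [IsClosedImmersion κ]
    (hκ : κ ≫ CohB1.ProjSpaceOver.toBase r Q = (i ≫ CohB1.ProjSpaceOver.toBase r Y) ∣_ A ≫ j)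
    [DCoh.HasRpush (CohB1.ProjSpaceOver.toBase r Q)] (E : DCoh.D X) :
    Nonempty ((DCoh.Rpush (CohB1.ProjSpaceOver.toBase r Q)).obj ((pushD κ).obj
        ((DCoh.restrictD ((i ≫ CohB1.ProjSpaceOver.toBase r Y) ⁻¹ᵁ A).ι).obj E)) ≅
      (pushD j).obj ((DCoh.restrictD A.ι).obj ((DCoh.Rpush (i ≫ CohB1.ProjSpaceOver.toBase r Y)).obj E))) := by
  let f := i ≫ CohB1.ProjSpaceOver.toBase r Y
  let π := CohB1.ProjSpaceOver.toBase r Q
  let E' := (DCoh.restrictD (f ⁻¹ᵁ A).ι).obj E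
  have : DCoh.HasRpush κ := KFlat.RPush.hasRpush _
  have : DCoh.HasRpush j := KFlat.RPush.hasRpush _
  have : DCoh.HasRpush (f ∣_ A) := KFlat.RPush.hasRpush _
  have h1 : DCoh.HasRpush (κ ≫ π) := KFlat.RPush.hasRpush _
  have h2 : DCoh.HasRpush (f ∣_ A ≫ j) := KFlat.RPush.hasRpush _
  have e : ∀ (φ ψ : ((f ⁻¹ᵁ A) : Scheme.{u}) ⟶ Q) [DCoh.HasRpush φ] [DCoh.HasRpush ψ], φ = ψ →
      Nonempty ((DCoh.Rpush φ).obj E' ≅ (DCoh.Rpush ψ).obj E') := fun φ ψ _ _ h => by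
    subst h; exact ⟨Iso.refl _⟩
  obtain ⟨e₀⟩ := e (κ ≫ π) (f ∣_ A ≫ j) hκ
  obtain ⟨eκ⟩ := nonempty_pushD_iso κ E'
  obtain ⟨ej⟩ := nonempty_pushD_iso j ((DCoh.restrictD A.ι).obj ((DCoh.Rpush f).obj E))
  exact ⟨(DCoh.Rpush π).mapIso eκ ≪≫ (KFlat.RPush.rpushCompIso κ π).app E' ≪≫ e₀ ≪≫
    ((KFlat.RPush.rpushCompIso (f ∣_ A) j).app E').symm ≪≫
    (DCoh.Rpush j).mapIso ((KFlat.RPushBase.restrictRpushIso f A).app E).symm ≪≫ ej.symm⟩

/-- Relative pseudo-coherence of the direct image. -/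
theorem relAll_Rpush (q : Y ⟶ S) [LocallyOfFiniteType q] [DCoh.HasRpush (i ≫ CohB1.ProjSpaceOver.toBase r Y)]
    (E : DCoh.D X) (hE : DerSch.IsPseudoCoherentRelAll ((i ≫ CohB1.ProjSpaceOver.toBase r Y) ≫ q) E) :
    DerSch.IsPseudoCoherentRelAll q ((DCoh.Rpush (i ≫ CohB1.ProjSpaceOver.toBase r Y)).obj E) := by
  intro m
  refine rel_iff.2 fun A V hAV => ?_
  obtain ⟨n, φ, hφ⟩ := exists_chart A.2 V.2 hAV
  have := isClosedImmersion_cIm A.2 hφ.1
  refine ⟨hAV, n, φ, hφ, (tc_iff φ).2 ?_⟩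
  obtain ⟨g, hg, hw⟩ := exists_emb q A.2 V.2 hAV φ hφ
  obtain ⟨κ, hκc, hκ⟩ := exists_lift r i (A : Y.Opens) (cIm (A : Y.Opens) φ)
  let π := CohB1.ProjSpaceOver.toBase r (Spec (CommRingCat.of (MvPolynomial (Fin n) Γ(S, (V : S.Opens)))))
  have : IsProper π := ProjProper.Basic.isProper_toBase r _
  have : Smooth π := CohOps.PnSmooth.smooth_toBase r _
  have : DCoh.HasRpush π := KFlat.RPush.hasRpush _
  obtain ⟨e⟩ := nonempty_push_iso r i (A : Y.Opens) (cIm (A : Y.Opens) φ) κ hκ E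
  refine pc_of_iso e (KFlat.FlatProper.pc_Rpush π _ (fun k => (rel_comp_iff κ (π ≫ g) _).1 ?_) m)
  rw [← Category.assoc, hκ, Category.assoc, ← hw, ← Category.assoc, morphismRestrict_ι, Category.assoc]
  exact rel_restrict (hE k) _

end Groth.Agent.PCohD.RpushProj
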