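import Groth.Agent.PCohD.PushTor
import Mathlib.RingTheory.Unramified.Finite
import Mathlib.RingTheory.RingHom.StandardSmooth
import Mathlib.Algebra.Homology.DerivedCategory.ShortExact
import Mathlib.Algebra.Homology.HomologicalComplexAbelian

/-!
# Tor amplitude along polynomial rings, etale maps and smooth maps
-/

set_option autoImplicit false

universe u

open CategoryTheory CategoryTheory.Limits DerivedCategory
open scoped TensorProduct

attribute [local instance] HasDerivedCategory.standard

noncomputable section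

namespace Groth.Agent.PCohD.SmoothTor

open Groth.Agent.DRing Groth.Agent.DRing.TorAmp

variable {R P C : Type u} [CommRing R] [CommRing P] [CommRing C]

/-- Restrict, then extend. -/
abbrev RE (θ : R →+* P) : ModuleCat.{u} P ⥤ ModuleCat.{u} P :=
  ModuleCat.restrictScalars.{u} θ ⋙ ModuleCat.extendScalars.{u, u, u} θ

instance (θ : R →+* P) : (RE θ).Additive :=
  inferInstanceAs (ModuleCat.restrictScalars.{u} θ ⋙ ModuleCat.extendScalars.{u, u, u} θ).Additive

/-- Restrict, then extend, on complexes. -/
abbrev REcx (θ : R →+* P) (M : DRing.Cx P) : DRing.Cx P :=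
  (Groth.Agent.KFlat.BaseChange.extCx θ).obj ((DRing.restrictCx θ).obj M)

/-- The counit on complexes. -/
def counitCx (θ : R →+* P) (M : DRing.Cx P) : REcx θ M ⟶ M where
  f n := (ModuleCat.extendRestrictScalarsAdj.{u, u, u} θ).counit.app (M.X n)
  comm' i j _ := ((ModuleCat.extendRestrictScalarsAdj.{u, u, u} θ).counit.naturality (M.d i j)).symm

/-- Base change of tor amplitude along a flat map, on restrictions. -/
theorem torAmp_REcx (θ : R →+* P) (hθ : θ.Flat) (M : DRing.Cx P) {a b : ℤ}
    (h : DRing.HasTorAmplitudeIn R a b (DRing.toD ((DRing.restrictCx θ).obj M))) :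
    DRing.HasTorAmplitudeIn P a b (DRing.toD (REcx θ M)) := by
  obtain ⟨R₀, π, hR, -, hq, -⟩ := KProjRes.exists_resolution ((DRing.restrictCx θ).obj M)
  have : PreservesFiniteLimits (ModuleCat.extendScalars.{u, u, u} θ) :=
    ModuleCat.preservesFiniteLimits_extendScalars_of_flat hθ
  have : (ModuleCat.extendScalars.{u, u, u} θ).PreservesHomology := Functor.preservesHomologyOfExact _
  have : QuasiIso ((Groth.Agent.KFlat.BaseChange.extCx θ).map π) := inferInstance
  have := LTensor.hasLBaseChange θ
  exact torAmp_of_iso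
    ((Perfect.baseChangeIsoOfRep θ (KFlat.isKFlat_of_isKProjective R₀) (Iso.refl _)).symm ≪≫
      asIso (Q.map ((Groth.Agent.KFlat.BaseChange.extCx θ).map π)))
    (Perfect.torAmp_baseChange θ (torAmp_of_iso (asIso (Q.map π)).symm h))

/-- Tor amplitude passes along flat formally unramified maps. -/
theorem torAmp_of_unramified (θ : P →+* C) (hu : θ.FormallyUnramified) (he : θ.EssFiniteType)
    (hf : θ.Flat) (M : DRing.Cx C) {a b : ℤ}
    (h : DRing.HasTorAmplitudeIn P a b (DRing.toD ((DRing.restrictCx θ).obj M))) :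
    DRing.HasTorAmplitudeIn C a b (DRing.toD M) := by
  let : Algebra P C := θ.toAlgebra
  have : Algebra.FormallyUnramified P C := hu
  have : Algebra.EssFiniteType P C := he
  let secApp : ∀ N : ModuleCat.{u} C, N ⟶ (RE θ).obj N := fun N =>
    letI : Module P N := Module.compHom N θ
    haveI : IsScalarTower P C N := IsScalarTower.of_algebraMap_smul fun _ _ => rfl
    ModuleCat.ofHom (Y := (RE θ).obj N)
      { toFun := fun m => (show ((RE θ).obj N : Type u) from Algebra.FormallyUnramified.sec P C N m)
        map_add' := map_add (Algebra.FormallyUnramified.sec P C N)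
        map_smul' := fun r m => map_smul (Algebra.FormallyUnramified.sec P C N) r m }
  have hnat : ∀ {N N' : ModuleCat.{u} C} (f : N ⟶ N'), f ≫ secApp N' = secApp N ≫ (RE θ).map f := by
    intro N N' f
    let : Module P N := Module.compHom N θ
    have : IsScalarTower P C N := IsScalarTower.of_algebraMap_smul fun _ _ => rfl
    let : Module P N' := Module.compHom N' θ
    have : IsScalarTower P C N' := IsScalarTower.of_algebraMap_smul fun _ _ => rfl
    let fP : (N : Type u) →ₗ[C] N' := f.hom
    refine ModuleCat.hom_ext (LinearMap.ext fun m => ?_)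
    change Algebra.FormallyUnramified.sec P C N' (fP m) =
      (LinearMap.lTensor C (fP.restrictScalars P)) (Algebra.FormallyUnramified.sec P C N m)
    simp only [Algebra.FormallyUnramified.sec, LinearMap.coe_mk, LinearMap.coe_toAddHom, LinearMap.coe_comp,
      Function.comp_apply, LinearMap.flip_apply, TensorProduct.AlgebraTensorModule.mapBilinear_apply]
    induction Algebra.FormallyUnramified.elem P C using TensorProduct.induction_on with
    | zero => simp
    | tmul r s => simp
    | add x y hx hy => simp only [map_add, hx, hy]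
  let ι : M ⟶ REcx θ M :=
    { f := fun n => secApp (M.X n)
      comm' := fun i j _ => (hnat (M.d i j)).symm }
  have hid : ι ≫ counitCx θ M = 𝟙 M := by
    refine HomologicalComplex.hom_ext _ _ fun n => ModuleCat.hom_ext (LinearMap.ext fun (m : M.X n) => ?_)
    let : Module P (M.X n) := Module.compHom (M.X n) θ
    have : IsScalarTower P C (M.X n) := IsScalarTower.of_algebraMap_smul fun _ _ => rfl
    have h1 := LinearMap.congr_fun (Algebra.FormallyUnramified.comp_sec P C (M.X n)) m
    simp only [LinearMap.coe_comp, Function.comp_apply, LinearMap.id_coe, id_eq] at h1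
    refine Eq.trans ?_ h1
    change ((ModuleCat.extendRestrictScalarsAdj.{u, u, u} θ).counit.app (M.X n)).hom
      (Algebra.FormallyUnramified.sec P C (M.X n) m) = _
    generalize Algebra.FormallyUnramified.sec P C (M.X n) m = t
    induction t using TensorProduct.induction_on with
    | zero => exact (map_zero _).trans (map_zero _).symm
    | tmul s x => rfl
    | add x y hx hy => exact (map_add _ x y).trans ((congrArg₂ (· + ·) hx hy).trans (map_add _ x y).symm)
  exact torAmp_of_retract (Q.map ι) (Q.map (counitCx θ M)) (by rw [← Q.map_comp, hid, Q.map_id])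
    (torAmp_REcx θ hf M h)

open Polynomial in
/-- The monomial basis, for the module structure through `Polynomial.C`. -/
theorem exists_basisC : ∀ inst : Algebra R R[X], inst = (Polynomial.C (R := R)).toAlgebra →
    ∃ b : @Module.Basis ℕ R R[X] _ _ inst.toModule, (∀ k, b k = X ^ k) ∧
      ∀ (r : R) (p : R[X]), @HSMul.hSMul R R[X] R[X] (@instHSMul _ _ inst.toSMul) r p = Polynomial.C r * p := by
  have e : (Polynomial.C (R := R)).toAlgebra = (inferInstance : Algebra R R[X]) :=
    Algebra.algebra_ext _ _ fun r => rfl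
  rintro inst rfl
  rw [e]
  exact ⟨Polynomial.basisMonomials R, fun k => by simp [Polynomial.X_pow_eq_monomial], fun r p => Polynomial.smul_eq_C_mul r⟩

/-- Tor amplitude over an algebra which is free on the powers of an element. -/
theorem torAmp_powerBasis (θ : R →+* P) (x : P)
    (bm : letI := θ.toAlgebra; Module.Basis ℕ R P) (hbm : letI := θ.toAlgebra; ∀ k, bm k = x ^ k)
    (M : DRing.Cx P) {a b : ℤ}
    (h : DRing.HasTorAmplitudeIn R a b (DRing.toD ((DRing.restrictCx θ).obj M))) :
    DRing.HasTorAmplitudeIn P (a - 1) b (DRing.toD M) := by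
  let F := RE θ
  let dApp : ∀ N : ModuleCat.{u} P, F.obj N ⟶ F.obj N := fun N =>
    x • 𝟙 (F.obj N) - F.map (x • 𝟙 N)
  have dnat : ∀ {N N' : ModuleCat.{u} P} (f : N ⟶ N'), F.map f ≫ dApp N' = dApp N ≫ F.map f := by
    intro N N' f
    simp only [dApp, Preadditive.comp_sub, Preadditive.sub_comp, Linear.comp_smul, Linear.smul_comp,
      Category.comp_id, Category.id_comp, ← F.map_comp]
  let d : REcx θ M ⟶ REcx θ M :=
    { f := fun n => dApp (M.X n)
      comm' := fun i j _ => (dnat (M.d i j)).symm }
  have hdε : ∀ N : ModuleCat.{u} P,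
      dApp N ≫ (ModuleCat.extendRestrictScalarsAdj.{u, u, u} θ).counit.app N = 0 := fun N => by
    have h1 := (ModuleCat.extendRestrictScalarsAdj.{u, u, u} θ).counit.naturality (x • 𝟙 N)
    simp only [dApp, Preadditive.sub_comp, sub_eq_zero]
    erw [h1]
    simp only [Linear.comp_smul, Linear.smul_comp, Category.id_comp, Functor.id_map]
    erw [Category.comp_id]
  let S : ShortComplex (DRing.Cx P) := ShortComplex.mk d (counitCx θ M) (by ext n : 1; exact hdε (M.X n))
  have hS : S.ShortExact := HomologicalComplex.shortExact_of_degreewise_shortExact S fun n => by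
    let : Algebra R P := θ.toAlgebra
    let N := M.X n
    let : Module R N := Module.compHom N θ
    have : IsScalarTower R P N := IsScalarTower.of_algebraMap_smul fun _ _ => rfl
    let dl : (P ⊗[R] N) →ₗ[P] (P ⊗[R] N) := (dApp N).hom
    let εl : (P ⊗[R] N) →ₗ[P] N := ((ModuleCat.extendRestrictScalarsAdj.{u, u, u} θ).counit.app N).hom
    let hk : ℕ → (N →ₗ[R] P ⊗[R] N) := fun k =>
      ∑ j ∈ Finset.range k, (TensorProduct.mk R P N (x ^ j)).comp
        (((LinearMap.lsmul P N) (x ^ (k - 1 - j))).restrictScalars R)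
    let hl : (P ⊗[R] N) →ₗ[R] (P ⊗[R] N) := TensorProduct.lift (bm.constr R hk)
    have hlX : ∀ (k : ℕ) (m : N), hl ((x ^ k) ⊗ₜ[R] m) = ∑ j ∈ Finset.range k, (x ^ j) ⊗ₜ[R] (x ^ (k - 1 - j) • m) := by
      intro k m
      simp only [hl, TensorProduct.lift.tmul]
      rw [← hbm k, Module.Basis.constr_basis]
      simp [hk, LinearMap.sum_apply]
    have hdX : ∀ (p : P) (m : N), dl (p ⊗ₜ[R] m) = (x * p) ⊗ₜ[R] m - p ⊗ₜ[R] (x • m) := fun p m => rfl
    have hεX : ∀ (p : P) (m : N), εl (p ⊗ₜ[R] m) = p • m := fun p m => rfl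
    have hleft : hl ∘ₗ (dl.restrictScalars R) = LinearMap.id := by
      refine TensorProduct.ext' fun p m => ?_
      refine LinearMap.congr_fun (bm.ext (f₁ := (hl ∘ₗ dl.restrictScalars R) ∘ₗ (TensorProduct.mk R P N).flip m)
        (f₂ := (TensorProduct.mk R P N).flip m) fun k => ?_) p
      simp only [LinearMap.comp_apply, LinearMap.flip_apply, TensorProduct.mk_apply, hbm,
        LinearMap.restrictScalars_apply]
      rw [hdX, map_sub, ← pow_succ', hlX, hlX, Finset.sum_range_succ]
      have : ∀ j ∈ Finset.range k, (x ^ j) ⊗ₜ[R] (x ^ (k + 1 - 1 - j) • m) =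
          (x ^ j) ⊗ₜ[R] (x ^ (k - 1 - j) • x • m) := fun j hj => by
        rw [smul_smul, ← pow_succ]
        congr 3
        simp only [Finset.mem_range] at hj
        omega
      rw [Finset.sum_congr rfl this]
      simp
    have hright : (dl.restrictScalars R) ∘ₗ hl =
        LinearMap.id - (TensorProduct.mk R P N 1) ∘ₗ (εl.restrictScalars R) := by
      refine TensorProduct.ext' fun p m => ?_
      refine LinearMap.congr_fun (bm.ext (f₁ := (dl.restrictScalars R ∘ₗ hl) ∘ₗ (TensorProduct.mk R P N).flip m)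
        (f₂ := (LinearMap.id - (TensorProduct.mk R P N 1) ∘ₗ (εl.restrictScalars R)) ∘ₗ
          (TensorProduct.mk R P N).flip m) fun k => ?_) p
      simp only [LinearMap.comp_apply, LinearMap.flip_apply, TensorProduct.mk_apply, hbm,
        LinearMap.restrictScalars_apply, LinearMap.sub_apply, LinearMap.id_apply]
      rw [hlX, map_sum, hεX]
      have : ∀ j ∈ Finset.range k, dl ((x ^ j) ⊗ₜ[R] (x ^ (k - 1 - j) • m)) =
          (fun i => (x ^ i) ⊗ₜ[R] (x ^ (k - i) • m)) (j + 1) -
            (fun i => (x ^ i) ⊗ₜ[R] (x ^ (k - i) • m)) j := fun j hj => by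
        simp only [Finset.mem_range] at hj
        rw [hdX, ← pow_succ', smul_smul, ← pow_succ', show k - 1 - j + 1 = k - j by omega]
        simp only
        rw [show k - (j + 1) = k - 1 - j by omega]
      rw [Finset.sum_congr rfl this, Finset.sum_range_sub (fun i => (x ^ i) ⊗ₜ[R] (x ^ (k - i) • m))]
      simp
    refine
      { exact := (ShortComplex.moduleCat_exact_iff _).mpr fun z hz => ⟨hl z, ?_⟩
        mono_f := (ModuleCat.mono_iff_injective _).mpr fun y z hyz => ?_
        epi_g := (ModuleCat.epi_iff_surjective _).mpr fun m => ⟨(1 : P) ⊗ₜ[R] (show N from m), one_smul _ _⟩ }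
    · change εl z = 0 at hz
      refine (LinearMap.congr_fun hright z).trans ?_
      simp only [LinearMap.sub_apply, LinearMap.id_apply, LinearMap.comp_apply, LinearMap.restrictScalars_apply, hz,
        map_zero, sub_zero]
    · exact ((LinearMap.congr_fun hleft y).symm.trans (congrArg hl hyz)).trans (LinearMap.congr_fun hleft z)
  have hflat : θ.Flat :=
    letI := θ.toAlgebra
    (Module.Flat.of_linearEquiv bm.repr : Module.Flat R P)
  have hF := torAmp_REcx θ hflat M h
  exact (torAmp_of_triangle (DerivedCategory.triangleOfSES_distinguished hS) (a - 1) b).1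
    (torAmp_mono hF (by omega) (by omega)) (torAmp_mono hF (by omega) le_rfl)

open Polynomial in
/-- Tor amplitude over a polynomial ring in one variable. -/
theorem torAmp_polynomial (M : DRing.Cx R[X]) {a b : ℤ}
    (h : DRing.HasTorAmplitudeIn R a b (DRing.toD ((DRing.restrictCx (Polynomial.C (R := R))).obj M))) :
    DRing.HasTorAmplitudeIn R[X] (a - 1) b (DRing.toD M) := by
  obtain ⟨bm, hbm, -⟩ := exists_basisC (R := R) _ rfl
  exact torAmp_powerBasis Polynomial.C X bm hbm M h

/-- A bijective map does not change tor amplitude. -/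
theorem torAmp_of_bijective (θ : R →+* P) (hθ : Function.Bijective θ) (M : DRing.Cx P) {a b : ℤ}
    (h : DRing.HasTorAmplitudeIn R a b (DRing.toD ((DRing.restrictCx θ).obj M))) :
    DRing.HasTorAmplitudeIn P a b (DRing.toD M) := by
  let := θ.toAlgebra
  have hu : Algebra.FormallyUnramified R P :=
    Algebra.FormallyUnramified.of_surjective (Algebra.ofId R P) hθ.2
  have he : Algebra.EssFiniteType R P :=
    have : Algebra.FiniteType R P := Algebra.FiniteType.of_surjective (Algebra.ofId R P) hθ.2
    inferInstance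
  exact torAmp_of_unramified θ hu he (RingHom.Flat.of_bijective hθ) M h

/-- Tor amplitude over a polynomial ring. -/
theorem torAmp_mvPolynomial (n : ℕ) : ∀ {R : Type u} [CommRing R] (M : DRing.Cx (MvPolynomial (Fin n) R)) {a b : ℤ},
    DRing.HasTorAmplitudeIn R a b (DRing.toD ((DRing.restrictCx (MvPolynomial.C (σ := Fin n) (R := R))).obj M)) →
      DRing.HasTorAmplitudeIn (MvPolynomial (Fin n) R) (a - n) b (DRing.toD M) := by
  induction n with
  | zero =>
    intro R _ M a b h
    rw [Nat.cast_zero, sub_zero]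
    exact torAmp_of_bijective _ (MvPolynomial.isEmptyAlgEquiv R (Fin 0)).symm.bijective M h
  | succ n ih =>
    intro R _ M a b h
    let e : Polynomial (MvPolynomial (Fin n) R) ≃+* MvPolynomial (Fin (n + 1)) R :=
      (MvPolynomial.finSuccEquiv R n).symm.toRingEquiv
    let M₁ := (DRing.restrictCx e.toRingHom).obj M
    let M₂ := (DRing.restrictCx (Polynomial.C (R := MvPolynomial (Fin n) R))).obj M₁
    have hcomp : (e.toRingHom.comp Polynomial.C).comp (MvPolynomial.C (σ := Fin n) (R := R)) = MvPolynomial.C :=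
      RingHom.ext fun r => (MvPolynomial.finSuccEquiv R n).symm.commutes r
    have h2 := ih M₂ (a := a) (b := b) (torAmp_of_iso (Q.mapIso
      (TorComp.restrictCongr hcomp.symm M ≪≫ TorComp.restrictCompIso _ _ M ≪≫
        (DRing.restrictCx _).mapIso (TorComp.restrictCompIso _ _ M))) h)
    have h1 := torAmp_polynomial M₁ h2
    rw [show a - (n + 1 : ℕ) = a - n - 1 by push_cast; ring]
    exact torAmp_of_bijective e.toRingHom e.bijective M h1

section Scheme

open AlgebraicGeometry

/-- Tor amplitude over the stalks of a scheme etale over affine space over the base. -/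
theorem torAmp_stalk_chart {X Y : Scheme.{u}} (f : X ⟶ Y) {U : Y.Opens} (hU : IsAffineOpen U) {V : X.Opens}
    (hV : IsAffineOpen V) (e : V ≤ f ⁻¹ᵁ U) {n : ℕ} (g : MvPolynomial (Fin n) Γ(Y, U) →+* Γ(X, V))
    (hgC : g.comp MvPolynomial.C = (f.appLE U V e).hom) (hg : g.Etale) (x : X) (hxV : x ∈ V)
    (M : DRing.Cx (X.presheaf.stalk x)) {a b : ℤ}
    (h : DRing.HasTorAmplitudeIn (Y.presheaf.stalk (f x)) a b
      (DRing.toD ((DRing.restrictCx (f.stalkMap x).hom).obj M))) :
    DRing.HasTorAmplitudeIn (X.presheaf.stalk x) (a - n) b (DRing.toD M) := by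
  let gY := (Y.presheaf.germ U (f x) (e hxV)).hom
  let gX := (X.presheaf.germ V x hxV).hom
  have hgY : gY.Flat := by
    let := gY.toAlgebra
    have := hU.isLocalization_stalk ⟨f x, e hxV⟩
    exact IsLocalization.flat (Y.presheaf.stalk (f x)) (hU.primeIdealOf ⟨f x, e hxV⟩).asIdeal.primeCompl
  have hsq : (f.stalkMap x).hom.comp gY = (gX.comp g).comp MvPolynomial.C := by
    rw [RingHom.comp_assoc, hgC]
    exact congrArg CommRingCat.Hom.hom
      (show Y.presheaf.germ U (f x) (e hxV) ≫ f.stalkMap x = f.appLE U V e ≫ X.presheaf.germ V x hxV by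
        rw [Scheme.Hom.germ_stalkMap, Scheme.Hom.appLE, Category.assoc, X.presheaf.germ_res])
  have h0 := TorComp.torAmp_comp gY (f.stalkMap x).hom M h (PushTor.torAmp_flat gY hgY)
  rw [add_zero, add_zero] at h0
  have h1 := torAmp_mvPolynomial n ((DRing.restrictCx (gX.comp g)).obj M)
    (torAmp_of_iso (Q.mapIso (TorComp.restrictCongr hsq M ≪≫ TorComp.restrictCompIso _ _ M)) h0)
  let : Algebra (MvPolynomial (Fin n) Γ(Y, U)) Γ(X, V) := g.toAlgebra
  let : Algebra Γ(X, V) (X.presheaf.stalk x) := gX.toAlgebra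
  let : Algebra (MvPolynomial (Fin n) Γ(Y, U)) (X.presheaf.stalk x) := (gX.comp g).toAlgebra
  have : IsScalarTower (MvPolynomial (Fin n) Γ(Y, U)) Γ(X, V) (X.presheaf.stalk x) :=
    IsScalarTower.of_algebraMap_eq' rfl
  have : Algebra.Etale (MvPolynomial (Fin n) Γ(Y, U)) Γ(X, V) := hg
  have hloc : IsLocalization.AtPrime (X.presheaf.stalk x) (hV.primeIdealOf ⟨x, hxV⟩).asIdeal :=
    hV.isLocalization_stalk ⟨x, hxV⟩
  let S := (hV.primeIdealOf ⟨x, hxV⟩).asIdeal.primeCompl
  have : Algebra.FormallyUnramified Γ(X, V) (X.presheaf.stalk x) :=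
    Algebra.FormallyUnramified.of_isLocalization S
  have : Algebra.EssFiniteType Γ(X, V) (X.presheaf.stalk x) := Algebra.EssFiniteType.of_isLocalization _ S
  have hflat : Module.Flat (MvPolynomial (Fin n) Γ(Y, U)) (X.presheaf.stalk x) :=
    have : Module.Flat Γ(X, V) (X.presheaf.stalk x) := IsLocalization.flat (X.presheaf.stalk x) S
    Module.Flat.trans (MvPolynomial (Fin n) Γ(Y, U)) Γ(X, V) (X.presheaf.stalk x)
  exact torAmp_of_unramified (gX.comp g)
    (Algebra.FormallyUnramified.comp _ Γ(X, V) _)
    (Algebra.EssFiniteType.comp _ Γ(X, V) _) hflat M h1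

/-- Tor amplitude over the stalks of a smooth scheme. -/
theorem torAmp_stalk_smooth {X Y : Scheme.{u}} (f : X ⟶ Y) (n : ℕ) (x : X) (W : X.Opens) (hxW : x ∈ W)
    [SmoothOfRelativeDimension n (W.ι ≫ f)]
    (M : DRing.Cx (X.presheaf.stalk x)) {a b : ℤ}
    (h : DRing.HasTorAmplitudeIn (Y.presheaf.stalk (f x)) a b
      (DRing.toD ((DRing.restrictCx (f.stalkMap x).hom).obj M))) :
    DRing.HasTorAmplitudeIn (X.presheaf.stalk x) (a - n) b (DRing.toD M) := by
  obtain ⟨U, hU, V', hV', hxV', e', hstd'⟩ :=
    SmoothOfRelativeDimension.exists_isStandardSmoothOfRelativeDimension (n := n) (f := W.ι ≫ f) ⟨x, hxW⟩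
  let V := W.ι ''ᵁ V'
  have hV : IsAffineOpen V := hV'.image_of_isOpenImmersion W.ι
  have hxV : x ∈ V := ⟨⟨x, hxW⟩, hxV', rfl⟩
  have e : V ≤ f ⁻¹ᵁ U := by
    rintro _ ⟨z, hz, rfl⟩
    exact e' hz
  have hap : (W.ι ≫ f).appLE U V' e' = f.appLE U V e := by
    rw [Scheme.Hom.comp_appLE, Scheme.Opens.ι_appLE, Scheme.Hom.appLE]
    rfl
  have hstd : RingHom.IsStandardSmoothOfRelativeDimension n (f.appLE U V e).hom := hap ▸ hstd'
  obtain ⟨g, hgC, hg⟩ := hstd.exists_etale_mvPolynomial
  exact torAmp_stalk_chart f hU hV e g hgC hg x hxV M h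

end Scheme

end Groth.Agent.PCohD.SmoothTor
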