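import Groth.Agent.PCohD.Summand
import Groth.Agent.PerfTri.Regular
import Mathlib.Algebra.Homology.DerivedCategory.ShortExact
import Mathlib.Algebra.Homology.DerivedCategory.TStructure

/-!
# Pseudo-coherence from the terms and from the top cohomology
-/

set_option autoImplicit false

universe u

open CategoryTheory Limits AlgebraicGeometry Pretriangulated
open Groth.Agent.KFlat.TildePC (Appr appr_of_isIso)
attribute [local instance] HasDerivedCategory.standard

noncomputable section

namespace Groth.Agent.PCohD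

variable {X : Scheme.{u}} {m : ℤ}

local notation "HX" => DerivedCategory.homologyFunctor X.Modules

theorem isZero_homology_Q (E : CochainComplex X.Modules ℤ) (i : ℤ) :
    IsZero ((HX i).obj (DerivedCategory.Q.obj E)) ↔ IsZero (E.homology i) :=
  ⟨fun h => h.of_iso ((DerivedCategory.homologyFunctorFactors _ i).app E).symm,
    fun h => h.of_iso ((DerivedCategory.homologyFunctorFactors _ i).app E)⟩

theorem isStrictlyPerfect_single (n : ℤ) {M : X.Modules} (h : FlatMod.IsFinLocFree M) :
    DCoh.IsStrictlyPerfect ((HomologicalComplex.single X.Modules (ComplexShape.up ℤ) n).obj M) := by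
  refine ⟨⟨n, n, fun i hi => HomologicalComplex.isZero_single_obj_X _ _ _ _ (by omega)⟩, fun i => ?_⟩
  by_cases hi : i = n
  · subst hi
    exact KFlat.LocFree.isFinLocFree_of_iso (HomologicalComplex.singleObjXSelf _ _ _).symm h
  · exact KFlat.LocFree.isFinLocFree_of_iso
      (((HomologicalComplex.eval X.Modules _ i).map_isZero (isZero_zero _)).iso
        (HomologicalComplex.isZero_single_obj_X _ _ _ _ hi)) (isStrictlyPerfect_zero.2 i)

/-- A bounded complex with pseudo-coherent terms is pseudo-coherent. -/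
theorem pc_of_terms (E : CochainComplex X.Modules ℤ) (a b : ℤ)
    (hv : ∀ i, i < a ∨ b < i → IsZero (E.X i))
    (h : ∀ q, ∀ m, DCoh.IsPseudoCoherentD m (DCoh.inD X (E.X q))) (m : ℤ) :
    DCoh.IsPseudoCoherentD m (DCoh.toD X E) := by
  have key : ∀ (k : ℕ) (n : ℤ), b + 1 ≤ n + k → ∀ m,
      DCoh.IsPseudoCoherentD m (DCoh.toD X (KFlat.ge E n)) := by
    intro k
    induction k with
    | zero =>
      intro n hn m
      refine pc_of_isZero (DerivedCategory.Q.map_isZero ?_)
      rw [IsZero.iff_id_eq_zero]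
      refine HomologicalComplex.hom_ext _ _ fun q => ?_
      refine (show IsZero ((KFlat.ge E n).X q) from ?_).eq_of_src _ _
      by_cases hq : q < n
      · exact KFlat.isZero_ge_X E hq
      · exact (hv q (Or.inr (by omega))).of_iso
          { hom := KFlat.geι E n q
            inv := KFlat.geπ E n q
            hom_inv_id := KFlat.geι_π E n q
            inv_hom_id := KFlat.geπ_ι E (by omega) }
    | succ k ih =>
      intro n hn m
      let S := KFlat.geSeq E n
      have hS : S.ShortExact := HomologicalComplex.shortExact_of_degreewise_shortExact _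
        fun q => (KFlat.geSplitting E n q).shortExact
      refine pc₂ _ (DerivedCategory.triangleOfSES_distinguished hS) (ih (n + 1) (by omega) m) ?_
      change DCoh.IsPseudoCoherentD m
        (DerivedCategory.Q.obj ((HomologicalComplex.single X.Modules _ n).obj (E.X n)))
      refine pc_of_iso ((DerivedCategory.singleFunctorIsoCompQ X.Modules n).app (E.X n)) ?_
      refine pc_of_iso (((DerivedCategory.singleFunctors X.Modules).shiftIso (-n) n 0 (by omega)).app
        (E.X n)) ?_
      have h' := pc_shift (h n (m - n)) (-n)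
      rwa [show m - n - -n = m by omega] at h'
  have hiso : IsIso (KFlat.geToSelf E a) := by
    have : ∀ q, IsIso ((KFlat.geToSelf E a).f q) := fun q => by
      by_cases hq : q < a
      · exact ⟨0, (KFlat.isZero_ge_X E hq).eq_of_src _ _, (hv q (Or.inl hq)).eq_of_src _ _⟩
      · exact ⟨KFlat.geπ E a q, KFlat.geι_π E a q, KFlat.geπ_ι E (by omega)⟩
    exact HomologicalComplex.Hom.isIso_of_components _
  exact pc_of_iso (DerivedCategory.Q.mapIso (@asIso _ _ _ _ (KFlat.geToSelf E a) hiso))
    (key (b + 1 - a).toNat a (by omega) m)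

/-- An object with no cohomology above `m` whose `H^m` is a quotient of a finite locally free
module is `m`-pseudo-coherent. -/
theorem pc_of_top_epi {K : DCoh.D X} (hK : ∀ i, m < i → IsZero ((HX i).obj K)) {P : X.Modules}
    (hP : FlatMod.IsFinLocFree P) (p : P ⟶ (HX m).obj K) (hp : Epi p) :
    DCoh.IsPseudoCoherentD m K := by
  have : K.IsLE m := (DerivedCategory.isLE_iff K m).mpr hK
  obtain ⟨G, hG, ⟨e⟩⟩ := DerivedCategory.exists_iso_Q_obj_of_isLE K m
  have hz : ∀ i, m < i → IsZero (G.X i) := fun i hi =>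
    CochainComplex.isZero_of_isStrictlyLE G m i hi
  let eH : (HX m).obj K ≅ G.homology m :=
    (HX m).mapIso e ≪≫ (DerivedCategory.homologyFunctorFactors _ m).app G
  have : IsIso (G.iCycles m) := G.isIso_iCycles m (m + 1) (by simp) ((hz _ (by omega)).eq_of_tgt _ _)
  let π : G.X m ⟶ G.homology m := inv (G.iCycles m) ≫ G.homologyπ m
  have hπ : Epi π := inferInstance
  have hd : G.d (m - 1) m ≫ π = 0 := by
    have : G.d (m - 1) m ≫ inv (G.iCycles m) = G.toCycles (m - 1) m := by
      rw [← cancel_mono (G.iCycles m)]; simp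
    rw [← Category.assoc, this, HomologicalComplex.toCycles_comp_homologyπ]
  have hc : (ShortComplex.mk (G.toCycles (m - 1) m) (G.homologyπ m) (by simp)).Exact :=
    ShortComplex.exact_of_g_is_cokernel _ (G.homologyIsCokernel (m - 1) m (by simp))
  have hex : (ShortComplex.mk _ _ hd).Exact := by
    let e : ShortComplex.mk (G.toCycles (m - 1) m) (G.homologyπ m) (by simp) ≅ ShortComplex.mk _ _ hd :=
      ShortComplex.isoMk (Iso.refl _) (asIso (G.iCycles m)) (Iso.refl _)
        (by simp) (by simp [π])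
    exact ShortComplex.exact_of_iso e hc
  refine pc_of_local fun x => ?_
  obtain ⟨V, hxV, l, hl⟩ := PerfTri.LocalLift.exists_local_lift π hP (p ≫ eH.hom) x
  refine ⟨V, V.ι, inferInstance, ⟨⟨x, hxV⟩, rfl⟩, pc_of_isAp ?_⟩
  let R := Scheme.Modules.restrictFunctor V.ι
  let G' := (resC V.ι).obj G
  have hex' : ((ShortComplex.mk _ _ hd).map R).Exact := hex.map R
  have : Epi ((ShortComplex.mk _ _ hd).map R).g := inferInstanceAs (Epi (R.map π))
  let u : (HomologicalComplex.single (V : Scheme.{u}).Modules (ComplexShape.up ℤ) m).obj (R.obj P) ⟶ G' :=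
    HomologicalComplex.mkHomFromSingle l fun i hi => (R.map_isZero (hz i (by
      simp only [ComplexShape.up_Rel] at hi; omega))).eq_of_tgt _ _
  have hlepi : Epi (l ≫ R.map π) := by
    rw [hl]; exact inferInstanceAs (Epi (R.map (p ≫ eH.hom)))
  have hdesc : Epi (biprod.desc l (R.map (G.d (m - 1) m))) := by
    refine Preadditive.epi_of_cancel_zero _ fun {T} t ht => ?_
    have h1 : l ≫ t = 0 := by
      have := congrArg (biprod.inl ≫ ·) ht
      simpa using this
    have h2 : R.map (G.d (m - 1) m) ≫ t = 0 := by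
      have := congrArg (biprod.inr ≫ ·) ht
      simpa using this
    let t' : R.obj (G.homology m) ⟶ T := hex'.desc t h2
    have ht' : R.map π ≫ t' = t := hex'.g_desc t h2
    have h3 : (l ≫ R.map π) ≫ t' = 0 := by rw [Category.assoc, ht', h1]
    have h4 : t' = 0 := zero_of_epi_comp _ h3
    exact ht'.symm.trans ((congrArg (R.map π ≫ ·) h4).trans comp_zero)
  have happr : Appr m (DerivedCategory.Q.map u) := by
    refine (appr_Q_iff _).mpr ⟨fun i hi => ?_, ?_⟩
    · exact ⟨0, ((HomologicalComplex.exactAt_iff_isZero_homology _ _).mp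
        (HomologicalComplex.exactAt_single_obj _ _ _ _ (by omega))).eq_of_src _ _,
        (ShortComplex.isZero_homology_of_isZero_X₂ _ (R.map_isZero (hz i hi))).eq_of_src _ _⟩
    · rw [HomologicalComplex.epi_homologyMap_iff_up_to_refinements _ (m - 1) m (m + 1) (by simp) (by simp)]
      intro A g _
      obtain ⟨A', π', hπ', y, hy⟩ := surjective_up_to_refinements_of_epi (biprod.desc l (R.map (G.d (m - 1) m))) g
      refine ⟨A', π', hπ', y ≫ biprod.fst ≫
        (HomologicalComplex.singleObjXSelf (ComplexShape.up ℤ) m (R.obj P)).inv, ?_, y ≫ biprod.snd, ?_⟩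
      · exact (HomologicalComplex.isZero_single_obj_X (ComplexShape.up ℤ) m (R.obj P) (m + 1)
          (by omega)).eq_of_tgt _ _
      · refine hy.trans ?_
        rw [biprod.desc_eq, Preadditive.comp_add]
        simp [u]
        rfl
  exact ⟨_, DerivedCategory.Q.map u ≫ (PerfTri.Perfect.restrQ V.ι G).inv ≫
      (DCoh.restrictD V.ι).map e.inv,
    isStrictlyPerfect_single m (KFlat.LocFree.isFinLocFree_of_iso
      ((Scheme.Modules.restrictFunctorIsoPullback V.ι).app _).symm (KFlat.LocFree.isFinLocFree_pull V.ι hP)),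
    happr.comp (appr_of_isIso m _)⟩

/-- The top cohomology of a strictly perfect complex is locally a quotient of a finite locally free
module. -/
theorem exists_epi_homology {E : CochainComplex X.Modules ℤ} (hE : DCoh.IsStrictlyPerfect E)
    (h : ∀ i, m < i → IsZero (E.homology i)) (x : X) :
    ∃ (V : X.Opens) (P : (V : Scheme.{u}).Modules)
      (p : P ⟶ (Scheme.Modules.restrictFunctor V.ι).obj (E.homology m)),
      x ∈ V ∧ FlatMod.IsFinLocFree P ∧ Epi p := by
  obtain ⟨V, hxV, ⟨H⟩⟩ := PerfTri.Nullhom.exists_nullhomotopy_opens (KFlat.geToSelf E (m + 1))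
    (isStrictlyPerfect_ge hE (m + 1)) (m + 1) (fun i hi => KFlat.isZero_ge_X E hi)
    (fun i hi => h i (by omega)) x
  let R := Scheme.Modules.restrictFunctor V.ι
  let d := R.map (E.d m (m + 1))
  let hh : R.obj (E.X (m + 1)) ⟶ R.obj (E.X m) := R.map (KFlat.geπ E (m + 1) (m + 1)) ≫ H.hom (m + 1) m
  have hd : d ≫ hh ≫ d = d := by
    have h0 := H.comm (m + 1)
    rw [dNext_eq H.hom (show (ComplexShape.up ℤ).Rel (m + 1) (m + 1 + 1) by simp),
      prevD_eq H.hom (show (ComplexShape.up ℤ).Rel m (m + 1) by simp)] at h0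
    simp only [HomologicalComplex.zero_f, add_zero] at h0
    have hdd : R.map (E.d m (m + 1) ≫ KFlat.geπ E (m + 1) (m + 1)) ≫
        R.map ((KFlat.ge E (m + 1)).d (m + 1) (m + 1 + 1)) = 0 := by
      rw [← Functor.map_comp]
      change R.map ((E.d m (m + 1) ≫ KFlat.geπ E (m + 1) (m + 1)) ≫
        (KFlat.geι E (m + 1) (m + 1) ≫ E.d _ _ ≫ KFlat.geπ E (m + 1) (m + 1 + 1))) = 0
      rw [Category.assoc, ← Category.assoc (KFlat.geπ E (m + 1) (m + 1)), KFlat.geπ_ι E le_rfl,
        Category.id_comp, HomologicalComplex.d_comp_d_assoc, zero_comp, Functor.map_zero]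
    have hf : R.map (E.d m (m + 1) ≫ KFlat.geπ E (m + 1) (m + 1)) ≫
        R.map ((KFlat.geToSelf E (m + 1)).f (m + 1)) = d := by
      rw [← Functor.map_comp]
      change R.map ((E.d m (m + 1) ≫ KFlat.geπ E (m + 1) (m + 1)) ≫ KFlat.geι E (m + 1) (m + 1)) = d
      rw [Category.assoc, KFlat.geπ_ι E le_rfl, Category.comp_id]
    have h1 : R.map (E.d m (m + 1) ≫ KFlat.geπ E (m + 1) (m + 1)) ≫
        R.map ((KFlat.geToSelf E (m + 1)).f (m + 1)) =
        R.map (E.d m (m + 1) ≫ KFlat.geπ E (m + 1) (m + 1)) ≫ (H.hom (m + 1) m ≫ d) := by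
      refine (congrArg (R.map (E.d m (m + 1) ≫ KFlat.geπ E (m + 1) (m + 1)) ≫ ·) h0).trans ?_
      refine (Preadditive.comp_add _ _ _ _ _ _).trans ?_
      refine Eq.trans (congrArg₂ (· + ·) ((Category.assoc _ _ _).symm.trans
        ((congrArg (· ≫ H.hom (m + 1 + 1) (m + 1)) hdd).trans zero_comp)) rfl) (zero_add _)
    refine Eq.trans ?_ (h1.symm.trans hf)
    simp only [hh, d, Functor.map_comp, Category.assoc]
    rfl
  have hk : (𝟙 _ - d ≫ hh) ≫ d = 0 := by
    rw [Preadditive.sub_comp, Category.id_comp, Category.assoc, hd, sub_self]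
  let S := ShortComplex.mk (E.iCycles m) (E.d m (m + 1)) (E.iCycles_d m (m + 1))
  have hS : S.Exact := ShortComplex.exact_of_f_is_kernel _ (E.cyclesIsKernel m (m + 1) (by simp))
  have : Mono (S.map R).f := inferInstanceAs (Mono (R.map (E.iCycles m)))
  let q : R.obj (E.X m) ⟶ R.obj (E.cycles m) := (hS.map R).lift (𝟙 _ - d ≫ hh) hk
  have hq : q ≫ R.map (E.iCycles m) = 𝟙 _ - d ≫ hh := (hS.map R).lift_f _ _
  have : IsSplitEpi q := ⟨⟨⟨R.map (E.iCycles m), by
    rw [← cancel_mono (R.map (E.iCycles m)), Category.assoc, hq, Preadditive.comp_sub,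
      Category.comp_id, Category.id_comp, ← Category.assoc, ← Functor.map_comp, E.iCycles_d,
      Functor.map_zero, zero_comp, sub_zero]⟩⟩⟩
  exact ⟨V, R.obj (E.X m), q ≫ R.map (E.homologyπ m), hxV,
    KFlat.LocFree.isFinLocFree_of_iso ((Scheme.Modules.restrictFunctorIsoPullback V.ι).app _).symm
      (KFlat.LocFree.isFinLocFree_pull V.ι (hE.2 m)), inferInstance⟩

end Groth.Agent.PCohD
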