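import Groth.Agent.PCohD.ThickGen
import Groth.Agent.PCohD.Terms
import Groth.Agent.KFlat.LocalD

/-!
# Pseudo-coherence is detected on nilpotent thickenings
-/

set_option autoImplicit false
set_option backward.isDefEq.respectTransparency.types false

universe u

open CategoryTheory Limits AlgebraicGeometry Pretriangulated
attribute [local instance] HasDerivedCategory.standard

noncomputable section

namespace Groth.Agent.PCohD.Thick

open Groth.Agent.KFlat Groth.Agent.KFlat.Pull Groth.Agent.QCoh Groth.Agent.PullStalk.Sky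
open Groth.Agent.KFlat.TildePC (Appr appr_of_isIso)

variable {X X' : Scheme.{u}} {i : X ⟶ X'}

/-- The top cohomology of a bounded above complex. -/
def topIso {C : Type*} [Category C] [Abelian C] (F : CochainComplex C ℤ) (c : ℤ) (h : IsZero (F.X (c + 1))) :
    F.homology c ≅ cokernel (F.d (c - 1) c) :=
  F.isoHomologyι c (c + 1) (by simp) (h.eq_of_tgt _ _) ≪≫
    IsColimit.coconePointUniqueUpToIso (t := Cofork.ofπ (cokernel.π (F.d (c - 1) c)) (by simp))
      (F.opcyclesIsCokernel (c - 1) c (by simp)) (cokernelIsCokernel (F.d (c - 1) c))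

/-- Spanning sections of a restriction. -/
theorem Spans.of_restrict {X : Scheme.{u}} {N : X.Modules} {W : X.Opens} {O : (W : Scheme.{u}).Opens} {n : ℕ}
    {b : Fin n → Γ((Scheme.Modules.restrictFunctor W.ι).obj N, O)} (hb : Spans _ b) :
    Spans N (V := W.ι ''ᵁ O) b := by
  intro z hz w
  obtain ⟨O', hzO', t, rfl⟩ := exists_germM_eq N z w
  obtain ⟨z', hz', rfl⟩ := hz
  have hle : W.ι ''ᵁ (W.ι ⁻¹ᵁ O') ≤ O' := by
    rintro _ ⟨v, hv, rfl⟩
    exact hv
  obtain ⟨W', hW', hW'O, c, hzW', hc⟩ := hb.exists_comb (O := W.ι ⁻¹ᵁ O')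
    (N.presheaf.map (homOfLE hle).op t) z' hzO' hz'
  refine ⟨fun k => X.presheaf.germ (W.ι ''ᵁ W') (W.ι z') ⟨z', hzW', rfl⟩ (c k), ?_⟩
  refine (LFFrame.germ_comb N b (Scheme.Hom.image_mono W.ι hW'O) c (W.ι z') ⟨z', hzW', rfl⟩).symm.trans ?_
  have hle' : W.ι ''ᵁ W' ≤ O' := (Scheme.Hom.image_mono W.ι hW').trans hle
  refine Eq.trans ?_ (N.presheaf.germ_res_apply (homOfLE hle') (W.ι z') ⟨z', hzW', rfl⟩ t)
  refine congrArg (germM N (W.ι ''ᵁ W') (W.ι z') ⟨z', hzW', rfl⟩) ?_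
  refine Eq.trans ?_ (hc.trans (LFFrame.res_res N hle (Scheme.Hom.image_mono W.ι hW') t))
  exact Finset.sum_congr rfl fun k _ => smul_restrict W N W' (c k) _

/-- Images of spanning sections under an epimorphism span. -/
theorem Spans.map {X : Scheme.{u}} {N N' : X.Modules} (f : N ⟶ N') [Epi f] {V : X.Opens} {n : ℕ}
    {b : Fin n → Γ(N, V)} (hb : Spans N b) : Spans N' fun k => f.app V (b k) := by
  intro z hz w
  obtain ⟨q, rfl⟩ := PullStalk.Exact.stalk_surjective f z w
  obtain ⟨c, rfl⟩ := hb z hz q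
  refine ⟨c, ?_⟩
  simp only [LFFrame.stalkComb, Fintype.linearCombination_apply, map_sum, map_smul]
  exact Finset.sum_congr rfl fun k _ => congrArg (c k • ·) (PullStalk.Exact.stalkLin_germ f V z hz (b k)).symm

/-- The top cohomology: pseudo-coherence in the top degree. -/
theorem pc_top (h : IsNilThick i) (F : CochainComplex X'.Modules ℤ) (c : ℤ) (hz : ∀ q, c < q → IsZero (F.X q))
    (hQ : DCoh.IsPseudoCoherentD c (DCoh.toD X ((pullCx i).obj F))) :
    DCoh.IsPseudoCoherentD c (DCoh.toD X' F) := by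
  refine pc_of_local fun y => ?_
  obtain ⟨x, rfl⟩ := h.surj.surj y
  obtain ⟨V₀, hx₀, hV₀⟩ := hQ x
  obtain ⟨E, α, hE, hiso, hepi⟩ := hV₀ ((pullCx i).obj F) ⟨Iso.refl _⟩
  let R₀ := Scheme.Modules.restrictFunctor V₀.ι
  let Q := (pullCx i).obj F
  have hzQ : ∀ q, c < q → IsZero (Q.X q) := fun q hq => (Scheme.Modules.pullback i).map_isZero (hz q hq)
  let HV := DerivedCategory.homologyFunctor (V₀ : Scheme.{u}).Modules
  let fac := fun (G : CochainComplex (V₀ : Scheme.{u}).Modules ℤ) (q : ℤ) =>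
    (DerivedCategory.homologyFunctorFactors (V₀ : Scheme.{u}).Modules q).app G
  have hEz : ∀ q, c < q → IsZero (E.homology q) := fun q hq => by
    have := hiso q hq
    have h0 : IsZero (((DCoh.restrictCx V₀).obj Q).homology q) :=
      ShortComplex.isZero_homology_of_isZero_X₂ _ (R₀.map_isZero (hzQ q hq))
    exact h0.of_iso ((fac E q).symm ≪≫ asIso ((HV q).map α) ≪≫ fac _ q)
  obtain ⟨V₁, P, p, hxV₁, hP, hp⟩ := exists_epi_homology hE hEz ⟨x, hx₀⟩
  let e₁ : ((DCoh.restrictCx V₀).obj Q).homology c ≅ R₀.obj (Q.homology c) :=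
    (Q.sc c).mapHomologyIso R₀
  let f : E.homology c ⟶ R₀.obj (Q.homology c) := (fac E c).inv ≫ (HV c).map α ≫ (fac _ c).hom ≫ e₁.hom
  have hf : Epi f := by
    have : Epi ((HV c).map α) := hepi
    exact epi_comp _ _
  have : Epi ((Scheme.Modules.restrictFunctor V₁.ι).map f) := inferInstance
  obtain ⟨O, n, b, hxO, hb⟩ := exists_spans_of_epi (R₀.obj (Q.homology c)) V₁ hP
    (p ≫ (Scheme.Modules.restrictFunctor V₁.ι).map f) ⟨x, hx₀⟩ hxV₁
  let M := cokernel (F.d (c - 1) c)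
  have : PreservesColimitsOfSize.{0, 0} (Scheme.Modules.pullback i) :=
    (Scheme.Modules.pullbackPushforwardAdjunction i).leftAdjoint_preservesColimits
  let eM : Q.homology c ≅ (Scheme.Modules.pullback i).obj M :=
    topIso Q c (hzQ _ (by omega)) ≪≫ (PreservesCokernel.iso (Scheme.Modules.pullback i) (F.d (c - 1) c)).symm
  obtain ⟨V, a, hxV, ha⟩ := exists_spans h M _ (hb.of_restrict.map eM.hom) x ⟨⟨x, hx₀⟩, hxO, rfl⟩
  obtain ⟨P', p', hP', hp'⟩ := ha.exists_epi
  refine ⟨V, V.ι, inferInstance, ⟨⟨i x, hxV⟩, rfl⟩, pc_of_iso (PerfTri.Perfect.restrQ V.ι F).symm ?_⟩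
  let R := Scheme.Modules.restrictFunctor V.ι
  let F' := (DCoh.restrictCx V).obj F
  let e₂ : (DerivedCategory.homologyFunctor _ c).obj (DerivedCategory.Q.obj F') ≅ R.obj M :=
    (DerivedCategory.homologyFunctorFactors _ c).app F' ≪≫ (F.sc c).mapHomologyIso R ≪≫
      R.mapIso (topIso F c (hz _ (by omega)))
  exact pc_of_top_epi (fun q hq => (isZero_homology_Q F' q).2
    (ShortComplex.isZero_homology_of_isZero_X₂ _ (R.map_isZero (hz q hq)))) hP' (p' ≫ e₂.inv) (epi_comp _ _)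

/-- A bounded above flat complex with pseudo-coherent restriction to a thickening is pseudo-coherent. -/
theorem pc_of_pull_flat (n : ℕ) : ∀ {X X' : Scheme.{u}} {i : X ⟶ X'} (_ : IsNilThick i)
    (F : CochainComplex X'.Modules ℤ) (c : ℤ), (∀ q, FlatMod.IsFlat (F.X q)) →
    (∀ q, c < q → IsZero (F.X q)) →
    (∀ m, DCoh.IsPseudoCoherentD m (DCoh.toD X ((pullCx i).obj F))) →
    DCoh.IsPseudoCoherentD (c - n) (DCoh.toD X' F) := by
  induction n with
  | zero =>
    intro X X' i h F c _ hz hQ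
    rw [Nat.cast_zero, sub_zero]
    exact pc_top h F c hz (hQ c)
  | succ n ih =>
    intro X X' i h F c hflat hz hQ
    refine pc_of_local fun y => ?_
    obtain ⟨V, hy, hV⟩ := pc_top h F c hz (hQ c) y
    obtain ⟨S, α, hS, hiso, hepi⟩ := hV F ⟨Iso.refl _⟩
    let F' := (DCoh.restrictCx V).obj F
    obtain ⟨Z, s, hs, φ, hφ⟩ := DerivedCategory.right_fac α
    let Q' := (resY (V : Scheme.{u})).obj Z
    let t : Q' ⟶ S := (resYπ (V : Scheme.{u})).app Z ≫ s
    let ψ : Q' ⟶ F' := (resYπ (V : Scheme.{u})).app Z ≫ φ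
    have hsq : QuasiIso s := (DerivedCategory.isIso_Q_map_iff_quasiIso (C := (V : Scheme.{u}).Modules) s).1 hs
    have hπ := quasiIso_resYπ Z
    have ht : QuasiIso t := quasiIso_comp (hφ := hπ) (hφ' := hsq) ..
    have hit : IsIso (DerivedCategory.Q.map t) :=
      (DerivedCategory.isIso_Q_map_iff_quasiIso (C := (V : Scheme.{u}).Modules) t).2 ht
    have hQ' : DCoh.IsKFlat Q' := isKFlat_resY Z
    have hψ : DHA.PCohQis.IsQisN ψ c := by
      rw [DHA.PCohAPI.isQisN_iff]
      have e : DerivedCategory.Q.map ψ = DerivedCategory.Q.map t ≫ α := by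
        simp [ψ, t, hφ]
      rw [e]
      exact (LocalD.hQisN_of_isIso (DerivedCategory.Q.map t) c).comp ⟨hiso, hepi⟩
    have hF' : DCoh.IsKFlat F' :=
      LocalD.isKFlat_restrict (isKFlat_of_flat_boundedAbove F c hz hflat) V
    let C := CochainComplex.mappingCone ψ
    have hC : DCoh.IsKFlat C := Groth.Agent.KFlat.isKFlat_mappingCone (O := (V : Scheme.{u}).sheaf) ψ hQ' hF'
    obtain ⟨G, g, hGflat, hGz, hg⟩ := FlatRes.exists_flatRes C (c - 1)
      (fun q hq => DHA.PCohQis.isZero_homology_cone hψ q (by omega))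
    let j := i.resLE V (i ⁻¹ᵁ V) le_rfl
    have hSpc : ∀ m, DCoh.IsPseudoCoherentD m (DCoh.toD _ S) := fun m =>
      pc_of_isAp ⟨S, 𝟙 _, hS, appr_of_isIso m _⟩
    have hGQ : ∀ m, DCoh.IsPseudoCoherentD m (DCoh.toD _ ((pullCx j).obj G)) := fun m => by
      have hq := quasiIso_pullCx j g (isKFlat_of_flat_boundedAbove G (c - 1) hGz hGflat) hC
      refine pc_of_iso (asIso (DerivedCategory.Q.map ((pullCx j).map g)) ≪≫ DerivedCategory.Q.mapIso
        (CochainComplex.mappingCone.mapHomologicalComplexIso ψ (Scheme.Modules.pullback j))).symm ?_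
      refine pc₃ _ (DerivedCategory.mappingCone_triangle_distinguished ((pullCx j).map ψ)) ?_ ?_
      · exact pc_of_iso (LocalD.pullQIso j hQ' (LocalD.isKFlat_of_isStrictlyPerfect hS)
          (@asIso _ _ _ _ (DerivedCategory.Q.map t) hit)).symm
          (pc_of_isAp ⟨(pullCx j).obj S, 𝟙 _, LocFree.isStrictlyPerfect_pullCx j hS, appr_of_isIso _ _⟩)
      · exact pc_of_iso (PerfTri.Perfect.restrQ _ _ ≪≫ DerivedCategory.Q.mapIso
          (LocalD.restrictPullCxIso i V (i ⁻¹ᵁ V) le_rfl F)) (pc_restrict (i ⁻¹ᵁ V).ι (hQ m))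
    have hIH := ih (h.resLE V) G (c - 1) hGflat hGz hGQ
    refine ⟨V, V.ι, inferInstance, ⟨⟨y, hy⟩, rfl⟩, pc_of_iso (PerfTri.Perfect.restrQ V.ι F).symm ?_⟩
    rw [show c - ((n + 1 : ℕ) : ℤ) = c - 1 - n by push_cast; ring]
    exact pc₂ _ (DerivedCategory.mappingCone_triangle_distinguished ψ)
      (pc_of_iso (@asIso _ _ _ _ (DerivedCategory.Q.map t) hit).symm (hSpc _))
      (pc_of_iso (@asIso _ _ _ _ (DerivedCategory.Q.map g)
        ((DerivedCategory.isIso_Q_map_iff_quasiIso (C := (V : Scheme.{u}).Modules) g).2 hg)) hIH)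

/-- Pseudo-coherence is detected by the restriction to a thickening. -/
theorem pc_of_pull (h : IsNilThick i) (P : CochainComplex X'.Modules ℤ) (hP : DCoh.IsKFlat P)
    (hQ : ∀ m, DCoh.IsPseudoCoherentD m (DCoh.toD X ((pullCx i).obj P))) (m : ℤ) :
    DCoh.IsPseudoCoherentD m (DCoh.toD X' P) := by
  refine pc_of_local fun y => ?_
  obtain ⟨x, rfl⟩ := h.surj.surj y
  obtain ⟨V₀, hx₀, b, hb⟩ := exists_bound (hQ m) x
  have := h.closed
  obtain ⟨O', hO', hO'eq⟩ := i.isEmbedding.isInducing.isOpen_iff.1 V₀.2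
  let V : X'.Opens := ⟨O', hO'⟩
  have hW : i ⁻¹ᵁ V ≤ V₀ := fun z hz => by
    have : z ∈ i ⁻¹' O' := hz
    rw [hO'eq] at this
    exact this
  have hxV : i x ∈ V := by
    change x ∈ i ⁻¹' O'
    rw [hO'eq]
    exact hx₀
  let j := i.resLE V (i ⁻¹ᵁ V) le_rfl
  let P' := (DCoh.restrictCx V).obj P
  have hP' : DCoh.IsKFlat P' := LocalD.isKFlat_restrict hP V
  let eW : (DCoh.restrictD (i ⁻¹ᵁ V).ι).obj (DCoh.toD X ((pullCx i).obj P)) ≅
      DCoh.toD _ ((pullCx j).obj P') :=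
    PerfTri.Perfect.restrQ _ _ ≪≫ DerivedCategory.Q.mapIso (LocalD.restrictPullCxIso i V (i ⁻¹ᵁ V) le_rfl P)
  have hex : ∀ q, b < q → ((pullCx j).obj P').ExactAt q := fun q hq => by
    rw [HomologicalComplex.exactAt_iff_isZero_homology, ← isZero_homology_Q]
    let k := X.homOfLE hW
    let R := Scheme.Modules.restrictFunctor k
    let K := (DCoh.restrictD V₀.ι).obj (DCoh.toD X ((pullCx i).obj P))
    let G := DerivedCategory.Q.objPreimage K
    let eG : DerivedCategory.Q.obj G ≅ K := DerivedCategory.Q.objObjPreimageIso K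
    have hzG : IsZero (G.homology q) := by
      rw [← isZero_homology_Q]
      exact (hb q hq).of_iso ((DerivedCategory.homologyFunctor _ q).mapIso eG)
    refine IsZero.of_iso ((isZero_homology_Q ((resC k).obj G) q).2 ?_)
      ((DerivedCategory.homologyFunctor _ q).mapIso (eW.symm ≪≫
        (PerfTri.Perfect.restrComp k V₀.ι _ (X.homOfLE_ι hW) _).symm ≪≫
        (DCoh.restrictD k).mapIso eG.symm ≪≫ PerfTri.Perfect.restrQ k G))
    exact (R.map_isZero hzG).of_iso ((G.sc q).mapHomologyIso R)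
  have hz : ∀ q, b < q → IsZero (P'.homology q) := fun q hq =>
    (HomologicalComplex.exactAt_iff_isZero_homology _ _).1 (exactAt_of_pull (h.resLE V) hP' hex hq)
  obtain ⟨F, g, hflat, hFz, hg⟩ := FlatRes.exists_flatRes P' b hz
  have hq := quasiIso_pullCx j g (isKFlat_of_flat_boundedAbove F b hFz hflat) hP'
  have hF := pc_of_pull_flat (b - m).toNat (h.resLE V) F b hflat hFz fun k =>
    pc_of_iso (asIso (DerivedCategory.Q.map ((pullCx j).map g))).symm
      (pc_of_iso eW (pc_restrict (i ⁻¹ᵁ V).ι (hQ k)))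
  refine ⟨V, V.ι, inferInstance, ⟨⟨i x, hxV⟩, rfl⟩, pc_of_iso (PerfTri.Perfect.restrQ V.ι P).symm ?_⟩
  exact pc_of_iso (asIso (DerivedCategory.Q.map g)) (pc_mono hF (by omega))

end Groth.Agent.PCohD.Thick
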