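import Groth.Agent.DRing.Nilpotent
import Groth.Agent.KFlat.BaseChange

/-!
# Modules and complexes modulo a nilpotent kernel
-/

set_option autoImplicit false

universe u

open CategoryTheory CategoryTheory.Limits DerivedCategory TensorProduct
attribute [local instance] HasDerivedCategory.standard

noncomputable section

namespace Groth.Agent.PCohD.ThickRing

open Groth.Agent.DRing Groth.Agent.DRing.DBasic Groth.Agent.DRing.TorAmp Groth.Agent.DRing.KFlat

variable {A B : Type u} [CommRing A] [CommRing B] {φ : A →+* B}

/-- A module vanishing after base change along a nilpotent surjection vanishes. -/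
theorem subsingleton_of_extendScalars (hφ : Function.Surjective φ) (hnil : IsNilpotent (RingHom.ker φ))
    (N : Type u) [AddCommGroup N] [Module A N]
    (h : letI := φ.toAlgebra; Subsingleton (B ⊗[A] N)) : Subsingleton N := by
  algebraize [φ]
  let I := RingHom.ker φ
  let ε : (A ⧸ I) ≃ₐ[A] B := Ideal.quotientKerAlgEquivOfSurjective (f := Algebra.ofId A B) hφ
  have h1 : Subsingleton (N ⧸ (I • ⊤ : Submodule A N)) :=
    (((TensorProduct.congr ε.toLinearEquiv (LinearEquiv.refl A N)).symm.trans
      (TensorProduct.quotTensorEquivQuotSMul N I)).symm).toEquiv.subsingleton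
  have h2 : (⊥ : Submodule A N) = ⊤ := Nilp.eq_top_of_sup_smul hnil ⊥ (by
    rw [bot_sup_eq]
    exact Submodule.Quotient.subsingleton_iff.1 h1)
  exact (Submodule.subsingleton_iff A).1 (subsingleton_of_bot_eq_top h2)

/-- A module of finite type after base change along a nilpotent surjection is so. -/
theorem finite_of_extendScalars (hφ : Function.Surjective φ) (hnil : IsNilpotent (RingHom.ker φ))
    (M : Type u) [AddCommGroup M] [Module A M]
    (h : letI := φ.toAlgebra; Module.Finite B (B ⊗[A] M)) : Module.Finite A M := by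
  algebraize [φ]
  have : Module.Finite A B := Module.Finite.of_surjective (Algebra.linearMap A B) hφ
  have : Module.Finite A (B ⊗[A] M) := Module.Finite.trans B (B ⊗[A] M)
  obtain ⟨n, q, hq⟩ := Module.Finite.exists_fin' A (B ⊗[A] M)
  have hone : Function.Surjective (TensorProduct.mk A B M 1) := TensorProduct.mk_surjective A _ B hφ
  choose x hx using fun k : Fin n => hone (q (Pi.single k 1))
  let S := LinearMap.range (Fintype.linearCombination A x)
  have hN : Subsingleton (M ⧸ S) := by
    refine subsingleton_of_extendScalars hφ hnil _ (subsingleton_of_forall_eq 0 fun z => ?_)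
    obtain ⟨w, rfl⟩ := LinearMap.lTensor_surjective B S.mkQ_surjective z
    obtain ⟨v, rfl⟩ := hq w
    have : (S.mkQ.lTensor B).comp q = 0 := by
      refine (Pi.basisFun A (Fin n)).ext fun k => ?_
      rw [Pi.basisFun_apply, LinearMap.comp_apply, ← hx k, TensorProduct.mk_apply, LinearMap.lTensor_tmul,
        Submodule.mkQ_apply, (Submodule.Quotient.mk_eq_zero S).2
          ⟨Pi.single k 1, by rw [Fintype.linearCombination_apply_single, one_smul]⟩,
        TensorProduct.tmul_zero, LinearMap.zero_apply]
    exact LinearMap.congr_fun this v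
  exact Module.Finite.iff_fg.1 (Module.Finite.range _) |> fun hfg =>
    ⟨(Submodule.Quotient.subsingleton_iff.1 hN) ▸ hfg⟩

/-- A K-flat complex exact above `b` after base change along a nilpotent surjection is so. -/
theorem exactAt_of_extCx (hφ : Function.Surjective φ) (hnil : IsNilpotent (RingHom.ker φ))
    {P : DRing.Cx A} (hP : IsKFlat P) {b : ℤ}
    (h : ∀ i, b < i → ((LTensor.extCx φ).obj P).ExactAt i) {i : ℤ} (hi : b < i) : P.ExactAt i := by
  have := LTensor.hasLBaseChange φ
  obtain ⟨L, _, hL, ⟨e⟩⟩ := exists_kproj_iso (DRing.toD P)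
  have hQ : IsKFlat ((LTensor.extCx φ).obj P) := Groth.Agent.KFlat.BaseChange.isKFlat_extCx φ hP
  obtain ⟨R, π, hRb, hRp, hπ⟩ := Trunc.exists_projRes _ b h
  have eR : DRing.toD R ≅ DRing.toD ((LTensor.extCx φ).obj L) :=
    asIso (Q.map π) ≪≫ (Perfect.baseChangeIsoOfRep φ hP (Iso.refl _)) ≪≫
      (Perfect.baseChangeIsoOfRep φ (isKFlat_of_isKProjective L) e).symm
  have hL' := DerComplete.isKProjective_extCx φ L
  refine (exactAt_tensor_self P i).1 ((exactAt_tensor_congr (isKFlat_of_isKProjective L) hP e _ i).1
    (Nilp.exactAt_tensor_of_nilpotent φ hφ hnil L (fun j => have := hL j; inferInstance) i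
      (fun N => (exactAt_tensor_congr (isKFlat_of_projective hRb hRp)
        (isKFlat_of_isKProjective _) eR N i).1 ?_) _))
  exact ((DRing.tensorCx R N).exactAt_iff i).2
    (ShortComplex.exact_of_isZero_X₂ _ ((MonoidalCategory.tensorRight N).map_isZero (hRb i hi)))

end Groth.Agent.PCohD.ThickRing
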