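import Groth.Prelude.Def_MoreMor
import Groth.Agent.IdealSh.Stalk
import Groth.Agent.KFlat.SchemeTor
import Groth.Agent.KFlat.Pull
import Groth.Agent.PullStalk.Basic
import Groth.Agent.PullStalk.Exact
import Groth.Agent.LFFrame.Basic
import Groth.Agent.QCoh.Basic
import Groth.Agent.PCohD.ThickRing

/-!
# Stalks along a thickening
-/

set_option autoImplicit false
set_option backward.isDefEq.respectTransparency.types false

universe u

open CategoryTheory Limits AlgebraicGeometry TopologicalSpace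
open scoped TensorProduct
attribute [local instance] HasDerivedCategory.standard

noncomputable section

namespace Groth.Agent.PCohD.Thick

open Groth.Agent.QCoh Groth.Agent.PullStalk.Sky Groth.Agent.KFlat

variable {X X' : Scheme.{u}}

/-- A surjective closed immersion with nilpotent kernels on stalks. -/
structure IsNilThick (i : X ⟶ X') : Prop where
  closed : IsClosedImmersion i
  surj : Surjective i
  nilp : ∀ x, IsNilpotent (RingHom.ker (i.stalkMap x).hom)

variable {i : X ⟶ X'}

theorem IsNilThick.stalk_surjective (h : IsNilThick i) (x : X) : Function.Surjective (i.stalkMap x).hom :=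
  have := h.closed
  i.stalkMap_surjective x

/-- Finite order thickenings have nilpotent kernels on stalks. -/
theorem isNilThick_of_finiteOrder (hi : MoreMor.IsFiniteOrderThickening i) : IsNilThick i := by
  obtain ⟨⟨hc, hs⟩, n, hn⟩ := hi
  refine ⟨hc, hs, fun x => ⟨n, ?_⟩⟩
  have hle : RingHom.ker (i.stalkMap x).hom ≤ IntMult.stalkIdeal i.ker (i x) := by
    intro a ha
    obtain ⟨W₀, hxW₀, s, rfl⟩ := X'.presheaf.exists_germ_eq (x := i x) a
    have h0 : X.presheaf.germ (i ⁻¹ᵁ W₀) x (show x ∈ i ⁻¹ᵁ W₀ from hxW₀) (i.app W₀ s) = 0 := by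
      rw [← Scheme.Hom.germ_stalkMap_apply]
      exact ha
    obtain ⟨O, hxO, i₁, i₂, hO⟩ := X.presheaf.germ_eq (U := i ⁻¹ᵁ W₀) (V := i ⁻¹ᵁ W₀) x (show x ∈ i ⁻¹ᵁ W₀ from hxW₀) (show x ∈ i ⁻¹ᵁ W₀ from hxW₀) _ 0 (h0.trans (map_zero _).symm)
    obtain ⟨O', hO', hO'eq⟩ := i.isEmbedding.isInducing.isOpen_iff.1 O.2
    have hxO' : i x ∈ O' := by
      rw [← Set.mem_preimage, hO'eq]; exact hxO
    obtain ⟨_, ⟨W, hW, rfl⟩, hxW, hWle⟩ := X'.isBasis_affineOpens.exists_subset_of_mem_open
      (show i x ∈ (W₀ : Set X') ∩ O' from ⟨hxW₀, hxO'⟩) (W₀.2.inter hO')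
    have hWW₀ : W ≤ W₀ := fun z hz => (hWle hz).1
    have hWO : i ⁻¹ᵁ W ≤ O := fun z hz => by
      have : z ∈ i ⁻¹' O' := (hWle hz).2
      rw [hO'eq] at this
      exact this
    have hmem : X'.presheaf.map (homOfLE hWW₀).op s ∈ i.ker.ideal ⟨W, hW⟩ := by
      rw [Scheme.Hom.ker_apply, RingHom.mem_ker]
      change (X'.presheaf.map (homOfLE hWW₀).op ≫ i.app W) s = 0
      rw [Scheme.Hom.naturality]
      have e : X.presheaf.map ((Opens.map i.base).map (homOfLE hWW₀)).op =
          X.presheaf.map i₁.op ≫ X.presheaf.map (homOfLE hWO).op := by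
        rw [← Functor.map_comp]; rfl
      change X.presheaf.map ((Opens.map i.base).map (homOfLE hWW₀)).op (i.app W₀ s) = 0
      rw [e]
      exact (congrArg (X.presheaf.map (homOfLE hWO).op) (hO.trans (map_zero _))).trans (map_zero _)
    rw [IdealSh.stalkIdeal_eq _ ⟨W, hW⟩ hxW, ← X'.presheaf.germ_res_apply (homOfLE hWW₀) (i x) hxW s]
    exact Ideal.mem_map_of_mem _ hmem
  rw [Ideal.zero_eq_bot]
  refine eq_bot_iff.2 ((Ideal.pow_right_mono hle n).trans ?_)
  rw [← IdealSh.stalkIdeal_pow, hn]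
  obtain ⟨_, ⟨W, hW, rfl⟩, hxW, -⟩ :=
    X'.isBasis_affineOpens.exists_subset_of_mem_open (Set.mem_univ (i x)) isOpen_univ
  rw [IdealSh.stalkIdeal_eq _ ⟨W, hW⟩ hxW]
  exact le_of_eq (Ideal.map_bot)

/-- Restriction of a thickening to an open. -/
theorem IsNilThick.resLE (h : IsNilThick i) (V : X'.Opens) : IsNilThick (i.resLE V (i ⁻¹ᵁ V) le_rfl) := by
  rw [Scheme.Hom.resLE_eq_morphismRestrict]
  have := h.closed
  have := h.surj
  refine ⟨IsZariskiLocalAtTarget.restrict h.closed V, IsZariskiLocalAtTarget.restrict h.surj V, fun x => ?_⟩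
  obtain ⟨n, hn⟩ := h.nilp x.1
  let e := morphismRestrictStalkMap i V x
  have hinj : Function.Injective e.hom.left.hom := (ConcreteCategory.bijective_of_isIso e.hom.left).1
  have hle : (RingHom.ker ((i ∣_ V).stalkMap x).hom).map e.hom.left.hom ≤ RingHom.ker (i.stalkMap x.1).hom := by
    rw [Ideal.map_le_iff_le_comap]
    intro a ha
    rw [Ideal.mem_comap, RingHom.mem_ker]
    have hw := ConcreteCategory.congr_hom e.hom.w a
    refine hw.trans ?_
    exact (congrArg e.hom.right (RingHom.mem_ker.1 ha)).trans (map_zero _)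
  refine ⟨n, ?_⟩
  rw [Ideal.zero_eq_bot] at hn ⊢
  refine (Ideal.map_eq_bot_iff_of_injective hinj).1 (eq_bot_iff.2 ?_)
  rw [Ideal.map_pow, ← hn]
  exact Ideal.pow_right_mono hle n

/-- A complex exact above `b` after restriction to a thickening is so, if K-flat. -/
theorem exactAt_of_pull (h : IsNilThick i) {P : CochainComplex X'.Modules ℤ} (hP : DCoh.IsKFlat P) {b : ℤ}
    (hQ : ∀ j, b < j → ((Pull.pullCx i).obj P).ExactAt j) {j : ℤ} (hj : b < j) : P.ExactAt j := by
  rw [SchemeTor.exactAt_iff_stalk]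
  intro y
  obtain ⟨x, rfl⟩ := h.surj.surj y
  exact ThickRing.exactAt_of_extCx (h.stalk_surjective x) (h.nilp x) ((StalkCx.isKFlat_iff_stalk P).1 hP (i x))
    (fun k hk => (SchemeTor.exactAt_stalk x (hQ k hk)).of_iso (Pull.stPullIso i x P)) hj

/-- Germs of `a` span the stalks over `V`. -/
def Spans (M : X.Modules) {V : X.Opens} {n : ℕ} (a : Fin n → Γ(M, V)) : Prop :=
  ∀ (z : X) (hz : z ∈ V), Function.Surjective (LFFrame.stalkComb M a z hz)

theorem stalkComb_res (M : X.Modules) {U V : X.Opens} {n : ℕ} (a : Fin n → Γ(M, U)) (hV : V ≤ U) (z : X)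
    (hz : z ∈ V) : LFFrame.stalkComb M (fun k => M.presheaf.map (homOfLE hV).op (a k)) z hz =
      LFFrame.stalkComb M a z (hV hz) := by
  unfold LFFrame.stalkComb
  congr 1
  funext k
  exact M.presheaf.germ_res_apply (homOfLE hV) z hz (a k)

theorem Spans.res {M : X.Modules} {U : X.Opens} {n : ℕ} {a : Fin n → Γ(M, U)} (h : Spans M a) {V : X.Opens}
    (hV : V ≤ U) : Spans M fun k => M.presheaf.map (homOfLE hV).op (a k) := fun z hz => by
  rw [stalkComb_res M a hV z hz]
  exact h z (hV hz)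

/-- The images of sections under the unit. -/
abbrev unitSec (i : X ⟶ X') (M : X'.Modules) {V : X'.Opens} (a : Γ(M, V)) :
    Γ((Scheme.Modules.pullback i).obj M, i ⁻¹ᵁ V) :=
  ((Scheme.Modules.pullbackPushforwardAdjunction i).unit.app M).app V a

/-- Sections spanning the stalks of the restriction to the thickening span the stalks. -/
theorem spans_of_pullback (h : IsNilThick i) (M : X'.Modules) {V : X'.Opens} {n : ℕ} (a : Fin n → Γ(M, V))
    (hb : Spans ((Scheme.Modules.pullback i).obj M) fun k => unitSec i M (a k)) : Spans M a := by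
  intro z hz
  obtain ⟨x, rfl⟩ := h.surj.surj z
  let N := (Scheme.Modules.pullback i).obj M
  let φ := (i.stalkMap x).hom
  let := φ.toAlgebra
  let := PullStalk.Basic.moduleOver i M x
  have : IsScalarTower (X'.presheaf.stalk (i x)) (X.presheaf.stalk x) (N.presheaf.stalk x) :=
    IsScalarTower.of_algebraMap_smul fun _ _ => rfl
  have hbc := PullStalk.Basic.isBaseChange_unitStalk i M x
  let S := LinearMap.range (LFFrame.stalkComb M a (i x) hz)
  rw [← LinearMap.range_eq_top]
  have hT : Subsingleton (M.presheaf.stalk (i x) ⧸ S) := by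
    refine ThickRing.subsingleton_of_extendScalars (h.stalk_surjective x) (h.nilp x) _
      (subsingleton_of_forall_eq 0 fun w => ?_)
    obtain ⟨v, rfl⟩ := LinearMap.lTensor_surjective (X.presheaf.stalk x) S.mkQ_surjective w
    obtain ⟨c, hc⟩ := hb x hz (hbc.equiv v)
    have key : ∀ k, hbc.equiv.symm (germM N (i ⁻¹ᵁ V) x hz (unitSec i M (a k))) =
        (1 : X.presheaf.stalk x) ⊗ₜ[X'.presheaf.stalk (i x)] germM M V (i x) hz (a k) := by
      intro k
      rw [LinearEquiv.symm_apply_eq, IsBaseChange.equiv_tmul, one_smul]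
      exact (PullStalk.Basic.unitStalkHom_germ i M x V hz (a k)).symm
    have hv : v = ∑ k, c k • ((1 : X.presheaf.stalk x) ⊗ₜ[X'.presheaf.stalk (i x)] germM M V (i x) hz (a k)) := by
      apply hbc.equiv.injective
      rw [← hc, map_sum, LFFrame.stalkComb, Fintype.linearCombination_apply]
      refine Finset.sum_congr rfl fun k _ => ?_
      rw [map_smul, ← key, LinearEquiv.apply_symm_apply]
    rw [hv, ← LinearMap.baseChange_eq_ltensor, map_sum]
    refine Finset.sum_eq_zero fun k _ => ?_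
    rw [map_smul, LinearMap.baseChange_tmul, Submodule.mkQ_apply, (Submodule.Quotient.mk_eq_zero S).2
      ⟨Pi.single k 1, by rw [LFFrame.stalkComb, Fintype.linearCombination_apply_single, one_smul]⟩,
      TensorProduct.tmul_zero, smul_zero]
  exact Submodule.Quotient.subsingleton_iff.1 hT

/-- Finitely many spanning sections of the restriction to the thickening lift locally. -/
theorem exists_spans (h : IsNilThick i) (M : X'.Modules) {O : X.Opens} {n : ℕ}
    (b : Fin n → Γ((Scheme.Modules.pullback i).obj M, O)) (hb : Spans _ b) (x : X) (hx : x ∈ O) :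
    ∃ (V : X'.Opens) (a : Fin n → Γ(M, V)), i x ∈ V ∧ Spans M a := by
  let N := (Scheme.Modules.pullback i).obj M
  let := (i.stalkMap x).hom.toAlgebra
  let := PullStalk.Basic.moduleOver i M x
  have : IsScalarTower (X'.presheaf.stalk (i x)) (X.presheaf.stalk x) (N.presheaf.stalk x) :=
    IsScalarTower.of_algebraMap_smul fun _ _ => rfl
  have hbc := PullStalk.Basic.isBaseChange_unitStalk i M x
  have hsurj : ∀ w, ∃ t, PullStalk.Basic.unitStalkHom i M x t = w := fun w => by
    obtain ⟨t, ht⟩ := TensorProduct.mk_surjective (X'.presheaf.stalk (i x)) (M.presheaf.stalk (i x))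
      (X.presheaf.stalk x) (h.stalk_surjective x) (hbc.equiv.symm w)
    refine ⟨t, ?_⟩
    have := (LinearEquiv.eq_symm_apply _).1 ht
    rw [TensorProduct.mk_apply, IsBaseChange.equiv_tmul, one_smul] at this
    exact this
  choose t ht using fun k => hsurj (germM N O x hx (b k))
  choose W hxW a ha using fun k => exists_germM_eq M (i x) (t k)
  have hg : ∀ k, ∃ O₁ : X.Opens, x ∈ O₁ ∧ ∃ (h₁ : O₁ ≤ i ⁻¹ᵁ W k) (h₂ : O₁ ≤ O),
      N.presheaf.map (homOfLE h₁).op (unitSec i M (a k)) = N.presheaf.map (homOfLE h₂).op (b k) := by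
    intro k
    have : germM N (i ⁻¹ᵁ W k) x (hxW k) (unitSec i M (a k)) = germM N O x hx (b k) := by
      rw [← ht k, ← PullStalk.Basic.unitStalkHom_germ]
      exact congrArg _ (by first | exact ha k | exact (ha k).symm)
    obtain ⟨O₁, hxO₁, i₁, i₂, hO₁⟩ := N.presheaf.germ_eq x (hxW k) hx _ _ this
    exact ⟨O₁, hxO₁, i₁.le, i₂.le, hO₁⟩
  choose O₁ hxO₁ h₁ h₂ heq using hg
  have := h.closed
  obtain ⟨O', hO', hO'eq⟩ := i.isEmbedding.isInducing.isOpen_iff.1
    ((isOpen_iInter_of_finite fun k => (O₁ k).2).inter O.2)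
  let V : X'.Opens := ⟨O' ∩ ⋂ k, (W k : Set X'), hO'.inter (isOpen_iInter_of_finite fun k => (W k).2)⟩
  have hxV : i x ∈ V := ⟨by
    rw [← Set.mem_preimage, hO'eq]
    exact ⟨Set.mem_iInter.2 hxO₁, hx⟩, Set.mem_iInter.2 hxW⟩
  have hVW : ∀ k, V ≤ W k := fun k z hz => Set.mem_iInter.1 hz.2 k
  have hVO₁ : ∀ k, i ⁻¹ᵁ V ≤ O₁ k := fun k z hz => by
    have : z ∈ i ⁻¹' O' := hz.1
    rw [hO'eq] at this
    exact Set.mem_iInter.1 this.1 k
  have hVO : i ⁻¹ᵁ V ≤ O := fun z hz => by
    have : z ∈ i ⁻¹' O' := hz.1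
    rw [hO'eq] at this
    exact this.2
  refine ⟨V, fun k => M.presheaf.map (homOfLE (hVW k)).op (a k), hxV, spans_of_pullback h M _ ?_⟩
  have e : (fun k => unitSec i M (M.presheaf.map (homOfLE (hVW k)).op (a k))) =
      fun k => N.presheaf.map (homOfLE hVO).op (b k) := funext fun k => by
    refine (app_res _ (hVW k) (a k)).trans ?_
    have e2 := congrArg (fun s => N.presheaf.map (homOfLE (hVO₁ k)).op s) (heq k)
    exact ((LFFrame.res_res N (h₁ k) (hVO₁ k) _).symm.trans e2).trans (LFFrame.res_res N (h₂ k) (hVO₁ k) _)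
  rw [e]
  exact hb.res hVO

end Groth.Agent.PCohD.Thick
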